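import Mathlib
import Cfsg.Agent.Helper25.BRDefs

/-!
# (GT3) of helper25's Brauer–Reynolds engine (S0999 / S4701, #7006): involutions are conjugate
and their centralizers have order `p - 1`

`gt3` has the exact skeleton signature (`tools/helper25_br/BRSkel.lean.txt`).
-/

set_option autoImplicit false
set_option linter.unusedSectionVars false
set_option linter.unusedVariables false
set_option linter.style.haveILetI false

namespace Cfsg.Agent.Helper70.BR

open Cfsg Cfsg.Agent.Helper25.BR

universe u

variable {G : Type u} [Group G] [Finite G] {p e t k : ℕ} [Fact p.Prime] {P : Sylow p G}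

theorem orderOf_conj' (g y : G) : orderOf (g * y * g⁻¹) = orderOf y := by
  have := orderOf_injective (MulAut.conj g).toMonoidHom (MulAut.conj g).injective y
  simpa using this

/-- an involution normalizes a Sylow `p`-subgroup -/
theorem invol_hasFP (h : Config p e t k P) {y : G} (hy : orderOf y = 2) : HasFP p y := by
  have hp := (Fact.out : p.Prime)
  refine h.exp (Subgroup.zpowers y) ?_ y (Subgroup.mem_zpowers y)
  rw [Nat.card_zpowers, hy]
  rcases hp.eq_two_or_odd' with h2 | hodd
  · exact absurd h2 h.hp2
  · obtain ⟨j, hj⟩ := hodd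
    exact ⟨j, by omega⟩

theorem invol_fx (h : Config p e t k P) {y : G} (hy : orderOf y = 2) : fx p y = t := by
  have hp := (Fact.out : p.Prime)
  refine h.fixt y ?_ ?_ (invol_hasFP h hy)
  · intro h1
    rw [h1, orderOf_one] at hy
    omega
  · rw [hy]
    intro hdvd
    have := (Nat.prime_dvd_prime_iff_eq hp Nat.prime_two).mp hdvd
    exact h.hp2 this

/-- the number of Sylow `p`-subgroups -/
theorem card_sylow_config (h : Config p e t k P) : Nat.card (Sylow p G) = t * (p - e) := by
  have hp := (Fact.out : p.Prime)
  have h1 : Nat.card (Sylow p G) = (Subgroup.normalizer ((P : Subgroup G) : Set G)).index :=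
    Sylow.card_eq_index_normalizer P
  have h2 := Subgroup.card_mul_index (Subgroup.normalizer ((P : Subgroup G) : Set G))
  rw [← h1, h.cardN, h.cardG, ← h.het] at h2
  have hpe : 0 < p * e := by
    have := hp.pos
    have : 0 < e := by
      rcases Nat.eq_zero_or_pos e with h0 | h0
      · have := h.het
        rw [h0, zero_mul] at this
        have := hp.two_le
        omega
      · exact h0
    positivity
  have h3 : p * e * Nat.card (Sylow p G) = p * e * (t * (p - e)) := by
    rw [h2]; ring
  exact Nat.eq_of_mul_eq_mul_left hpe h3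

/-- **(GT3)** involutions are conjugate and their centralizers have order `p - 1` -/
theorem gt3 (h : Config p e t k P)
    (h0 : ∀ Q : Sylow p G, Nat.card {y : G // orderOf y = 2 ∧ y • Q = Q} = p ∧
      (∀ y z : G, orderOf y = 2 → y • Q = Q → orderOf z = 2 → z • Q = Q →
        ∃ u ∈ (Q : Subgroup G), u * y * u⁻¹ = z)) :
    (∀ y z : G, orderOf y = 2 → orderOf z = 2 → IsConj y z) ∧
    ∀ z : G, orderOf z = 2 → Nat.card (Subgroup.centralizer ({z} : Set G)) = p - 1 := by
  classical
  have hp := (Fact.out : p.Prime)
  have hconj : ∀ y z : G, orderOf y = 2 → orderOf z = 2 → IsConj y z := by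
    intro y z hy hz
    obtain ⟨Qy, hQy⟩ := invol_hasFP h hy
    obtain ⟨Qz, hQz⟩ := invol_hasFP h hz
    obtain ⟨g, hg⟩ := MulAction.exists_smul_eq G Qy Qz
    have hy' : orderOf (g * y * g⁻¹) = 2 := by rw [orderOf_conj', hy]
    have hy'Q : (g * y * g⁻¹) • Qz = Qz := by
      rw [← hg, mul_smul, mul_smul, inv_smul_smul, hQy]
    obtain ⟨u, _, hu⟩ := (h0 Qz).2 _ z hy' hy'Q hz hQz
    rw [isConj_iff]
    refine ⟨u * g, ?_⟩
    rw [← hu, mul_inv_rev]
    simp only [mul_assoc]
  refine ⟨hconj, ?_⟩
  intro z hz
  letI : Fintype G := Fintype.ofFinite G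
  letI : Fintype (Sylow p G) := Fintype.ofFinite _
  -- the involutions form the conjugacy class of `z`
  set I : Finset G := Finset.univ.filter (fun y => orderOf y = 2) with hI
  have hIorb : (I : Set G) = MulAction.orbit (ConjAct G) z := by
    ext y
    rw [ConjAct.mem_orbit_conjAct, hI, Finset.coe_filter]
    constructor
    · intro hy
      exact hconj y z hy.2 hz
    · intro hy
      refine ⟨Finset.mem_univ _, ?_⟩
      obtain ⟨c, hc⟩ := isConj_iff.mp hy
      have : orderOf (c * y * c⁻¹) = orderOf y := orderOf_conj' c y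
      rw [hc, hz] at this
      exact this.symm
  have hIcard : Nat.card (Subgroup.centralizer ({z} : Set G)) * I.card = Nat.card G := by
    rw [Subgroup.nat_card_centralizer_nat_card_stabilizer, ← Set.ncard_coe_finset, hIorb,
      ← MulAction.index_stabilizer, Subgroup.card_mul_index]
    rfl
  -- double counting
  have hdc := Finset.sum_card_bipartiteAbove_eq_sum_card_bipartiteBelow
    (s := I) (t := (Finset.univ : Finset (Sylow p G))) (r := fun y Q => y • Q = Q)
  have hL : ∀ y ∈ I, ((Finset.univ : Finset (Sylow p G)).bipartiteAbove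
      (fun y Q => y • Q = Q) y).card = t := by
    intro y hy
    have hy2 : orderOf y = 2 := (Finset.mem_filter.mp hy).2
    have h1 := invol_fx h hy2
    unfold fx at h1
    refine Eq.trans ?_ h1
    symm
    refine Nat.subtype_card _ ?_
    intro Q
    rw [Finset.mem_bipartiteAbove, MulAction.mem_fixedBy]
    exact ⟨fun hh => hh.2, fun hh => ⟨Finset.mem_univ _, hh⟩⟩
  have hR : ∀ Q ∈ (Finset.univ : Finset (Sylow p G)), (I.bipartiteBelow
      (fun y Q => y • Q = Q) Q).card = p := by
    intro Q _
    refine Eq.trans ?_ (h0 Q).1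
    symm
    refine Nat.subtype_card _ ?_
    intro y
    rw [Finset.mem_bipartiteBelow, hI, Finset.mem_filter]
    exact ⟨fun hh => ⟨hh.1.2, hh.2⟩, fun hh => ⟨⟨Finset.mem_univ _, hh.1⟩, hh.2⟩⟩
  rw [Finset.sum_congr rfl hL, Finset.sum_congr rfl hR, Finset.sum_const, Finset.sum_const,
    smul_eq_mul, smul_eq_mul, Finset.card_univ, ← Nat.card_eq_fintype_card,
    card_sylow_config h] at hdc
  -- arithmetic
  have ht0 : 0 < t := by have := h.ht; omega
  have hIc : I.card = (p - e) * p := by
    have : t * I.card = t * ((p - e) * p) := by rw [mul_comm t I.card, hdc]; ring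
    exact Nat.eq_of_mul_eq_mul_left ht0 this
  rw [hIc, h.cardG] at hIcard
  have hep : e < p := by
    have h1 := h.het
    have h2 := h.ht
    have h3 := hp.two_le
    have h4 : e ≤ e * t := Nat.le_mul_of_pos_right e ht0
    omega
  have hpos : 0 < (p - e) * p := by
    have : 0 < p - e := by omega
    have := hp.pos
    positivity
  have : (p - e) * p * Nat.card (Subgroup.centralizer ({z} : Set G)) = (p - e) * p * (p - 1) := by
    rw [mul_comm ((p - e) * p) (Nat.card _), hIcard]; ring
  exact Nat.eq_of_mul_eq_mul_left hpos this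

end Cfsg.Agent.Helper70.BR
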