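import Mathlib
import Cfsg.Agent.Helper25.BRDefs
import Cfsg.Agent.Helper70.BRGT3

/-!
# (GT0) of helper25's Brauer–Reynolds engine (S0999 / S4701, #7006): the involutions of `N_G(Q)`

`gt0` has the exact skeleton signature (`tools/helper25_br/BRSkel.lean.txt`).
-/

set_option autoImplicit false
set_option linter.unusedSectionVars false
set_option linter.unusedVariables false
set_option linter.style.haveILetI false

namespace Cfsg.Agent.Helper70.BR

open Cfsg Cfsg.Agent.Helper25.BR
open scoped Pointwise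

universe u

variable {G : Type u} [Group G] [Finite G] {p e t k : ℕ} [Fact p.Prime] {P : Sylow p G}

theorem mem_smul_sylow_iff (g : G) (P : Sylow p G) (x : G) :
    x ∈ ((g • P : Sylow p G) : Subgroup G) ↔ g⁻¹ * x * g ∈ (P : Subgroup G) := by
  rw [Sylow.coe_subgroup_smul, Subgroup.mem_pointwise_smul_iff_inv_smul_mem, MulAut.smul_def,
    MulAut.conj_inv_apply]

/-- every Sylow `p`-subgroup of a `Config` is self-centralizing -/
theorem cent_eq_of_config (h : Config p e t k P) (Q : Sylow p G) :
    Subgroup.centralizer ((Q : Subgroup G) : Set G) = (Q : Subgroup G) := by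
  obtain ⟨g, rfl⟩ := MulAction.exists_smul_eq G P Q
  ext x
  rw [mem_smul_sylow_iff, ← h.cent, Subgroup.mem_centralizer_iff, Subgroup.mem_centralizer_iff]
  constructor
  · intro hx a ha
    have h1 : g * a * g⁻¹ ∈ ((g • P : Sylow p G) : Subgroup G) := by
      rw [mem_smul_sylow_iff]
      have : g⁻¹ * (g * a * g⁻¹) * g = a := by group
      rw [this]
      exact ha
    have h2 := hx _ h1
    calc a * (g⁻¹ * x * g) = g⁻¹ * ((g * a * g⁻¹) * x) * g := by group
      _ = g⁻¹ * (x * (g * a * g⁻¹)) * g := by rw [h2]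
      _ = g⁻¹ * x * g * a := by group
  · intro hx q hq
    have hq' : g⁻¹ * q * g ∈ (P : Subgroup G) := (mem_smul_sylow_iff g P q).mp hq
    have h2 := hx _ hq'
    calc q * x = g * ((g⁻¹ * q * g) * (g⁻¹ * x * g)) * g⁻¹ := by group
      _ = g * ((g⁻¹ * x * g) * (g⁻¹ * q * g)) * g⁻¹ := by rw [h2]
      _ = x * q := by group

theorem cardN_of_config (h : Config p e t k P) (Q : Sylow p G) :
    Nat.card (Subgroup.normalizer ((Q : Subgroup G) : Set G)) = p * e := by
  have h1 : Nat.card (Sylow p G) = (Subgroup.normalizer ((P : Subgroup G) : Set G)).index :=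
    Sylow.card_eq_index_normalizer P
  have h2 : Nat.card (Sylow p G) = (Subgroup.normalizer ((Q : Subgroup G) : Set G)).index :=
    Sylow.card_eq_index_normalizer Q
  have h3 := Subgroup.card_mul_index (Subgroup.normalizer ((P : Subgroup G) : Set G))
  have h4 := Subgroup.card_mul_index (Subgroup.normalizer ((Q : Subgroup G) : Set G))
  rw [← h1, h.cardN] at h3
  rw [← h2] at h4
  have hS : 0 < Nat.card (Sylow p G) := Nat.card_pos
  exact Nat.eq_of_mul_eq_mul_right hS (h4.trans h3.symm)

theorem cardQ_of_config (h : Config p e t k P) (Q : Sylow p G) :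
    Nat.card (Q : Subgroup G) = p :=
  ((Sylow.card_eq_multiplicity Q).trans (Sylow.card_eq_multiplicity P).symm).trans h.cardP

/-- the core of (GT0): a self-centralizing Sylow subgroup of odd prime order `p` with normalizer
of even order `p e` -/
theorem gt0_core (hp2 : p ≠ 2) (Q : Sylow p G) (hQ : Nat.card (Q : Subgroup G) = p)
    (hcent : Subgroup.centralizer ((Q : Subgroup G) : Set G) = (Q : Subgroup G))
    (hN : Nat.card (Subgroup.normalizer ((Q : Subgroup G) : Set G)) = p * e) (he2 : 2 ∣ e) :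
    Nat.card {y : G // orderOf y = 2 ∧ y • Q = Q} = p ∧
    (∀ y z : G, orderOf y = 2 → y • Q = Q → orderOf z = 2 → z • Q = Q →
      ∃ u ∈ (Q : Subgroup G), u * y * u⁻¹ = z) ∧
    (∀ z : G, orderOf z = 2 → z • Q = Q →
      IsCyclic ↥(Subgroup.centralizer ({z} : Set G) ⊓
        Subgroup.normalizer ((Q : Subgroup G) : Set G)) ∧
      Nat.card ↥(Subgroup.centralizer ({z} : Set G) ⊓
        Subgroup.normalizer ((Q : Subgroup G) : Set G)) = e) := by
  classical
  have hp := (Fact.out : p.Prime)
  obtain ⟨j, hj⟩ : ∃ j, p = 2 * j + 1 := by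
    rcases hp.eq_two_or_odd' with h2 | hodd
    · exact absurd h2 hp2
    · exact hodd
  -- basic facts on `Q`
  have hQab : ∀ a ∈ (Q : Subgroup G), ∀ b ∈ (Q : Subgroup G), a * b = b * a := by
    intro a ha b hb
    have : b ∈ Subgroup.centralizer ((Q : Subgroup G) : Set G) := by rw [hcent]; exact hb
    rw [Subgroup.mem_centralizer_iff] at this
    exact this a ha
  have hQpow : ∀ a ∈ (Q : Subgroup G), a ^ p = 1 := by
    intro a ha
    have h1 : (⟨a, ha⟩ : ↥(Q : Subgroup G)) ^ Nat.card ↥(Q : Subgroup G) = 1 := pow_card_eq_one'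
    rw [hQ] at h1
    exact congrArg Subtype.val h1
  have hQsq : ∀ a ∈ (Q : Subgroup G), a ^ 2 = 1 → a = 1 := by
    intro a ha h2
    have h1 := hQpow a ha
    rw [hj, pow_succ, pow_mul, h2, one_pow, one_mul] at h1
    exact h1
  have hgen : ∀ b ∈ (Q : Subgroup G), b ≠ 1 → ∀ y : G, y * b = b * y →
      y ∈ (Q : Subgroup G) := by
    intro b hb hb1 y hyb
    rw [← hcent, Subgroup.mem_centralizer_iff]
    intro a ha
    have hb1' : (⟨b, hb⟩ : ↥(Q : Subgroup G)) ≠ 1 := fun h1 => hb1 (congrArg Subtype.val h1)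
    have hmem : (⟨a, ha⟩ : ↥(Q : Subgroup G)) ∈ Subgroup.zpowers (⟨b, hb⟩ : ↥(Q : Subgroup G)) :=
      mem_zpowers_of_prime_card hQ hb1'
    obtain ⟨i, hi⟩ := Subgroup.mem_zpowers_iff.mp hmem
    have hi' : b ^ i = a := by
      have := congrArg Subtype.val hi
      rwa [Subgroup.coe_zpow] at this
    rw [← hi']
    have hc : Commute y b := hyb
    exact (hc.zpow_right i).eq.symm
  have hinvQ : ∀ y : G, orderOf y = 2 → y ∉ (Q : Subgroup G) := by
    intro y hy hyQ
    have h1 := hQpow y hyQ
    have h2 : 2 ∣ p := by rw [← hy]; exact orderOf_dvd_of_pow_eq_one h1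
    omega
  have hinv2 : ∀ y : G, orderOf y = 2 → y * y = 1 := by
    intro y hy
    rw [← sq, ← hy]
    exact pow_orderOf_eq_one y
  have hinvinv : ∀ y : G, orderOf y = 2 → y⁻¹ = y := by
    intro y hy
    rw [inv_eq_iff_mul_eq_one]
    exact hinv2 y hy
  have hnorm : ∀ y : G, y • Q = Q ↔ y ∈ Subgroup.normalizer ((Q : Subgroup G) : Set G) :=
    fun y => Sylow.smul_eq_iff_mem_normalizer
  -- (F1) involutions of `N` invert `Q`
  have hF1 : ∀ y : G, orderOf y = 2 → y ∈ Subgroup.normalizer ((Q : Subgroup G) : Set G) →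
      ∀ a ∈ (Q : Subgroup G), y * a * y⁻¹ = a⁻¹ := by
    intro y hy hyN a ha
    have ha' : y * a * y⁻¹ ∈ (Q : Subgroup G) := (Subgroup.mem_normalizer_iff.mp hyN a).mp ha
    have hyy := hinv2 y hy
    have hyi := hinvinv y hy
    by_contra hne
    have hb1 : a * (y * a * y⁻¹) ≠ 1 := by
      intro h1
      exact hne (eq_inv_of_mul_eq_one_right h1)
    have hbQ : a * (y * a * y⁻¹) ∈ (Q : Subgroup G) := Subgroup.mul_mem _ ha ha'
    have h1 : y * (y * a * y⁻¹) * y⁻¹ = a := by
      have : y * (y * a * y⁻¹) * y⁻¹ = (y * y) * a * (y * y)⁻¹ := by group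
      rw [this, hyy, one_mul, inv_one, mul_one]
    have h2 : y * (a * (y * a * y⁻¹)) * y⁻¹ = a * (y * a * y⁻¹) := by
      calc y * (a * (y * a * y⁻¹)) * y⁻¹
          = (y * a * y⁻¹) * (y * (y * a * y⁻¹) * y⁻¹) := by group
        _ = (y * a * y⁻¹) * a := by rw [h1]
        _ = a * (y * a * y⁻¹) := hQab _ ha' a ha
    have hcomm : y * (a * (y * a * y⁻¹)) = a * (y * a * y⁻¹) * y := by
      calc y * (a * (y * a * y⁻¹)) = (y * (a * (y * a * y⁻¹)) * y⁻¹) * y := by group
        _ = a * (y * a * y⁻¹) * y := by rw [h2]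
    exact hinvQ y hy (hgen _ hbQ hb1 y hcomm)
  -- (F2)
  have hF2 : ∀ y z : G, orderOf y = 2 → y ∈ Subgroup.normalizer ((Q : Subgroup G) : Set G) →
      orderOf z = 2 → z ∈ Subgroup.normalizer ((Q : Subgroup G) : Set G) →
      y * z⁻¹ ∈ (Q : Subgroup G) := by
    intro y z hy hyN hz hzN
    rw [← hcent, Subgroup.mem_centralizer_iff]
    intro a ha
    have h1 := hF1 z hz hzN a ha
    have ha' : a⁻¹ ∈ (Q : Subgroup G) := Subgroup.inv_mem _ ha
    have h2 := hF1 y hy hyN a⁻¹ ha'
    rw [inv_inv] at h2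
    have hzi := hinvinv z hz
    -- `y z⁻¹ a (y z⁻¹)⁻¹ = a`
    have h3 : (y * z⁻¹) * a * (y * z⁻¹)⁻¹ = a := by
      calc (y * z⁻¹) * a * (y * z⁻¹)⁻¹ = y * (z⁻¹ * a * z) * y⁻¹ := by group
        _ = y * (z * a * z⁻¹) * y⁻¹ := by rw [hzi]
        _ = y * a⁻¹ * y⁻¹ := by rw [h1]
        _ = a := h2
    calc a * (y * z⁻¹) = ((y * z⁻¹) * a * (y * z⁻¹)⁻¹) * (y * z⁻¹) := by rw [h3]
      _ = y * z⁻¹ * a := by group
  -- an involution of `N`
  have h2N : 2 ∣ Nat.card ↥(Subgroup.normalizer ((Q : Subgroup G) : Set G)) := by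
    rw [hN]
    exact he2.mul_left p
  obtain ⟨z0', hz0'⟩ := exists_prime_orderOf_dvd_card' 2 h2N
  have hz0 : orderOf (z0' : G) = 2 := by rw [Subgroup.orderOf_coe]; exact hz0'
  have hz0N : (z0' : G) ∈ Subgroup.normalizer ((Q : Subgroup G) : Set G) := z0'.2
  have hQN : (Q : Subgroup G) ≤ Subgroup.normalizer ((Q : Subgroup G) : Set G) :=
    Subgroup.le_normalizer
  -- products `a z` are involutions of `N`
  have hmk : ∀ z : G, orderOf z = 2 → z ∈ Subgroup.normalizer ((Q : Subgroup G) : Set G) →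
      ∀ a ∈ (Q : Subgroup G), orderOf (a * z) = 2 ∧
        a * z ∈ Subgroup.normalizer ((Q : Subgroup G) : Set G) := by
    intro z hz hzN a ha
    refine ⟨?_, Subgroup.mul_mem _ (hQN ha) hzN⟩
    have h1 := hF1 z hz hzN a ha
    have hzi := hinvinv z hz
    have hzz := hinv2 z hz
    rw [hzi] at h1
    apply orderOf_eq_prime
    · rw [sq]
      calc a * z * (a * z) = a * (z * a * z) := by simp only [mul_assoc]
        _ = 1 := by rw [h1, mul_inv_cancel]
    · intro h1'
      apply hinvQ z hz
      have : z = a⁻¹ := (eq_inv_of_mul_eq_one_right h1')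
      rw [this]
      exact Subgroup.inv_mem _ ha
  refine ⟨?_, ?_, ?_⟩
  · -- (A)
    let f : ↥(Q : Subgroup G) → {y : G // orderOf y = 2 ∧ y • Q = Q} := fun a =>
      ⟨(a : G) * (z0' : G), (hmk _ hz0 hz0N a a.2).1, (hnorm _).mpr (hmk _ hz0 hz0N a a.2).2⟩
    have hf : Function.Bijective f := by
      constructor
      · intro a b hab
        have := congrArg Subtype.val hab
        exact Subtype.ext (mul_right_cancel this)
      · rintro ⟨y, hy, hyQ⟩
        have hyN := (hnorm y).mp hyQ
        refine ⟨⟨y * (z0' : G)⁻¹, hF2 y _ hy hyN hz0 hz0N⟩, ?_⟩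
        apply Subtype.ext
        show y * (z0' : G)⁻¹ * (z0' : G) = y
        rw [inv_mul_cancel_right]
    rw [← Nat.card_congr (Equiv.ofBijective f hf), hQ]
  · -- (B)
    intro y z hy hyQ hz hzQ
    have hyN := (hnorm y).mp hyQ
    have hzN := (hnorm z).mp hzQ
    have ha := hF2 z y hz hzN hy hyN
    set a := z * y⁻¹ with hadef
    refine ⟨a ^ (j + 1), Subgroup.pow_mem _ ha _, ?_⟩
    have hu : a ^ (j + 1) ∈ (Q : Subgroup G) := Subgroup.pow_mem _ ha _
    have h1 := hF1 y hy hyN _ (Subgroup.inv_mem _ hu)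
    rw [inv_inv] at h1
    have h2 : a ^ (j + 1) * a ^ (j + 1) = a := by
      rw [← pow_add]
      have : j + 1 + (j + 1) = p + 1 := by omega
      rw [this, pow_succ, hQpow a ha, one_mul]
    calc a ^ (j + 1) * y * (a ^ (j + 1))⁻¹
        = a ^ (j + 1) * (y * (a ^ (j + 1))⁻¹ * y⁻¹) * y := by group
      _ = a ^ (j + 1) * a ^ (j + 1) * y := by rw [h1]
      _ = a * y := by rw [h2]
      _ = z := by rw [hadef, inv_mul_cancel_right]
  · -- (C)
    intro z hz hzQ
    have hzN := (hnorm z).mp hzQ
    have hzi := hinvinv z hz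
    -- `E ∩ Q = 1`
    have hEQ : ∀ x : G, x ∈ Subgroup.centralizer ({z} : Set G) → x ∈ (Q : Subgroup G) → x = 1 := by
      intro x hxC hxQ
      have h1 := hF1 z hz hzN x hxQ
      have h2 : x * z = z * x := Subgroup.mem_centralizer_singleton_iff.mp hxC
      have h3 : z * x * z⁻¹ = x := by rw [← h2, mul_inv_cancel_right]
      rw [h3] at h1
      apply hQsq x hxQ
      rw [sq]
      nth_rewrite 1 [h1]
      exact inv_mul_cancel x
    constructor
    · -- cyclic
      haveI : IsCyclic ↥(Q : Subgroup G) := isCyclic_of_prime_card hQ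
      haveI : Fact (Nat.card ↥(Q : Subgroup G)).Prime := by rw [hQ]; infer_instance
      let ψ : ↥(Subgroup.centralizer ({z} : Set G) ⊓
          Subgroup.normalizer ((Q : Subgroup G) : Set G)) →* MulAut ↥(Q : Subgroup G) :=
        (Q : Subgroup G).normalizerMonoidHom.comp (Subgroup.inclusion inf_le_right)
      have hψ : Function.Injective ψ := by
        rw [injective_iff_map_eq_one]
        intro x hx
        have h1 : Subgroup.inclusion inf_le_right x ∈ (Q : Subgroup G).normalizerMonoidHom.ker :=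
          hx
        rw [Subgroup.normalizerMonoidHom_ker, Subgroup.mem_subgroupOf, hcent] at h1
        have h2 : (x : G) ∈ (Q : Subgroup G) := h1
        exact Subtype.ext (hEQ x x.2.1 h2)
      let f : ↥(Subgroup.centralizer ({z} : Set G) ⊓
          Subgroup.normalizer ((Q : Subgroup G) : Set G)) →* ZMod (Nat.card ↥(Q : Subgroup G)) :=
        ((Units.coeHom _).comp (IsCyclic.mulAutMulEquiv ↥(Q : Subgroup G)).toMonoidHom).comp ψ
      have hf : Function.Injective f := by
        intro x y hxy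
        apply hψ
        apply (IsCyclic.mulAutMulEquiv ↥(Q : Subgroup G)).injective
        exact Units.ext hxy
      exact isCyclic_of_injective_ringHom f hf
    · -- cardinality
      let f : ↥(Q : Subgroup G) × ↥(Subgroup.centralizer ({z} : Set G) ⊓
          Subgroup.normalizer ((Q : Subgroup G) : Set G)) →
          ↥(Subgroup.normalizer ((Q : Subgroup G) : Set G)) := fun ux =>
        ⟨(ux.1 : G) * (ux.2 : G), Subgroup.mul_mem _ (hQN ux.1.2) ux.2.2.2⟩
      have hf : Function.Bijective f := by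
        constructor
        · rintro ⟨u, x⟩ ⟨u', x'⟩ hux
          have h1 : (u : G) * (x : G) = (u' : G) * (x' : G) := congrArg Subtype.val hux
          have h2 : (u' : G)⁻¹ * (u : G) = (x' : G) * (x : G)⁻¹ := by
            rw [inv_mul_eq_iff_eq_mul, ← mul_assoc, ← h1, mul_inv_cancel_right]
          have h3 : (u' : G)⁻¹ * (u : G) = 1 := by
            apply hEQ
            · rw [h2]
              exact Subgroup.mul_mem _ x'.2.1 (Subgroup.inv_mem _ x.2.1)
            · exact Subgroup.mul_mem _ (Subgroup.inv_mem _ u'.2) u.2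
          have h4 : (u : G) = (u' : G) := by
            rw [inv_mul_eq_one] at h3
            exact h3.symm
          have h5 : (x : G) = (x' : G) := by
            rw [h4] at h1
            exact mul_left_cancel h1
          exact Prod.ext (Subtype.ext h4) (Subtype.ext h5)
        · rintro ⟨n, hn⟩
          have hy : orderOf (n * z * n⁻¹) = 2 := by rw [orderOf_conj', hz]
          have hyN : n * z * n⁻¹ ∈ Subgroup.normalizer ((Q : Subgroup G) : Set G) :=
            Subgroup.mul_mem _ (Subgroup.mul_mem _ hn hzN) (Subgroup.inv_mem _ hn)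
          -- conjugate back to `z` by an element of `Q`
          have hconjB : ∃ u ∈ (Q : Subgroup G), u * (n * z * n⁻¹) * u⁻¹ = z := by
            have ha := hF2 z (n * z * n⁻¹) hz hzN hy hyN
            set a := z * (n * z * n⁻¹)⁻¹ with hadef
            refine ⟨a ^ (j + 1), Subgroup.pow_mem _ ha _, ?_⟩
            have hu : a ^ (j + 1) ∈ (Q : Subgroup G) := Subgroup.pow_mem _ ha _
            have h1 := hF1 _ hy hyN _ (Subgroup.inv_mem _ hu)
            rw [inv_inv] at h1
            have h2 : a ^ (j + 1) * a ^ (j + 1) = a := by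
              rw [← pow_add]
              have : j + 1 + (j + 1) = p + 1 := by omega
              rw [this, pow_succ, hQpow a ha, one_mul]
            calc a ^ (j + 1) * (n * z * n⁻¹) * (a ^ (j + 1))⁻¹
                = a ^ (j + 1) * ((n * z * n⁻¹) * (a ^ (j + 1))⁻¹ * (n * z * n⁻¹)⁻¹) *
                    (n * z * n⁻¹) := by group
              _ = a ^ (j + 1) * a ^ (j + 1) * (n * z * n⁻¹) := by rw [h1]
              _ = a * (n * z * n⁻¹) := by rw [h2]
              _ = z := by rw [hadef, inv_mul_cancel_right]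
          obtain ⟨u, hu, huz⟩ := hconjB
          have hunC : u * n ∈ Subgroup.centralizer ({z} : Set G) := by
            rw [Subgroup.mem_centralizer_singleton_iff]
            have : (u * n) * z * (u * n)⁻¹ = z := by
              calc (u * n) * z * (u * n)⁻¹ = u * (n * z * n⁻¹) * u⁻¹ := by group
                _ = z := huz
            calc u * n * z = ((u * n) * z * (u * n)⁻¹) * (u * n) := by group
              _ = z * (u * n) := by rw [this]
          have hunN : u * n ∈ Subgroup.normalizer ((Q : Subgroup G) : Set G) :=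
            Subgroup.mul_mem _ (hQN hu) hn
          refine ⟨(⟨u⁻¹, Subgroup.inv_mem _ hu⟩, ⟨u * n, hunC, hunN⟩), ?_⟩
          apply Subtype.ext
          show u⁻¹ * (u * n) = n
          rw [inv_mul_cancel_left]
      have hcard := Nat.card_congr (Equiv.ofBijective f hf)
      rw [Nat.card_prod, hQ, hN] at hcard
      exact (Nat.eq_of_mul_eq_mul_left hp.pos hcard)

/-- **(GT0)** the involutions of `N_G(Q)` and their centralizers in `N_G(Q)` -/
theorem gt0 (h : Config p e t k P) (he2 : 2 ∣ e) (Q : Sylow p G) :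
    Nat.card {y : G // orderOf y = 2 ∧ y • Q = Q} = p ∧
    (∀ y z : G, orderOf y = 2 → y • Q = Q → orderOf z = 2 → z • Q = Q →
      ∃ u ∈ (Q : Subgroup G), u * y * u⁻¹ = z) ∧
    (∀ z : G, orderOf z = 2 → z • Q = Q →
      IsCyclic ↥(Subgroup.centralizer ({z} : Set G) ⊓
        Subgroup.normalizer ((Q : Subgroup G) : Set G)) ∧
      Nat.card ↥(Subgroup.centralizer ({z} : Set G) ⊓
        Subgroup.normalizer ((Q : Subgroup G) : Set G)) = e) :=
  gt0_core h.hp2 Q (cardQ_of_config h Q) (cent_eq_of_config h Q) (cardN_of_config h Q) he2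

end Cfsg.Agent.Helper70.BR
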