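import Mathlib
import Cfsg.Agent.Helper25.BRDefs

/-!
# (GT4) of helper25's Brauer–Reynolds engine (S0999 / S4701, #6979 / #7006): `k = 0`

Pure group theory of a `Config p e t k P`.  `gt4` has the exact skeleton signature
(`tools/helper25_br/BRSkel.lean.txt`).
-/

set_option autoImplicit false
set_option linter.unusedSectionVars false
set_option linter.unusedVariables false
set_option linter.style.haveILetI false

namespace Cfsg.Agent.Helper70.BR

open Cfsg Cfsg.Agent.Helper25.BR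

universe u

variable {G : Type u} [Group G] [Finite G] {p e t k : ℕ} [Fact p.Prime] {P : Sylow p G}

theorem pow_smul_fix {g : G} {Q : Sylow p G} (h : g • Q = Q) (n : ℕ) : g ^ n • Q = Q := by
  induction n with
  | zero => rw [pow_zero, one_smul]
  | succ n ih => rw [pow_succ, mul_smul, h, ih]

/-- all nonidentity elements of `C_G(z) ∩ N_G(Q)` fix the same Sylow subgroups as `z` -/
theorem fixedBy_eq_of_mem (h : Config p e t k P)
    (h0 : ∀ (Q : Sylow p G) (z : G), orderOf z = 2 → z • Q = Q →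
      IsCyclic ↥(Subgroup.centralizer ({z} : Set G) ⊓
        Subgroup.normalizer ((Q : Subgroup G) : Set G)) ∧
      Nat.card ↥(Subgroup.centralizer ({z} : Set G) ⊓
        Subgroup.normalizer ((Q : Subgroup G) : Set G)) = e)
    {z : G} (hz : orderOf z = 2) {Q : Sylow p G} (hzQ : z • Q = Q) {x : G}
    (hx : x ∈ Subgroup.centralizer ({z} : Set G) ⊓
      Subgroup.normalizer ((Q : Subgroup G) : Set G)) (hx1 : x ≠ 1) :
    MulAction.fixedBy (Sylow p G) x = MulAction.fixedBy (Sylow p G) z := by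
  obtain ⟨hcyc, hcard⟩ := h0 Q z hz hzQ
  haveI := hcyc
  obtain ⟨g0, hg0⟩ := IsCyclic.exists_generator
    (α := ↥(Subgroup.centralizer ({z} : Set G) ⊓ Subgroup.normalizer ((Q : Subgroup G) : Set G)))
  have hp := (Fact.out : p.Prime)
  have hpe : ∀ y ∈ Subgroup.centralizer ({z} : Set G) ⊓
      Subgroup.normalizer ((Q : Subgroup G) : Set G), ¬ p ∣ orderOf y := by
    intro y hy hdvd
    have h1 : orderOf (⟨y, hy⟩ : ↥(Subgroup.centralizer ({z} : Set G) ⊓
      Subgroup.normalizer ((Q : Subgroup G) : Set G))) ∣ _ := orderOf_dvd_natCard _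
    rw [hcard, ← Subgroup.orderOf_coe] at h1
    have h2 : p ∣ p - 1 := (hdvd.trans h1).trans ⟨t, h.het.symm⟩
    have h3 : 0 < p - 1 := by
      have := hp.two_le
      have := h.hp2
      omega
    have := Nat.le_of_dvd h3 h2
    omega
  have key : ∀ y ∈ Subgroup.centralizer ({z} : Set G) ⊓
      Subgroup.normalizer ((Q : Subgroup G) : Set G), y ≠ 1 →
      MulAction.fixedBy (Sylow p G) (g0 : G) = MulAction.fixedBy (Sylow p G) y := by
    intro y hy hy1
    obtain ⟨i, hi⟩ := Subgroup.mem_zpowers_iff.mp (hg0 ⟨y, hy⟩)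
    have hi' : (g0 : G) ^ i = y := by
      have := congrArg Subtype.val hi
      rwa [Subgroup.coe_zpow] at this
    have hsub : MulAction.fixedBy (Sylow p G) (g0 : G) ⊆ MulAction.fixedBy (Sylow p G) y := by
      rw [← hi']
      exact MulAction.fixedBy_subset_fixedBy_zpow _ _ _
    have hg01 : (g0 : G) ≠ 1 := by
      intro h1
      apply hy1
      rw [← hi', h1, one_zpow]
    have hfy : fx p y = t :=
      h.fixt y hy1 (hpe y hy) ⟨Q, Sylow.smul_eq_iff_mem_normalizer.mpr hy.2⟩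
    have hfg : fx p (g0 : G) = t :=
      h.fixt _ hg01 (hpe _ g0.2) ⟨Q, Sylow.smul_eq_iff_mem_normalizer.mpr g0.2.2⟩
    unfold fx at hfy hfg
    rw [Nat.card_coe_set_eq] at hfy hfg
    exact Set.eq_of_subset_of_ncard_le hsub (by rw [hfy, hfg]) (Set.toFinite _)
  have hzE : z ∈ Subgroup.centralizer ({z} : Set G) ⊓
      Subgroup.normalizer ((Q : Subgroup G) : Set G) :=
    ⟨Subgroup.mem_centralizer_singleton_iff.mpr rfl, Sylow.smul_eq_iff_mem_normalizer.mp hzQ⟩
  have hz1 : z ≠ 1 := by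
    intro h1
    rw [h1, orderOf_one] at hz
    omega
  rw [← key x hx hx1, ← key z hzE hz1]

/-- `C_G(z) ∩ N_G(Q)` does not depend on the Sylow subgroup `Q` fixed by `z` -/
theorem inf_normalizer_le (h : Config p e t k P)
    (h0 : ∀ (Q : Sylow p G) (z : G), orderOf z = 2 → z • Q = Q →
      IsCyclic ↥(Subgroup.centralizer ({z} : Set G) ⊓
        Subgroup.normalizer ((Q : Subgroup G) : Set G)) ∧
      Nat.card ↥(Subgroup.centralizer ({z} : Set G) ⊓
        Subgroup.normalizer ((Q : Subgroup G) : Set G)) = e)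
    {z : G} (hz : orderOf z = 2) {Q Q' : Sylow p G} (hzQ : z • Q = Q) (hzQ' : z • Q' = Q') :
    Subgroup.centralizer ({z} : Set G) ⊓ Subgroup.normalizer ((Q : Subgroup G) : Set G) ≤
      Subgroup.centralizer ({z} : Set G) ⊓ Subgroup.normalizer ((Q' : Subgroup G) : Set G) := by
  intro x hx
  refine ⟨hx.1, ?_⟩
  by_cases hx1 : x = 1
  · rw [hx1]; exact Subgroup.one_mem _
  · have := fixedBy_eq_of_mem h h0 hz hzQ hx hx1
    have hQ' : Q' ∈ MulAction.fixedBy (Sylow p G) x := by rw [this]; exact hzQ'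
    exact Sylow.smul_eq_iff_mem_normalizer.mp hQ'

/-- an involution of `C_G(z)` outside `N_G(P)` commutes with no nonidentity element of odd order of
`C_G(z) ∩ N_G(P)` -/
theorem not_commute (h : Config p e t k P)
    (h0 : ∀ (Q : Sylow p G) (z : G), orderOf z = 2 → z • Q = Q →
      IsCyclic ↥(Subgroup.centralizer ({z} : Set G) ⊓
        Subgroup.normalizer ((Q : Subgroup G) : Set G)) ∧
      Nat.card ↥(Subgroup.centralizer ({z} : Set G) ⊓
        Subgroup.normalizer ((Q : Subgroup G) : Set G)) = e)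
    {z : G} (hz : orderOf z = 2) (hzP : z • P = P) {e' : ℕ} (he' : e = 2 * e')
    {τ w : G} (hτC : τ ∈ Subgroup.centralizer ({z} : Set G))
    (hτN : τ ∉ Subgroup.normalizer ((P : Subgroup G) : Set G)) (hτ2 : τ ^ 2 = 1)
    (hw : w ∈ Subgroup.centralizer ({z} : Set G) ⊓
      Subgroup.normalizer ((P : Subgroup G) : Set G)) (hw1 : w ≠ 1) (hwodd : Odd (orderOf w))
    (hcomm : τ * w = w * τ) : False := by
  obtain ⟨hcyc, hcard⟩ := h0 P z hz hzP
  set m := orderOf w with hm
  have hme : m ∣ e := by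
    have h1 : orderOf (⟨w, hw⟩ : ↥(Subgroup.centralizer ({z} : Set G) ⊓
      Subgroup.normalizer ((P : Subgroup G) : Set G))) ∣ _ := orderOf_dvd_natCard _
    rwa [hcard, ← Subgroup.orderOf_coe] at h1
  have hme' : m ∣ e' := by
    rw [he'] at hme
    exact (Nat.Coprime.dvd_mul_left (Nat.Coprime.symm (Nat.coprime_two_left.mpr hwodd))).mp hme
  have h2m : 2 * m ∣ p - 1 := by
    have h1 : 2 * m ∣ e := by rw [he']; exact Nat.mul_dvd_mul_left 2 hme'
    exact h1.trans ⟨t, h.het.symm⟩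
  set g := τ * w with hg
  have hcm : Commute τ w := hcomm
  have hg2m : g ^ (2 * m) = 1 := by
    rw [hg, hcm.mul_pow, pow_mul, hτ2, one_pow, one_mul, mul_comm 2 m, pow_mul, hm,
      pow_orderOf_eq_one, one_pow]
  have hcardH : Nat.card ↥(Subgroup.zpowers g) ∣ p - 1 := by
    rw [Nat.card_zpowers]
    exact (orderOf_dvd_of_pow_eq_one hg2m).trans h2m
  obtain ⟨Q, hQ⟩ := h.exp (Subgroup.zpowers g) hcardH g (Subgroup.mem_zpowers g)
  obtain ⟨j, hj⟩ := hwodd
  have hgm : g ^ m = τ := by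
    rw [hg, hcm.mul_pow, hm, pow_orderOf_eq_one, mul_one, ← hm, hj, pow_succ, pow_mul, hτ2,
      one_pow, one_mul]
  have hg2 : g ^ 2 = w ^ 2 := by
    rw [hg, hcm.mul_pow, hτ2, one_mul]
  have hτQ : τ • Q = Q := by rw [← hgm]; exact pow_smul_fix hQ m
  have hw2Q : w ^ 2 • Q = Q := by rw [← hg2]; exact pow_smul_fix hQ 2
  have hw2ne : w ^ 2 ≠ 1 := by
    intro h1
    have h3 : m ∣ 2 := orderOf_dvd_of_pow_eq_one h1
    have h4 : m = 1 := by
      have := Nat.le_of_dvd (by norm_num) h3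
      interval_cases m <;> omega
    exact hw1 (orderOf_eq_one_iff.mp h4)
  have hw2E : w ^ 2 ∈ Subgroup.centralizer ({z} : Set G) ⊓
      Subgroup.normalizer ((P : Subgroup G) : Set G) := Subgroup.pow_mem _ hw 2
  have hfix := fixedBy_eq_of_mem h h0 hz hzP hw2E hw2ne
  have hzQ : z • Q = Q := by
    have : Q ∈ MulAction.fixedBy (Sylow p G) (w ^ 2) := hw2Q
    rw [hfix] at this
    exact this
  have hτQ' : τ ∈ Subgroup.centralizer ({z} : Set G) ⊓
      Subgroup.normalizer ((Q : Subgroup G) : Set G) :=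
    ⟨hτC, Sylow.smul_eq_iff_mem_normalizer.mp hτQ⟩
  exact hτN (inf_normalizer_le h h0 hz hzQ hzP hτQ').2

/-- **(GT4)** `k = 0` -/
theorem gt4 (h : Config p e t k P)
    (h0 : ∀ (Q : Sylow p G) (z : G), orderOf z = 2 → z • Q = Q →
      IsCyclic ↥(Subgroup.centralizer ({z} : Set G) ⊓
        Subgroup.normalizer ((Q : Subgroup G) : Set G)) ∧
      Nat.card ↥(Subgroup.centralizer ({z} : Set G) ⊓
        Subgroup.normalizer ((Q : Subgroup G) : Set G)) = e)
    (hc : ∃ c : ℕ, 2 ≤ c ∧ t = 2 ^ c)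
    (h2 : ∀ S : Sylow 2 G, Nat.card S = 2 * t ∧ ∀ g ∈ (S : Subgroup G), g ^ 2 = 1)
    (h3 : ∀ z : G, orderOf z = 2 → Nat.card (Subgroup.centralizer ({z} : Set G)) = p - 1) :
    k = 0 := by
  classical
  by_contra hk
  have hk1 : 1 ≤ k := Nat.one_le_iff_ne_zero.mpr hk
  obtain ⟨c, hc2, hct⟩ := hc
  have hp := (Fact.out : p.Prime)
  -- `e = 2 e'` with `e'` odd, `≥ 3`
  obtain ⟨c', rfl⟩ : ∃ c', c = c' + 2 := ⟨c - 2, by omega⟩
  have ht4 : t = 4 * 2 ^ c' := by rw [hct, pow_add]; ring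
  have hpos : 1 ≤ 2 ^ c' * k := Nat.one_le_iff_ne_zero.mpr
    (Nat.mul_ne_zero (pow_ne_zero _ (by norm_num)) hk)
  set e' := 1 + 2 * (2 ^ c' * k) with he'def
  have he' : e = 2 * e' := by rw [h.hek, ht4, he'def]; ring
  have he'odd : Odd e' := ⟨2 ^ c' * k, by rw [he'def]; ring⟩
  have he'3 : 3 ≤ e' := by omega
  -- the involution `z`
  have h2N : 2 ∣ Nat.card ↥(Subgroup.normalizer ((P : Subgroup G) : Set G)) := by
    rw [h.cardN, he']
    exact ⟨p * e', by ring⟩
  obtain ⟨z', hz'⟩ := exists_prime_orderOf_dvd_card' 2 h2N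
  set z : G := (z' : G) with hzdef
  have hz : orderOf z = 2 := by rw [hzdef, Subgroup.orderOf_coe]; exact hz'
  have hzN : z ∈ Subgroup.normalizer ((P : Subgroup G) : Set G) := z'.2
  have hzP : z • P = P := Sylow.smul_eq_iff_mem_normalizer.mpr hzN
  have hz1 : z ≠ 1 := by
    intro h1
    rw [h1, orderOf_one] at hz
    omega
  have hz2 : z ^ 2 = 1 := by rw [← hz]; exact pow_orderOf_eq_one z
  obtain ⟨hcyc, hcard⟩ := h0 P z hz hzP
  haveI := hcyc
  -- `E` is normalized by `C`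
  have hEnorm : ∀ τ ∈ Subgroup.centralizer ({z} : Set G), ∀ x ∈ Subgroup.centralizer ({z} : Set G) ⊓
      Subgroup.normalizer ((P : Subgroup G) : Set G), τ * x * τ⁻¹ ∈
      Subgroup.centralizer ({z} : Set G) ⊓ Subgroup.normalizer ((P : Subgroup G) : Set G) := by
    intro τ hτ x hx
    refine Subgroup.mem_inf.mpr
      ⟨Subgroup.mul_mem _ (Subgroup.mul_mem _ hτ hx.1) (Subgroup.inv_mem _ hτ), ?_⟩
    refine (Sylow.smul_eq_iff_mem_normalizer (P := P)).mp ?_
    have hτz : τ * z = z * τ := (Subgroup.mem_centralizer_singleton_iff.mp hτ)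
    have hτz' : z * τ⁻¹ = τ⁻¹ * z := by
      rw [eq_inv_mul_iff_mul_eq, ← mul_assoc, hτz, mul_assoc, mul_inv_cancel, mul_one]
    have hzQ : z • (τ⁻¹ • P) = τ⁻¹ • P := by
      rw [← mul_smul, hτz', mul_smul, hzP]
    have hxQ : x • (τ⁻¹ • P) = τ⁻¹ • P := by
      by_cases hx1 : x = 1
      · rw [hx1, one_smul]
      · have := fixedBy_eq_of_mem h h0 hz hzP hx hx1
        have h5 : τ⁻¹ • P ∈ MulAction.fixedBy (Sylow p G) x := by rw [this]; exact hzQ
        exact h5
    rw [mul_smul, mul_smul, hxQ, ← mul_smul, mul_inv_cancel, one_smul]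
  -- an element `x` of odd prime order in `E`
  obtain ⟨r, hr, hre'⟩ := Nat.exists_prime_and_dvd (by omega : e' ≠ 1)
  have hrodd : Odd r := by
    rcases hr.eq_two_or_odd' with h2' | h2'
    · exfalso
      rw [h2'] at hre'
      exact (Nat.not_even_iff_odd.mpr he'odd) (even_iff_two_dvd.mpr hre')
    · exact h2'
  haveI : Fact r.Prime := ⟨hr⟩
  have hrE : r ∣ Nat.card ↥(Subgroup.centralizer ({z} : Set G) ⊓
      Subgroup.normalizer ((P : Subgroup G) : Set G)) := by
    rw [hcard, he']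
    exact hre'.mul_left 2
  obtain ⟨x', hx'⟩ := exists_prime_orderOf_dvd_card' r hrE
  set x : G := (x' : G) with hxdef
  have hxo : orderOf x = r := by rw [hxdef, Subgroup.orderOf_coe]; exact hx'
  have hxE : x ∈ Subgroup.centralizer ({z} : Set G) ⊓
      Subgroup.normalizer ((P : Subgroup G) : Set G) := x'.2
  have hx1 : x ≠ 1 := by
    intro h1
    rw [h1, orderOf_one] at hxo
    exact hr.one_lt.ne hxo
  -- the Sylow `2`-subgroup `S`
  have hzp : IsPGroup 2 ↥(Subgroup.zpowers z) :=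
    IsPGroup.of_card (n := 1) (by rw [Nat.card_zpowers, hz, pow_one])
  obtain ⟨S, hS⟩ := IsPGroup.exists_le_sylow hzp
  obtain ⟨hScard, hSsq⟩ := h2 S
  have hzS : z ∈ (S : Subgroup G) := hS (Subgroup.mem_zpowers z)
  have hinv : ∀ a ∈ (S : Subgroup G), a⁻¹ = a := by
    intro a ha
    rw [inv_eq_iff_mul_eq_one, ← sq]
    exact hSsq a ha
  have hSab : ∀ a ∈ (S : Subgroup G), ∀ b ∈ (S : Subgroup G), a * b = b * a := by
    intro a ha b hb
    have h1 := hinv (a * b) (Subgroup.mul_mem _ ha hb)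
    rw [mul_inv_rev, hinv a ha, hinv b hb] at h1
    exact h1.symm
  have hSC : ∀ a ∈ (S : Subgroup G), a ∈ Subgroup.centralizer ({z} : Set G) := by
    intro a ha
    exact Subgroup.mem_centralizer_singleton_iff.mpr (hSab a ha z hzS)
  -- elements of `S` outside `{1, z}` are outside `N_G(P)`
  have hSE : ∀ a ∈ (S : Subgroup G), a ≠ 1 → a ≠ z →
      a ∉ Subgroup.normalizer ((P : Subgroup G) : Set G) := by
    intro a ha ha1 haz haN
    have haE : a ∈ Subgroup.centralizer ({z} : Set G) ⊓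
      Subgroup.normalizer ((P : Subgroup G) : Set G) := ⟨hSC a ha, haN⟩
    have hzE : z ∈ Subgroup.centralizer ({z} : Set G) ⊓
      Subgroup.normalizer ((P : Subgroup G) : Set G) :=
      ⟨Subgroup.mem_centralizer_singleton_iff.mpr rfl, hzN⟩
    letI : Fintype ↥(Subgroup.centralizer ({z} : Set G) ⊓
      Subgroup.normalizer ((P : Subgroup G) : Set G)) := Fintype.ofFinite _
    have hle := IsCyclic.card_pow_eq_one_le (α := ↥(Subgroup.centralizer ({z} : Set G) ⊓
      Subgroup.normalizer ((P : Subgroup G) : Set G))) (n := 2) (by norm_num)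
    have hsub : ({1, ⟨z, hzE⟩, ⟨a, haE⟩} : Finset ↥(Subgroup.centralizer ({z} : Set G) ⊓
        Subgroup.normalizer ((P : Subgroup G) : Set G))) ⊆
        Finset.univ.filter (fun b => b ^ 2 = 1) := by
      intro b hb
      rw [Finset.mem_filter]
      refine ⟨Finset.mem_univ _, ?_⟩
      rw [Finset.mem_insert, Finset.mem_insert, Finset.mem_singleton] at hb
      rcases hb with rfl | rfl | rfl
      · exact one_pow 2
      · exact Subtype.ext hz2
      · exact Subtype.ext (hSsq a ha)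
    have hcard3 : ({1, ⟨z, hzE⟩, ⟨a, haE⟩} : Finset ↥(Subgroup.centralizer ({z} : Set G) ⊓
        Subgroup.normalizer ((P : Subgroup G) : Set G))).card = 3 := by
      rw [Finset.card_insert_of_notMem, Finset.card_insert_of_notMem, Finset.card_singleton]
      · rw [Finset.mem_singleton]
        intro h1
        exact haz (congrArg Subtype.val h1).symm
      · rw [Finset.mem_insert, Finset.mem_singleton]
        rintro (h1 | h1)
        · exact hz1 (congrArg Subtype.val h1).symm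
        · exact ha1 (congrArg Subtype.val h1).symm
    have := Finset.card_le_card hsub
    omega
  -- elements of `S` outside `{1, z}` invert `x`
  have hinvert : ∀ a ∈ (S : Subgroup G), a ≠ 1 → a ≠ z → a * x * a⁻¹ = x⁻¹ := by
    intro a ha ha1 haz
    have haC := hSC a ha
    have haN := hSE a ha ha1 haz
    have ha2 := hSsq a ha
    have hx'E := hEnorm a haC x hxE
    -- `x` and `a x a⁻¹` commute
    letI := IsCyclic.commGroup (α := ↥(Subgroup.centralizer ({z} : Set G) ⊓
      Subgroup.normalizer ((P : Subgroup G) : Set G)))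
    have hcomm : x * (a * x * a⁻¹) = (a * x * a⁻¹) * x := by
      have := mul_comm (⟨x, hxE⟩ : ↥(Subgroup.centralizer ({z} : Set G) ⊓
        Subgroup.normalizer ((P : Subgroup G) : Set G))) ⟨a * x * a⁻¹, hx'E⟩
      exact congrArg Subtype.val this
    by_contra hne
    have hy1 : x * (a * x * a⁻¹) ≠ 1 := by
      intro h1
      apply hne
      exact (eq_inv_of_mul_eq_one_right h1)
    have hyE := Subgroup.mul_mem _ hxE hx'E
    have hyr : (x * (a * x * a⁻¹)) ^ r = 1 := by
      have hcm : Commute x (a * x * a⁻¹) := hcomm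
      rw [hcm.mul_pow, conj_pow, ← hxo, pow_orderOf_eq_one, mul_one, mul_inv_cancel, mul_one]
    have hyo : orderOf (x * (a * x * a⁻¹)) = r := by
      have h1 := orderOf_dvd_of_pow_eq_one hyr
      rcases (Nat.dvd_prime hr).mp h1 with h5 | h5
      · exact absurd (orderOf_eq_one_iff.mp h5) hy1
      · exact h5
    have hycomm : a * (x * (a * x * a⁻¹)) = (x * (a * x * a⁻¹)) * a := by
      have ha' : a⁻¹ = a := hinv a ha
      have haa : a * a = 1 := by rw [← sq]; exact ha2
      calc a * (x * (a * x * a⁻¹)) = (a * x * a⁻¹) * (a * (a * x * a⁻¹)) := by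
            simp only [mul_assoc, inv_mul_cancel_left]
        _ = (a * x * a⁻¹) * x * a := by
            rw [ha']
            simp only [mul_assoc]
            rw [← mul_assoc a a, haa, one_mul]
        _ = (x * (a * x * a⁻¹)) * a := by rw [← hcomm]
    exact not_commute h h0 hz hzP he' haC haN ha2 hyE hy1 (by rw [hyo]; exact hrodd) hycomm
  -- choose `τ₁, τ₂`
  have hcardS : (8 : ℕ) ≤ ((S : Subgroup G) : Set G).ncard := by
    rw [← Nat.card_coe_set_eq]
    have : Nat.card ↥((S : Subgroup G) : Set G) = Nat.card ↥(S : Subgroup G) := rfl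
    rw [this, hScard, ht4]
    have : 1 ≤ 2 ^ c' := Nat.one_le_two_pow
    omega
  obtain ⟨τ₁, hτ₁S, hτ₁⟩ := Set.exists_mem_notMem_of_ncard_lt_ncard
    (s := ((({1, z} : Finset G)) : Set G)) (t := ((S : Subgroup G) : Set G)) (by
      rw [Set.ncard_coe_finset]
      have := Finset.card_le_two (a := (1 : G)) (b := z)
      omega) (Finset.finite_toSet _)
  obtain ⟨τ₂, hτ₂S, hτ₂⟩ := Set.exists_mem_notMem_of_ncard_lt_ncard
    (s := ((({1, z, τ₁, τ₁ * z} : Finset G)) : Set G)) (t := ((S : Subgroup G) : Set G)) (by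
      rw [Set.ncard_coe_finset]
      have := Finset.card_le_four (a := (1 : G)) (b := z) (c := τ₁) (d := τ₁ * z)
      omega) (Finset.finite_toSet _)
  rw [Finset.mem_coe, Finset.mem_insert, Finset.mem_singleton] at hτ₁
  rw [Finset.mem_coe, Finset.mem_insert, Finset.mem_insert, Finset.mem_insert,
    Finset.mem_singleton] at hτ₂
  push Not at hτ₁ hτ₂
  have hτ₁S' : τ₁ ∈ (S : Subgroup G) := hτ₁S
  have hτ₂S' : τ₂ ∈ (S : Subgroup G) := hτ₂S
  have h12S : τ₁ * τ₂ ∈ (S : Subgroup G) := Subgroup.mul_mem _ hτ₁S' hτ₂S'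
  have h12ne1 : τ₁ * τ₂ ≠ 1 := by
    intro h1
    apply hτ₂.2.2.1
    have := eq_inv_of_mul_eq_one_right h1
    rw [this, hinv τ₁ hτ₁S']
  have h12nez : τ₁ * τ₂ ≠ z := by
    intro h1
    apply hτ₂.2.2.2
    have : τ₂ = τ₁⁻¹ * z := by rw [← h1, inv_mul_cancel_left]
    rw [this, hinv τ₁ hτ₁S']
  have e1 := hinvert τ₁ hτ₁S' hτ₁.1 hτ₁.2
  have e2 := hinvert τ₂ hτ₂S' hτ₂.1 hτ₂.2.1
  have e12 := hinvert (τ₁ * τ₂) h12S h12ne1 h12nez
  have hxx : x⁻¹ = x := by
    calc x⁻¹ = τ₁ * τ₂ * x * (τ₁ * τ₂)⁻¹ := e12.symm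
      _ = τ₁ * (τ₂ * x * τ₂⁻¹) * τ₁⁻¹ := by rw [mul_inv_rev]; simp only [mul_assoc]
      _ = τ₁ * x⁻¹ * τ₁⁻¹ := by rw [e2]
      _ = (τ₁ * x * τ₁⁻¹)⁻¹ := by simp only [mul_inv_rev, inv_inv, mul_assoc]
      _ = x := by rw [e1, inv_inv]
  have hx2 : x ^ 2 = 1 := by
    rw [sq]
    nth_rewrite 1 [← hxx]
    exact inv_mul_cancel x
  have h5 : r ∣ 2 := by rw [← hxo]; exact orderOf_dvd_of_pow_eq_one hx2
  have h6 : r = 2 := (Nat.prime_dvd_prime_iff_eq hr Nat.prime_two).mp h5
  rw [h6] at hrodd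
  exact absurd hrodd (by decide)

end Cfsg.Agent.Helper70.BR
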