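import Mathlib
import Cfsg.Prelude.Def_Local

set_option autoImplicit false

namespace Cfsg.Agent.Helper70

open Cfsg
open scoped commutatorElement

/-- A nontrivial finite solvable group has a nontrivial normal `q`-subgroup for some prime `q`. -/
theorem exists_normal_pGroup_of_isSolvable {G : Type*} [Group G] [Finite G] [hG : Group.IsSolvable G]
    (hnt : Nontrivial G) : ∃ (q : ℕ) (N : Subgroup G), q.Prime ∧ N.Normal ∧ N ≠ ⊥ ∧ IsPGroup q N := by
  classical
  have hex : ∃ k, derivedSeries G k = ⊥ := hG.solvable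
  have hk := Nat.find_spec hex
  have hk0 : Nat.find hex ≠ 0 := by
    intro h0
    rw [h0, derivedSeries_zero] at hk
    exact top_ne_bot hk
  obtain ⟨m, hm⟩ := Nat.exists_eq_succ_of_ne_zero hk0
  have hDne : derivedSeries G m ≠ ⊥ := Nat.find_min hex (by omega)
  have hDab : ∀ a ∈ derivedSeries G m, ∀ b ∈ derivedSeries G m, a * b = b * a := by
    intro a ha b hb
    have h1 : ⁅a, b⁆ ∈ ⁅derivedSeries G m, derivedSeries G m⁆ := Subgroup.commutator_mem_commutator ha hb
    rw [← derivedSeries_succ, ← Nat.succ_eq_add_one, ← hm, hk, Subgroup.mem_bot,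
      commutatorElement_eq_one_iff_commute] at h1
    exact h1
  have hDn : (derivedSeries G m).Normal := derivedSeries_normal G m
  -- a prime dividing the order of `D`
  have hcard : Nat.card (derivedSeries G m) ≠ 1 := by
    intro h1
    exact hDne ((Subgroup.card_eq_one).mp h1)
  obtain ⟨q, hq, hqd⟩ := Nat.exists_prime_and_dvd hcard
  haveI : Fact q.Prime := ⟨hq⟩
  obtain ⟨x, hx⟩ := exists_prime_orderOf_dvd_card' q hqd
  -- the `q`-primary part of `D`
  let N : Subgroup G :=
    { carrier := {x | x ∈ derivedSeries G m ∧ ∃ k : ℕ, x ^ q ^ k = 1}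
      one_mem' := ⟨Subgroup.one_mem _, 0, by simp⟩
      mul_mem' := by
        rintro a b ⟨ha, i, hi⟩ ⟨hb, j, hj⟩
        refine ⟨Subgroup.mul_mem _ ha hb, i + j, ?_⟩
        have hc : Commute a b := hDab a ha b hb
        rw [hc.mul_pow, pow_add, pow_mul, hi, one_pow, one_mul, mul_comm, pow_mul, hj, one_pow]
      inv_mem' := by
        rintro a ⟨ha, i, hi⟩
        exact ⟨Subgroup.inv_mem _ ha, i, by rw [inv_pow, hi, inv_one]⟩ }
  refine ⟨q, N, hq, ?_, ?_, ?_⟩
  · constructor
    rintro a ⟨ha, i, hi⟩ g
    refine ⟨hDn.conj_mem a ha g, i, ?_⟩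
    rw [conj_pow, hi, mul_one, mul_inv_cancel]
  · intro hbot
    have hxN : (x : G) ∈ N := ⟨x.2, 1, by
      have := pow_orderOf_eq_one x
      rw [hx] at this
      have h2 := congrArg Subtype.val this
      simpa using h2⟩
    rw [hbot, Subgroup.mem_bot] at hxN
    have : x = 1 := Subtype.ext hxN
    rw [this, orderOf_one] at hx
    exact hq.one_lt.ne hx
  · rintro ⟨a, ha, i, hi⟩
    exact ⟨i, Subtype.ext hi⟩

/-- If `N` is a normal subgroup which is a `q`-group (for a prime `q`) and `G ⧸ N` is `p`-solvable then `G` is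
`p`-solvable. -/
theorem isPSolvable_of_quotient {G : Type*} [Group G] [Finite G] {p q : ℕ} (hp : p.Prime) (hq : q.Prime)
    (N : Subgroup G) [N.Normal] (hN : IsPGroup q N) (h : IsPSolvable p (G ⧸ N)) : IsPSolvable p G := by
  obtain ⟨n, H', h0, hlast, hmono, hnorm, hstep⟩ := h
  have hsurj := QuotientGroup.mk'_surjective N
  refine ⟨n + 1, Fin.cons ⊥ (fun i => (H' i).comap (QuotientGroup.mk' N)), ?_, ?_, ?_, ?_, ?_⟩
  · rfl
  · have : Fin.last (n + 1) = Fin.succ (Fin.last n) := rfl
    rw [this, Fin.cons_succ, hlast, Subgroup.comap_top]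
  · intro i j hij
    induction i using Fin.cases with
    | zero => rw [Fin.cons_zero]; exact bot_le
    | succ i =>
      induction j using Fin.cases with
      | zero => exact absurd hij (by simp)
      | succ j =>
        rw [Fin.cons_succ, Fin.cons_succ]
        exact Subgroup.comap_mono (hmono (Fin.succ_le_succ_iff.mp hij))
  · intro i
    induction i using Fin.cases with
    | zero => rw [Fin.cons_zero]; infer_instance
    | succ i =>
      rw [Fin.cons_succ]
      haveI := hnorm i
      infer_instance
  · intro i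
    induction i using Fin.cases with
    | zero =>
      have h1 : (Fin.cons ⊥ (fun i => (H' i).comap (QuotientGroup.mk' N)) :
          Fin (n + 2) → Subgroup G) (Fin.castSucc (0 : Fin (n + 1))) = ⊥ := rfl
      have h2 : (Fin.cons ⊥ (fun i => (H' i).comap (QuotientGroup.mk' N)) :
          Fin (n + 2) → Subgroup G) (Fin.succ (0 : Fin (n + 1))) = N := by
        rw [Fin.cons_succ, h0, MonoidHom.comap_bot, QuotientGroup.ker_mk']
      rw [h1, h2, Subgroup.relIndex_bot_left]
      haveI : Fact q.Prime := ⟨hq⟩
      obtain ⟨k, hk⟩ := IsPGroup.iff_card.mp hN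
      rw [hk]
      by_cases hpq : p = q
      · left; exact ⟨k, by rw [hpq]⟩
      · right
        exact Nat.Coprime.pow_left k ((Nat.coprime_primes hq hp).mpr (Ne.symm hpq))
    | succ i =>
      have h1 : (Fin.cons ⊥ (fun i => (H' i).comap (QuotientGroup.mk' N)) :
          Fin (n + 2) → Subgroup G) (Fin.castSucc (Fin.succ i)) =
          (H' (Fin.castSucc i)).comap (QuotientGroup.mk' N) := by
        rw [← Fin.succ_castSucc, Fin.cons_succ]
      have h2 : (Fin.cons ⊥ (fun i => (H' i).comap (QuotientGroup.mk' N)) :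
          Fin (n + 2) → Subgroup G) (Fin.succ (Fin.succ i)) =
          (H' (Fin.succ i)).comap (QuotientGroup.mk' N) := by
        rw [Fin.cons_succ]
      rw [h1, h2, Subgroup.relIndex_comap, Subgroup.map_comap_eq_self_of_surjective hsurj]
      exact hstep i

/-- A finite solvable group is `p`-solvable for every prime `p`. -/
theorem isPSolvable_of_isSolvable_aux {p : ℕ} (hp : p.Prime) : ∀ (n : ℕ) (G : Type*) [Group G] [Finite G],
    Nat.card G = n → Group.IsSolvable G → IsPSolvable p G := by
  intro n
  induction n using Nat.strong_induction_on with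
  | _ n ih =>
    intro G _ _ hn hsol
    by_cases hnt : Nontrivial G
    · obtain ⟨q, N, hq, hNn, hNne, hNq⟩ := exists_normal_pGroup_of_isSolvable hnt
      have hlt : Nat.card (G ⧸ N) < n := by
        rw [← hn, ← Subgroup.index_eq_card, ← Subgroup.index_mul_card N]
        have h1 : 1 < Nat.card N := by
          rw [Subgroup.one_lt_card_iff_ne_bot]; exact hNne
        have : 0 < N.index := Nat.pos_of_ne_zero Subgroup.index_ne_zero_of_finite
        nlinarith
      have h1 := ih _ hlt (G ⧸ N) rfl inferInstance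
      exact isPSolvable_of_quotient hp hq N hNq h1
    · rw [not_nontrivial_iff_subsingleton] at hnt
      refine ⟨0, fun _ => ⊥, rfl, Subsingleton.elim _ _, fun _ _ _ => le_rfl, fun _ => inferInstance, ?_⟩
      intro i
      exact i.elim0

theorem isPSolvable_of_isSolvable {G : Type*} [Group G] [Finite G] [hG : Group.IsSolvable G] (p : ℕ)
    [hp : Fact p.Prime] : IsPSolvable p G :=
  isPSolvable_of_isSolvable_aux hp.out _ G rfl hG

end Cfsg.Agent.Helper70
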