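import Mathlib

set_option autoImplicit false

namespace Cfsg.Agent.Helper70

/-- A subgroup lies in a normal subgroup `N` iff its image in the quotient by `N` is trivial. -/
theorem le_normal_iff_map_mk_eq_bot {G : Type*} [Group G] (N : Subgroup G) [N.Normal] (A : Subgroup G) :
    A ≤ N ↔ A.map (QuotientGroup.mk' N) = ⊥ := by
  rw [Subgroup.map_eq_bot_iff, QuotientGroup.ker_mk']

/-- The three subgroups lemma modulo a normal subgroup `N`. -/
theorem three_subgroups_mod {G : Type*} [Group G] (N : Subgroup G) [N.Normal] (H₁ H₂ H₃ : Subgroup G)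
    (h1 : ⁅⁅H₂, H₃⁆, H₁⁆ ≤ N) (h2 : ⁅⁅H₃, H₁⁆, H₂⁆ ≤ N) : ⁅⁅H₁, H₂⁆, H₃⁆ ≤ N := by
  rw [le_normal_iff_map_mk_eq_bot] at h1 h2 ⊢
  simp only [Subgroup.map_commutator] at h1 h2 ⊢
  exact Subgroup.commutator_commutator_eq_bot_of_rotate h1 h2

/-- For a normal subgroup `N` and any subgroup `A`, the set of `g` with `⁅A, g⁆ ⊆ N` is a subgroup
("the centralizer of `A` modulo `N`"). -/
def centralizerMod {G : Type*} [Group G] (A N : Subgroup G) [N.Normal] : Subgroup G :=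
  (Subgroup.centralizer ((A.map (QuotientGroup.mk' N) : Subgroup (G ⧸ N)) : Set (G ⧸ N))).comap (QuotientGroup.mk' N)

theorem le_centralizerMod_iff {G : Type*} [Group G] (A N B : Subgroup G) [N.Normal] :
    B ≤ centralizerMod A N ↔ ⁅A, B⁆ ≤ N := by
  rw [centralizerMod, ← Subgroup.map_le_iff_le_comap, le_normal_iff_map_mk_eq_bot N ⁅A, B⁆,
    Subgroup.map_commutator, Subgroup.commutator_comm, Subgroup.commutator_eq_bot_iff_le_centralizer]

/-- `⁅A, B ⊔ C⁆ ≤ N` as soon as `⁅A, B⁆ ≤ N` and `⁅A, C⁆ ≤ N` for a normal subgroup `N`. -/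
theorem commutator_sup_le {G : Type*} [Group G] (A B C N : Subgroup G) [N.Normal]
    (h1 : ⁅A, B⁆ ≤ N) (h2 : ⁅A, C⁆ ≤ N) : ⁅A, B ⊔ C⁆ ≤ N := by
  rw [← le_centralizerMod_iff] at h1 h2 ⊢
  exact sup_le h1 h2

theorem sup_commutator_le {G : Type*} [Group G] (A B C N : Subgroup G) [N.Normal]
    (h1 : ⁅B, A⁆ ≤ N) (h2 : ⁅C, A⁆ ≤ N) : ⁅B ⊔ C, A⁆ ≤ N := by
  rw [Subgroup.commutator_comm] at h1 h2 ⊢
  exact commutator_sup_le A B C N h1 h2

end Cfsg.Agent.Helper70
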