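import Mathlib
import Cfsg.Prelude.Def_PLocal
import Cfsg.Agent.Helper70.Commutator
import Cfsg.Agent.Helper1.PGroup

set_option autoImplicit false

namespace Cfsg.Agent.Helper70

open scoped commutatorElement

universe u

/-! ### Generalities -/

/-- the image of a power closure -/
theorem powerClosure_map {G G' : Type*} [Group G] [Group G'] (f : G →* G') (p n : ℕ) (H : Subgroup G) :
    (Cfsg.powerClosure p n H).map f = Cfsg.powerClosure p n (H.map f) := by
  unfold Cfsg.powerClosure
  rw [MonoidHom.map_closure]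
  congr 1
  ext y
  constructor
  · rintro ⟨_, ⟨x, hx, rfl⟩, rfl⟩
    exact ⟨f x, Subgroup.mem_map_of_mem f hx, by rw [map_pow]⟩
  · rintro ⟨_, ⟨x, hx, rfl⟩, rfl⟩
    exact ⟨x ^ p ^ n, ⟨x, hx, rfl⟩, by rw [map_pow]⟩

theorem closure_pair_map {G G' : Type*} [Group G] [Group G'] (f : G →* G') (a b : G) :
    (Subgroup.closure ({a, b} : Set G)).map f = Subgroup.closure ({f a, f b} : Set G') := by
  rw [MonoidHom.map_closure]
  congr 1
  ext y
  simp only [Set.mem_image, Set.mem_insert_iff, Set.mem_singleton_iff]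
  constructor
  · rintro ⟨x, rfl | rfl, rfl⟩
    · exact Or.inl rfl
    · exact Or.inr rfl
  · rintro (rfl | rfl)
    · exact ⟨a, Or.inl rfl, rfl⟩
    · exact ⟨b, Or.inr rfl, rfl⟩

/-- regularity passes to subgroups -/
theorem isRegularPGroup_subgroup {G : Type*} [Group G] {p : ℕ} (hG : Cfsg.IsRegularPGroup p G)
    (M : Subgroup G) : Cfsg.IsRegularPGroup p M := by
  refine ⟨hG.1.to_subgroup M, ?_⟩
  intro a b n
  obtain ⟨c, hc, hab⟩ := hG.2 (a : G) (b : G) n
  have hmap : (Cfsg.powerClosure p n ⁅Subgroup.closure ({a, b} : Set M), Subgroup.closure ({a, b} : Set M)⁆).map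
      M.subtype = Cfsg.powerClosure p n ⁅Subgroup.closure ({(a : G), (b : G)} : Set G),
        Subgroup.closure ({(a : G), (b : G)} : Set G)⁆ := by
    rw [powerClosure_map, Subgroup.map_commutator, closure_pair_map]
    rfl
  rw [← hmap] at hc
  obtain ⟨c', hc', rfl⟩ := hc
  refine ⟨c', hc', ?_⟩
  apply Subtype.ext
  simp only [Subgroup.coe_mul, Subgroup.coe_pow]
  exact hab

/-- if a commutator of two elements lies in a normal subgroup `N`, so does the derived subgroup of the subgroup
they generate -/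
theorem commutator_closure_pair_le {G : Type*} [Group G] (N : Subgroup G) [N.Normal] (u v : G)
    (h : ⁅u, v⁆ ∈ N) :
    ⁅Subgroup.closure ({u, v} : Set G), Subgroup.closure ({u, v} : Set G)⁆ ≤ N := by
  rw [le_normal_iff_map_mk_eq_bot, Subgroup.map_commutator, closure_pair_map,
    Subgroup.commutator_self_eq_bot_iff]
  apply Subgroup.isMulCommutative_closure
  have huv : (QuotientGroup.mk' N u) * (QuotientGroup.mk' N v) = (QuotientGroup.mk' N v) * (QuotientGroup.mk' N u) := by
    have h1 : (QuotientGroup.mk' N) ⁅u, v⁆ = 1 := by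
      rw [QuotientGroup.mk'_apply, QuotientGroup.eq_one_iff]; exact h
    rw [map_commutatorElement, commutatorElement_eq_one_iff_mul_comm] at h1
    exact h1
  intro x hx y hy
  simp only [Set.mem_insert_iff, Set.mem_singleton_iff] at hx hy
  rcases hx with rfl | rfl <;> rcases hy with rfl | rfl
  · rfl
  · exact huv
  · exact huv.symm
  · rfl

/-- in a finite `p`-group, the derived subgroup lies in the Frattini subgroup -/
theorem commutator_le_frattini {G : Type*} [Group G] [Finite G] {p : ℕ} [Fact p.Prime] (hG : IsPGroup p G) :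
    commutator G ≤ frattini G := by
  unfold frattini Order.radical
  exact le_iInf₂ (fun M hM => Cfsg.Agent.Helper1.commutator_le_coatom hG M hM)

/-- in a finite `p`-group, if `⟨x⟩ G' = G` then `G = ⟨x⟩`. -/
theorem zpowers_eq_top_of_sup_commutator {G : Type*} [Group G] [Finite G] {p : ℕ} [Fact p.Prime]
    (hG : IsPGroup p G) (x : G) (h : Subgroup.zpowers x ⊔ commutator G = ⊤) : Subgroup.zpowers x = ⊤ := by
  apply frattini_nongenerating
  rw [eq_top_iff, ← h]
  exact sup_le_sup_left (commutator_le_frattini hG) _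


/-! ### Regular `p`-groups -/

theorem closure_pair_inv {G : Type*} [Group G] (a b : G) :
    Subgroup.closure ({a, b⁻¹} : Set G) = Subgroup.closure ({a, b} : Set G) := by
  apply le_antisymm
  · rw [Subgroup.closure_le]
    rintro x (rfl | rfl)
    · exact Subgroup.subset_closure (by simp)
    · exact Subgroup.inv_mem _ (Subgroup.subset_closure (by simp))
  · rw [Subgroup.closure_le]
    rintro x (rfl | rfl)
    · exact Subgroup.subset_closure (by simp)
    · have : x = (x⁻¹)⁻¹ := by simp
      rw [this]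
      exact Subgroup.inv_mem _ (Subgroup.subset_closure (by simp))

theorem closure_pair_mul_inv {G : Type*} [Group G] (a b : G) :
    Subgroup.closure ({a * b⁻¹, b} : Set G) = Subgroup.closure ({a, b} : Set G) := by
  apply le_antisymm
  · rw [Subgroup.closure_le]
    rintro x (rfl | rfl)
    · exact Subgroup.mul_mem _ (Subgroup.subset_closure (by simp))
        (Subgroup.inv_mem _ (Subgroup.subset_closure (by simp)))
    · exact Subgroup.subset_closure (by simp)
  · rw [Subgroup.closure_le]
    rintro x (rfl | rfl)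
    · have : x = (x * b⁻¹) * b := by group
      rw [this]
      exact Subgroup.mul_mem _ (Subgroup.subset_closure (by simp)) (Subgroup.subset_closure (by simp))
    · exact Subgroup.subset_closure (by simp)

theorem closure_pair_swap_inv {G : Type*} [Group G] (x y : G) :
    Subgroup.closure ({y⁻¹, x} : Set G) = Subgroup.closure ({x, y} : Set G) := by
  rw [Set.pair_comm, closure_pair_inv]

/-- the auxiliary statement proved by induction -/
def SProp (p : ℕ) (G : Type*) [Group G] : Prop :=
  ∀ (a b : G) (k : ℕ), (a ^ p ^ k = b ^ p ^ k ∨ (a * b⁻¹) ^ p ^ k = 1) →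
    ∀ z ∈ ⁅Subgroup.closure ({a, b} : Set G), Subgroup.closure ({a, b} : Set G)⁆, z ^ p ^ k = 1

theorem powerClosure_eq_bot {G : Type*} [Group G] (p k : ℕ) (H : Subgroup G) (h : ∀ z ∈ H, z ^ p ^ k = 1) :
    Cfsg.powerClosure p k H = ⊥ := by
  unfold Cfsg.powerClosure
  rw [eq_bot_iff, Subgroup.closure_le]
  rintro y ⟨x, hx, rfl⟩
  rw [h x hx]
  exact Subgroup.one_mem _

theorem pow_eq_iff_of_SProp {G : Type*} [Group G] {p : ℕ} (hreg : Cfsg.IsRegularPGroup p G) (hS : SProp p G)
    (a b : G) (k : ℕ) : a ^ p ^ k = b ^ p ^ k ↔ (a * b⁻¹) ^ p ^ k = 1 := by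
  constructor
  · intro h
    obtain ⟨c, hc, hab⟩ := hreg.2 a b⁻¹ k
    rw [closure_pair_inv, powerClosure_eq_bot p k _ (hS a b k (Or.inl h)), Subgroup.mem_bot] at hc
    rw [hab, hc, mul_one, inv_pow, h, mul_inv_cancel]
  · intro h
    obtain ⟨c, hc, hab⟩ := hreg.2 (a * b⁻¹) b k
    rw [closure_pair_mul_inv, powerClosure_eq_bot p k _ (hS a b k (Or.inr h)), Subgroup.mem_bot] at hc
    rw [hc, mul_one, h, one_mul, inv_mul_cancel_right] at hab
    exact hab

theorem mul_pow_eq_one_of_SProp {G : Type*} [Group G] {p : ℕ} (hreg : Cfsg.IsRegularPGroup p G) (hS : SProp p G)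
    (x y : G) (k : ℕ) (hx : x ^ p ^ k = 1) (hy : y ^ p ^ k = 1) : (x * y) ^ p ^ k = 1 := by
  have := (pow_eq_iff_of_SProp hreg hS x y⁻¹ k).mp (by rw [hx, inv_pow, hy, inv_one])
  rwa [inv_inv] at this

theorem claimE {G : Type u} [Group G] [Finite G] {p : ℕ} [Fact p.Prime] (hreg : Cfsg.IsRegularPGroup p G)
    (ih : ∀ M : Subgroup G, M ≠ ⊤ → SProp p M) (x y : G) (k : ℕ)
    (hxy : Subgroup.closure ({x, y} : Set G) = ⊤) (hnc : ¬ Commute x y)
    (hpow : (y⁻¹ * x * y) ^ p ^ k = x ^ p ^ k) : ∀ z ∈ commutator G, z ^ p ^ k = 1 := by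
  set M := Subgroup.zpowers x ⊔ commutator G with hMdef
  have hM : M ≠ ⊤ := by
    intro h
    have h1 := zpowers_eq_top_of_sup_commutator hreg.1 x h
    have hy : y ∈ Subgroup.zpowers x := by rw [h1]; trivial
    obtain ⟨j, rfl⟩ := Subgroup.mem_zpowers_iff.mp hy
    exact hnc ((Commute.refl x).zpow_right j)
  have hcM : commutator G ≤ M := le_sup_right
  haveI hMn : M.Normal := Subgroup.Normal.of_commutator_le G hcM
  have hSM := ih M hM
  have hregM := isRegularPGroup_subgroup hreg M
  have hxM : x ∈ M := Subgroup.mem_sup_left (Subgroup.mem_zpowers x)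
  have hcomm1 : ⁅x⁻¹, y⁻¹⁆ ∈ commutator G := by
    rw [commutator_def]
    exact Subgroup.commutator_mem_commutator (Subgroup.mem_top _) (Subgroup.mem_top _)
  have hwM : y⁻¹ * x * y ∈ M := by
    have : y⁻¹ * x * y = x * ⁅x⁻¹, y⁻¹⁆ := by
      rw [commutatorElement_def]; group
    rw [this]
    exact M.mul_mem hxM (hcM hcomm1)
  have h1 := (pow_eq_iff_of_SProp hregM hSM ⟨y⁻¹ * x * y, hwM⟩ ⟨x, hxM⟩ k).mp (by
    apply Subtype.ext
    simp only [Subgroup.coe_pow]
    exact hpow)
  have h2 : (y⁻¹ * x * y * x⁻¹) ^ p ^ k = 1 := by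
    have := congrArg Subtype.val h1
    simpa using this
  -- the subgroup of elements of M of order dividing q
  let Ω : Subgroup G :=
    { carrier := {z | z ∈ M ∧ z ^ p ^ k = 1}
      mul_mem' := by
        rintro u v ⟨hu, hu'⟩ ⟨hv, hv'⟩
        refine ⟨M.mul_mem hu hv, ?_⟩
        have := mul_pow_eq_one_of_SProp hregM hSM ⟨u, hu⟩ ⟨v, hv⟩ k (Subtype.ext (by simpa using hu'))
          (Subtype.ext (by simpa using hv'))
        have := congrArg Subtype.val this
        simpa using this
      one_mem' := ⟨M.one_mem, one_pow _⟩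
      inv_mem' := by
        rintro u ⟨hu, hu'⟩
        exact ⟨M.inv_mem hu, by rw [inv_pow, hu', inv_one]⟩ }
  haveI hΩn : Ω.Normal := by
    constructor
    rintro u ⟨hu, hu'⟩ g
    exact ⟨hMn.conj_mem u hu g, by rw [conj_pow, hu', mul_one, mul_inv_cancel]⟩
  have hmem : ⁅y⁻¹, x⁆ ∈ Ω := by
    refine ⟨hcM ?_, ?_⟩
    · rw [commutator_def]
      exact Subgroup.commutator_mem_commutator (Subgroup.mem_top _) (Subgroup.mem_top _)
    · rw [commutatorElement_def, inv_inv]
      exact h2
  have h3 := commutator_closure_pair_le Ω y⁻¹ x hmem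
  rw [closure_pair_swap_inv, hxy, ← commutator_def] at h3
  intro z hz
  exact (h3 hz).2

theorem card_lt_of_ne_top {G : Type*} [Group G] [Finite G] (M : Subgroup G) (hM : M ≠ ⊤) :
    Nat.card M < Nat.card G := by
  by_contra h
  push Not at h
  exact hM (Subgroup.eq_top_of_card_eq M (le_antisymm (Subgroup.card_le_card_group M) h))

theorem sProp_of_regular (p : ℕ) [Fact p.Prime] :
    ∀ (n : ℕ) (G : Type u) [Group G] [Finite G], Nat.card G = n → Cfsg.IsRegularPGroup p G → SProp p G := by
  intro n
  induction n using Nat.strong_induction_on with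
  | _ n ih =>
  intro G _ _ hn hreg a b k hyp z hz
  have ih' : ∀ M : Subgroup G, M ≠ ⊤ → SProp p M := by
    intro M hM
    exact ih (Nat.card M) (hn ▸ card_lt_of_ne_top M hM) M rfl (isRegularPGroup_subgroup hreg M)
  by_cases hH : Subgroup.closure ({a, b} : Set G) = ⊤
  · by_cases hcomm : Commute a b
    · -- the derived subgroup is trivial
      have hc : IsMulCommutative (Subgroup.closure ({a, b} : Set G)) := by
        apply Subgroup.isMulCommutative_closure
        intro x hx y hy
        simp only [Set.mem_insert_iff, Set.mem_singleton_iff] at hx hy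
        rcases hx with rfl | rfl <;> rcases hy with rfl | rfl
        · rfl
        · exact hcomm.eq
        · exact hcomm.eq.symm
        · rfl
      rw [Subgroup.commutator_self_eq_bot_iff.mpr hc, Subgroup.mem_bot] at hz
      rw [hz, one_pow]
    · rw [hH, ← commutator_def] at hz
      rcases hyp with hyp | hyp
      · refine claimE hreg ih' a b k hH hcomm ?_ z hz
        have e : b⁻¹ * a * b = b⁻¹ * a * (b⁻¹)⁻¹ := by rw [inv_inv]
        rw [e, conj_pow, hyp, inv_inv]
        have hcb : Commute b⁻¹ (b ^ p ^ k) := (Commute.refl b).inv_left.pow_right _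
        rw [hcb.eq, inv_mul_cancel_right]
      · have hH' : Subgroup.closure ({a * b⁻¹, b} : Set G) = ⊤ := by rw [closure_pair_mul_inv, hH]
        have hnc : ¬ Commute (a * b⁻¹) b := by
          intro h
          apply hcomm
          have : a = (a * b⁻¹) * b := by group
          rw [this]
          exact h.mul_left (Commute.refl b)
        refine claimE hreg ih' (a * b⁻¹) b k hH' hnc ?_ z hz
        have e : b⁻¹ * (a * b⁻¹) * b = b⁻¹ * (a * b⁻¹) * (b⁻¹)⁻¹ := by rw [inv_inv]
        rw [e, conj_pow, hyp, mul_one, inv_inv, inv_mul_cancel]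
  · -- apply the induction hypothesis to the subgroup generated by a and b
    set H := Subgroup.closure ({a, b} : Set G) with hHdef
    have haH : a ∈ H := Subgroup.subset_closure (by simp)
    have hbH : b ∈ H := Subgroup.subset_closure (by simp)
    have hSH := ih' H hH
    have hyp' : ((⟨a, haH⟩ : H) ^ p ^ k = (⟨b, hbH⟩ : H) ^ p ^ k ∨
        ((⟨a, haH⟩ : H) * (⟨b, hbH⟩ : H)⁻¹) ^ p ^ k = 1) := by
      rcases hyp with hyp | hyp
      · left
        apply Subtype.ext
        simpa using hyp
      · right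
        apply Subtype.ext
        simpa using hyp
    have h1 := hSH ⟨a, haH⟩ ⟨b, hbH⟩ k hyp'
    have hmap : (⁅Subgroup.closure ({(⟨a, haH⟩ : H), (⟨b, hbH⟩ : H)} : Set H),
        Subgroup.closure ({(⟨a, haH⟩ : H), (⟨b, hbH⟩ : H)} : Set H)⁆).map H.subtype = ⁅H, H⁆ := by
      rw [Subgroup.map_commutator, closure_pair_map]
      rfl
    rw [← hmap] at hz
    obtain ⟨z', hz', rfl⟩ := hz
    have := congrArg Subtype.val (h1 z' hz')
    simpa using this

end Cfsg.Agent.Helper70
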