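import Mathlib
import Cfsg.Agent.Helper1.HKK.Basic
import Cfsg.Agent.Helper1.HKK.GroupDefs
import Cfsg.Agent.Helper1.FpfThompson

/-!
# (GL) of helper1's S3779 project (#6245): from the associated Lie ring to the group (helper70)

`lcs_eq_bot_of_fpf'` is the glue step with the interface (LG) of the associated Lie ring as an
explicit hypothesis.
-/

set_option autoImplicit false
open Cfsg.Agent.Helper1.HKK

namespace Cfsg.Agent.Helper70.HKKGL

universe u

section grp
variable {G : Type u} [Group G]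

theorem gam_zero : Gam G 0 = ⊤ := rfl

theorem gam_one : Gam G 1 = ⊤ := rfl

theorem gam_succ_succ (n : ℕ) : Gam G (n + 2) = ⁅Gam G (n + 1), (⊤ : Subgroup G)⁆ := rfl

theorem gam_succ_eq (n : ℕ) : Gam G (n + 1) = (⊤ : Subgroup G).lowerCentralSeries n := rfl

instance gam_characteristic (n : ℕ) : (Gam G n).Characteristic := by
  unfold Gam; infer_instance

theorem gam_map (α : G ≃* G) (n : ℕ) {x : G} (hx : x ∈ Gam G n) : α x ∈ Gam G n := by
  have h := (gam_characteristic (G := G) n).fixed α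
  rw [← h] at hx
  exact hx

/-- A fixed-point-free automorphism of a finite group induces a fixed-point-free automorphism on
the quotient by an invariant subgroup (stated without quotients). -/
theorem mem_of_inv_mul_map_mem [Finite G] (α : G ≃* G) (hfpf : ∀ g : G, α g = g → g = 1)
    (N : Subgroup G) (hN : ∀ x ∈ N, α x ∈ N) {x : G} (hx : x⁻¹ * α x ∈ N) : x ∈ N := by
  have hinj : ∀ a b : G, a⁻¹ * α a = b⁻¹ * α b → a = b := by
    intro a b h
    have h1 : b * a⁻¹ = α b * (α a)⁻¹ := by
      rw [eq_mul_inv_iff_mul_eq, mul_assoc, h, mul_inv_cancel_left]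
    have h2 : α (b * a⁻¹) = b * a⁻¹ := by
      rw [map_mul, map_inv]; exact h1.symm
    have h3 := hfpf _ h2
    exact (mul_inv_eq_one.mp h3).symm
  let f : N → N := fun n => ⟨(n : G)⁻¹ * α n, N.mul_mem (N.inv_mem n.2) (hN _ n.2)⟩
  have hf : Function.Injective f := by
    intro a b h
    apply Subtype.ext
    apply hinj
    exact congrArg Subtype.val h
  obtain ⟨n, hn⟩ := (Finite.injective_iff_surjective.mp hf) ⟨_, hx⟩
  have h4 := hinj n x (congrArg Subtype.val hn)
  rw [← h4]; exact n.2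

theorem not_dvd_card_of_fpf [Finite G] {p : ℕ} (hp : p.Prime) (α : MulAut G) (hα : α ^ p = 1)
    (hfpf : ∀ g : G, α g = g → g = 1) : ¬ p ∣ Nat.card G := by
  classical
  have := Fintype.ofFinite G
  have : Fact p.Prime := ⟨hp⟩
  intro hdvd
  rw [Nat.card_eq_fintype_card] at hdvd
  have hσ : (MulAut.toPerm G α) ^ p ^ 1 = 1 := by
    rw [pow_one, ← map_pow, hα, map_one]
  obtain ⟨b, hb1, hb2⟩ := Equiv.Perm.exists_fixed_point_of_prime' hdvd hσ
    (a := (1 : G)) (map_one α)
  exact hb2 (hfpf b hb1)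

theorem mem_of_pow_mem [Finite G] {p : ℕ} (hp : ¬ p ∣ Nat.card G) (hpp : p.Prime)
    (N : Subgroup G) {x : G} (hx : x ^ p ∈ N) : x ∈ N := by
  have hcop : Nat.Coprime p (orderOf x) := by
    rw [Nat.Prime.coprime_iff_not_dvd hpp]
    intro h
    exact hp (h.trans (orderOf_dvd_natCard x))
  obtain ⟨m, hm⟩ := exists_pow_eq_self_of_coprime hcop
  rw [← hm]
  exact N.pow_mem hx m

theorem lcs_eq_bot_of_succ_le [hn : Group.IsNilpotent G] (c : ℕ)
    (h : (⊤ : Subgroup G).lowerCentralSeries c ≤ (⊤ : Subgroup G).lowerCentralSeries (c + 1)) :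
    (⊤ : Subgroup G).lowerCentralSeries c = ⊥ := by
  have heq : ∀ k, (⊤ : Subgroup G).lowerCentralSeries (c + k) =
      (⊤ : Subgroup G).lowerCentralSeries c := by
    intro k
    induction k with
    | zero => rfl
    | succ k ih =>
      have h1 : (⊤ : Subgroup G).lowerCentralSeries (c + 1) =
          (⊤ : Subgroup G).lowerCentralSeries c :=
        le_antisymm (Subgroup.lowerCentralSeries_antitone _ (Nat.le_succ c)) h
      rw [← add_assoc, Subgroup.lowerCentralSeries_succ, ih, ← Subgroup.lowerCentralSeries_succ, h1]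
  obtain ⟨N, hN⟩ := nilpotent_iff_lowerCentralSeries.mp hn
  have h2 : (⊤ : Subgroup G).lowerCentralSeries (c + N) ≤ (⊤ : Subgroup G).lowerCentralSeries N :=
    Subgroup.lowerCentralSeries_antitone _ (Nat.le_add_left N c)
  rw [heq N, hN] at h2
  exact le_bot_iff.mp h2

end grp


section main

/-- (GL) with the interface (LG) of the associated Lie ring as an explicit hypothesis. -/
theorem lcs_eq_bot_of_fpf' {G : Type u} [Group G] [Finite G] {p : ℕ} (hp : p.Prime) (α : MulAut G)
    (hα : orderOf α = p) (hfpf : ∀ g : G, α g = g → g = 1) (c : ℕ)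
    (hLG : ∃ (L : Type u) (_ : LieRing L) (q : ℕ → G → L),
      (∀ n x y, x ∈ Gam G n → y ∈ Gam G n → q n (x * y) = q n x + q n y) ∧
      (∀ n x, x ∈ Gam G n → (q n x = 0 ↔ x ∈ Gam G (n + 1))) ∧
      (∀ i j x y, 1 ≤ i → 1 ≤ j → x ∈ Gam G i → y ∈ Gam G j →
        ⁅q i x, q j y⁆ = q (i + j) (x * y * x⁻¹ * y⁻¹)) ∧
      (∀ a : L, ∃ (N : ℕ) (x : ℕ → G), (∀ n, x n ∈ Gam G n) ∧
        a = ∑ n ∈ Finset.range N, q n (x n)) ∧
      (∀ (N : ℕ) (x : ℕ → G), (∀ n, x n ∈ Gam G n) → ∑ n ∈ Finset.range N, q n (x n) = 0 →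
        ∀ n < N, q n (x n) = 0) ∧
      (∀ α : G ≃* G, ∃ φ : L →+ L, (∀ a b, φ ⁅a, b⁆ = ⁅φ a, φ b⁆) ∧
        ∀ n x, x ∈ Gam G n → φ (q n x) = q n (α x)))
    (hc : ∀ (L : Type u) [LieRing L] (φ : L →+ L), (∀ x y, φ ⁅x, y⁆ = ⁅φ x, φ y⁆) →
      (∀ a, φ^[p] a = a) → (∀ a, φ a = a → a = 0) → (∀ a : L, p • a = 0 → a = 0) →
      ∀ (x : L) (ys : List L), ys.length = c → lnb x ys = 0) :
    (⊤ : Subgroup G).lowerCentralSeries c = ⊥ := by
  obtain ⟨L, instL, q, hadd, hker, hbrk, hgen, hindep, haut⟩ := hLG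
  have hαp : α ^ p = 1 := by rw [← hα]; exact pow_orderOf_eq_one α
  have hnil : Group.IsNilpotent G := Cfsg.Agent.Helper1.fpf_prime_nilpotent hp α hfpf hαp
  have hpcard : ¬ p ∣ Nat.card G := not_dvd_card_of_fpf hp α hαp hfpf
  obtain ⟨φ, hφbr, hφq⟩ := haut α
  -- basic facts on `q`
  have hq1 : ∀ n, q n 1 = 0 := by
    intro n
    have h := hadd n 1 1 (one_mem _) (one_mem _)
    rw [mul_one] at h
    exact left_eq_add.mp h
  have hqinv : ∀ n x, x ∈ Gam G n → q n x⁻¹ = - q n x := by
    intro n x hx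
    have h := hadd n x x⁻¹ hx (inv_mem hx)
    rw [mul_inv_cancel, hq1] at h
    exact (neg_eq_of_add_eq_zero_right h.symm).symm
  have hqpow : ∀ n x (k : ℕ), x ∈ Gam G n → q n (x ^ k) = k • q n x := by
    intro n x k hx
    induction k with
    | zero => rw [pow_zero, zero_smul, hq1]
    | succ k ih => rw [pow_succ, hadd n _ _ (pow_mem hx k) hx, ih, succ_nsmul]
  have hiter : ∀ n x (k : ℕ), x ∈ Gam G n → φ^[k] (q n x) = q n ((α ^ k) x) := by
    intro n x k hx
    induction k with
    | zero => rfl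
    | succ k ih =>
      rw [Function.iterate_succ_apply', ih, hφq n _ (gam_map (α ^ k) n hx), pow_succ',
        MulAut.mul_apply]
  have hiter_sum : ∀ (k : ℕ) (s : Finset ℕ) (f : ℕ → L),
      φ^[k] (∑ n ∈ s, f n) = ∑ n ∈ s, φ^[k] (f n) := by
    intro k s f
    induction k with
    | zero => rfl
    | succ k ih =>
      rw [Function.iterate_succ_apply', ih, map_sum]
      exact Finset.sum_congr rfl fun n _ => (Function.iterate_succ_apply' _ _ _).symm
  have hpid : ∀ a, φ^[p] a = a := by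
    intro a
    obtain ⟨N, x, hx, rfl⟩ := hgen a
    rw [hiter_sum]
    refine Finset.sum_congr rfl fun n _ => ?_
    rw [hiter n (x n) p (hx n), hαp]
    rfl
  have hfix : ∀ a, φ a = a → a = 0 := by
    intro a ha
    obtain ⟨N, x, hx, rfl⟩ := hgen a
    rw [map_sum] at ha
    have hmem : ∀ n, (x n)⁻¹ * α (x n) ∈ Gam G n := fun n =>
      mul_mem (inv_mem (hx n)) (gam_map α n (hx n))
    have h0 : ∑ n ∈ Finset.range N, q n ((x n)⁻¹ * α (x n)) = 0 := by
      have h1 : ∀ n ∈ Finset.range N,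
          q n ((x n)⁻¹ * α (x n)) = φ (q n (x n)) - q n (x n) := by
        intro n _
        rw [hadd n _ _ (inv_mem (hx n)) (gam_map α n (hx n)), hqinv n _ (hx n),
          hφq n _ (hx n)]
        abel
      rw [Finset.sum_congr rfl h1, Finset.sum_sub_distrib, ha, sub_self]
    have h2 := hindep N (fun n => (x n)⁻¹ * α (x n)) hmem h0
    refine Finset.sum_eq_zero fun n hn => ?_
    have h3 := (hker n _ (hmem n)).mp (h2 n (Finset.mem_range.mp hn))
    have h4 : x n ∈ Gam G (n + 1) :=
      mem_of_inv_mul_map_mem α hfpf (Gam G (n + 1)) (fun y hy => gam_map α (n + 1) hy) h3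
    exact (hker n _ (hx n)).mpr h4
  have htor : ∀ a : L, p • a = 0 → a = 0 := by
    intro a ha
    obtain ⟨N, x, hx, rfl⟩ := hgen a
    rw [Finset.smul_sum] at ha
    have h0 : ∑ n ∈ Finset.range N, q n ((x n) ^ p) = 0 := by
      rw [← ha]
      exact Finset.sum_congr rfl fun n _ => hqpow n (x n) p (hx n)
    have h2 := hindep N (fun n => (x n) ^ p) (fun n => pow_mem (hx n) p) h0
    refine Finset.sum_eq_zero fun n hn => ?_
    have h3 := (hker n _ (pow_mem (hx n) p)).mp (h2 n (Finset.mem_range.mp hn))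
    have h4 : x n ∈ Gam G (n + 1) := mem_of_pow_mem hpcard hp _ h3
    exact (hker n _ (hx n)).mpr h4
  have hzero := hc L φ hφbr hpid hfix htor
  -- the image of `Gam (n+1)` is spanned by left-normed brackets of length `n`
  have hspan : ∀ n : ℕ, ∀ x ∈ Gam G (n + 1), q (n + 1) x ∈
      AddSubgroup.closure {z : L | ∃ (y : L) (ys : List L), ys.length = n ∧ z = lnb y ys} := by
    intro n
    induction n with
    | zero =>
      intro x _
      exact AddSubgroup.subset_closure ⟨q 1 x, [], rfl, rfl⟩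
    | succ n ih =>
      intro x hx
      have hstep : ∀ s ∈ AddSubgroup.closure
          {z : L | ∃ (y : L) (ys : List L), ys.length = n ∧ z = lnb y ys}, ∀ w : L,
          ⁅s, w⁆ ∈ AddSubgroup.closure
            {z : L | ∃ (y : L) (ys : List L), ys.length = n + 1 ∧ z = lnb y ys} := by
        intro s hs w
        induction hs using AddSubgroup.closure_induction with
        | mem s hs =>
          obtain ⟨y, ys, hlen, rfl⟩ := hs
          refine AddSubgroup.subset_closure ⟨y, ys ++ [w], ?_, (lnb_concat y ys w).symm⟩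
          rw [List.length_append, hlen]; rfl
        | zero => rw [zero_lie]; exact zero_mem _
        | add a b _ _ iha ihb => rw [add_lie]; exact add_mem iha ihb
        | neg a _ iha => rw [neg_lie]; exact neg_mem iha
      rw [gam_succ_succ] at hx
      induction hx using Subgroup.closure_induction with
      | mem x hx =>
        obtain ⟨a, ha, b, _, rfl⟩ := hx
        have h1 := hbrk (n + 1) 1 a b (Nat.le_add_left 1 n) le_rfl ha (Subgroup.mem_top b)
        have h2 : q (n + 1 + 1) (a * b * a⁻¹ * b⁻¹) = ⁅q (n + 1) a, q 1 b⁆ := h1.symm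
        rw [commutatorElement_def, h2]
        exact hstep _ (ih a ha) _
      | one => rw [hq1]; exact zero_mem _
      | mul a b ha hb iha ihb =>
        rw [hadd (n + 1 + 1) a b ha hb]
        exact add_mem iha ihb
      | inv a ha iha =>
        rw [hqinv (n + 1 + 1) a ha]
        exact neg_mem iha
  apply lcs_eq_bot_of_succ_le c
  intro x hx
  have hx' : x ∈ Gam G (c + 1) := hx
  have h1 := hspan c x hx'
  have h2 : AddSubgroup.closure {z : L | ∃ (y : L) (ys : List L), ys.length = c ∧ z = lnb y ys}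
      ≤ ⊥ := by
    rw [AddSubgroup.closure_le]
    rintro z ⟨y, ys, hlen, rfl⟩
    exact hzero y ys hlen
  have h3 : q (c + 1) x = 0 := by
    have := h2 h1
    exact this
  exact (hker (c + 1) x hx').mp h3

end main

end Cfsg.Agent.Helper70.HKKGL
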