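import Mathlib
import Cfsg.Agent.Helper1.MinDeg.Defs
import Cfsg.Agent.Helper1.MinDeg.CaseADefs

/-!
# (A5) of helper1's S2140 engine (#7352): no relation `S` with the properties of `SRel` exists
unless `(n, q) = (4, 2)`.  Pure algebra.
-/

set_option autoImplicit false
set_option linter.unusedSectionVars false
set_option linter.unusedVariables false

namespace Cfsg.Agent.Helper70.MinDeg

open Matrix Cfsg.Agent.Helper14.AutPSL Cfsg.Agent.Helper1.MinDeg

variable {F : Type*} [Field F] {n : ℕ}

theorem single_dot (k : Fin n) (v : Fin n → F) : (Pi.single k 1 : Fin n → F) ⬝ᵥ v = v k := by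
  rw [single_dotProduct, one_mul]

theorem dot_diag_single (d : Fin n → F) (c : F) (k : Fin n) (v : Fin n → F) :
    (fun j => c * (Pi.single k 1 : Fin n → F) j / d j) ⬝ᵥ v = c / d k * v k := by
  unfold dotProduct
  rw [Finset.sum_eq_single k]
  · dsimp only
    rw [Pi.single_eq_same, mul_one]
  · intro j _ hj
    dsimp only
    rw [Pi.single_eq_of_ne hj, mul_zero, zero_div, zero_mul]
  · intro h
    exact absurd (Finset.mem_univ k) h

/-- the diagonal `d` with `d k1 = α`, `d il = α⁻¹`, `1` elsewhere -/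
noncomputable def dg (k1 il : Fin n) (α : F) : Fin n → F :=
  Pi.mulSingle k1 α * Pi.mulSingle il α⁻¹

theorem dg_prod {k1 il : Fin n} (α : F) (hα : α ≠ 0) : ∏ j, dg k1 il α j = 1 := by
  unfold dg
  simp only [Pi.mul_apply]
  rw [Finset.prod_mul_distrib, Fintype.prod_pi_mulSingle', Fintype.prod_pi_mulSingle',
    mul_inv_cancel₀ hα]

theorem dg_same {k1 il : Fin n} (h : k1 ≠ il) (α : F) : dg k1 il α k1 = α := by
  unfold dg
  rw [Pi.mul_apply, Pi.mulSingle_eq_same, Pi.mulSingle_eq_of_ne h, mul_one]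

theorem dg_il {k1 il : Fin n} (h : k1 ≠ il) (α : F) : dg k1 il α il = α⁻¹ := by
  unfold dg
  rw [Pi.mul_apply, Pi.mulSingle_eq_same, Pi.mulSingle_eq_of_ne (Ne.symm h), one_mul]

theorem dg_other {k1 il j : Fin n} (h1 : j ≠ k1) (h2 : j ≠ il) (α : F) : dg k1 il α j = 1 := by
  unfold dg
  rw [Pi.mul_apply, Pi.mulSingle_eq_of_ne h1, Pi.mulSingle_eq_of_ne h2, one_mul]

/-- **(A5)** pure algebra: no relation with these properties exists unless `(n, q) = (4, 2)`. -/
theorem no_SRel [Fintype F] (hn : 3 ≤ n) (hex : ¬ (n = 4 ∧ Fintype.card F = 2)) (i0 il : Fin n)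
    (h0l : i0 ≠ il)
    (S : (Fin n → F) → (Fin n → F) → Prop)
    (hmid : ∀ a b, S a b → IsMid i0 il a ∧ IsMid i0 il b)
    (hex' : ∀ a, IsMid i0 il a → ∃ b, S a b)
    (huniq : ∀ a b b', S a b → S a b' → b = b')
    (hinj : ∀ a, S a 0 → a = 0)
    (hadd : ∀ a b a' b', S a b → S a' b' → S (a + a') (b + b'))
    (hneg : ∀ a b, S a b → S (-a) (-b))
    (hsym : ∀ a b a' b', S a b → S a' b' → a ⬝ᵥ b' = a' ⬝ᵥ b)
    (halt : (2 : F) = 0 → ∀ a b, S a b → a ⬝ᵥ b = 0)
    (hel : ∀ i j : Fin n, i ≠ j → i ≠ i0 → i ≠ il → j ≠ i0 → j ≠ il → ∀ (s : F) (a b : Fin n → F),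
      S a b → S (a - (s * a i) • Pi.single j 1) (b + (s * b j) • Pi.single i 1))
    (hdiag : ∀ d : Fin n → F, ∏ k, d k = 1 → ∀ a b : Fin n → F,
      S a b → S (fun k => d i0 * a k / d k) (fun k => d k * b k / d il)) :
    False := by
  classical
  -- (L0)
  have L0 : ∀ j : Fin n, j ≠ i0 → j ≠ il →
      ∃ b, S (Pi.single j 1) b ∧ b ≠ 0 ∧ IsMid i0 il b := by
    intro j hj0 hjl
    obtain ⟨b, hb⟩ := hex' (Pi.single j 1) (IsMid.single hj0 hjl 1)
    refine ⟨b, hb, ?_, (hmid _ _ hb).2⟩
    rintro rfl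
    have := congrFun (hinj _ hb) j
    rw [Pi.single_eq_same, Pi.zero_apply] at this
    exact one_ne_zero this
  -- (L1)
  have L1 : ∀ (j i j' : Fin n) (b : Fin n → F), S (Pi.single j 1) b → i ≠ j → i ≠ j' →
      i ≠ i0 → i ≠ il → j' ≠ i0 → j' ≠ il → b j' = 0 := by
    intro j i j' b hb hij hij' hi0 hil hj0 hjl
    have h1 := hel i j' hij' hi0 hil hj0 hjl 1 _ _ hb
    rw [Pi.single_eq_of_ne hij, mul_zero, zero_smul, sub_zero] at h1
    have h2 := huniq _ _ _ hb h1
    have h3 := congrFun h2 i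
    rw [Pi.add_apply, Pi.smul_apply, Pi.single_eq_same, smul_eq_mul, mul_one, one_mul] at h3
    exact (left_eq_add.mp h3)
  -- the mid indices
  set M : Finset (Fin n) := Finset.univ.filter (fun k => k ≠ i0 ∧ k ≠ il) with hM
  have hMmem : ∀ k, k ∈ M ↔ k ≠ i0 ∧ k ≠ il := by
    intro k
    rw [hM, Finset.mem_filter]
    exact ⟨fun h => h.2, fun h => ⟨Finset.mem_univ _, h⟩⟩
  have hMcard : M.card + 2 = n := by
    have h1 : M = Finset.univ \ {i0, il} := by
      ext k
      rw [hMmem, Finset.mem_sdiff, Finset.mem_insert, Finset.mem_singleton]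
      constructor
      · intro h
        exact ⟨Finset.mem_univ _, fun h' => h'.elim h.1 h.2⟩
      · intro h
        exact ⟨fun h' => h.2 (Or.inl h'), fun h' => h.2 (Or.inr h')⟩
    have h2 : ({i0, il} : Finset (Fin n)).card = 2 := Finset.card_pair h0l
    rw [h1, Finset.card_sdiff_of_subset (Finset.subset_univ _), Finset.card_univ,
      Fintype.card_fin, h2]
    omega
  -- vanishing of mid vectors
  have hzero : ∀ b : Fin n → F, IsMid i0 il b → (∀ k ∈ M, b k = 0) → b = 0 := by
    intro b hb hk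
    funext j
    by_cases hj0 : j = i0
    · rw [hj0]; exact hb.1
    · by_cases hjl : j = il
      · rw [hjl]; exact hb.2
      · exact hk j ((hMmem j).mpr ⟨hj0, hjl⟩)
  rcases Nat.lt_or_ge 4 n with hn5 | hn4
  · -- `n ≥ 5`
    have h3 : 2 < M.card := by omega
    obtain ⟨j, j2, j3, hj, hj2, hj3, hjj2, hjj3, hj23⟩ := Finset.two_lt_card_iff.mp h3
    rw [hMmem] at hj hj2 hj3
    obtain ⟨b, hb, hb0, hbm⟩ := L0 j hj.1 hj.2
    apply hb0
    apply hzero b hbm
    intro k hk
    rw [hMmem] at hk
    by_cases hk2 : j2 = k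
    · -- use `i = j3`
      exact L1 j j3 k b hb (Ne.symm hjj3) (by rw [← hk2]; exact Ne.symm hj23) hj3.1 hj3.2
        hk.1 hk.2
    · exact L1 j j2 k b hb (Ne.symm hjj2) hk2 hj2.1 hj2.2 hk.1 hk.2
  · rcases Nat.lt_or_ge 3 n with hn4' | hn3
    · -- `n = 4`
      have hn4eq : n = 4 := by omega
      have h2 : M.card = 2 := by omega
      obtain ⟨k1, k2, hk12, hMeq⟩ := Finset.card_eq_two.mp h2
      have hk1 : k1 ≠ i0 ∧ k1 ≠ il := (hMmem k1).mp (by rw [hMeq]; exact Finset.mem_insert_self _ _)
      have hk2 : k2 ≠ i0 ∧ k2 ≠ il := (hMmem k2).mp (by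
        rw [hMeq]; exact Finset.mem_insert_of_mem (Finset.mem_singleton_self _))
      obtain ⟨b1, hb1, hb10, hb1m⟩ := L0 k1 hk1.1 hk1.2
      obtain ⟨b2, hb2, hb20, hb2m⟩ := L0 k2 hk2.1 hk2.2
      have hb1k1 : b1 k1 = 0 := L1 k1 k2 k1 b1 hb1 (Ne.symm hk12) (Ne.symm hk12) hk2.1 hk2.2
        hk1.1 hk1.2
      have hβ : b1 k2 ≠ 0 := by
        intro h0
        apply hb10
        apply hzero b1 hb1m
        intro k hk
        rw [hMeq, Finset.mem_insert, Finset.mem_singleton] at hk
        rcases hk with rfl | rfl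
        · exact hb1k1
        · exact h0
      -- symmetry
      have hγβ : b2 k1 = b1 k2 := by
        have := hsym _ _ _ _ hb1 hb2
        rwa [single_dot, single_dot] at this
      -- `2 = 0`
      have h2F : (2 : F) = 0 := by
        have h3 := hel k1 k2 hk12 hk1.1 hk1.2 hk2.1 hk2.2 (-1) _ _ hb1
        have h4 := hadd _ _ _ _ h3 (hneg _ _ hb1)
        have ha : (Pi.single k1 1 - (-1 * (Pi.single k1 1 : Fin n → F) k1) • Pi.single k2 1 +
            -(Pi.single k1 1 : Fin n → F)) = Pi.single k2 1 := by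
          rw [Pi.single_eq_same, mul_one, neg_smul, one_smul, sub_neg_eq_add]
          abel
        rw [ha] at h4
        have h5 := huniq _ _ _ hb2 h4
        have h6 := congrFun h5 k1
        rw [Pi.add_apply, Pi.add_apply, Pi.neg_apply, Pi.smul_apply, Pi.single_eq_same,
          smul_eq_mul, mul_one, hb1k1, zero_add, neg_zero, add_zero, hγβ] at h6
        -- h6 : b1 k2 = -1 * b1 k2
        have h7 : (2 : F) * b1 k2 = 0 := by
          have : b1 k2 + b1 k2 = 0 := by nth_rewrite 1 [h6]; ring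
          rw [two_mul]; exact this
        rcases mul_eq_zero.mp h7 with h8 | h8
        · exact h8
        · exact absurd h8 hβ
      -- `α ^ 2 = 1` for all `α ≠ 0`
      have hsq : ∀ α : F, α ≠ 0 → α = 1 := by
        intro α hα
        have h3 := hdiag (dg k1 il α) (dg_prod α hα) _ _ hb1
        have h4 := hsym _ _ _ _ h3 hb2
        rw [dot_diag_single, single_dot, dg_same hk1.2, dg_il hk1.2,
          dg_other (Ne.symm hk1.1) h0l, dg_other (Ne.symm hk12) hk2.2, hγβ] at h4
        -- h4 : 1 / α * b1 k2 = 1 * b1 k2 / α⁻¹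
        have h5 : α * α = 1 := by
          have h6 : (1 / α * b1 k2) * α = (1 * b1 k2 / α⁻¹) * α := by rw [h4]
          rw [one_mul, div_inv_eq_mul] at h6
          have h7 : (1 / α * b1 k2) * α = b1 k2 := by field_simp
          rw [h7] at h6
          have h8 : b1 k2 * (α * α - 1) = 0 := by
            rw [mul_sub, mul_one, ← mul_assoc, ← h6, sub_self]
          rcases mul_eq_zero.mp h8 with h9 | h9
          · exact absurd h9 hβ
          · exact sub_eq_zero.mp h9
        have h6 : (α + 1) * (α + 1) = 0 := by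
          have : (α + 1) * (α + 1) = α * α + 2 * α + 1 := by ring
          rw [this, h5, h2F, zero_mul, add_zero]
          have : (1 : F) + 1 = 2 := by norm_num
          rw [this, h2F]
        have h7 : α + 1 = 0 := mul_self_eq_zero.mp h6
        have h8 : α = -1 := eq_neg_of_add_eq_zero_left h7
        have h9 : (-1 : F) = 1 := by
          have : (1 : F) + 1 = 0 := by
            have : (1 : F) + 1 = 2 := by norm_num
            rw [this, h2F]
          exact (eq_neg_of_add_eq_zero_left this).symm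
        rw [h8, h9]
      apply hex
      refine ⟨hn4eq, ?_⟩
      rw [← Finset.card_univ, Finset.card_eq_two]
      refine ⟨0, 1, zero_ne_one, ?_⟩
      ext a
      simp only [Finset.mem_univ, Finset.mem_insert, Finset.mem_singleton, true_iff]
      by_cases ha : a = 0
      · exact Or.inl ha
      · exact Or.inr (hsq a ha)
    · -- `n = 3`
      have h1 : M.card = 1 := by omega
      obtain ⟨k, hMeq⟩ := Finset.card_eq_one.mp h1
      have hk : k ≠ i0 ∧ k ≠ il := (hMmem k).mp (by rw [hMeq]; exact Finset.mem_singleton_self _)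
      obtain ⟨b, hb, hb0, hbm⟩ := L0 k hk.1 hk.2
      have hκ : b k ≠ 0 := by
        intro h0
        apply hb0
        apply hzero b hbm
        intro j hj
        rw [hMeq, Finset.mem_singleton] at hj
        rw [hj]; exact h0
      by_cases h2F : (2 : F) = 0
      · have := halt h2F _ _ hb
        rw [single_dot] at this
        exact hκ this
      · have hα : (-1 : F) ≠ 0 := neg_ne_zero.mpr one_ne_zero
        have h3 := hdiag (dg k il (-1)) (dg_prod (-1) hα) _ _ hb
        have h4 := hsym _ _ _ _ h3 hb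
        rw [dot_diag_single, single_dot, dg_same hk.2, dg_il hk.2,
          dg_other (Ne.symm hk.1) h0l] at h4
        -- h4 : 1 / -1 * b k = -1 * b k / (-1)⁻¹
        have h5 : (2 : F) * b k = 0 := by
          have h6 : (1 : F) / -1 * b k = -b k := by ring
          have h7 : (-1 : F) * b k / (-1)⁻¹ = b k := by
            rw [inv_neg_one]; ring
          rw [h6, h7] at h4
          have : b k + b k = 0 := by nth_rewrite 1 [← h4]; ring
          rw [two_mul]; exact this
        rcases mul_eq_zero.mp h5 with h8 | h8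
        · exact h2F h8
        · exact hκ h8

end Cfsg.Agent.Helper70.MinDeg
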