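import Cfsg.Agent.Helper70.ShultAtauCore

/-!
# Shult's theorem for `S₃` (S4305): consequences of the configuration `ACfg` and piece (Aτ) modulo
(L) and (O3) (helper70 for helper1)
-/

set_option autoImplicit false

namespace Cfsg.Agent.Helper70.ShultA

open Subgroup Cfsg.Agent.Helper1.Shult

variable {H : Type*} [Group H]

/-- conjugation by an element of the normalizer of `D` preserves the centralizer of `D`. -/
theorem conj_mem_centralizer {g w : H} {D : Subgroup H} (hg : g ∈ normalizer (D : Set H))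
    (hw : w ∈ centralizer (D : Set H)) : g * w * g⁻¹ ∈ centralizer (D : Set H) := by
  rw [mem_centralizer_iff] at hw ⊢
  intro d hd
  have hd' : g⁻¹ * d * g ∈ D := conj_inv_mem_of_normalizer hg hd
  have h1 := hw _ hd'
  calc d * (g * w * g⁻¹) = g * ((g⁻¹ * d * g) * w) * g⁻¹ := by group
    _ = g * (w * (g⁻¹ * d * g)) * g⁻¹ := by rw [h1]
    _ = g * w * g⁻¹ * d := by group

/-- a prime power is prime to 6 when the prime is neither 2 nor 3. -/
theorem coprime_six_of_isPGroup {q : ℕ} [hq : Fact q.Prime] (hq2 : q ≠ 2) (hq3 : q ≠ 3)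
    {Q : Subgroup H} [Finite H] (hQ : IsPGroup q Q) : (Nat.card Q).Coprime 6 := by
  obtain ⟨n, hn⟩ := IsPGroup.iff_card.1 hQ
  rw [hn]
  apply Nat.Coprime.pow_left
  have h2 : Nat.Coprime q 2 := (Nat.coprime_primes hq.out Nat.prime_two).2 hq2
  have h3 : Nat.Coprime q 3 := (Nat.coprime_primes hq.out Nat.prime_three).2 hq3
  exact Nat.Coprime.mul_right h2 h3

section acfg

variable [Finite H] {q r : ℕ} [Fact q.Prime] [Fact r.Prime] {σ τ : H} {Q W Z1 K : Subgroup H}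

theorem acfg_card_coprime (c : ACfg q r σ τ Q W Z1 K) : (Nat.card Q).Coprime 6 :=
  coprime_six_of_isPGroup c.hq2 c.hq3 c.hQ

theorem acfg_K_le_Q (c : ACfg q r σ τ Q W Z1 K) : K ≤ Q := by
  rw [c.hK]; exact inf_le_left

theorem acfg_K_le_cent (c : ACfg q r σ τ Q W Z1 K) : K ≤ centralizer (W : Set H) := by
  rw [c.hK]; exact inf_le_right

theorem acfg_invK (c : ACfg q r σ τ Q W Z1 K) : Inv σ τ K := by
  constructor
  · apply mem_normalizer_fintype
    intro k hk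
    have hk' : k ∈ K := hk
    rw [c.hK] at hk'
    show σ * k * σ⁻¹ ∈ K
    rw [c.hK]
    exact mem_inf.2 ⟨conj_mem_of_normalizer c.hQinv.1 hk'.1, conj_mem_centralizer c.hWinv.1 hk'.2⟩
  · apply mem_normalizer_fintype
    intro k hk
    have hk' : k ∈ K := hk
    rw [c.hK] at hk'
    show τ * k * τ⁻¹ ∈ K
    rw [c.hK]
    exact mem_inf.2 ⟨conj_mem_of_normalizer c.hQinv.2 hk'.1, conj_mem_centralizer c.hWinv.2 hk'.2⟩

theorem acfg_hypSet (c : ACfg q r σ τ Q W Z1 K) : HypSet q W Z1 K where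
  hVab := c.hW.1
  hTV := c.hZQ.trans c.hQW
  hTs := c.hQ.to_le c.hZQ
  hcop := by
    obtain ⟨n, hn⟩ := IsPGroup.iff_card.1 c.hWr
    rw [hn]
    apply Nat.Coprime.pow_left
    exact (Nat.coprime_primes (Fact.out : r.Prime) (Fact.out : q.Prime)).2 (Ne.symm c.hqr)
  hS0T := c.hKZ
  hS0 := (acfg_K_le_cent c)
  hcomm := fun t ht u hu => c.hZcent t ht u (c.hZQ hu)
  hpow := c.hZpow
  hfix := c.hfix

/-- `Q` normalizes every hyperplane. -/
theorem acfg_Q_norm_hyp (c : ACfg q r σ τ Q W Z1 K) {D : Subgroup H} (hD : IsHyp q Z1 K D) :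
    Q ≤ normalizer (D : Set H) := by
  apply le_normalizer_of_conj_mem
  intro x hx d hd
  have h1 : d * x * d⁻¹ * x⁻¹ ∈ K := c.hZcent d (hD.2.1 hd) x hx
  have e : x * d * x⁻¹ = (d * x * d⁻¹ * x⁻¹)⁻¹ * d := by group
  rw [e]
  exact mul_mem (inv_mem (hD.1 h1)) hd

/-- `Q` normalizes `C_W(D)` for every hyperplane `D`. -/
theorem acfg_Q_norm_fix (c : ACfg q r σ τ Q W Z1 K) {D : Subgroup H} (hD : IsHyp q Z1 K D) :
    Q ≤ normalizer ((W ⊓ centralizer (D : Set H) : Subgroup H) : Set H) := by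
  apply le_normalizer_of_conj_mem
  intro x hx w hw
  exact mem_inf.2 ⟨conj_mem_of_normalizer (c.hQW hx) hw.1,
    conj_mem_centralizer ((acfg_Q_norm_hyp c) hD hx) hw.2⟩

/-- `C_Q(C_W(D))` is normalized by `Q`. -/
theorem acfg_Q_norm_ker (c : ACfg q r σ τ Q W Z1 K) {D : Subgroup H} (hD : IsHyp q Z1 K D) :
    Q ≤ normalizer ((Q ⊓ centralizer ((W ⊓ centralizer (D : Set H) : Subgroup H) : Set H) :
      Subgroup H) : Set H) := by
  apply le_normalizer_of_conj_mem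
  intro x hx k hk
  exact mem_inf.2 ⟨mul_mem (mul_mem hx hk.1) (inv_mem hx),
    conj_mem_centralizer ((acfg_Q_norm_fix c) hD hx) hk.2⟩

/-- (Aτ) modulo (L) and (O3). -/
theorem lemmaA_tau_of (hL : LStmt σ τ) (c : ACfg q r σ τ Q W Z1 K) (D : Subgroup H)
    (hD : IsHyp q Z1 K D)
    (hO3 : ∀ v ∈ W ⊓ centralizer (D : Set H), τ * v * τ⁻¹ = v⁻¹) :
    ⁅Q, Q⁆ ≤ centralizer ((W ⊓ centralizer (D : Set H) : Subgroup H) : Set H) := by
  set W0 := W ⊓ centralizer (D : Set H) with hW0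
  set K0 := Q ⊓ centralizer (W0 : Set H) with hK0
  have hQW0 : Q ≤ normalizer (W0 : Set H) := (acfg_Q_norm_fix c) hD
  have hQK0 : Q ≤ normalizer (K0 : Set H) := (acfg_Q_norm_ker c) hD
  have htriv : ∀ x ∈ Q, x⁻¹ * (τ * x * τ⁻¹) ∈ K0 := by
    intro x hx
    have hx' : τ * x * τ⁻¹ ∈ Q := conj_mem_of_normalizer c.hQinv.2 hx
    refine mem_inf.2 ⟨mul_mem (inv_mem hx) hx', ?_⟩
    rw [mem_centralizer_iff]
    intro w hw
    have hu : x * w * x⁻¹ ∈ W0 := conj_mem_of_normalizer (hQW0 hx) hw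
    have e1 : τ * (x * w * x⁻¹) * τ⁻¹ = (x * w * x⁻¹)⁻¹ := hO3 _ hu
    have e2 : τ * w * τ⁻¹ = w⁻¹ := hO3 w hw
    have e3 : τ * (x * w * x⁻¹) * τ⁻¹ = (τ * x * τ⁻¹) * (τ * w * τ⁻¹) * (τ * x * τ⁻¹)⁻¹ := by group
    rw [e3, e2] at e1
    -- g w⁻¹ g⁻¹ = w⁻¹
    set g := x⁻¹ * (τ * x * τ⁻¹) with hg
    have e4 : g * w⁻¹ * g⁻¹ = w⁻¹ := by
      calc g * w⁻¹ * g⁻¹ = x⁻¹ * ((τ * x * τ⁻¹) * w⁻¹ * (τ * x * τ⁻¹)⁻¹) * x := by rw [hg]; group
        _ = x⁻¹ * (x * w * x⁻¹)⁻¹ * x := by rw [e1]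
        _ = w⁻¹ := by group
    calc w * g = w * (g * w⁻¹ * g⁻¹) * g * w := by group
      _ = w * w⁻¹ * g * w := by rw [e4]
      _ = g * w := by group
  have hfix : Fix σ τ Q ≤ K0 := by
    intro f hf
    have hfQ : f ∈ Q := (mem_fix_iff.1 hf).1
    exact mem_inf.2 ⟨hfQ, centralizer_le (by exact inf_le_left (a := W)) (c.hfixQ hf)⟩
  have key := comm_of_tau_trivial c.hS hL (acfg_card_coprime c) c.hQinv inf_le_left hQK0 htriv hfix
  rw [commutator_le]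
  intro g₁ h₁ g₂ h₂
  rw [commutatorElement_def]
  exact (key g₁ h₁ g₂ h₂).2

end acfg

end Cfsg.Agent.Helper70.ShultA
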