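import Mathlib
import Cfsg.Prelude.Def_OddOrderLocal
import Cfsg.Agent.Helper29.BG10A

/-!
# B-G §13/§14 (S1430/S1431): statement-shaped hypotheses for THEOREM N3 (helper70, board #3585)

* `StepI`  : B-G 13.6 (`cent_cent_Msigma_tau1_uniq`), proved in `Helper23/BG14A` (board #3506).
* `T6`     : the Sylow subgroups of `M_σ` for the primes of `C_{M_σ}(P)` are uniqueness subgroups
             not contained in `C_{M_σ}(P)`.
* `K1`     : `p ∈ σ(H)` for `H ⊇ N_G(P)`.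
* `SP`     : the σ-partition (S1378(2)): non-conjugate maximal subgroups have disjoint `σ`.
* `N3`     : the conclusion of THEOREM N3 (board #3585): structure of `M` when some subgroup
             of prime order `s ∈ τ₃(M)` of a complement `E` centralizes a non-identity element
             of `M_σ`.
-/

set_option autoImplicit false

namespace Cfsg.Agent.Helper70.BG14

open Cfsg Cfsg.Agent.Helper29.BG10

/-- B-G 13.6: for `p ∈ τ₁(M)`, `P ≤ E` of order `p` and `X ≤ C_{M_σ}(P)` of prime order, `M` is the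
only maximal subgroup containing `N_G(X)`. -/
def StepI (G : Type*) [Group G] : Prop :=
  ∀ (M E : Subgroup G), IsCoatom M → Cfsg.IsComplIn E (Cfsg.sigmaCore M) M →
    ∀ p : ℕ, p ∈ Cfsg.tau1 M → ∀ P : Subgroup G, P ≤ E → Nat.card P = p →
    ∀ X : Subgroup G, X ≤ Cfsg.sigmaCore M ⊓ Subgroup.centralizer (P : Set G) →
      (Nat.card X).Prime →
    ∀ L : Subgroup G, IsCoatom L → Subgroup.normalizer (X : Set G) ≤ L → L = M

/-- (T6): for `p ∈ τ₁(M)`, `P ≤ E` of order `p` and a prime `q` dividing `|C_{M_σ}(P)|`, every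
Sylow `q`-subgroup of `M_σ` lies in a unique maximal subgroup and is not contained in
`C_{M_σ}(P)`. -/
def T6 (G : Type*) [Group G] : Prop :=
  ∀ (M E : Subgroup G), IsCoatom M → Cfsg.IsComplIn E (Cfsg.sigmaCore M) M →
    ∀ p : ℕ, p ∈ Cfsg.tau1 M → ∀ P : Subgroup G, P ≤ E → Nat.card P = p →
    ∀ q : ℕ, q.Prime →
      q ∣ Nat.card ↥(Cfsg.sigmaCore M ⊓ Subgroup.centralizer (P : Set G)) →
    ∀ Q : Subgroup G, IsSylowIn q Q (Cfsg.sigmaCore M) →
      Cfsg.InUniqueMaximal Q ∧ ¬ Q ≤ Cfsg.sigmaCore M ⊓ Subgroup.centralizer (P : Set G)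

/-- (K1): for `p ∈ τ₁(M)`, `P ≤ E` of order `p` with `C_{M_σ}(P) ≠ 1` and `H` maximal containing
`N_G(P)`: `p ∈ σ(H)`. -/
def K1 (G : Type*) [Group G] : Prop :=
  ∀ (M E : Subgroup G), IsCoatom M → Cfsg.IsComplIn E (Cfsg.sigmaCore M) M →
    ∀ p : ℕ, p ∈ Cfsg.tau1 M → ∀ P : Subgroup G, P ≤ E → Nat.card P = p →
    Cfsg.sigmaCore M ⊓ Subgroup.centralizer (P : Set G) ≠ ⊥ →
    ∀ H : Subgroup G, IsCoatom H → Subgroup.normalizer (P : Set G) ≤ H → p ∈ Cfsg.sigma H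

/-- the σ-partition: non-conjugate maximal subgroups have disjoint `σ`-sets. -/
def SP (G : Type*) [Group G] : Prop :=
  ∀ (M L : Subgroup G), IsCoatom M → IsCoatom L → (∀ g : G, cj g M ≠ L) →
    ∀ q : ℕ, q ∈ Cfsg.sigma M → q ∉ Cfsg.sigma L

/-- the hypothesis of THEOREM N3: `Y ≤ E` of prime order `s ∈ τ₃(M)` with `C_{M_σ}(Y) ≠ 1`. -/
structure N3Hyp {G : Type*} [Group G] (M E Y : Subgroup G) (s : ℕ) : Prop where
  coatom : IsCoatom M
  compl : Cfsg.IsComplIn E (Cfsg.sigmaCore M) M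
  mem_tau3 : s ∈ Cfsg.tau3 M
  le : Y ≤ E
  card : Nat.card Y = s
  cent_ne_bot : Cfsg.sigmaCore M ⊓ Subgroup.centralizer (Y : Set G) ≠ ⊥

/-- the conclusion of THEOREM N3 for `(M, E)`; `C := C_{M_σ}(E)`. -/
structure N3Concl {G : Type*} [Group G] (M E : Subgroup G) : Prop where
  /-- (Z1) -/
  tau2_empty : Cfsg.tau2 M = ∅
  /-- (Z2) -/
  cent_ne_bot : Cfsg.sigmaCore M ⊓ Subgroup.centralizer (E : Set G) ≠ ⊥
  /-- (Z2) -/
  cent_eq : ∀ x ∈ E, x ≠ 1 →
    Cfsg.sigmaCore M ⊓ Subgroup.centralizer ({x} : Set G) =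
      Cfsg.sigmaCore M ⊓ Subgroup.centralizer (E : Set G)
  /-- (Z3) -/
  normal_of_prime : ∀ X : Subgroup G, X ≤ E → (Nat.card X).Prime →
    E ≤ Subgroup.normalizer (X : Set G)
  /-- (Z4) -/
  normalizer_eq : ∀ X : Subgroup G, X ≤ E → (Nat.card X).Prime →
    M ⊓ Subgroup.normalizer (X : Set G) =
      E ⊔ (Cfsg.sigmaCore M ⊓ Subgroup.centralizer (E : Set G))
  /-- (Z4) -/
  le_sigmaCore : ∀ X : Subgroup G, X ≤ E → (Nat.card X).Prime →
    ∀ Ms : Subgroup G, IsCoatom Ms → Subgroup.normalizer (X : Set G) ≤ Ms →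
      X ≤ Cfsg.sigmaCore Ms
  /-- (Z5) -/
  unique_of_le_cent : ∀ X : Subgroup G,
    X ≤ Cfsg.sigmaCore M ⊓ Subgroup.centralizer (E : Set G) → (Nat.card X).Prime →
    ∀ L : Subgroup G, IsCoatom L → Subgroup.normalizer (X : Set G) ≤ L → L = M

/-- outputs of STEP 0 of THEOREM N3 for a maximal subgroup `L ⊇ N_G(Y)`. -/
structure Step0 {G : Type*} [Group G] (M E Y : Subgroup G) (s : ℕ) (L : Subgroup G) : Prop where
  hyp : N3Hyp M E Y s
  coatomL : IsCoatom L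
  normalizer_le : Subgroup.normalizer (Y : Set G) ≤ L
  normal : E ≤ Subgroup.normalizer (Y : Set G)
  le_comm : Y ≤ ⁅E, E⁆
  le_L : E ≤ L
  not_conj : ∀ g : G, cj g M ≠ L
  tau2_empty : Cfsg.tau2 M = ∅
  inf_eq : Cfsg.sigmaCore M ⊓ L = Cfsg.sigmaCore M ⊓ Subgroup.centralizer (Y : Set G)

/-- case (α) of THEOREM N3: `P ≤ E` of order `p ∈ τ₁(M)` does not centralize `Y`. -/
structure Alpha {G : Type*} [Group G] (M E Y : Subgroup G) (s : ℕ) (P : Subgroup G) (p : ℕ) :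
    Prop where
  hyp : N3Hyp M E Y s
  mem_tau1 : p ∈ Cfsg.tau1 M
  le : P ≤ E
  card : Nat.card P = p
  not_cent : ¬ P ≤ Subgroup.centralizer (Y : Set G)

/-- outputs of STEP 3.1 in case (α); `D := C_{M_σ}(P)`, `C := C_{M_σ}(Y)`. -/
structure Alpha31 {G : Type*} [Group G] (M E Y : Subgroup G) (s : ℕ) (P : Subgroup G) (p : ℕ) :
    Prop where
  alpha : Alpha M E Y s P p
  D_ne_bot : Cfsg.sigmaCore M ⊓ Subgroup.centralizer (P : Set G) ≠ ⊥
  primes_beta : ∀ q : ℕ, q.Prime →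
    q ∣ Nat.card ↥(Cfsg.sigmaCore M ⊓ Subgroup.centralizer (P : Set G)) → q ∈ Cfsg.beta M
  inf_eq_bot : Cfsg.sigmaCore M ⊓ Subgroup.centralizer (Y : Set G) ⊓
    Subgroup.centralizer (P : Set G) = ⊥
  cent_prime : ∀ R : Subgroup G, R ≤ E → R ≤ Subgroup.centralizer (P : Set G) →
    (Nat.card R).Prime → Nat.card R ∈ Cfsg.tau1 M ∧
      Cfsg.sigmaCore M ⊓ Subgroup.centralizer (R : Set G) =
        Cfsg.sigmaCore M ⊓ Subgroup.centralizer (P : Set G)

/-- the `L`-side of case (α): the primes of `C_E(P)` are in `τ₁(L)`, and `L` is again in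
case (α) with the same `P`. -/
structure AlphaL {G : Type*} [Group G] (M E Y : Subgroup G) (s : ℕ) (P : Subgroup G) (p : ℕ)
    (L : Subgroup G) : Prop where
  tau1_L : ∀ R : Subgroup G, R ≤ E → R ≤ Subgroup.centralizer (P : Set G) →
    (Nat.card R).Prime → Nat.card R ∈ Cfsg.tau1 L
  next : ∃ (E' X : Subgroup G) (q : ℕ), Alpha L E' X q P p

/-- "no case (α)" for `(M, E)`: every subgroup of order `p ∈ τ₁(M)` of `E` centralizes every
subgroup of order `s' ∈ τ₃(M)` of `E`. -/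
def NoAlpha {G : Type*} [Group G] (M E : Subgroup G) : Prop :=
  ∀ (P : Subgroup G) (p : ℕ), p ∈ Cfsg.tau1 M → P ≤ E → Nat.card ↥P = p →
    ∀ (Y' : Subgroup G) (s' : ℕ), s' ∈ Cfsg.tau3 M → Y' ≤ E → Nat.card ↥Y' = s' →
      P ≤ Subgroup.centralizer (Y' : Set G)

/-- all `C_{M_σ}(P)`, `P ≤ E` of order `p ∈ τ₁(M)`, equal `C_{M_σ}(Y)`. -/
def DEq {G : Type*} [Group G] (M E Y : Subgroup G) : Prop :=
  ∀ (P : Subgroup G) (p : ℕ), p ∈ Cfsg.tau1 M → P ≤ E → Nat.card ↥P = p →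
    Cfsg.sigmaCore M ⊓ Subgroup.centralizer (P : Set G) =
      Cfsg.sigmaCore M ⊓ Subgroup.centralizer (Y : Set G)

/-- THEOREM N3 (board #3585) as a statement-shaped `Prop`. -/
def N3 (G : Type*) [Group G] : Prop :=
  ∀ (M E Y : Subgroup G) (s : ℕ), N3Hyp M E Y s → N3Concl M E

end Cfsg.Agent.Helper70.BG14
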