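import Mathlib
import Cfsg.Agent.Helper70.BG14N0
import Cfsg.Agent.S1403
import Cfsg.Agent.S1414
import Cfsg.Agent.S1416
import Cfsg.Agent.S1417
import Cfsg.Agent.S1418
import Cfsg.Agent.Helper23.BG13E
import Cfsg.Agent.Helper63.BG13C
import Cfsg.Agent.Helper71.BG13W2
import Cfsg.Agent.Helper23.BG13G

/-!
# B-G §13/§14, THEOREM N3: toolbox (helper70)

The statement-shaped black boxes of `Helper23.BG13` / `Helper64` discharged from the landed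
statements S1403, S1414, S1416, S1417, S1418, so that the pieces of THEOREM N3 only need
`hG : IsMinSimpleOddOrder G`.
-/

set_option autoImplicit false

namespace Cfsg.Agent.Helper70.BG14

open Cfsg Cfsg.Agent.Helper29 Cfsg.Agent.Helper29.BG10 Cfsg.Agent.Helper29.BG11
open scoped commutatorElement

variable {G : Type*} [Group G] [Finite G]

theorem bbU (hG : Cfsg.IsMinSimpleOddOrder G) : Cfsg.Agent.Helper29.BG10.UniquenessThm G :=
  fun K hK hK2 hK3 => Cfsg.Agent.S1403.result hG K hK hK2 hK3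

theorem bb1414 (hG : Cfsg.IsMinSimpleOddOrder G) : Cfsg.Agent.Helper23.BG13.NormalComplComm G :=
  fun H hH q hq hqH hqβ => ((Cfsg.Agent.S1414.result hG H hH).2.2.2.2 q hq hqH hqβ).1

/-- S1414: `M_σ` has a normal `q`-complement for `q ∉ β(M)`. -/
theorem bb1414σ (hG : Cfsg.IsMinSimpleOddOrder G) {H : Subgroup G} (hH : IsCoatom H) {q : ℕ}
    (hq : q.Prime) (hqH : q ∣ Nat.card H) (hqβ : q ∉ Cfsg.beta H) :
    Cfsg.HasNormalPComplement q ↥(Cfsg.sigmaCore H) :=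
  ((Cfsg.Agent.S1414.result hG H hH).2.2.2.2 q hq hqH hqβ).2.1

theorem bbW (hG : Cfsg.IsMinSimpleOddOrder G) : Cfsg.Agent.Helper23.BG13.NilpHallSigma G :=
  fun L hL => (Cfsg.Agent.S1414.result hG L hL).2.2.2.1

theorem bbβ (hG : Cfsg.IsMinSimpleOddOrder G) : Cfsg.Agent.Helper64.BG1217D.BetaHall G :=
  fun L hL => (Cfsg.Agent.S1414.result hG L hL).1

theorem bbidx (hG : Cfsg.IsMinSimpleOddOrder G) : Cfsg.Agent.Helper64.BG1217D.H1414idx G :=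
  fun L hL s hs hsL hsβ => ((Cfsg.Agent.S1414.result hG L hL).2.2.2.2 s hs hsL hsβ).2.2

theorem bb1416 (hG : Cfsg.IsMinSimpleOddOrder G) : Cfsg.Agent.Helper23.BG13.H1416 G :=
  fun L hL q _ A hAL hAe hAc => (Cfsg.Agent.S1416.result hG L hL q A ⟨hAL, hAe, hAc⟩).1

theorem bb1417 (hG : Cfsg.IsMinSimpleOddOrder G) : Cfsg.Agent.Helper23.BG13.H1417 G := by
  intro L hL q _ hq A hAL hAe hAc
  have h := Cfsg.Agent.S1417.result hG L hL q hq A ⟨hAL, hAe, hAc⟩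
  exact ⟨h.1, fun P => (h.2.1 P).1, h.2.2.1, h.2.2.2.2.1⟩

theorem bb1418 (hG : Cfsg.IsMinSimpleOddOrder G) : Cfsg.Agent.Helper64.BG1217D.H1418 G := by
  intro L hL E' hE' s _ hs A hAE hAe hAc
  have h := Cfsg.Agent.S1418.result hG L hL E' hE' s hs A ⟨hAE, hAe, hAc⟩
  exact h.2.1.1.trans (le_of_eq h.2.1.2.1)

theorem bb17 (hG : Cfsg.IsMinSimpleOddOrder G) (L : Subgroup G) (hL : IsCoatom L) :
    Cfsg.Agent.Helper64.BG1218.Hyp1217 L :=
  Cfsg.Agent.Helper64.BG1217D.hyp1217_of hG (bbU hG) (bb1416 hG) (bb1417 hG) (bb1418 hG)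
    (bbW hG) (bbβ hG) (bbidx hG) hL

/-- Lemma A(iii) = B-G 13.1(b). -/
theorem bbA3 (hG : Cfsg.IsMinSimpleOddOrder G) : Cfsg.Agent.Helper23.BG13.LemmaA3 G :=
  fun L H hL hH hnc x _ hx hxL hxσ =>
    Cfsg.Agent.Helper71.BG13W2.lemma_A_tau2 hG (bbU hG) (bb17 hG) (bb1417 hG)
      (fun H E' x _ A hH hE' hx hAE hAe hAc =>
        (Cfsg.Agent.S1418.result hG H hH E' hE' x hx A ⟨hAE, hAe, hAc⟩).1.1)
      hL hH hnc hx hxL hxσ

/-- **Lemma A** (B-G 13.1(a)) with all black boxes discharged: `M`, `H` maximal non-conjugate,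
`x ∉ σ(M)`, `X₀ ≠ 1` an `x`-subgroup of `M ∩ H`, `x ∉ τ₁(H)`: then `X₀` centralizes `M_σ ∩ H`. -/
theorem lemmaA (hG : Cfsg.IsMinSimpleOddOrder G) {M H : Subgroup G} (hM : IsCoatom M)
    (hH : IsCoatom H) (hnc : ∀ g : G, BG10.cj g M ≠ H) {x : ℕ} [Fact x.Prime]
    (hxσ : x ∉ Cfsg.sigma M) {X₀ : Subgroup G} (hX : IsPGroup x X₀) (hX1 : X₀ ≠ ⊥)
    (hXM : X₀ ≤ M) (hXH : X₀ ≤ H) (hx1 : x ∉ Cfsg.tau1 H) :
    ⁅Cfsg.sigmaCore M ⊓ H, X₀⁆ = ⊥ :=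
  Cfsg.Agent.Helper23.BG13.lemma_A hG (bbU hG) (bb1414 hG) (bbA3 hG) hM hH hnc hxσ hX hX1 hXM
    hXH hx1

/-- the context `ECtx` of a complement. -/
theorem ectx (hG : Cfsg.IsMinSimpleOddOrder G) {M E : Subgroup G} (hM : IsCoatom M)
    (hE : Cfsg.IsComplIn E (Cfsg.sigmaCore M) M) : Cfsg.Agent.Helper68.BG12.ECtx M E :=
  Cfsg.Agent.Helper68.BG12.eCtx_of hG (bbU hG) hM hE

end Cfsg.Agent.Helper70.BG14
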