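import Mathlib

set_option autoImplicit false

namespace Cfsg.Agent.Helper70

open QuaternionGroup

/-- Recognition of the quaternion group of order 8 by generators and relations. -/
theorem nonempty_mulEquiv_quaternion {P : Type*} [Group P] [Finite P] (hcard : Nat.card P = 8) (s t : P)
    (hgen : Subgroup.closure ({s, t} : Set P) = ⊤) (hs4 : s ^ 4 = 1) (hts : t * s * t⁻¹ = s⁻¹)
    (ht2 : t ^ 2 = s ^ 2) : Nonempty (P ≃* QuaternionGroup 2) := by
  -- powers of s indexed by ZMod 4
  let e : ZMod (2 * 2) → P := fun i => s ^ i.val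
  have he_add : ∀ i j : ZMod (2 * 2), e (i + j) = e i * e j := by
    intro i j
    show s ^ (i + j).val = s ^ i.val * s ^ j.val
    rw [← pow_add, ZMod.val_add, ← pow_eq_pow_mod _ hs4]
  have he_zero : e 0 = 1 := by
    show s ^ (0 : ZMod (2 * 2)).val = 1
    rw [ZMod.val_zero, pow_zero]
  have he_neg : ∀ i : ZMod (2 * 2), e (-i) = (e i)⁻¹ := by
    intro i
    rw [eq_inv_iff_mul_eq_one, ← he_add, neg_add_cancel, he_zero]
  have he_sub : ∀ i j : ZMod (2 * 2), e (i - j) = e i * (e j)⁻¹ := by
    intro i j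
    rw [sub_eq_add_neg, he_add, he_neg]
  have he_two : e ((2 : ℕ) : ZMod (2 * 2)) = s ^ 2 := by
    show s ^ (((2 : ℕ) : ZMod (2 * 2))).val = s ^ 2
    rfl
  -- conjugation by t inverts powers of s
  have hconj : ∀ k : ℕ, t * s ^ k * t⁻¹ = (s ^ k)⁻¹ := by
    intro k
    rw [← conj_pow, hts, inv_pow]
  have hcomm : ∀ i : ZMod (2 * 2), e i * t = t * (e i)⁻¹ := by
    intro i
    have h := hconj i.val
    -- t * e i * t⁻¹ = (e i)⁻¹, so e i = t⁻¹ (e i)⁻¹ t
    have h2 : t * (e i)⁻¹ * t⁻¹ = e i := by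
      have : t * (e i)⁻¹ * t⁻¹ = (t * e i * t⁻¹)⁻¹ := by group
      rw [this]
      show (t * s ^ i.val * t⁻¹)⁻¹ = s ^ i.val
      rw [h, inv_inv]
    calc e i * t = (t * (e i)⁻¹ * t⁻¹) * t := by rw [h2]
      _ = t * (e i)⁻¹ := by group
  -- the homomorphism
  let f : QuaternionGroup 2 → P := fun x =>
    match x with
    | a i => e i
    | xa i => t * e i
  have hf_mul : ∀ x y : QuaternionGroup 2, f (x * y) = f x * f y := by
    rintro (i | i) (j | j)
    · rw [a_mul_a]
      exact he_add i j
    · rw [a_mul_xa]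
      show t * e (j - i) = e i * (t * e j)
      rw [← mul_assoc, hcomm, he_sub, mul_assoc]
      congr 1
      -- e j * (e i)⁻¹ = (e i)⁻¹ * e j : powers of s commute
      have : Commute (e j) (e i)⁻¹ := ((Commute.refl s).pow_pow j.val i.val).inv_right
      exact this.eq
    · rw [xa_mul_a]
      show t * e (i + j) = t * e i * e j
      rw [he_add, mul_assoc]
    · rw [xa_mul_xa]
      show e (((2 : ℕ) : ZMod (2 * 2)) + j - i) = t * e i * (t * e j)
      have h1 : t * e i * (t * e j) = t * (e i * t) * e j := by group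
      rw [h1, hcomm, he_sub, he_add, he_two]
      have h2 : t * (t * (e i)⁻¹) * e j = t ^ 2 * ((e i)⁻¹ * e j) := by rw [pow_two]; group
      rw [h2, ht2, mul_assoc]
      congr 1
      have : Commute (e j) (e i)⁻¹ := ((Commute.refl s).pow_pow j.val i.val).inv_right
      exact this.eq
  let F : QuaternionGroup 2 →* P := MonoidHom.mk' f hf_mul
  have hsurj : Function.Surjective F := by
    rw [← MonoidHom.range_eq_top, eq_top_iff, ← hgen, Subgroup.closure_le]
    intro x hx
    rcases hx with hx | hx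
    · refine ⟨a 1, ?_⟩
      show s ^ (1 : ZMod (2 * 2)).val = x
      have : (1 : ZMod (2 * 2)).val = 1 := rfl
      rw [this, pow_one, hx]
    · refine ⟨xa 0, ?_⟩
      show t * e 0 = x
      rw [he_zero, mul_one]
      exact hx.symm
  have hbij : Function.Bijective F := by
    rw [Nat.bijective_iff_surjective_and_card]
    refine ⟨hsurj, ?_⟩
    rw [hcard, Nat.card_eq_fintype_card, QuaternionGroup.card]
  exact ⟨(MulEquiv.ofBijective F hbij).symm⟩

end Cfsg.Agent.Helper70
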