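import Mathlib

set_option autoImplicit false

namespace Cfsg.Agent.Helper70

/-- A group of order `p ^ r` is generated by `r` elements. -/
theorem exists_generators_of_card_eq_pow (p : ℕ) [Fact p.Prime] :
    ∀ (r : ℕ) (Q : Type*) [Group Q] [Finite Q], Nat.card Q = p ^ r →
      ∃ f : Fin r → Q, Subgroup.closure (Set.range f) = ⊤ := by
  intro r
  induction r with
  | zero =>
    intro Q _ _ hQ
    refine ⟨Fin.elim0, ?_⟩
    rw [pow_zero] at hQ
    haveI : Subsingleton Q := (Nat.card_eq_one_iff_unique.mp hQ).1
    exact Subsingleton.elim _ _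
  | succ r ih =>
    intro Q _ _ hQ
    have hp : p.Prime := Fact.out
    obtain ⟨M, hM⟩ := Sylow.exists_subgroup_card_pow_prime (G := Q) p (n := r)
      (by rw [hQ]; exact pow_dvd_pow p (Nat.le_succ r))
    obtain ⟨g, hg⟩ := ih M hM
    -- an element outside M
    have hlt : Nat.card M < Nat.card Q := by
      rw [hM, hQ]; exact Nat.pow_lt_pow_right hp.one_lt (Nat.lt_succ_self r)
    have hne : M ≠ ⊤ := by
      intro h
      rw [h, Subgroup.card_top] at hlt
      exact lt_irrefl _ hlt
    obtain ⟨x, hx⟩ : ∃ x : Q, x ∉ M := by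
      by_contra hcon
      push Not at hcon
      exact hne (eq_top_iff.mpr fun y _ => hcon y)
    refine ⟨Fin.cons x (fun i => (g i : Q)), ?_⟩
    set K := Subgroup.closure (Set.range (Fin.cons x (fun i => (g i : Q)) : Fin (r + 1) → Q)) with hK
    have hMK : M ≤ K := by
      have h1 : M = (Subgroup.closure (Set.range g)).map M.subtype := by
        rw [hg, ← MonoidHom.range_eq_map, Subgroup.range_subtype]
      rw [h1, MonoidHom.map_closure, Subgroup.closure_le]
      rintro _ ⟨_, ⟨i, rfl⟩, rfl⟩
      apply Subgroup.subset_closure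
      exact ⟨i.succ, by simp⟩
    have hxK : x ∈ K := Subgroup.subset_closure ⟨0, by simp⟩
    have hMltK : M < K := lt_of_le_of_ne hMK (by
      intro h
      apply hx
      rw [h]
      exact hxK)
    -- order of K
    have hKdvd : Nat.card K ∣ p ^ (r + 1) := hQ ▸ Subgroup.card_subgroup_dvd_card K
    obtain ⟨j, hj, hKj⟩ := (Nat.dvd_prime_pow hp).mp hKdvd
    have hMdvd : Nat.card M ∣ Nat.card K := Subgroup.card_dvd_of_le hMK
    have hMlt : Nat.card M < Nat.card K := by
      have h1 : Nat.card M ≤ Nat.card K := Subgroup.card_le_of_le hMK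
      rcases h1.lt_or_eq with h | h
      · exact h
      · exfalso
        have : M = K := by
          haveI : Finite K := inferInstance
          exact SetLike.coe_injective
            (Set.eq_of_subset_of_ncard_le hMK
              (by rw [← Nat.card_coe_set_eq, ← Nat.card_coe_set_eq]; exact h.ge) (Set.toFinite _))
        exact hMltK.ne this
    rw [hM, hKj] at hMlt
    have hrj : r < j := (Nat.pow_lt_pow_iff_right hp.one_lt).mp hMlt
    have hjeq : j = r + 1 := by omega
    rw [hjeq] at hKj
    exact Subgroup.eq_top_of_card_eq K (by rw [hKj, hQ])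

/-- If the Frattini subgroup of a finite group `P` has index `p ^ r` then `P` is generated by `r` elements. -/
theorem exists_generators_of_frattini_index {P : Type*} [Group P] [Finite P] (p : ℕ) [Fact p.Prime] (r : ℕ)
    (hr : (frattini P).index = p ^ r) : ∃ f : Fin r → P, Subgroup.closure (Set.range f) = ⊤ := by
  have hQ : Nat.card (P ⧸ frattini P) = p ^ r := by rw [← Subgroup.index_eq_card, hr]
  obtain ⟨g, hg⟩ := exists_generators_of_card_eq_pow p r (P ⧸ frattini P) hQ
  choose f hf using fun i => QuotientGroup.mk_surjective (g i)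
  refine ⟨f, ?_⟩
  apply frattini_nongenerating
  rw [eq_top_iff]
  intro y _
  have hy : (QuotientGroup.mk y : P ⧸ frattini P) ∈ Subgroup.closure (Set.range g) := by
    rw [hg]; trivial
  have hmap : Subgroup.closure (Set.range g) =
      (Subgroup.closure (Set.range f)).map (QuotientGroup.mk' (frattini P)) := by
    rw [MonoidHom.map_closure]
    congr 1
    ext z
    constructor
    · rintro ⟨i, rfl⟩
      exact ⟨f i, ⟨i, rfl⟩, hf i⟩
    · rintro ⟨_, ⟨i, rfl⟩, rfl⟩
      exact ⟨i, (hf i).symm⟩
  rw [hmap] at hy
  obtain ⟨z, hz, hzy⟩ := hy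
  have h1 : z⁻¹ * y ∈ frattini P := by
    rw [← QuotientGroup.eq]
    exact hzy
  have : y = z * (z⁻¹ * y) := by group
  rw [this]
  exact Subgroup.mul_mem _ (Subgroup.mem_sup_left hz) (Subgroup.mem_sup_right h1)

/-- A tuple congruent modulo the Frattini subgroup to a generating tuple generates. -/
theorem closure_eq_top_of_congr_frattini {P : Type*} [Group P] [Finite P] {ι : Type*} (f h : ι → P)
    (hf : Subgroup.closure (Set.range f) = ⊤) (hh : ∀ i, h i * (f i)⁻¹ ∈ frattini P) :
    Subgroup.closure (Set.range h) = ⊤ := by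
  apply frattini_nongenerating
  rw [eq_top_iff, ← hf, Subgroup.closure_le]
  rintro _ ⟨i, rfl⟩
  have : f i = (h i * (f i)⁻¹)⁻¹ * h i := by group
  rw [this]
  exact Subgroup.mul_mem _ (Subgroup.mem_sup_right (Subgroup.inv_mem _ (hh i)))
    (Subgroup.mem_sup_left (Subgroup.subset_closure ⟨i, rfl⟩))

/-- If a finite group acts freely on a finite set then its order divides the size of the set. -/
theorem card_dvd_of_free {A S : Type*} [Group A] [MulAction A S]
    (h : ∀ s : S, MulAction.stabilizer A s = ⊥) : Nat.card A ∣ Nat.card S := by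
  rw [Nat.card_congr (MulAction.selfEquivOrbitsQuotientProd h), Nat.card_prod]
  exact dvd_mul_left _ _

end Cfsg.Agent.Helper70
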