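import Mathlib
import Cfsg.Agent.S4207
import Cfsg.Agent.Helper70.Regular

set_option autoImplicit false

namespace Cfsg.Agent.Helper70

open scoped commutatorElement

/-- An automorphism group acts on the quotient by a characteristic subgroup. -/
def autQuot {Q : Type*} [Group Q] (N : Subgroup Q) [hN : N.Characteristic] : MulAut Q →* MulAut (Q ⧸ N) where
  toFun α := QuotientGroup.congr N N α (Subgroup.characteristic_iff_map_eq.mp hN α)
  map_one' := by
    ext x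
    induction x using QuotientGroup.induction_on
    rfl
  map_mul' α β := by
    ext x
    induction x using QuotientGroup.induction_on
    rfl

@[simp]
theorem autQuot_mk {Q : Type*} [Group Q] (N : Subgroup Q) [hN : N.Characteristic] (α : MulAut Q) (x : Q) :
    autQuot N α (x : Q ⧸ N) = ((α x : Q) : Q ⧸ N) := rfl

/-- the action of `X` on the Frattini quotient of a normal subgroup `Q` -/
def frattiniAct {X : Type*} [Group X] (Q : Subgroup X) [Q.Normal] : X →* MulAut (↥Q ⧸ frattini ↥Q) :=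
  (autQuot (frattini ↥Q)).comp MulAut.conjNormal

theorem frattiniAct_mk {X : Type*} [Group X] (Q : Subgroup X) [Q.Normal] (g : X) (x : Q) :
    frattiniAct Q g ((x : ↥Q) : ↥Q ⧸ frattini ↥Q) =
      ((⟨g * x * g⁻¹, ‹Q.Normal›.conj_mem x x.2 g⟩ : ↥Q) : ↥Q ⧸ frattini ↥Q) := by
  rfl

/-- **Hall–Higman 1.2.5, core**: if `Q` is a normal `p`-subgroup of the finite group `X` with
`C_X(Q) ≤ Q`, any element acting trivially on the Frattini quotient of `Q` is a `p`-element. -/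
theorem exists_pow_eq_one_of_frattiniAct_eq_one {X : Type*} [Group X] [Finite X] {p : ℕ} [Fact p.Prime]
    (Q : Subgroup X) [Q.Normal] (hQ : IsPGroup p Q) (hC : Subgroup.centralizer (Q : Set X) ≤ Q)
    (g : X) (hg : frattiniAct Q g = 1) : ∃ k : ℕ, g ^ p ^ k = 1 := by
  have hp : p.Prime := Fact.out
  obtain ⟨n, hn⟩ := IsPGroup.iff_card.mp hQ
  obtain ⟨r, -, hr⟩ : ∃ r, r ≤ n ∧ (frattini ↥Q).index = p ^ r := by
    have h1 : (frattini ↥Q).index ∣ p ^ n := by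
      rw [← hn]; exact Subgroup.index_dvd_card _
    exact (Nat.dvd_prime_pow hp).mp h1
  have hA : ∀ α ∈ (autQuot (frattini ↥Q)).ker, ∀ x : ↥Q, α x * x⁻¹ ∈ frattini ↥Q := by
    intro α hα x
    rw [MonoidHom.mem_ker] at hα
    have h1 : autQuot (frattini ↥Q) α ((x : ↥Q) : ↥Q ⧸ frattini ↥Q) = x := by rw [hα]; rfl
    rw [autQuot_mk] at h1
    rw [← QuotientGroup.eq_one_iff, QuotientGroup.mk_mul, QuotientGroup.mk_inv, h1, mul_inv_cancel]
  have hcard := Cfsg.Agent.S4207.result hn hr _ hA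
  obtain ⟨j, -, hj⟩ := (Nat.dvd_prime_pow hp).mp hcard
  have hAp : IsPGroup p (autQuot (frattini ↥Q)).ker := IsPGroup.of_card hj
  have hmem : MulAut.conjNormal g ∈ (autQuot (frattini ↥Q)).ker := by
    rw [MonoidHom.mem_ker]; exact hg
  obtain ⟨k, hk⟩ := hAp ⟨_, hmem⟩
  have hk' : (MulAut.conjNormal g : MulAut ↥Q) ^ p ^ k = 1 := by
    have := congrArg Subtype.val hk
    simpa using this
  rw [← map_pow] at hk'
  have hcent : g ^ p ^ k ∈ Subgroup.centralizer (Q : Set X) := by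
    rw [Subgroup.mem_centralizer_iff]
    intro x hx
    have h1 := congrArg (fun f : MulAut ↥Q => ((f ⟨x, hx⟩ : ↥Q) : X)) hk'
    simp only [MulAut.conjNormal_apply, MulAut.one_apply] at h1
    calc x * g ^ p ^ k = (g ^ p ^ k * x * (g ^ p ^ k)⁻¹) * g ^ p ^ k := by rw [h1]
      _ = g ^ p ^ k * x := by group
  obtain ⟨i, hi⟩ := hQ ⟨_, hC hcent⟩
  refine ⟨k + i, ?_⟩
  have := congrArg Subtype.val hi
  simp only [Subgroup.coe_pow, Subgroup.coe_one] at this
  rw [pow_add, pow_mul]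
  exact this

/-- the Frattini quotient of a finite `p`-group is commutative -/
theorem frattiniQuot_comm {Q : Type*} [Group Q] [Finite Q] {p : ℕ} [Fact p.Prime] (hQ : IsPGroup p Q)
    (a b : Q ⧸ frattini Q) : a * b = b * a := by
  induction a using QuotientGroup.induction_on with | _ a => ?_
  induction b using QuotientGroup.induction_on with | _ b => ?_
  rw [← QuotientGroup.mk_mul, ← QuotientGroup.mk_mul, QuotientGroup.eq]
  apply commutator_le_frattini hQ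
  have : (a * b)⁻¹ * (b * a) = ⁅b⁻¹, a⁻¹⁆ := by
    rw [commutatorElement_def]; group
  rw [this]
  exact Subgroup.commutator_mem_commutator (Subgroup.mem_top _) (Subgroup.mem_top _)

/-- elements of `Q` act trivially on its Frattini quotient -/
theorem frattiniAct_eq_one_of_mem {X : Type*} [Group X] [Finite X] {p : ℕ} [Fact p.Prime]
    (Q : Subgroup X) [Q.Normal] (hQ : IsPGroup p Q) (q : X) (hq : q ∈ Q) : frattiniAct Q q = 1 := by
  ext x
  induction x using QuotientGroup.induction_on with | _ x => ?_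
  rw [frattiniAct_mk, MulAut.one_apply]
  have h1 : (⟨q * x * q⁻¹, ‹Q.Normal›.conj_mem x x.2 q⟩ : ↥Q) = ⟨q, hq⟩ * x * ⟨q, hq⟩⁻¹ := rfl
  rw [h1, QuotientGroup.mk_mul, QuotientGroup.mk_mul, QuotientGroup.mk_inv,
    frattiniQuot_comm hQ, ← mul_assoc, inv_mul_cancel, one_mul]

/-- the action on the Frattini quotient of `Q` factors through `X ⧸ Q` -/
theorem frattiniAct_eq_of_mk_eq {X : Type*} [Group X] [Finite X] {p : ℕ} [Fact p.Prime]
    (Q : Subgroup X) [Q.Normal] (hQ : IsPGroup p Q) (a b : X)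
    (h : (a : X ⧸ Q) = (b : X ⧸ Q)) : frattiniAct Q a = frattiniAct Q b := by
  rw [QuotientGroup.eq] at h
  have h1 := frattiniAct_eq_one_of_mem Q hQ _ h
  rw [map_mul, map_inv, inv_mul_eq_one] at h1
  exact h1

theorem A4_cyc {V : Type*} [CommGroup V] (h3 : ∀ v : V, v ^ 3 = 1) (a₀ a₁ a₂ η : MulAut V)
    (hη1 : η * a₁ * η⁻¹ = a₂) (hη2 : η * a₂ * η⁻¹ = a₀)
    (v : V) (hv0 : a₀ v = v) (hv1 : a₁ v = v⁻¹) (hv2 : a₂ v = v⁻¹) (hv : v ≠ 1) :
    v * η v * η (η v) ≠ 1 := by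
  intro hs
  have R1 : ∀ w, a₂ (η w) = η (a₁ w) := by
    intro w
    rw [← hη1]
    simp
  have R2 : ∀ w, a₀ (η w) = η (a₂ w) := by
    intro w
    rw [← hη2]
    simp
  have h2 : a₀ (v * η v * η (η v)) = 1 := by rw [hs, map_one]
  simp only [map_mul, hv0, R2, hv2, R1, hv1, map_inv] at h2
  have hs' : η v * η (η v) = v⁻¹ := by
    rw [mul_assoc] at hs; exact eq_inv_of_mul_eq_one_right hs
  have h2' : (η v)⁻¹ * (η (η v))⁻¹ = v⁻¹ := by
    rw [mul_assoc] at h2; exact eq_inv_of_mul_eq_one_right h2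
  rw [← mul_inv, hs', inv_inv] at h2'
  have h4 : v * v = 1 := by
    nth_rewrite 2 [h2']
    exact mul_inv_cancel v
  apply hv
  have := h3 v
  rw [pow_succ, pow_two, h4, one_mul] at this
  exact this

/-- **The `A₄` lemma**: let `V` be an abelian group of exponent `3` and `c₀, c₁, η` automorphisms of `V`
such that `c₀, c₁` are commuting involutions, `η c₀ η⁻¹ = c₁`, `η c₁ η⁻¹ = c₀ c₁` and `c₀ ≠ 1`. Then
`v * η v * η (η v) ≠ 1` for some `v`. -/
theorem exists_mul_ne_one_of_A4' {V : Type*} [CommGroup V]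
    (h3 : ∀ v : V, v ^ 3 = 1) (c₀ c₁ η : MulAut V) (h0 : c₀ * c₀ = 1) (h1 : c₁ * c₁ = 1)
    (h01 : c₀ * c₁ = c₁ * c₀) (hη0 : η * c₀ * η⁻¹ = c₁) (hη1 : η * c₁ * η⁻¹ = c₀ * c₁) (hne : c₀ ≠ 1) :
    ∃ v : V, v * η v * η (η v) ≠ 1 := by
  have hη2 : η * (c₀ * c₁) * η⁻¹ = c₀ := by
    have : η * (c₀ * c₁) * η⁻¹ = (η * c₀ * η⁻¹) * (η * c₁ * η⁻¹) := by group
    rw [this, hη0, hη1, ← mul_assoc, ← h01, mul_assoc, h1, mul_one]
  have p0 : ∀ w, c₀ (c₀ w) = w := fun w => by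
    have := congrArg (fun f : MulAut V => f w) h0
    simpa using this
  have p1 : ∀ w, c₁ (c₁ w) = w := fun w => by
    have := congrArg (fun f : MulAut V => f w) h1
    simpa using this
  have p01 : ∀ w, c₀ (c₁ w) = c₁ (c₀ w) := fun w => by
    have := congrArg (fun f : MulAut V => f w) h01
    simpa using this
  obtain ⟨q, hq⟩ : ∃ q, c₀ q ≠ q := by
    by_contra hall
    push Not at hall
    apply hne
    ext w
    exact hall w
  obtain ⟨v₀, hv₀⟩ : ∃ v₀ : V, v₀ = q⁻¹ * c₀ q := ⟨_, rfl⟩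
  have hv₀ne : v₀ ≠ 1 := by
    intro h
    apply hq
    rw [hv₀, inv_mul_eq_one] at h
    exact h.symm
  have hc₀v₀ : c₀ v₀ = v₀⁻¹ := by
    rw [hv₀, map_mul, map_inv, p0, mul_inv_rev, inv_inv, mul_comm]
  have hv₀sq : v₀ * v₀ ≠ 1 := by
    intro h
    apply hv₀ne
    have := h3 v₀
    rw [pow_succ, pow_two, h, one_mul] at this
    exact this
  by_cases ha : v₀ * c₁ v₀ = 1
  · -- then `b = v₀ * (c₁ v₀)⁻¹ ≠ 1`
    have hc1 : c₁ v₀ = v₀⁻¹ := by
      rw [mul_eq_one_iff_eq_inv'] at ha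
      exact ha
    refine ⟨v₀, A4_cyc h3 (c₀ * c₁) c₀ c₁ η hη0 hη1 v₀ ?_ hc₀v₀ hc1 hv₀ne⟩
    rw [MulAut.mul_apply, hc1, map_inv, hc₀v₀, inv_inv]
  · refine ⟨v₀ * c₁ v₀, A4_cyc h3 c₁ (c₀ * c₁) c₀ η hη2 hη0 _ ?_ ?_ ?_ ha⟩
    · rw [map_mul, p1, mul_comm]
    · rw [MulAut.mul_apply, map_mul, p1, map_mul, hc₀v₀, p01, hc₀v₀, map_inv, mul_inv_rev]
    · rw [map_mul, p01, hc₀v₀, map_inv, mul_inv_rev, mul_comm]

/-- the same lemma for a group with a commutativity hypothesis instead of a `CommGroup` instance -/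
theorem exists_mul_ne_one_of_A4 {V : Type*} [Group V] (hcomm : ∀ a b : V, a * b = b * a)
    (h3 : ∀ v : V, v ^ 3 = 1) (c₀ c₁ η : MulAut V) (h0 : c₀ * c₀ = 1) (h1 : c₁ * c₁ = 1)
    (h01 : c₀ * c₁ = c₁ * c₀) (hη0 : η * c₀ * η⁻¹ = c₁) (hη1 : η * c₁ * η⁻¹ = c₀ * c₁) (hne : c₀ ≠ 1) :
    ∃ v : V, v * η v * η (η v) ≠ 1 := by
  letI : CommGroup V := { ‹Group V› with mul_comm := hcomm }
  exact exists_mul_ne_one_of_A4' h3 c₀ c₁ η h0 h1 h01 hη0 hη1 hne

end Cfsg.Agent.Helper70
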