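import Cfsg.Agent.Helper70.PCount8

set_option autoImplicit false
set_option linter.unusedSectionVars false

open scoped Classical Pointwise

namespace Cfsg.Agent.Helper70.Syl

open Cfsg.Agent.Helper70.PCount

section general
variable {G : Type*} [Group G] [Finite G] {p : ℕ} [hp : Fact p.Prime]

/-- a `P`-invariant set of Sylow subgroups has `≡ 1` or `≡ 0` elements mod `p` according to whether it
contains `P` -/
theorem card_modEq_of_invariant (P : Sylow p G) (A : Finset (Sylow p G))
    (hinv : ∀ g ∈ P, ∀ R ∈ A, g • R ∈ A) :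
    A.card ≡ (if P ∈ A then 1 else 0) [MOD p] := by
  have hinv' : ∀ g : (P : Subgroup G), ∀ R ∈ A, g • R ∈ A := fun g R hR => by
    rw [Subgroup.smul_def]; exact hinv g g.2 R hR
  have h1 := card_modEq_card_fixed (p := p) P.isPGroup' A hinv'
  have h2 : A.filter (fun R => ∀ g : (P : Subgroup G), g • R = R) = if P ∈ A then {P} else ∅ := by
    ext R
    rw [Finset.mem_filter]
    have hfix : (∀ g : (P : Subgroup G), g • R = R) ↔ R = P := by
      have := P.isPGroup'.sylow_mem_fixedPoints_iff (Q := R)
      rw [MulAction.mem_fixedPoints] at this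
      rw [this]
      constructor
      · intro h
        exact Sylow.ext (P.is_maximal' R.isPGroup' h)
      · rintro rfl; exact le_rfl
    rw [hfix]
    split_ifs with hPA
    · rw [Finset.mem_singleton]
      constructor
      · exact fun h => h.2
      · rintro rfl; exact ⟨hPA, rfl⟩
    · constructor
      · rintro ⟨hR, rfl⟩; exact absurd hR hPA
      · intro h; exact absurd h (Finset.notMem_empty R)
  rw [h2] at h1
  split_ifs at h1 ⊢ with hPA
  · simpa using h1
  · simpa using h1

/-- the conjugation action on Sylow subgroups of a simple group with more than one Sylow subgroup is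
faithful -/
theorem eq_one_of_forall_smul_eq [IsSimpleGroup G] (h1 : Nat.card (Sylow p G) ≠ 1) (g : G)
    (hg : ∀ R : Sylow p G, g • R = R) : g = 1 := by
  let φ := MulAction.toPermHom G (Sylow p G)
  have hmem : ∀ x : G, x ∈ φ.ker ↔ ∀ R : Sylow p G, x • R = R := by
    intro x
    rw [MonoidHom.mem_ker]
    constructor
    · intro h R
      have := congrArg (fun σ : Equiv.Perm (Sylow p G) => σ R) h
      simpa [φ] using this
    · intro h
      apply Equiv.Perm.ext
      intro R
      exact h R
  rcases (MonoidHom.normal_ker φ).eq_bot_or_eq_top with h | h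
  · have : g ∈ φ.ker := (hmem g).mpr hg
    rw [h] at this
    exact Subgroup.mem_bot.mp this
  · exfalso
    apply h1
    obtain ⟨P⟩ : Nonempty (Sylow p G) := inferInstance
    rw [P.card_eq_index_normalizer, Subgroup.index_eq_one, Subgroup.eq_top_iff']
    intro x
    rw [← Sylow.smul_eq_iff_mem_normalizer]
    exact (hmem x).mp (by rw [h]; exact Subgroup.mem_top x) P

/-- if there are fewer than `p²` Sylow subgroups then two distinct ones meet in a subgroup of index `p` -/
theorem card_inf_mul (h : Nat.card (Sylow p G) < p ^ 2) (P Q : Sylow p G) (hPQ : P ≠ Q) :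
    Nat.card ((P : Subgroup G) ⊓ Q : Subgroup G) * p = Nat.card (P : Subgroup G) := by
  set D : Subgroup G := (P : Subgroup G) ⊓ Q with hD
  have hDP : D ≤ P := inf_le_left
  -- stabilizer of Q in P
  have hstab : MulAction.stabilizer (P : Subgroup G) Q = D.subgroupOf (P : Subgroup G) := by
    ext g
    rw [MulAction.mem_stabilizer_iff, Subgroup.smul_def, Sylow.smul_eq_iff_mem_normalizer,
      Subgroup.mem_subgroupOf, hD, ← P.isPGroup'.inf_normalizer_sylow Q, Subgroup.mem_inf]
    exact ⟨fun h => ⟨g.2, h⟩, fun h => h.2⟩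
  have hidx := MulAction.index_stabilizer (P : Subgroup G) Q
  rw [hstab] at hidx
  have hle : (D.subgroupOf (P : Subgroup G)).index ≤ Nat.card (Sylow p G) := by
    rw [hidx, ← Set.ncard_univ]
    exact Set.ncard_le_ncard (Set.subset_univ _) (Set.toFinite _)
  obtain ⟨j, hj⟩ := P.isPGroup'.index (D.subgroupOf (P : Subgroup G))
  have hj1 : j = 1 := by
    have hj0 : j ≠ 0 := by
      rintro rfl
      rw [pow_zero, Subgroup.index_eq_one, Subgroup.subgroupOf_eq_top] at hj
      apply hPQ
      have hPQ' : (P : Subgroup G) ≤ Q := hj.trans inf_le_right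
      exact Sylow.ext (P.is_maximal' Q.isPGroup' hPQ').symm
    have hj2 : j < 2 := by
      have : p ^ j < p ^ 2 := by rw [← hj]; exact lt_of_le_of_lt hle h
      exact (Nat.pow_lt_pow_iff_right hp.out.one_lt).mp this
    omega
  rw [hj1, pow_one] at hj
  have h1 := Subgroup.card_mul_index (D.subgroupOf (P : Subgroup G))
  rw [hj, Nat.card_congr (Subgroup.subgroupOfEquivOfLe hDP).toEquiv] at h1
  exact h1

/-- a subgroup of index `p` of a Sylow subgroup is normalized by it -/
theorem le_normalizer_of_card_mul (P : Sylow p G) (D : Subgroup G) (hDP : D ≤ P)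
    (h : Nat.card D * p = Nat.card (P : Subgroup G)) :
    (P : Subgroup G) ≤ Subgroup.normalizer (D : Set G) := by
  rw [← Subgroup.normal_subgroupOf_iff_le_normalizer hDP]
  apply normal_of_index_eq (p := p) P.isPGroup'
  have h1 := Subgroup.card_mul_index (D.subgroupOf (P : Subgroup G))
  rw [Nat.card_congr (Subgroup.subgroupOfEquivOfLe hDP).toEquiv, ← h] at h1
  exact Nat.eq_of_mul_eq_mul_left Nat.card_pos h1

/-- the set of Sylow subgroups containing `D` -/
noncomputable def above (p : ℕ) (D : Subgroup G) : Finset (Sylow p G) :=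
  haveI : Fintype (Sylow p G) := Fintype.ofFinite _
  Finset.univ.filter (fun R : Sylow p G => D ≤ R)

theorem mem_above {D : Subgroup G} {R : Sylow p G} : R ∈ above p D ↔ D ≤ R := by
  simp [above]

theorem above_invariant (P : Sylow p G) (D : Subgroup G)
    (hPD : (P : Subgroup G) ≤ Subgroup.normalizer (D : Set G)) :
    ∀ g ∈ P, ∀ R ∈ above p D, g • R ∈ above p D := by
  intro g hg R hR
  rw [mem_above] at hR ⊢
  rw [Sylow.coe_subgroup_smul]
  have h1 : MulAut.conj g • D = D := (conj_smul_eq_self_iff g D).mpr (hPD hg)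
  rw [← h1]
  exact Subgroup.pointwise_smul_le_pointwise_smul_iff.mpr hR

theorem card_above_modEq (P : Sylow p G) (D : Subgroup G) (hDP : D ≤ P)
    (hPD : (P : Subgroup G) ≤ Subgroup.normalizer (D : Set G)) :
    (above p D).card ≡ 1 [MOD p] := by
  have h := card_modEq_of_invariant P (above p D) (above_invariant P D hPD)
  rwa [if_pos (mem_above.mpr hDP)] at h

end general

end Cfsg.Agent.Helper70.Syl
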