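import Cfsg.Agent.Helper16.DT.Defs
import Cfsg.Agent.Helper16.Osima
import Cfsg.Agent.Helper74.CharCount

/-!
# DT farm (helper16), piece (QBR), core: every irreducible character of a finite group is afforded by
an irreducible matrix representation with algebraic entries — from Wedderburn's theorem over
`algebraicClosure ℚ ℂ` (WA1, WA2), base change (BCH) and (BRG), all given as hypotheses here.
-/

set_option autoImplicit false
set_option linter.unusedSectionVars false
set_option linter.unusedVariables false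

namespace Cfsg.Agent.Helper70.DT

open Cfsg Cfsg.Agent.Helper16 Cfsg.Agent.Helper16.DT Polynomial Matrix

universe u v w

section Complex

variable {G : Type u} [Group G]

/-- complexification of a matrix representation over a field `K` with `Algebra K ℂ` -/
noncomputable abbrev QBR_cx {K : Type v} [Field K] [Algebra K ℂ] {ι : Type w} [Fintype ι]
    [DecidableEq ι] (σ : G →* Matrix ι ι K) : G →* Matrix ι ι ℂ :=
  ((algebraMap K ℂ).mapMatrix : Matrix ι ι K →+* Matrix ι ι ℂ).toMonoidHom.comp σ

theorem QBR_cx_apply {K : Type v} [Field K] [Algebra K ℂ] {ι : Type w} [Fintype ι]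
    [DecidableEq ι] (σ : G →* Matrix ι ι K) (g : G) (a b : ι) :
    QBR_cx σ g a b = algebraMap K ℂ (σ g a b) := rfl

theorem QBR_cx_trace {K : Type v} [Field K] [Algebra K ℂ] {ι : Type w} [Fintype ι]
    [DecidableEq ι] (σ : G →* Matrix ι ι K) (g : G) :
    (QBR_cx σ g).trace = algebraMap K ℂ (σ g).trace := by
  rw [AddMonoidHom.map_trace (algebraMap K ℂ) (σ g)]
  rfl

/-- the pairing of `x : G → K` with the trace of the complexification -/
theorem QBR_sum_trace {K : Type v} [Field K] [Algebra K ℂ] [Fintype G] {ι : Type w} [Fintype ι]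
    [DecidableEq ι] (σ : G →* Matrix ι ι K) (x : G → K) :
    ∑ g, algebraMap K ℂ (x g) * (QBR_cx σ g).trace = algebraMap K ℂ (gaAct σ x).trace := by
  unfold gaAct
  rw [Matrix.trace_sum, map_sum]
  refine Finset.sum_congr rfl (fun g _ => ?_)
  rw [Matrix.trace_smul, smul_eq_mul, map_mul, QBR_cx_trace]

end Complex

section Core

variable {G : Type u} [Group G] [Fintype G]
variable {K : Type v} [Field K] [Algebra K ℂ]

/-- (QBR) core: from a Wedderburn decomposition over a subfield `K` of `ℂ` whose complexified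
components are irreducible with irreducible traces. -/
theorem QBR_core {r : ℕ} (d : Fin r → ℕ) (σ : ∀ i, G →* Matrix (Fin (d i)) (Fin (d i)) K)
    (hd : ∀ i, 0 < d i)
    (hbij : ∀ A : (∀ i, Matrix (Fin (d i)) (Fin (d i)) K),
      ∃! x : G → K, ∀ i, gaAct (σ i) x = A i)
    (hsq : ∑ i, d i ^ 2 = Fintype.card G)
    (hirr : ∀ i, IsIrrCharacter G (fun g => (QBR_cx (σ i) g).trace))
    (χ : IrrCharacter G) :
    ∃ i, ∀ g, (QBR_cx (σ i) g).trace = (χ : G → ℂ) g := by
  classical
  letI : Fintype (IrrCharacter G) := Cfsg.Agent.Helper74.irrFintype G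
  -- the irreducible characters `ψ i`
  let ψ : Fin r → IrrCharacter G := fun i => ⟨fun g => (QBR_cx (σ i) g).trace, hirr i⟩
  have hψ1 : ∀ i, (ψ i : G → ℂ) 1 = (d i : ℂ) := by
    intro i
    show (QBR_cx (σ i) 1).trace = (d i : ℂ)
    rw [map_one, Matrix.trace_one, Fintype.card_fin]
  -- injectivity
  have hinj : Function.Injective ψ := by
    intro i j hij
    by_contra hne
    obtain ⟨x, hx, -⟩ := hbij (fun k => if k = i then 1 else 0)
    have h1 := QBR_sum_trace (σ i) x
    have h2 := QBR_sum_trace (σ j) x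
    rw [hx i, if_pos rfl, Matrix.trace_one, Fintype.card_fin] at h1
    rw [hx j, if_neg (fun h => hne h.symm), Matrix.trace_zero, map_zero] at h2
    have h3 : ∀ g, (QBR_cx (σ i) g).trace = (QBR_cx (σ j) g).trace := by
      intro g
      exact congrFun (congrArg Subtype.val hij) g
    simp only [h3] at h1
    rw [h2] at h1
    have h4 : (algebraMap K ℂ ((d i : ℕ) : K)) = (d i : ℂ) := map_natCast _ _
    rw [h4] at h1
    have : (d i : ℂ) ≠ 0 := by exact_mod_cast (hd i).ne'
    exact this h1.symm
  -- counting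
  have hsum := Cfsg.Agent.Helper74.sum_irr_degree_sq (G := G)
  by_contra hcon
  push Not at hcon
  have hχ : χ ∉ Finset.univ.image ψ := by
    intro hmem
    rw [Finset.mem_image] at hmem
    obtain ⟨i, -, hi⟩ := hmem
    obtain ⟨g, hg⟩ := hcon i
    apply hg
    rw [← hi]
  -- degrees as natural numbers
  have hdeg : ∀ φ : IrrCharacter G, ∃ n : ℕ, 0 < n ∧ (φ : G → ℂ) 1 = n := by
    intro φ
    obtain ⟨n, hn⟩ := Cfsg.Agent.Helper74.isCharacter_apply_one (Cfsg.Agent.Helper74.irr_isCharacter φ)
    refine ⟨n, ?_, hn⟩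
    rcases Nat.eq_zero_or_pos n with h0 | h0
    · exfalso
      apply Cfsg.Agent.Helper16.irr_one_ne_zero φ
      rw [hn, h0, Nat.cast_zero]
    · exact h0
  choose deg hdegpos hdegeq using hdeg
  have hsumN : ∑ φ : IrrCharacter G, deg φ * deg φ = Fintype.card G := by
    have : ((∑ φ : IrrCharacter G, deg φ * deg φ : ℕ) : ℂ) = (Fintype.card G : ℂ) := by
      rw [Nat.cast_sum, ← Nat.card_eq_fintype_card, ← hsum]
      refine Finset.sum_congr rfl (fun φ _ => ?_)
      rw [Nat.cast_mul, hdegeq]
    exact_mod_cast this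
  have himg : ∑ φ ∈ Finset.univ.image ψ, deg φ * deg φ = Fintype.card G := by
    rw [Finset.sum_image (fun a _ b _ h => hinj h), ← hsq]
    refine Finset.sum_congr rfl (fun i _ => ?_)
    have : deg (ψ i) = d i := by
      have := hdegeq (ψ i)
      rw [hψ1] at this
      exact_mod_cast this.symm
    rw [this, pow_two]
  have hlt : ∑ φ ∈ Finset.univ.image ψ, deg φ * deg φ < ∑ φ : IrrCharacter G, deg φ * deg φ := by
    apply Finset.sum_lt_sum_of_subset (Finset.subset_univ _) (Finset.mem_univ χ) hχ
    · exact Nat.mul_pos (hdegpos χ) (hdegpos χ)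
    · intro _ _ _
      exact Nat.zero_le _
  omega

end Core

end Cfsg.Agent.Helper70.DT
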