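import Cfsg.Agent.Helper16.DT.Defs

/-!
# DT farm (helper16), piece (WA1) (hedge by helper70): Wedderburn's theorem for the group algebra of a
finite group over an algebraically closed field in which the group order is invertible
-/

set_option autoImplicit false
set_option linter.unusedSectionVars false
set_option linter.unusedVariables false

namespace Cfsg.Agent.Helper70.DT

open Cfsg Cfsg.Agent.Helper16 Cfsg.Agent.Helper16.DT Polynomial Matrix

universe u v w

section Wedderburn

variable {K : Type v} [Field K] {G : Type u} [Group G]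

/-- the coefficient of `y g • of g` -/
theorem WA1_coeff_smul_of (c : K) (g h : G) [Decidable (g = h)] :
    (c • MonoidAlgebra.of K G g).coeff h = if g = h then c else 0 := by
  rw [MonoidAlgebra.coeff_smul_apply, MonoidAlgebra.of_apply, MonoidAlgebra.coeff_single, Finsupp.single_apply,
    smul_eq_mul]
  split_ifs <;> simp

/-- the coefficients of a linear combination of group elements -/
theorem WA1_sum_of_apply [Fintype G] (y : G → K) (h : G) :
    (∑ g, y g • MonoidAlgebra.of K G g).coeff h = y h := by
  classical
  rw [MonoidAlgebra.coeff_sum, Finsupp.coe_finsetSum, Finset.sum_apply]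
  simp only [WA1_coeff_smul_of]
  rw [Finset.sum_ite_eq' Finset.univ h, if_pos (Finset.mem_univ h)]

/-- an element of the group algebra is the sum of its coefficients times the group elements -/
theorem WA1_sum_of [Fintype G] (X : MonoidAlgebra K G) :
    ∑ g, X.coeff g • MonoidAlgebra.of K G g = X := by
  apply MonoidAlgebra.coeff_injective
  ext h
  exact WA1_sum_of_apply (fun g => X.coeff g) h

/-- (WA1) Wedderburn's theorem for the group algebra of a finite group over an algebraically closed
field in which the group order is invertible. -/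
theorem wedderburn_group [IsAlgClosed K] [Fintype G] (hG : (Fintype.card G : K) ≠ 0) :
    ∃ (r : ℕ) (d : Fin r → ℕ) (σ : ∀ i, G →* Matrix (Fin (d i)) (Fin (d i)) K),
      (∀ i, 0 < d i) ∧
      ∀ A : (∀ i, Matrix (Fin (d i)) (Fin (d i)) K), ∃! x : G → K, ∀ i, gaAct (σ i) x = A i := by
  classical
  haveI : NeZero (Nat.card G : K) := ⟨by rw [Nat.card_eq_fintype_card]; exact hG⟩
  haveI : IsSemisimpleRing (MonoidAlgebra K G) := inferInstance
  haveI : FiniteDimensional K (MonoidAlgebra K G) := inferInstance
  obtain ⟨r, d, hd, ⟨e⟩⟩ :=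
    IsSemisimpleRing.exists_algEquiv_pi_matrix_of_isAlgClosed K (MonoidAlgebra K G)
  let σ : ∀ i, G →* Matrix (Fin (d i)) (Fin (d i)) K := fun i =>
    ((Pi.evalMonoidHom (fun i => Matrix (Fin (d i)) (Fin (d i)) K) i).comp
      (e : MonoidAlgebra K G →* (∀ i, Matrix (Fin (d i)) (Fin (d i)) K))).comp
      (MonoidAlgebra.of K G)
  have hσ : ∀ i g, σ i g = e (MonoidAlgebra.of K G g) i := fun i g => rfl
  refine ⟨r, d, σ, fun i => Nat.pos_of_ne_zero (hd i).ne, ?_⟩
  have key : ∀ (x : G → K) i, gaAct (σ i) x = e (∑ g, x g • MonoidAlgebra.of K G g) i := by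
    intro x i
    unfold gaAct
    rw [map_sum, Finset.sum_apply]
    refine Finset.sum_congr rfl (fun g _ => ?_)
    rw [map_smul, Pi.smul_apply, hσ]
  intro A
  refine ⟨fun g => (e.symm A).coeff g, ?_, ?_⟩
  · intro i
    show gaAct (σ i) (fun g => (e.symm A).coeff g) = A i
    rw [key, WA1_sum_of, AlgEquiv.apply_symm_apply]
  · intro y hy
    have h1 : e (∑ g, y g • MonoidAlgebra.of K G g) = A := by
      funext i
      rw [← key]
      exact hy i
    have h2 : ∑ g, y g • MonoidAlgebra.of K G g = e.symm A := by
      rw [← h1, AlgEquiv.symm_apply_apply]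
    funext g
    rw [← h2, WA1_sum_of_apply]

end Wedderburn

end Cfsg.Agent.Helper70.DT
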