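import Cfsg.Agent.Helper16.DT.Defs
import Cfsg.Agent.Helper70.DT_QBRCore
import Cfsg.Agent.Helper70.DT_WA1
import Cfsg.Agent.Helper10.DT_WA2
import Cfsg.Agent.Helper10.DT_BCH
import Cfsg.Agent.Helper67.DT_BRG

/-!
# DT farm (helper16), piece (QBR): every irreducible character of a finite group is afforded by an
irreducible matrix representation with algebraic entries
-/

set_option autoImplicit false
set_option linter.unusedSectionVars false
set_option linter.unusedVariables false

namespace Cfsg.Agent.Helper70.DT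

open Cfsg Cfsg.Agent.Helper16 Cfsg.Agent.Helper16.DT Polynomial Matrix

universe u v w

section Complex

variable {G : Type u} [Group G]

/-- (QBR) every irreducible character of a finite group is afforded by an irreducible matrix
representation with algebraic entries. -/
theorem exists_algebraic_irredMat [Finite G] (χ : IrrCharacter G) :
    ∃ (n : ℕ) (ρ : G →* Matrix (Fin n) (Fin n) ℂ), IsIrredMat ρ ∧
      (∀ g i j, IsAlgebraic ℚ (ρ g i j)) ∧ ∀ g, (ρ g).trace = (χ : G → ℂ) g := by
  classical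
  haveI : Fintype G := Fintype.ofFinite G
  haveI : IsAlgClosed (algebraicClosure ℚ ℂ) := (algebraicClosure.isAlgClosure ℚ ℂ).isAlgClosed
  have hG : ((Fintype.card G : ℕ) : algebraicClosure ℚ ℂ) ≠ 0 := by
    exact_mod_cast Fintype.card_ne_zero
  obtain ⟨r, d, σ, hd, hbij⟩ :=
    Cfsg.Agent.Helper70.DT.wedderburn_group (K := algebraicClosure ℚ ℂ) (G := G) hG
  obtain ⟨hsq, -⟩ := Cfsg.Agent.Helper10.DT.wedderburn_consequences d σ hd hbij
  have hsurj : ∀ i, ∀ A : Matrix (Fin (d i)) (Fin (d i)) (algebraicClosure ℚ ℂ),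
      ∃ x : G → algebraicClosure ℚ ℂ, gaAct (σ i) x = A := by
    intro i A
    obtain ⟨x, hx, -⟩ := hbij (fun k => if h : k = i then h ▸ A else 0)
    refine ⟨x, ?_⟩
    rw [hx i, dif_pos rfl]
  have hirrM : ∀ i, IsIrredMat (QBR_cx (σ i)) := by
    intro i
    haveI : Nonempty (Fin (d i)) := ⟨⟨0, hd i⟩⟩
    exact Cfsg.Agent.Helper10.DT.isIrredMat_map_of_surjective (L := ℂ) (σ i) (hsurj i)
  have hirr : ∀ i, IsIrrCharacter G (fun g => (QBR_cx (σ i) g).trace) :=
    fun i => Cfsg.Agent.Helper67.DT.isIrrCharacter_of_isIrredMat _ (hirrM i)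
  obtain ⟨i, hi⟩ := QBR_core d σ hd hbij hsq hirr χ
  refine ⟨d i, QBR_cx (σ i), hirrM i, ?_, hi⟩
  intro g a b
  rw [QBR_cx_apply]
  exact mem_algebraicClosure_iff.mp (σ i g a b).2

end Complex

end Cfsg.Agent.Helper70.DT
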