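import Cfsg.Agent.Helper16.DT.Defs

/-!
# DT farm (helper16), piece (RLF), core: transfer of the trace and of the class sum scalars along an
equivalence of matrix representations
-/

set_option autoImplicit false
set_option linter.unusedSectionVars false
set_option linter.unusedVariables false

namespace Cfsg.Agent.Helper70.DT

open Cfsg Cfsg.Agent.Helper16 Cfsg.Agent.Helper16.DT Polynomial Matrix

universe u v w

section FieldK

variable {K : Type v} [Field K] {G : Type u} [Group G]

/-- equivalent matrix representations have the same trace -/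
theorem RLF_trace_of_matEquiv {ι : Type w} [Fintype ι] [DecidableEq ι] {κ : Type*} [Fintype κ]
    [DecidableEq κ] {ρ : G →* Matrix ι ι K} {σ : G →* Matrix κ κ K} (h : MatEquiv ρ σ) (g : G) :
    (ρ g).trace = (σ g).trace := by
  obtain ⟨P, Q, hPQ, hQP, hg⟩ := h
  rw [← hg g, Matrix.trace_mul_comm, ← Matrix.mul_assoc, hQP, Matrix.one_mul]

/-- equivalent matrix representations: a sum acting as a scalar -/
theorem RLF_scalar_of_matEquiv {ι : Type w} [Fintype ι] [DecidableEq ι] {κ : Type*} [Fintype κ]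
    [DecidableEq κ] {ρ : G →* Matrix ι ι K} {σ : G →* Matrix κ κ K} (h : MatEquiv ρ σ)
    (S : Finset G) (c : K) (hx : ∑ g ∈ S, σ g = c • (1 : Matrix κ κ K)) :
    ∑ g ∈ S, ρ g = c • (1 : Matrix ι ι K) := by
  obtain ⟨P, Q, hPQ, hQP, hg⟩ := h
  have h1 : ∑ g ∈ S, ρ g = P * (∑ g ∈ S, σ g) * Q := by
    rw [Matrix.mul_sum, Matrix.sum_mul]
    exact Finset.sum_congr rfl (fun g _ => (hg g).symm)
  rw [h1, hx, Matrix.mul_smul, Matrix.smul_mul, Matrix.mul_one, hPQ]

/-- equivalent matrix representations have the same class sum scalars -/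
theorem RLF_classSumMat_of_matEquiv [Fintype G] {ι : Type w} [Fintype ι] [DecidableEq ι]
    {κ : Type*} [Fintype κ] [DecidableEq κ] {ρ : G →* Matrix ι ι K} {σ : G →* Matrix κ κ K}
    (h : MatEquiv ρ σ) (x : G) (c : K) (hx : classSumMat σ x = c • (1 : Matrix κ κ K)) :
    classSumMat ρ x = c • (1 : Matrix ι ι K) := by
  unfold classSumMat at hx ⊢
  exact RLF_scalar_of_matEquiv h _ c hx

end FieldK

section Decomp

variable {M : Ideal AlgInt} [M.IsMaximal] {G : Type u} [Group G]

/-- (RLF) core: from an irreducible matrix representation affording `χ` on which the class sums act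
through the central character, and an equivalent form over the local ring. -/
theorem RLF_core [Fintype G] (χ : IrrCharacter G) {n : ℕ} (ρ : G →* Matrix (Fin n) (Fin n) ℂ)
    (hirr : IsIrredMat ρ) (htr : ∀ g, (ρ g).trace = (χ : G → ℂ) g)
    (hcls : ∀ x, classSumMat ρ x = centralChar (χ : G → ℂ) x • (1 : Matrix (Fin n) (Fin n) ℂ))
    (A : G →* Matrix (Fin n) (Fin n) (Rloc M)) (hA : MatEquiv (cplxRep A) ρ) :
    ∃ (n : ℕ) (A : G →* Matrix (Fin n) (Fin n) (Rloc M)), 0 < n ∧
      cplxTrace A = (χ : G → ℂ) ∧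
      ∀ x, classSumMat (cplxRep A) x = centralChar (χ : G → ℂ) x • (1 : Matrix (Fin n) (Fin n) ℂ) := by
  refine ⟨n, A, ?_, ?_, ?_⟩
  · obtain ⟨⟨i⟩, -⟩ := hirr
    exact Nat.lt_of_le_of_lt (Nat.zero_le _) i.2
  · funext g
    show (cplxRep A g).trace = _
    rw [RLF_trace_of_matEquiv hA g, htr]
  · intro x
    exact RLF_classSumMat_of_matEquiv hA x _ (hcls x)

end Decomp

end Cfsg.Agent.Helper70.DT
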