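import Cfsg.Agent.Helper16.DT.Defs
import Cfsg.Agent.Helper70.DT_RLFCore
import Cfsg.Agent.Helper70.DT_QBR
import Cfsg.Agent.Helper61.DT_LA3
import Cfsg.Agent.Helper67.DT_CLS

/-!
# DT farm (helper16), piece (RLF): every irreducible character is afforded by a matrix representation
over the local ring on which the class sums act through the central character
-/

set_option autoImplicit false
set_option linter.unusedSectionVars false
set_option linter.unusedVariables false

namespace Cfsg.Agent.Helper70.DT

open Cfsg Cfsg.Agent.Helper16 Cfsg.Agent.Helper16.DT Polynomial Matrix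

universe u v w

section Decomp

variable {p : ℕ} [Fact p.Prime] {M : Ideal AlgInt} [M.IsMaximal] {G : Type u} [Group G]

/-- (RLF) every irreducible character is afforded by a matrix representation over the local ring
on which the class sums act through the central character: QBR, LA3, CLS and EQI. -/
theorem exists_Rloc_rep [Fintype G] (χ : IrrCharacter G) :
    ∃ (n : ℕ) (A : G →* Matrix (Fin n) (Fin n) (Rloc M)), 0 < n ∧
      cplxTrace A = (χ : G → ℂ) ∧
      ∀ x, classSumMat (cplxRep A) x = centralChar (χ : G → ℂ) x • (1 : Matrix (Fin n) (Fin n) ℂ) := by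
  obtain ⟨n, ρ, hirr, halg, htr⟩ := exists_algebraic_irredMat χ
  obtain ⟨A, hA⟩ := Cfsg.Agent.Helper61.DT.exists_Rloc_form (M := M) ρ halg
  exact RLF_core χ ρ hirr htr
    (fun x => Cfsg.Agent.Helper67.DT.classSumMat_eq_centralChar ρ hirr χ htr x) A hA

end Decomp

end Cfsg.Agent.Helper70.DT
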