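import Cfsg.Agent.Helper70.Syl1

set_option autoImplicit false
set_option linter.unusedSectionVars false

open scoped Classical Pointwise

namespace Cfsg.Agent.Helper70.Syl

open Cfsg.Agent.Helper70.PCount

section general
variable {G : Type*} [Group G] [Finite G] {p : ℕ} [hp : Fact p.Prime]

theorem card_above_le (D : Subgroup G) : (above p D).card ≤ Nat.card (Sylow p G) := by
  letI : Fintype (Sylow p G) := Fintype.ofFinite _
  unfold above
  rw [Nat.card_eq_fintype_card]
  exact Finset.card_le_univ _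

theorem above_eq_univ_of_card (D : Subgroup G) (h : (above p D).card = Nat.card (Sylow p G)) :
    ∀ R : Sylow p G, D ≤ R := by
  intro R
  letI : Fintype (Sylow p G) := Fintype.ofFinite _
  rw [← mem_above]
  unfold above at h ⊢
  rw [Nat.card_eq_fintype_card, Finset.card_eq_iff_eq_univ] at h
  rw [h]
  exact Finset.mem_univ R

theorem eq_bot_of_forall_le [IsSimpleGroup G] (h1 : Nat.card (Sylow p G) ≠ 1) (D : Subgroup G)
    (h : ∀ R : Sylow p G, D ≤ R) : D = ⊥ := by
  rw [Subgroup.eq_bot_iff_forall]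
  intro g hg
  apply eq_one_of_forall_smul_eq h1
  intro R
  rw [Sylow.smul_eq_iff_mem_normalizer]
  exact Subgroup.le_normalizer (h R hg)

theorem card_sylow_eq (P Q : Sylow p G) : Nat.card (P : Subgroup G) = Nat.card (Q : Subgroup G) := by
  rw [P.card_eq_multiplicity, Q.card_eq_multiplicity]

end general

section seventeen
variable {G : Type*} [Group G] [Finite G] [IsSimpleGroup G] [hp : Fact (Nat.Prime 17)]

theorem card_above_inf (h35 : Nat.card (Sylow 17 G) = 35) (P Q : Sylow 17 G) (hPQ : P ≠ Q)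
    (hne : (P : Subgroup G) ⊓ Q ≠ ⊥) :
    (above 17 ((P : Subgroup G) ⊓ Q)).card = 18 := by
  set D : Subgroup G := (P : Subgroup G) ⊓ Q with hD
  have hDP : D ≤ P := inf_le_left
  have hDQ : D ≤ Q := inf_le_right
  have hmul := card_inf_mul (p := 17) (by rw [h35]; norm_num) P Q hPQ
  have hPD := le_normalizer_of_card_mul P D hDP hmul
  have h1 := card_above_modEq P D hDP hPD
  have h2 : 1 < (above 17 D).card := by
    rw [Finset.one_lt_card]
    exact ⟨P, mem_above.mpr hDP, Q, mem_above.mpr hDQ, hPQ⟩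
  have h3 := card_above_le (p := 17) D
  rw [h35] at h3
  have h4 : (above 17 D).card ≠ 35 := by
    intro h
    apply hne
    apply eq_bot_of_forall_le (p := 17) (by rw [h35]; norm_num)
    exact above_eq_univ_of_card D (by rw [h, h35])
  unfold Nat.ModEq at h1
  omega

theorem caseA (h35 : Nat.card (Sylow 17 G) = 35) (P₀ Q₀ : Sylow 17 G) (hPQ₀ : P₀ ≠ Q₀)
    (hne₀ : (P₀ : Subgroup G) ⊓ Q₀ ≠ ⊥) : False := by
  letI : Fintype (Sylow 17 G) := Fintype.ofFinite _
  have hlt : Nat.card (Sylow 17 G) < 17 ^ 2 := by rw [h35]; norm_num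
  -- all intersections have the same order
  have hcard : ∀ P Q : Sylow 17 G, P ≠ Q →
      Nat.card ((P : Subgroup G) ⊓ Q : Subgroup G) = Nat.card ((P₀ : Subgroup G) ⊓ Q₀ : Subgroup G) := by
    intro P Q hPQ
    have h1 := card_inf_mul hlt P Q hPQ
    have h2 := card_inf_mul hlt P₀ Q₀ hPQ₀
    rw [card_sylow_eq P P₀, ← h2] at h1
    exact Nat.eq_of_mul_eq_mul_right (by norm_num) h1
  have hne : ∀ P Q : Sylow 17 G, P ≠ Q → (P : Subgroup G) ⊓ Q ≠ ⊥ := by
    intro P Q hPQ h
    apply hne₀
    have := hcard P Q hPQ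
    rw [h, Subgroup.card_bot] at this
    exact Subgroup.card_eq_one.mp this.symm
  set T : Finset (Sylow 17 G × Sylow 17 G) := (Finset.univ : Finset (Sylow 17 G)).offDiag with hT
  have hTcard : T.card = 35 * 35 - 35 := by
    rw [hT, Finset.offDiag_card, Finset.card_univ, ← Nat.card_eq_fintype_card, h35]
  let f : Sylow 17 G × Sylow 17 G → Subgroup G := fun x => (x.1 : Subgroup G) ⊓ x.2
  have hsum := Finset.card_eq_sum_card_fiberwise (f := f) (s := T) (t := T.image f)
    (fun x hx => Finset.mem_image_of_mem f hx)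
  have hfib : ∀ D ∈ T.image f, (T.filter (fun x => f x = D)).card = 306 := by
    intro D hD
    rw [Finset.mem_image] at hD
    obtain ⟨⟨P, Q⟩, hx, rfl⟩ := hD
    rw [hT, Finset.mem_offDiag] at hx
    have hPQ : P ≠ Q := hx.2.2
    have h18 := card_above_inf h35 P Q hPQ (hne P Q hPQ)
    have hfe : T.filter (fun x => f x = f (P, Q)) = (above 17 (f (P, Q))).offDiag := by
      ext ⟨P', Q'⟩
      rw [Finset.mem_filter, hT, Finset.mem_offDiag, Finset.mem_offDiag, mem_above, mem_above]
      constructor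
      · rintro ⟨⟨-, -, hne'⟩, hf⟩
        refine ⟨?_, ?_, hne'⟩
        · rw [← hf]; exact inf_le_left
        · rw [← hf]; exact inf_le_right
      · rintro ⟨h1, h2, hne'⟩
        refine ⟨⟨Finset.mem_univ _, Finset.mem_univ _, hne'⟩, ?_⟩
        symm
        apply Subgroup.eq_of_le_of_card_ge (le_inf h1 h2)
        show Nat.card ((P' : Subgroup G) ⊓ Q' : Subgroup G) ≤ Nat.card ((P : Subgroup G) ⊓ Q : Subgroup G)
        rw [hcard P' Q' hne', hcard P Q hPQ]
    rw [hfe, Finset.offDiag_card, h18]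
  rw [Finset.sum_congr rfl hfib, Finset.sum_const, smul_eq_mul, hTcard] at hsum
  omega

end seventeen

end Cfsg.Agent.Helper70.Syl
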