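import Cfsg.Agent.Helper70.Syl4

set_option autoImplicit false
set_option linter.unusedSectionVars false
set_option linter.style.haveILetI false

open scoped Classical Pointwise

namespace Cfsg.Agent.Helper70.Syl

open Cfsg.Agent.Helper70.PCount

section aux
variable {G : Type*} [Group G] [Finite G]

theorem factorization_two_pow_mul (j m : ℕ) (hm : ¬ 2 ∣ m) :
    (2 ^ j * m).factorization 2 = j := by
  have hm0 : m ≠ 0 := fun h => hm (h ▸ dvd_zero 2)
  rw [Nat.factorization_mul (pow_ne_zero _ (by norm_num)) hm0]
  simp [Nat.prime_two.factorization, Nat.factorization_eq_zero_of_not_dvd hm]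

/-- a simple group has no nontrivial proper Sylow subgroup with a normal complement -/
theorem false_of_isComplement' [IsSimpleGroup G] (K T : Subgroup G) (hK : K.Normal)
    (h : K.IsComplement' T) (hT1 : Nat.card T ≠ 1) (hT2 : Nat.card T ≠ Nat.card G) : False := by
  have hmul := h.card_mul_card
  rcases hK.eq_bot_or_eq_top with h' | h'
  · rw [h', Subgroup.card_bot, one_mul] at hmul
    exact hT2 hmul
  · rw [h', Subgroup.card_top] at hmul
    have hpos : 0 < Nat.card G := Nat.card_pos
    have : Nat.card T = 1 := by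
      have h1 : Nat.card G * Nat.card T = Nat.card G * 1 := by rw [hmul, mul_one]
      exact Nat.eq_of_mul_eq_mul_left hpos h1
    exact hT1 this

theorem isCyclic_mulAut_of_prime_card {H : Type*} [Group H] [Finite H] {p : ℕ} (hp : p.Prime)
    (h : Nat.card H = p) : IsCyclic (MulAut H) := by
  haveI : Fact (Nat.card H).Prime := ⟨h ▸ hp⟩
  haveI : IsCyclic H := isCyclic_of_prime_card (p := Nat.card H) rfl
  exact isCyclic_of_injective (IsCyclic.mulAutMulEquiv H).toMonoidHom (IsCyclic.mulAutMulEquiv H).injective

end aux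

section caseB
variable {G : Type*} [Group G] [Finite G] [IsSimpleGroup G] [hp : Fact (Nat.Prime 17)]

theorem card_centralizer (h35 : Nat.card (Sylow 17 G) = 35) (P : Sylow 17 G)
    (hP : Nat.card (P : Subgroup G) = 17) :
    Subgroup.centralizer ((P : Subgroup G) : Set G) = P := by
  set C := Subgroup.centralizer ((P : Subgroup G) : Set G) with hC
  have hprime : ∀ {q : ℕ}, q.Prime → q ∣ Nat.card C → q = 17 := by
    intro q hq hdvd
    by_contra hne
    haveI : Fact q.Prime := ⟨hq⟩
    obtain ⟨x, hx⟩ := exists_prime_orderOf_dvd_card' (G := C) q hdvd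
    apply no_prime_order h35 P hP (x : G) x.2 q hq _ hne
    rw [Subgroup.orderOf_coe]; exact hx
  have hpow := Nat.eq_prime_pow_of_unique_prime_dvd (Nat.card_pos (α := C)).ne' hprime
  have hCp : IsPGroup 17 C := IsPGroup.of_card hpow
  haveI : IsCyclic (P : Subgroup G) := isCyclic_of_prime_card (p := 17) hP
  have hPC : (P : Subgroup G) ≤ C := by
    intro a ha b hb
    obtain ⟨g, hg⟩ := IsCyclic.exists_generator (α := (P : Subgroup G))
    obtain ⟨i, hi⟩ := Subgroup.mem_zpowers_iff.mp (hg ⟨a, ha⟩)
    obtain ⟨j, hj⟩ := Subgroup.mem_zpowers_iff.mp (hg ⟨b, hb⟩)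
    have ha' : a = (g : G) ^ i := by rw [← Subgroup.coe_zpow, hi]
    have hb' : b = (g : G) ^ j := by rw [← Subgroup.coe_zpow, hj]
    rw [ha', hb', ← zpow_add, ← zpow_add, add_comm]
  exact P.is_maximal' hCp hPC


theorem caseB (h35 : Nat.card (Sylow 17 G) = 35) (P : Sylow 17 G)
    (hP : Nat.card (P : Subgroup G) = 17) : False := by
  set C := Subgroup.centralizer ((P : Subgroup G) : Set G) with hC
  set N := Subgroup.normalizer ((P : Subgroup G) : Set G) with hN
  have hCP : C = P := card_centralizer h35 P hP
  have hCN : C ≤ N := Subgroup.centralizer_le_normalizer _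
  have hCcard : Nat.card C = 17 := by rw [hCP, hP]
  have key := Subgroup.card_dvd_of_injective _
    (QuotientGroup.kerLift_injective (P : Subgroup G).normalizerMonoidHom)
  rw [Subgroup.normalizerMonoidHom_ker, ← Subgroup.index, ← Subgroup.relIndex] at key
  haveI : IsCyclic (P : Subgroup G) := isCyclic_of_prime_card (p := 17) hP
  rw [IsCyclic.card_mulAut, hP, Nat.totient_prime hp.out] at key
  have key' : C.relIndex N ∣ 2 ^ 4 := by
    have h16 : (2 : ℕ) ^ 4 = 17 - 1 := by norm_num
    rw [h16]
    exact key
  obtain ⟨j, hj4, hj⟩ := (Nat.dvd_prime_pow Nat.prime_two).mp key'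
  have hNcard : Nat.card N = 17 * 2 ^ j := by
    have h1 := Subgroup.card_mul_index (C.subgroupOf N)
    rw [Nat.card_congr (Subgroup.subgroupOfEquivOfLe hCN).toEquiv, hCcard] at h1
    rw [← h1, ← hj]
    rfl
  have hGcard : Nat.card G = 35 * (17 * 2 ^ j) := by
    have h1 := Subgroup.card_mul_index N
    have hidx : N.index = 35 := by
      rw [← h35]
      exact (P.card_eq_index_normalizer).symm
    rw [hidx, hNcard] at h1
    omega
  rcases Nat.eq_zero_or_pos j with hj0 | hj0
  · subst hj0
    have hNC : N ≤ C := by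
      rw [← Subgroup.relIndex_eq_one]; simpa using hj
    have hcomp := MonoidHom.ker_transferSylow_isComplement' P hNC
    exact false_of_isComplement' _ _ (MonoidHom.normal_ker _) hcomp (by rw [hP]; norm_num)
      (by rw [hP, hGcard]; norm_num)
  · haveI : Fact (Nat.Prime 2) := ⟨Nat.prime_two⟩
    obtain ⟨T₀⟩ : Nonempty (Sylow 2 N) := inferInstance
    have hT₀card : Nat.card (T₀ : Subgroup N) = 2 ^ j := by
      rw [T₀.card_eq_multiplicity, hNcard, mul_comm, factorization_two_pow_mul j 17 (by norm_num)]
    let φ := (P : Subgroup G).normalizerMonoidHom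
    let ψ : (T₀ : Subgroup N) →* MulAut (P : Subgroup G) := φ.comp (T₀ : Subgroup N).subtype
    have hψ : Function.Injective ψ := by
      rw [← MonoidHom.ker_eq_bot_iff, Subgroup.eq_bot_iff_forall]
      intro x hx
      rw [MonoidHom.mem_ker, MonoidHom.comp_apply] at hx
      have hx' : ((T₀ : Subgroup N).subtype x) ∈ φ.ker := hx
      rw [Subgroup.normalizerMonoidHom_ker] at hx'
      have hcop : (T₀ : Subgroup N) ⊓ C.subgroupOf N = ⊥ := by
        apply Disjoint.eq_bot
        apply Subgroup.disjoint_of_coprime_natCard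
        rw [hT₀card, Nat.card_congr (Subgroup.subgroupOfEquivOfLe hCN).toEquiv, hCcard]
        exact Nat.Coprime.pow_left j (by norm_num)
      have : (x : N) ∈ (T₀ : Subgroup N) ⊓ C.subgroupOf N := ⟨x.2, hx'⟩
      rw [hcop, Subgroup.mem_bot] at this
      exact Subtype.ext this
    haveI : IsCyclic (MulAut (P : Subgroup G)) := isCyclic_mulAut_of_prime_card hp.out hP
    haveI hT₀cyc : IsCyclic (T₀ : Subgroup N) := isCyclic_of_injective ψ hψ
    set T : Subgroup G := (T₀ : Subgroup N).map N.subtype with hT
    have hTcard : Nat.card T = 2 ^ j := by rw [hT, Subgroup.card_subtype, hT₀card]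
    have hTcyc : IsCyclic T := by
      let e := Subgroup.equivMapOfInjective (T₀ : Subgroup N) N.subtype N.subtype_injective
      exact isCyclic_of_surjective e.toMonoidHom e.surjective
    have hfac : (Nat.card G).factorization 2 = j := by
      rw [hGcard, show 35 * (17 * 2 ^ j) = 2 ^ j * 595 by ring,
        factorization_two_pow_mul j 595 (by norm_num)]
    let T' : Sylow 2 G := Sylow.ofCard T (by rw [hTcard, hfac])
    have hmin : (Nat.card G).minFac = 2 := by
      rw [Nat.minFac_eq_two_iff, hGcard]
      exact Dvd.dvd.mul_left (Dvd.dvd.mul_left (dvd_pow_self 2 hj0.ne') 17) 35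
    have hT'cyc : IsCyclic T' := hTcyc
    have hcomp := IsCyclic.isComplement' hmin hT'cyc
    have hT'card : Nat.card (T' : Subgroup G) = 2 ^ j := hTcard
    refine false_of_isComplement' _ _ (MonoidHom.normal_ker _) hcomp ?_ ?_
    · rw [hT'card]
      exact (Nat.one_lt_pow hj0.ne' (by norm_num)).ne'
    · rw [hT'card, hGcard]
      have : 0 < 2 ^ j := pow_pos (by norm_num) j
      omega

end caseB

end Cfsg.Agent.Helper70.Syl
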