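import Mathlib
import Cfsg.Agent.Helper13.FExtDefs
import Cfsg.Agent.Helper13.Symp
import Cfsg.Agent.Helper13.SympTrans
import Cfsg.Agent.Helper13.SpMax1
import Cfsg.Agent.Helper43.SpOrthA
import Cfsg.Agent.Helper59.ElusiveCyc
import Cfsg.Agent.Helper36.AltForm

/-!
# (S1a) of helper13's S5975 engine (#7889): a fixed-point-free element of order `r` of `Sp_{2m}(q)`

`m` is the order of `q ^ 2` modulo `r`.  Cauchy gives an element `y` of order `r` of `Sp_{2m}(q)`;
its support `(y - 1) V` is `y`-invariant and killed by `Φ_r(y)`, so its dimension is divisible by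
the order of `q` modulo `r`; it is nondegenerate, hence of even dimension `2 j`, `0 < j ≤ m`, and
`r ∣ q ^ (2 j) - 1` forces `j = m`.
-/

set_option autoImplicit false
set_option linter.unusedVariables false

namespace Cfsg.Agent.Helper70.FExtS1a

open Matrix Cfsg Cfsg.Geo Polynomial Module
open Cfsg.Agent.Helper13.FExt

variable {F : Type*} [Field F]

theorem sympForm_self (m : ℕ) (u : Fin m ⊕ Fin m → F) : Cfsg.sympForm m F u u = 0 := by
  rw [Cfsg.Agent.Helper13.sympForm_eq_sum]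
  apply Finset.sum_eq_zero
  intro i _
  ring

/-- a subspace on which the symplectic form is nondegenerate has even dimension -/
theorem even_finrank_of_nondegOn (m : ℕ) (S : Submodule F (Fin m ⊕ Fin m → F))
    (hS : ∀ s ∈ S, (∀ s' ∈ S, Cfsg.sympForm m F s s' = 0) → s = 0) :
    Even (finrank F S) := by
  set B : LinearMap.BilinForm F S := (Matrix.toBilin' (Matrix.J (Fin m) F)).restrict S with hB
  have hBv : ∀ a b : S, B a b = Cfsg.sympForm m F (a : Fin m ⊕ Fin m → F) b := by
    intro a b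
    show (Matrix.toBilin' (Matrix.J (Fin m) F)) (a : Fin m ⊕ Fin m → F) b = _
    rw [Matrix.toBilin'_apply']
    rfl
  have halt : B.IsAlt := by
    intro a
    rw [hBv, sympForm_self]
  have hnd : B.Nondegenerate := by
    refine (LinearMap.IsRefl.nondegenerate_iff_separatingLeft (B := B) halt.isRefl).mpr ?_
    intro a ha
    have : (a : Fin m ⊕ Fin m → F) = 0 := by
      apply hS _ a.2
      intro s' hs'
      have := ha ⟨s', hs'⟩
      rw [hBv] at this
      exact this
    exact Subtype.ext this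
  exact Cfsg.Agent.Helper36.even_finrank_of_isAlt_nondegenerate (finrank F S) B halt hnd rfl

/-- (S1a) a fixed-point-free element of order `r` of `Sp_{2m}(q)`, `m` the order of `q²` mod `r` -/
theorem exists_fpf [Fintype F] (p : ℕ) [Fact p.Prime] [CharP F p] (q : ℕ)
    (hq : Fintype.card F = q) (r : ℕ) [Fact r.Prime] (hr2 : r ≠ 2) (hrp : r ≠ p) (m : ℕ)
    (hm : 0 < m) (hrm : r ∣ q ^ (2 * m) - 1)
    (hmin : ∀ j, 0 < j → j < m → ¬ r ∣ q ^ (2 * j) - 1) :
    ∃ y ∈ spGL m F, y ^ r = 1 ∧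
      Module.finrank F (supp (y : Matrix (Fin m ⊕ Fin m) (Fin m ⊕ Fin m) F)) = 2 * m := by
  classical
  subst hq
  have hrpr : r.Prime := Fact.out
  have hppr : p.Prime := Fact.out
  have hq1 : 1 ≤ Fintype.card F := Fintype.card_pos
  -- `r ≠ 0` in `F`
  have hrF : (r : F) ≠ 0 := by
    intro h
    have := (CharP.cast_eq_zero_iff F p r).mp h
    exact hrp ((Nat.prime_dvd_prime_iff_eq hppr hrpr).mp this).symm
  -- Cauchy
  have hdvd : r ∣ Nat.card ↥(Cfsg.spGL m F) := by
    rw [Cfsg.Agent.Helper43.SpOrth.card_spGL]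
    apply Dvd.dvd.mul_left
    have hmem : m - 1 ∈ Finset.range m := Finset.mem_range.mpr (by omega)
    have h1 := Finset.dvd_prod_of_mem (fun i => Fintype.card F ^ (2 * (i + 1)) - 1) hmem
    have h2 : 2 * (m - 1 + 1) = 2 * m := by omega
    simp only [h2] at h1
    exact dvd_trans hrm h1
  obtain ⟨⟨y, hy⟩, hord⟩ := exists_prime_orderOf_dvd_card' (G := ↥(Cfsg.spGL m F)) r hdvd
  have hyr : y ^ r = 1 := by
    have h1 := pow_orderOf_eq_one (⟨y, hy⟩ : ↥(Cfsg.spGL m F))
    rw [hord] at h1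
    have h2 := congrArg Subtype.val h1
    exact h2
  have hy1 : y ≠ 1 := by
    intro h
    have h1 : (⟨y, hy⟩ : ↥(Cfsg.spGL m F)) = 1 := Subtype.ext h
    rw [h1, orderOf_one] at hord
    exact hrpr.one_lt.ne hord
  refine ⟨y, hy, hyr, ?_⟩
  set Y : Matrix (Fin m ⊕ Fin m) (Fin m ⊕ Fin m) F :=
    ((y : GL (Fin m ⊕ Fin m) F) : Matrix (Fin m ⊕ Fin m) (Fin m ⊕ Fin m) F) with hY
  have hYr : Y ^ r = 1 := by
    rw [hY, ← Units.val_pow_eq_pow_val, hyr]
    rfl
  have hpres : ∀ u v : Fin m ⊕ Fin m → F,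
      Cfsg.sympForm m F (Y *ᵥ u) (Y *ᵥ v) = Cfsg.sympForm m F u v := hy
  -- the linear map
  set f : Module.End F (Fin m ⊕ Fin m → F) := Matrix.toLinAlgEquiv' Y with hf
  have hfv : ∀ v, f v = Y *ᵥ v := fun v => Matrix.toLinAlgEquiv'_apply Y v
  have hfr : f ^ r = 1 := by
    rw [hf, ← map_pow, hYr, map_one]
  set S : Submodule F (Fin m ⊕ Fin m → F) := supp Y with hS
  set K : Submodule F (Fin m ⊕ Fin m → F) := LinearMap.ker (Y - 1).mulVecLin with hK
  have hmemS : ∀ s, s ∈ S ↔ ∃ u, (Y - 1) *ᵥ u = s := by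
    intro s
    rw [hS, supp, LinearMap.mem_range]
    rfl
  have hmemK : ∀ w, w ∈ K ↔ Y *ᵥ w = w := by
    intro w
    rw [hK, LinearMap.mem_ker, Matrix.mulVecLin_apply, Matrix.sub_mulVec, Matrix.one_mulVec,
      sub_eq_zero]
  -- rank-nullity
  have hrn : finrank F S + finrank F K = 2 * m := by
    have := LinearMap.finrank_range_add_finrank_ker (Y - 1).mulVecLin
    rw [Module.finrank_fintype_fun_eq_card, Fintype.card_sum, Fintype.card_fin] at this
    rw [hS, supp, hK]
    omega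
  -- `S` is `f`-invariant and killed by `Φ_r(f)`
  have hSinv : Cfsg.Agent.Helper59.InvChain.Inv f S := by
    rw [Cfsg.Agent.Helper59.InvChain.inv_iff]
    intro s hs
    obtain ⟨u, rfl⟩ := (hmemS s).mp hs
    rw [hmemS]
    refine ⟨Y *ᵥ u, ?_⟩
    rw [hfv, Matrix.mulVec_mulVec, Matrix.mulVec_mulVec]
    congr 1
    rw [sub_mul, mul_sub, one_mul, mul_one]
  have hkill : ∀ s ∈ S, (aeval f (cyclotomic r F)) s = 0 := by
    intro s hs
    obtain ⟨u, rfl⟩ := (hmemS s).mp hs
    have h1 : (Y - 1) *ᵥ u = (aeval f (X - 1 : F[X])) u := by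
      rw [map_sub, aeval_X, map_one, LinearMap.sub_apply, hfv, Module.End.one_apply,
        Matrix.sub_mulVec, Matrix.one_mulVec]
    rw [h1, ← Module.End.mul_apply, ← map_mul, cyclotomic_prime_mul_X_sub_one, map_sub, map_pow,
      aeval_X, map_one, hfr, sub_self, LinearMap.zero_apply]
  -- the order of `q` mod `r`
  set e := orderOf ((Fintype.card F : ℕ) : ZMod r) with he
  have hpow : ((Fintype.card F : ℕ) : ZMod r) ^ (2 * m) = 1 := by
    have h1 : ((Fintype.card F ^ (2 * m) - 1 : ℕ) : ZMod r) = 0 :=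
      (ZMod.natCast_eq_zero_iff _ _).mpr hrm
    rw [Nat.cast_sub (Nat.one_le_pow _ _ hq1), Nat.cast_pow, Nat.cast_one, sub_eq_zero] at h1
    exact h1
  have hepos : 0 < e := by
    rw [he, orderOf_pos_iff, isOfFinOrder_iff_pow_eq_one]
    exact ⟨2 * m, by omega, hpow⟩
  have hedvd : e ∣ finrank F S :=
    Cfsg.Agent.Helper59.InvChain.dvd_finrank_of_inv f (cyclotomic r F) e hepos
      (Cfsg.Agent.Helper59.Elusive.HP_cyclotomic r hrp) S hSinv hkill
  -- `S ≠ 0`
  have hSpos : finrank F S ≠ 0 := by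
    intro h0
    have h1 : S = ⊥ := Submodule.finrank_eq_zero.mp h0
    have h2 : (Y - 1).mulVecLin = 0 := by
      rw [hS, supp] at h1
      exact LinearMap.range_eq_bot.mp h1
    have h3 : Matrix.toLin' (Y - 1) = 0 := h2
    have h4 : Y - 1 = 0 := (Matrix.toLin'.map_eq_zero_iff).mp h3
    apply hy1
    apply Units.ext
    rw [Units.val_one]
    exact sub_eq_zero.mp h4
  -- `S ⊓ K = ⊥`
  have hdisj : S ⊓ K = ⊥ := by
    rw [eq_bot_iff]
    intro v hv
    have h1 : v ∈ Cfsg.Agent.Helper59.Elusive.cycSp r f := by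
      show v ∈ LinearMap.ker (aeval f (cyclotomic r F))
      rw [LinearMap.mem_ker]
      exact hkill v hv.1
    have h2 : v ∈ Cfsg.Agent.Helper59.Elusive.fixSp f := by
      rw [Cfsg.Agent.Helper59.Elusive.mem_fixSp, hfv]
      exact (hmemK v).mp hv.2
    have h3 : v ∈ Cfsg.Agent.Helper59.Elusive.fixSp f ⊓ Cfsg.Agent.Helper59.Elusive.cycSp r f :=
      ⟨h2, h1⟩
    rw [Cfsg.Agent.Helper59.Elusive.disjoint_fix_cyc r hrF f] at h3
    exact h3
  have hsup : S ⊔ K = ⊤ := by
    apply Submodule.eq_top_of_finrank_eq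
    have := Submodule.finrank_sup_add_finrank_inf_eq S K
    rw [hdisj, finrank_bot, add_zero, hrn] at this
    rw [this, Module.finrank_fintype_fun_eq_card, Fintype.card_sum, Fintype.card_fin]
    omega
  -- `S ⊥ K`
  have hperp : ∀ s ∈ S, ∀ w ∈ K, Cfsg.sympForm m F s w = 0 := by
    intro s hs w hw
    obtain ⟨u, rfl⟩ := (hmemS s).mp hs
    have hw' := (hmemK w).mp hw
    rw [Matrix.sub_mulVec, Matrix.one_mulVec, Cfsg.Agent.Helper13.sympForm_sub_left]
    have h1 : Cfsg.sympForm m F (Y *ᵥ u) w = Cfsg.sympForm m F u w := by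
      conv_lhs => rw [← hw']
      exact hpres u w
    rw [h1, sub_self]
  -- nondegeneracy on `S`
  have hnd : ∀ s ∈ S, (∀ s' ∈ S, Cfsg.sympForm m F s s' = 0) → s = 0 := by
    intro s hs hss
    by_contra hne
    obtain ⟨x, hx⟩ := Cfsg.Agent.Helper13.sympForm_nondeg_left hne
    apply hx
    have hxtop : x ∈ S ⊔ K := by
      rw [hsup]
      exact Submodule.mem_top
    obtain ⟨a, ha, b, hb, rfl⟩ := Submodule.mem_sup.mp hxtop
    rw [Cfsg.Agent.Helper13.sympForm_add_left]
    have h1 : Cfsg.sympForm m F a s = 0 := by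
      rw [Cfsg.Agent.Helper13.sympForm_swap, hss a ha, neg_zero]
    have h2 : Cfsg.sympForm m F b s = 0 := by
      rw [Cfsg.Agent.Helper13.sympForm_swap, hperp s hs b hb, neg_zero]
    rw [h1, h2, add_zero]
  have heven : Even (finrank F S) := even_finrank_of_nondegOn m S hnd
  -- arithmetic
  obtain ⟨j, hj⟩ := heven
  have hj0 : 0 < j := by omega
  have hjm : j ≤ m := by omega
  rcases Nat.lt_or_ge j m with hlt | hge
  · exfalso
    apply hmin j hj0 hlt
    have h1 : ((Fintype.card F : ℕ) : ZMod r) ^ (2 * j) = 1 := by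
      apply orderOf_dvd_iff_pow_eq_one.mp
      have : 2 * j = finrank F S := by omega
      rw [this]
      exact hedvd
    rw [← ZMod.natCast_eq_zero_iff, Nat.cast_sub (Nat.one_le_pow _ _ hq1), Nat.cast_pow,
      Nat.cast_one, h1, sub_self]
  · show finrank F S = 2 * m
    omega

end Cfsg.Agent.Helper70.FExtS1a
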