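import Mathlib
import Cfsg.Agent.Helper5.OmBN.Defs

/-!
# (COMSG) for helper5's S2549 farm (#11880): the commutator of two Siegel elements `E_{e,z}`, `E_{f,v}`
(`e`, `f`, `rev e`, `rev f`, `c1`, `c2` pairwise distinct) is the root element `x_{e, rev f}(-β(z, v))`.
-/

set_option autoImplicit false
set_option linter.unusedSimpArgs false

namespace Cfsg.Agent.Helper70.OmBN

open Matrix Cfsg Cfsg.Agent.Helper5.OmBN

variable {F : Type*} [Field F] {m : ℕ} {α β : F}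

theorem comsg_rev_ne_self (e : Fin (2 * m + 2)) : Fin.rev e ≠ e := by
  intro h
  have := congrArg Fin.val h
  rw [Fin.val_rev] at this
  omega

/-- the abstract identity: six pairwise distinct positions `e f e' f' a b` -/
theorem comsg_aux (e f e' f' a b : Fin (2 * m + 2))
    (hef : e ≠ f) (hee' : e ≠ e') (hef' : e ≠ f') (hea : e ≠ a) (heb : e ≠ b)
    (hfe' : f ≠ e') (hff' : f ≠ f') (hfa : f ≠ a) (hfb : f ≠ b)
    (he'f' : e' ≠ f') (he'a : e' ≠ a) (he'b : e' ≠ b) (hf'a : f' ≠ a) (hf'b : f' ≠ b) (hab : a ≠ b)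
    (z1 z2 v1 v2 : F) :
    (1 + (2 * z1 + α * z2) • Matrix.single e a (1 : F) + (α * z1 + 2 * β * z2) • Matrix.single e b (1 : F)
      - z1 • Matrix.single a e' (1 : F) - z2 • Matrix.single b e' (1 : F)
      - Nf α β z1 z2 • Matrix.single e e' (1 : F)) *
    (1 + (2 * v1 + α * v2) • Matrix.single f a (1 : F) + (α * v1 + 2 * β * v2) • Matrix.single f b (1 : F)
      - v1 • Matrix.single a f' (1 : F) - v2 • Matrix.single b f' (1 : F)
      - Nf α β v1 v2 • Matrix.single f f' (1 : F)) *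
    (1 + (2 * (-z1) + α * (-z2)) • Matrix.single e a (1 : F)
      + (α * (-z1) + 2 * β * (-z2)) • Matrix.single e b (1 : F)
      - (-z1) • Matrix.single a e' (1 : F) - (-z2) • Matrix.single b e' (1 : F)
      - Nf α β (-z1) (-z2) • Matrix.single e e' (1 : F)) *
    (1 + (2 * (-v1) + α * (-v2)) • Matrix.single f a (1 : F)
      + (α * (-v1) + 2 * β * (-v2)) • Matrix.single f b (1 : F)
      - (-v1) • Matrix.single a f' (1 : F) - (-v2) • Matrix.single b f' (1 : F)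
      - Nf α β (-v1) (-v2) • Matrix.single f f' (1 : F)) =
    (1 + (-(Nb α β z1 z2 v1 v2)) • Matrix.single e f' (1 : F)
      - (-(Nb α β z1 z2 v1 v2)) • Matrix.single f e' (1 : F) :
        Matrix (Fin (2 * m + 2)) (Fin (2 * m + 2)) F) := by
  have z : ∀ (i j k l : Fin (2 * m + 2)) (c d : F), j ≠ k →
      Matrix.single i j c * Matrix.single k l d = (0 : Matrix (Fin (2 * m + 2)) (Fin (2 * m + 2)) F) :=
    fun i j k l c d h => Matrix.single_mul_single_of_ne c i j k h d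
  simp only [add_mul, mul_add, sub_mul, mul_sub, Matrix.smul_mul, Matrix.mul_smul, one_mul, mul_one,
    Matrix.single_mul_single_same,
    z _ _ _ _ _ _ hef, z _ _ _ _ _ _ hee', z _ _ _ _ _ _ hef', z _ _ _ _ _ _ hea, z _ _ _ _ _ _ heb,
    z _ _ _ _ _ _ hfe', z _ _ _ _ _ _ hff', z _ _ _ _ _ _ hfa, z _ _ _ _ _ _ hfb,
    z _ _ _ _ _ _ he'f', z _ _ _ _ _ _ he'a, z _ _ _ _ _ _ he'b, z _ _ _ _ _ _ hf'a, z _ _ _ _ _ _ hf'b,
    z _ _ _ _ _ _ hab,
    z _ _ _ _ _ _ hef.symm, z _ _ _ _ _ _ hee'.symm, z _ _ _ _ _ _ hef'.symm, z _ _ _ _ _ _ hea.symm,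
    z _ _ _ _ _ _ heb.symm,
    z _ _ _ _ _ _ hfe'.symm, z _ _ _ _ _ _ hff'.symm, z _ _ _ _ _ _ hfa.symm, z _ _ _ _ _ _ hfb.symm,
    z _ _ _ _ _ _ he'f'.symm, z _ _ _ _ _ _ he'a.symm, z _ _ _ _ _ _ he'b.symm, z _ _ _ _ _ _ hf'a.symm,
    z _ _ _ _ _ _ hf'b.symm, z _ _ _ _ _ _ hab.symm,
    smul_zero, sub_zero, add_zero, zero_add, zero_sub, neg_zero]
  unfold Nf Nb
  module

/-- (COMSG) the commutator of two Siegel elements is a root element of kind I -/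
theorem sgMat_comm (e f : Fin (2 * m + 2)) (he1 : e ≠ c1) (he2 : e ≠ c2) (hf1 : f ≠ c1) (hf2 : f ≠ c2)
    (hef : e ≠ f) (hef' : e ≠ Fin.rev f) (z1 z2 v1 v2 : F) :
    sgMat α β e z1 z2 * sgMat α β f v1 v2 * sgMat α β e (-z1) (-z2) * sgMat α β f (-v1) (-v2) =
      xMat e (Fin.rev f) (-(Nb α β z1 z2 v1 v2)) := by
  have hre1 : Fin.rev e ≠ c1 := fun h => he2 (by rw [← Fin.rev_rev e, h, rev_c1])
  have hre2 : Fin.rev e ≠ c2 := fun h => he1 (by rw [← Fin.rev_rev e, h, rev_c2])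
  have hrf1 : Fin.rev f ≠ c1 := fun h => hf2 (by rw [← Fin.rev_rev f, h, rev_c1])
  have hrf2 : Fin.rev f ≠ c2 := fun h => hf1 (by rw [← Fin.rev_rev f, h, rev_c2])
  have hfe' : f ≠ Fin.rev e := fun h => hef' (by rw [h, Fin.rev_rev])
  have he'f' : Fin.rev e ≠ Fin.rev f := fun h => hef (Fin.rev_injective h)
  have h := comsg_aux (α := α) (β := β) e f (Fin.rev e) (Fin.rev f) c1 c2 hef
    (comsg_rev_ne_self e).symm hef' he1 he2 hfe' (comsg_rev_ne_self f).symm hf1 hf2 he'f' hre1 hre2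
    hrf1 hrf2 c1_ne_c2 z1 z2 v1 v2
  unfold sgMat xMat
  rw [Fin.rev_rev]
  exact h

end Cfsg.Agent.Helper70.OmBN
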