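import Mathlib
import Cfsg.Agent.Helper5.OmBN.Defs

/-!
# (OMV) for helper5's S2549 farm (#11880): the root elements of kind V (Siegel elements `E_{e,w}`) are
commutators `⁅h, E_{e,w₀}⁆`, `h` the rotation by `ξ = θ̄/θ` of the middle plane, `(R - 1) w₀ = w`.
-/

set_option autoImplicit false

namespace Cfsg.Agent.Helper70.OmBN

open Matrix Cfsg Cfsg.Agent.Helper5.OmBN

variable {F : Type*} [Field F] {m : ℕ} {α β : F}

theorem omv_sgMat_zero (e : Fin (2 * m + 2)) : sgMat α β e 0 0 = 1 := by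
  unfold sgMat Nf
  simp

/-- the inverse of a Siegel element of the group -/
theorem omv_mat_inv (hSM : ∀ (e : Fin (2 * m + 2)), e ≠ c1 → e ≠ c2 → ∀ (w1 w2 v1 v2 : F),
      sgMat α β e w1 w2 * sgMat α β e v1 v2 = sgMat α β e (w1 + v1) (w2 + v2))
    (e : Fin (2 * m + 2)) (he1 : e ≠ c1) (he2 : e ≠ c2) (w1 w2 : F) (g : OG m α β)
    (hg : mat g = sgMat α β e w1 w2) : mat g⁻¹ = sgMat α β e (-w1) (-w2) := by
  rw [mat_inv_eq, hg]
  apply Matrix.inv_eq_left_inv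
  rw [hSM e he1 he2, neg_add_cancel, neg_add_cancel, omv_sgMat_zero]

/-- `β ≠ 0` for an anisotropic form -/
theorem omv_beta_ne_zero (hab : ∀ z₁ z₂ : F, Nf α β z₁ z₂ = 0 → z₁ = 0 ∧ z₂ = 0) : β ≠ 0 := by
  intro hβ
  have h := hab 0 1 (by unfold Nf; rw [hβ]; ring)
  exact one_ne_zero h.2

/-- the rotation `ξ = θ̄/θ` has norm one -/
theorem omv_norm_one (hβ : β ≠ 0) : Nf α β ((α ^ 2 - β) / β) (-α / β) = 1 := by
  unfold Nf
  field_simp
  ring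

/-- `ξ - 1` has non-zero norm -/
theorem omv_norm_ne_zero (hab : ∀ z₁ z₂ : F, Nf α β z₁ z₂ = 0 → z₁ = 0 ∧ z₂ = 0)
    (hdisc : 4 * β - α ^ 2 ≠ 0) : Nf α β ((α ^ 2 - β) / β - 1) (-α / β) ≠ 0 := by
  have hβ : β ≠ 0 := omv_beta_ne_zero hab
  intro h0
  obtain ⟨h1, h2⟩ := hab _ _ h0
  have hα : α = 0 := by
    rw [div_eq_zero_iff] at h2
    rcases h2 with h2 | h2
    · exact neg_eq_zero.mp h2
    · exact absurd h2 hβ
  apply hdisc
  rw [hα] at h1 ⊢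
  have h3 : (0 ^ 2 - β) / β - 1 = (-2 : F) := by
    field_simp
    ring
  rw [h3] at h1
  have h2' : (2 : F) = 0 := by
    have := neg_eq_zero.mp h1
    exact this
  have h4 : (4 : F) = 2 * 2 := by norm_num
  rw [h4, h2']
  ring

/-- solving `(R - 1) w₀ = w` -/
theorem omv_solve (x y : F) (hd : Nf α β (x - 1) y ≠ 0) (w1 w2 : F) :
    ∃ u1 u2 : F, x * u1 - β * y * u2 + -u1 = w1 ∧ y * u1 + (x + α * y) * u2 + -u2 = w2 := by
  refine ⟨((x + α * y - 1) * w1 + β * y * w2) / Nf α β (x - 1) y,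
    (-y * w1 + (x - 1) * w2) / Nf α β (x - 1) y, ?_, ?_⟩
  · field_simp
    unfold Nf
    ring
  · field_simp
    unfold Nf
    ring

/-- (OMV) the root elements of kind V are commutators -/
theorem XsetV_subset_commutator (hSG : HasSG m α β) (hRot : HasRot m α β)
    (hRS : ∀ (x y : F), Nf α β x y = 1 → ∀ (e : Fin (2 * m + 2)), e ≠ c1 → e ≠ c2 → ∀ (w1 w2 : F),
      rotMat α β x y * sgMat α β e w1 w2 =
        sgMat α β e (x * w1 - β * y * w2) (y * w1 + (x + α * y) * w2) * rotMat α β x y)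
    (hSM : ∀ (e : Fin (2 * m + 2)), e ≠ c1 → e ≠ c2 → ∀ (w1 w2 v1 v2 : F),
      sgMat α β e w1 w2 * sgMat α β e v1 v2 = sgMat α β e (w1 + v1) (w2 + v2))
    (hab : ∀ z₁ z₂ : F, Nf α β z₁ z₂ = 0 → z₁ = 0 ∧ z₂ = 0) (hdisc : 4 * β - α ^ 2 ≠ 0)
    (k : Fin m) (hk : k.val + 1 = m) :
    Xset α β k ⊆ ((commutator (OG m α β) : Subgroup (OG m α β)) : Set (OG m α β)) := by
  intro x hx
  rcases hx with ⟨hk', -⟩ | ⟨-, w1, w2, hw⟩
  · omega
  have hβ : β ≠ 0 := omv_beta_ne_zero hab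
  have hN1 := omv_norm_one (α := α) hβ
  have hd := omv_norm_ne_zero hab hdisc
  obtain ⟨u1, u2, hu1, hu2⟩ := omv_solve (α := α) (β := β) _ _ hd w1 w2
  have he1 : lo k ≠ c1 := lo_ne_c1 k
  have he2 : lo k ≠ c2 := lo_ne_c2 k
  obtain ⟨h, hh⟩ := hRot _ _ hN1
  obtain ⟨y, hy⟩ := hSG (lo k) he1 he2 u1 u2
  have hx : x = h * y * h⁻¹ * y⁻¹ := by
    apply mat_injective
    rw [mat_mul, mat_mul, mat_mul, hh, hy, hRS _ _ hN1 _ he1 he2, ← hh, Matrix.mul_assoc (sgMat _ _ _ _ _),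
      mul_inv_mat, Matrix.mul_one, omv_mat_inv hSM _ he1 he2 u1 u2 y hy, hSM _ he1 he2, hu1, hu2, hw]
  rw [hx, ← commutatorElement_def]
  exact Subgroup.commutator_mem_commutator (Subgroup.mem_top _) (Subgroup.mem_top _)

end Cfsg.Agent.Helper70.OmBN
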