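import Mathlib

/-!
# Piece (X-G) of helper16's defect-one engine (#4952 / #5247): the class count
`f · k(G) = f · r(G) + (p - 1) · r(C_G(P))` for a Sylow `p`-subgroup `P` of order `p`,
`f = |N_G(P) : C_G(P)|`, `r` = number of `p`-regular classes.
-/

set_option autoImplicit false
set_option linter.style.haveILetI false
set_option linter.unusedSectionVars false

namespace Cfsg.Agent.Helper70.DefOneXG

universe u

open Pointwise

/-- the conjugation action restricted to a conjugation-invariant predicate -/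
def predSub (G : Type*) [Group G] (R : G → Prop) (hR : ∀ x g : G, R g → R (x * g * x⁻¹)) :
    SubMulAction (ConjAct G) G where
  carrier := {t | R t}
  smul_mem' := by
    intro g t ht
    simp only [Set.mem_ofPred_eq] at ht ⊢
    rw [ConjAct.smul_def]
    exact hR _ _ ht

/-- **Restricted Burnside count**: commuting pairs whose first entry satisfies a conjugation
invariant predicate. -/
theorem card_commPairs_pred {G : Type*} [Group G] [Finite G] (R : G → Prop)
    (hR : ∀ x g : G, R g → R (x * g * x⁻¹)) :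
    Nat.card {q : G × G // R q.1 ∧ q.1 * q.2 = q.2 * q.1} =
      Nat.card {c : ConjClasses G // ∃ g : G, ConjClasses.mk g = c ∧ R g} * Nat.card G := by
  classical
  haveI : Fintype G := Fintype.ofFinite G
  have hB := MulAction.sum_card_fixedBy_eq_card_orbits_mul_card_group (ConjAct G)
    ↥(predSub G R hR)
  let e1 : {q : G × G // R q.1 ∧ q.1 * q.2 = q.2 * q.1} ≃
      Σ g : ConjAct G, MulAction.fixedBy ↥(predSub G R hR) g :=
    { toFun := fun q => ⟨ConjAct.toConjAct q.1.2, ⟨⟨q.1.1, q.2.1⟩, by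
        rw [MulAction.mem_fixedBy]
        apply Subtype.ext
        show ConjAct.toConjAct q.1.2 • q.1.1 = q.1.1
        rw [ConjAct.smul_def, ConjAct.ofConjAct_toConjAct, ← q.2.2, mul_inv_cancel_right]⟩⟩
      invFun := fun s => ⟨(s.2.1.1, ConjAct.ofConjAct s.1), s.2.1.2, by
        have h1 := s.2.2
        rw [MulAction.mem_fixedBy] at h1
        have h2 : s.1 • (s.2.1.1 : G) = s.2.1.1 := congrArg Subtype.val h1
        rw [ConjAct.smul_def] at h2
        show (s.2.1.1 : G) * ConjAct.ofConjAct s.1 = ConjAct.ofConjAct s.1 * (s.2.1.1 : G)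
        conv_lhs => rw [← h2]
        group⟩
      left_inv := by
        rintro ⟨⟨t, x⟩, h1, h2⟩
        rfl
      right_inv := by
        rintro ⟨g, ⟨⟨t, ht⟩, hfix⟩⟩
        rfl }
  let f : Quotient (MulAction.orbitRel (ConjAct G) ↥(predSub G R hR)) →
      {c : ConjClasses G // ∃ g : G, ConjClasses.mk g = c ∧ R g} :=
    Quotient.lift (fun t : ↥(predSub G R hR) => ⟨ConjClasses.mk (t : G), (t : G), rfl, t.2⟩) (by
      intro t t' htt'
      apply Subtype.ext
      show ConjClasses.mk (t : G) = ConjClasses.mk (t' : G)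
      rw [ConjClasses.mk_eq_mk_iff_isConj]
      have h1 : t ∈ MulAction.orbit (ConjAct G) t' := htt'
      obtain ⟨g, hg⟩ := h1
      have h2 : g • (t' : G) = (t : G) := congrArg Subtype.val hg
      rw [ConjAct.smul_def] at h2
      rw [isConj_comm, isConj_iff]
      exact ⟨ConjAct.ofConjAct g, h2⟩)
  have hf : Function.Bijective f := by
    constructor
    · intro a b hab
      induction a using Quotient.inductionOn with
      | _ t =>
      induction b using Quotient.inductionOn with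
      | _ t' =>
      have h1 : ConjClasses.mk (t : G) = ConjClasses.mk (t' : G) := congrArg Subtype.val hab
      rw [ConjClasses.mk_eq_mk_iff_isConj, isConj_comm, isConj_iff] at h1
      obtain ⟨c, hc⟩ := h1
      apply Quotient.sound
      show t ∈ MulAction.orbit (ConjAct G) t'
      refine ⟨ConjAct.toConjAct c, ?_⟩
      apply Subtype.ext
      show ConjAct.toConjAct c • (t' : G) = (t : G)
      rw [ConjAct.smul_def, ConjAct.ofConjAct_toConjAct]
      exact hc
    · rintro ⟨c, t, rfl, ht⟩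
      exact ⟨Quotient.mk _ ⟨t, ht⟩, rfl⟩
  rw [Nat.card_congr e1, Nat.card_eq_fintype_card, Fintype.card_sigma, hB,
    ← Nat.card_congr (Equiv.ofBijective f hf), Nat.card_eq_fintype_card, ConjAct.card,
    Nat.card_eq_fintype_card]

section Sylow

variable {G : Type u} [Group G] {p : ℕ} [hp : Fact p.Prime]

/-- a `p`-element normalizing a Sylow `p`-subgroup lies in it -/
theorem mem_sylow_of_pow (Q : Sylow p G) {u : G} {k : ℕ} (hu : u ^ p ^ k = 1)
    (hn : u ∈ Subgroup.normalizer ((Q : Subgroup G) : Set G)) : u ∈ (Q : Subgroup G) := by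
  have h1 : IsPGroup p (Subgroup.zpowers u) := by
    have h2 : orderOf u ∣ p ^ k := orderOf_dvd_of_pow_eq_one hu
    obtain ⟨j, -, hj⟩ := (Nat.dvd_prime_pow hp.out).mp h2
    exact IsPGroup.of_card (n := j) (by rw [Nat.card_zpowers, hj])
  have h3 : Subgroup.zpowers u ≤ Subgroup.normalizer ((Q : Subgroup G) : Set G) := by
    rw [Subgroup.zpowers_le]
    exact hn
  have h4 := IsPGroup.to_sup_of_normal_right' h1 Q.2 h3
  have h5 := Q.is_maximal' h4 le_sup_right
  have h6 : Subgroup.zpowers u ≤ (Q : Subgroup G) := by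
    rw [← h5]
    exact le_sup_left
  exact h6 (Subgroup.mem_zpowers u)

/-- in a Sylow subgroup of order `p` every nontrivial element generates -/
theorem zpowers_eq_sylow [Finite G] (Q : Sylow p G) (hQ : Nat.card Q = p) {u : G}
    (hu : u ∈ (Q : Subgroup G)) (hu1 : u ≠ 1) : Subgroup.zpowers u = (Q : Subgroup G) := by
  apply Subgroup.eq_of_le_of_card_ge
  · rw [Subgroup.zpowers_le]
    exact hu
  · rw [Nat.card_zpowers]
    have h1 : orderOf u ∣ p := by
      have := orderOf_dvd_natCard (⟨u, hu⟩ : ↥(Q : Subgroup G))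
      rw [hQ, ← Subgroup.orderOf_coe] at this
      exact this
    rcases (Nat.dvd_prime hp.out).mp h1 with h2 | h2
    · exact absurd (orderOf_eq_one_iff.mp h2) hu1
    · rw [h2]
      exact le_of_eq hQ

/-- a `p`-singular element has a power of order `p` -/
theorem exists_pow_orderOf_eq [Finite G] {g : G} (hg : p ∣ orderOf g) :
    ∃ n : ℕ, orderOf (g ^ n) = p :=
  ⟨orderOf g / p, orderOf_pow_orderOf_div (orderOf_pos g).ne' hg⟩

/-- all Sylow `p`-subgroups have order `p` if one has -/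
theorem card_sylow_eq [Finite G] (P Q : Sylow p G) (hP : Nat.card P = p) : Nat.card Q = p := by
  rw [Sylow.card_eq_multiplicity] at hP ⊢
  exact hP

/-- existence of the Sylow subgroup centralized by a `p`-singular element -/
theorem exists_sylow_centralizer [Finite G] (P : Sylow p G) (hP : Nat.card P = p) {g : G}
    (hg : p ∣ orderOf g) :
    ∃ Q : Sylow p G, g ∈ Subgroup.centralizer ((Q : Subgroup G) : Set G) := by
  obtain ⟨n, hn⟩ := exists_pow_orderOf_eq hg
  have h1 : IsPGroup p (Subgroup.zpowers (g ^ n)) :=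
    IsPGroup.of_card (n := 1) (by rw [Nat.card_zpowers, hn, pow_one])
  obtain ⟨Q, hQ⟩ := IsPGroup.exists_le_sylow h1
  have hu : g ^ n ∈ (Q : Subgroup G) := hQ (Subgroup.mem_zpowers _)
  have hu1 : g ^ n ≠ 1 := by
    intro h
    rw [h, orderOf_one] at hn
    exact hp.out.one_lt.ne hn
  have h2 := zpowers_eq_sylow Q (card_sylow_eq P Q hP) hu hu1
  refine ⟨Q, ?_⟩
  rw [← h2, Subgroup.mem_centralizer_iff]
  intro h hh
  obtain ⟨k, rfl⟩ := Subgroup.mem_zpowers_iff.mp hh
  exact (((Commute.refl g).pow_left n).zpow_left k).eq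

/-- uniqueness of the Sylow subgroup centralized by a `p`-singular element -/
theorem sylow_centralizer_unique [Finite G] (P : Sylow p G) (hP : Nat.card P = p) {g : G}
    (hg : p ∣ orderOf g) (Q Q' : Sylow p G)
    (h : g ∈ Subgroup.centralizer ((Q : Subgroup G) : Set G))
    (h' : g ∈ Subgroup.centralizer ((Q' : Subgroup G) : Set G)) : Q = Q' := by
  obtain ⟨n, hn⟩ := exists_pow_orderOf_eq hg
  have hu1 : g ^ n ≠ 1 := by
    intro h
    rw [h, orderOf_one] at hn
    exact hp.out.one_lt.ne hn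
  have hup : (g ^ n) ^ p ^ 1 = 1 := by rw [pow_one, ← hn, pow_orderOf_eq_one]
  have key : ∀ R : Sylow p G, g ∈ Subgroup.centralizer ((R : Subgroup G) : Set G) →
      Subgroup.zpowers (g ^ n) = (R : Subgroup G) := by
    intro R hR
    have h1 : g ^ n ∈ Subgroup.normalizer ((R : Subgroup G) : Set G) :=
      Subgroup.centralizer_le_normalizer _ (Subgroup.pow_mem _ hR n)
    exact zpowers_eq_sylow R (card_sylow_eq P R hP) (mem_sylow_of_pow R hup h1) hu1
  apply Sylow.ext
  rw [← key Q h, ← key Q' h']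

/-- the decomposition of an element into its `p`-part and `p'`-part -/
theorem exists_pPart_decomp [Finite G] (g : G) :
    ∃ u y : G, u ∈ Subgroup.zpowers g ∧ y ∈ Subgroup.zpowers g ∧ u * y = g ∧
      (∃ k : ℕ, u ^ p ^ k = 1) ∧ ¬ p ∣ orderOf y := by
  obtain ⟨e, m, hm, hn⟩ := Nat.exists_eq_pow_mul_and_not_dvd (orderOf_pos g).ne' p
    hp.out.one_lt.ne'
  have hcop : Nat.Coprime (p ^ e) m :=
    Nat.Coprime.pow_left e ((Nat.Prime.coprime_iff_not_dvd hp.out).2 hm)
  have hb := Nat.gcd_eq_gcd_ab (p ^ e) m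
  rw [hcop.gcd_eq_one, Nat.cast_one] at hb
  set a := Nat.gcdA (p ^ e) m with ha
  set b := Nat.gcdB (p ^ e) m with hb'
  refine ⟨(g ^ m) ^ b, (g ^ (p ^ e)) ^ a, ?_, ?_, ?_, ⟨e, ?_⟩, ?_⟩
  · exact Subgroup.zpow_mem _ (Subgroup.pow_mem _ (Subgroup.mem_zpowers g) _) _
  · exact Subgroup.zpow_mem _ (Subgroup.pow_mem _ (Subgroup.mem_zpowers g) _) _
  · rw [← zpow_natCast g m, ← zpow_natCast g (p ^ e), ← zpow_mul, ← zpow_mul, ← zpow_add]
    have : (m : ℤ) * b + ((p ^ e : ℕ) : ℤ) * a = 1 := by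
      rw [add_comm]; exact hb.symm
    rw [this, zpow_one]
  · rw [← zpow_natCast, ← zpow_mul, mul_comm, zpow_mul, zpow_natCast, ← pow_mul, mul_comm, ← hn,
      pow_orderOf_eq_one, one_zpow]
  · intro hdvd
    apply hm
    have h1 : ((g ^ (p ^ e)) ^ a) ^ m = 1 := by
      rw [← zpow_natCast, ← zpow_mul, mul_comm, zpow_mul, zpow_natCast, ← pow_mul, ← hn,
        pow_orderOf_eq_one, one_zpow]
    exact hdvd.trans (orderOf_dvd_of_pow_eq_one h1)

/-- conjugation invariance of the count of `p`-singular commuting pairs over a centralizer -/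
theorem card_TT_conj (Q : Subgroup G) (x : G) :
    Nat.card {q : G × G // q.1 ∈ Subgroup.centralizer ((MulAut.conj x • Q : Subgroup G) : Set G) ∧
        p ∣ orderOf q.1 ∧ q.1 * q.2 = q.2 * q.1} =
      Nat.card {q : G × G // q.1 ∈ Subgroup.centralizer (Q : Set G) ∧
        p ∣ orderOf q.1 ∧ q.1 * q.2 = q.2 * q.1} := by
  symm
  refine Nat.card_congr (Equiv.subtypeEquiv
    ((MulAut.conj x).toEquiv.prodCongr (MulAut.conj x).toEquiv) ?_)
  rintro ⟨g, h⟩
  simp only [Equiv.prodCongr_apply, MulEquiv.toEquiv_eq_coe, MulEquiv.coe_toEquiv, Prod.map_fst,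
    Prod.map_snd, MulAut.conj_apply]
  have h1 : x * g * x⁻¹ ∈ Subgroup.centralizer ((MulAut.conj x • Q : Subgroup G) : Set G) ↔
      g ∈ Subgroup.centralizer (Q : Set G) := by
    rw [Subgroup.mem_centralizer_iff, Subgroup.mem_centralizer_iff]
    constructor
    · intro hc a ha
      have h2 : x * a * x⁻¹ ∈ (MulAut.conj x • Q : Subgroup G) := by
        have := Subgroup.smul_mem_pointwise_smul a (MulAut.conj x) Q ha
        simpa [MulAut.smul_def] using this
      have h3 := hc _ h2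
      have h4 : x * (a * g) * x⁻¹ = x * (g * a) * x⁻¹ := by
        calc x * (a * g) * x⁻¹ = x * a * x⁻¹ * (x * g * x⁻¹) := by group
          _ = x * g * x⁻¹ * (x * a * x⁻¹) := h3
          _ = x * (g * a) * x⁻¹ := by group
      exact mul_left_cancel (mul_right_cancel h4)
    · intro hc a ha
      have ha' : a ∈ ((MulAut.conj x • Q : Subgroup G) : Set G) := ha
      rw [Subgroup.coe_pointwise_smul, Set.mem_smul_set] at ha'
      obtain ⟨a0, ha0, rfl⟩ := ha'
      have h3 := hc a0 ha0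
      rw [MulAut.smul_def, MulAut.conj_apply]
      calc x * a0 * x⁻¹ * (x * g * x⁻¹) = x * (a0 * g) * x⁻¹ := by group
        _ = x * (g * a0) * x⁻¹ := by rw [h3]
        _ = x * g * x⁻¹ * (x * a0 * x⁻¹) := by group
  have h2 : orderOf (x * g * x⁻¹) = orderOf g := (MulAut.conj x).orderOf_eq g
  have h3 : x * g * x⁻¹ * (x * h * x⁻¹) = x * h * x⁻¹ * (x * g * x⁻¹) ↔ g * h = h * g := by
    constructor
    · intro hc
      have h4 : x * (g * h) * x⁻¹ = x * (h * g) * x⁻¹ := by
        calc x * (g * h) * x⁻¹ = x * g * x⁻¹ * (x * h * x⁻¹) := by group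
          _ = x * h * x⁻¹ * (x * g * x⁻¹) := hc
          _ = x * (h * g) * x⁻¹ := by group
      exact mul_left_cancel (mul_right_cancel h4)
    · intro hc
      calc x * g * x⁻¹ * (x * h * x⁻¹) = x * (g * h) * x⁻¹ := by group
        _ = x * (h * g) * x⁻¹ := by rw [hc]
        _ = x * h * x⁻¹ * (x * g * x⁻¹) := by group
  rw [h1, h2, h3]

/-- a Sylow subgroup of order `p` is contained in its centralizer -/
theorem sylow_le_centralizer [Finite G] (P : Sylow p G) (hP : Nat.card P = p) :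
    (P : Subgroup G) ≤ Subgroup.centralizer ((P : Subgroup G) : Set G) := by
  intro a ha
  rw [Subgroup.mem_centralizer_iff]
  intro h hh
  haveI : IsCyclic ↥(P : Subgroup G) := isCyclic_of_prime_card hP
  letI := IsCyclic.commGroup (α := ↥(P : Subgroup G))
  exact congrArg Subtype.val (mul_comm (⟨h, hh⟩ : ↥(P : Subgroup G)) ⟨a, ha⟩)

/-- the order of a nontrivial element of a Sylow subgroup of order `p` -/
theorem orderOf_eq_of_mem_sylow [Finite G] (P : Sylow p G) (hP : Nat.card P = p) {u : G}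
    (hu : u ∈ (P : Subgroup G)) (hu1 : u ≠ 1) : orderOf u = p := by
  rw [← Nat.card_zpowers, zpowers_eq_sylow P hP hu hu1, hP]

/-- (W) the product of a nontrivial element of `P` and a `p`-regular element of `C_G(P)` -/
theorem mul_facts [Finite G] (P : Sylow p G) (hP : Nat.card P = p) {u y : G}
    (hu : u ∈ (P : Subgroup G)) (hu1 : u ≠ 1)
    (hy : y ∈ Subgroup.centralizer ((P : Subgroup G) : Set G)) (hyreg : ¬ p ∣ orderOf y) :
    u * y ∈ Subgroup.centralizer ((P : Subgroup G) : Set G) ∧ p ∣ orderOf (u * y) := by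
  refine ⟨Subgroup.mul_mem _ (sylow_le_centralizer P hP hu) hy, ?_⟩
  have hc : Commute u y := Subgroup.mem_centralizer_iff.mp hy u hu
  have ho := orderOf_eq_of_mem_sylow P hP hu hu1
  have hcop : Nat.Coprime (orderOf u) (orderOf y) := by
    rw [ho]
    exact (Nat.Prime.coprime_iff_not_dvd hp.out).2 hyreg
  rw [hc.orderOf_mul_eq_mul_orderOf_of_coprime hcop, ho]
  exact Dvd.intro _ rfl

/-- (I) uniqueness of the decomposition -/
theorem mul_unique [Finite G] (P : Sylow p G) (hP : Nat.card P = p) {u u' y y' : G}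
    (hu : u ∈ (P : Subgroup G)) (hu' : u' ∈ (P : Subgroup G))
    (hy : y ∈ Subgroup.centralizer ((P : Subgroup G) : Set G)) (hyreg : ¬ p ∣ orderOf y)
    (hyreg' : ¬ p ∣ orderOf y') (h : u * y = u' * y') : u = u' ∧ y = y' := by
  have hw : u'⁻¹ * u ∈ (P : Subgroup G) := Subgroup.mul_mem _ (Subgroup.inv_mem _ hu') hu
  have h1 : y' = u'⁻¹ * u * y := by
    rw [mul_assoc, h, inv_mul_cancel_left]
  by_cases hw1 : u'⁻¹ * u = 1
  · have h2 : u = u' := by
      have := congrArg (fun t => u' * t) hw1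
      simpa using this
    refine ⟨h2, ?_⟩
    rw [h2] at h
    exact mul_left_cancel h
  · exfalso
    apply hyreg'
    rw [h1]
    exact (mul_facts P hP hw hw1 hy hyreg).2

/-- (S) existence of the decomposition -/
theorem exists_mul [Finite G] (P : Sylow p G) (hP : Nat.card P = p) {g h : G}
    (hg : g ∈ Subgroup.centralizer ((P : Subgroup G) : Set G)) (hgs : p ∣ orderOf g)
    (hgh : g * h = h * g) :
    ∃ u y : G, u ∈ (P : Subgroup G) ∧ u ≠ 1 ∧
      y ∈ Subgroup.centralizer ((P : Subgroup G) : Set G) ∧ ¬ p ∣ orderOf y ∧ u * y = g ∧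
      h ∈ Subgroup.centralizer ((P : Subgroup G) : Set G) ∧ y * h = h * y := by
  obtain ⟨u, y, hu, hy, huy, ⟨k, hk⟩, hyreg⟩ := exists_pPart_decomp (p := p) g
  have hzC : Subgroup.zpowers g ≤ Subgroup.centralizer ((P : Subgroup G) : Set G) := by
    rw [Subgroup.zpowers_le]
    exact hg
  have huP : u ∈ (P : Subgroup G) :=
    mem_sylow_of_pow P hk (Subgroup.centralizer_le_normalizer _ (hzC hu))
  have hu1 : u ≠ 1 := by
    rintro rfl
    rw [one_mul] at huy
    rw [huy] at hyreg
    exact hyreg hgs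
  have hcomm : ∀ t ∈ Subgroup.zpowers g, t * h = h * t := by
    intro t ht
    obtain ⟨i, rfl⟩ := Subgroup.mem_zpowers_iff.mp ht
    exact ((show Commute g h from hgh).zpow_left i).eq
  refine ⟨u, y, huP, hu1, hzC hy, hyreg, huy, ?_, hcomm y hy⟩
  rw [← zpowers_eq_sylow P hP huP hu1, Subgroup.mem_centralizer_iff]
  intro a ha
  obtain ⟨i, rfl⟩ := Subgroup.mem_zpowers_iff.mp ha
  exact ((show Commute u h from hcomm u hu).zpow_left i).eq

/-- (F4) the `p`-singular commuting pairs over `C_G(P)` -/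
theorem card_TT_sylow [Finite G] (P : Sylow p G) (hP : Nat.card P = p) :
    Nat.card {q : G × G // q.1 ∈ Subgroup.centralizer ((P : Subgroup G) : Set G) ∧
        p ∣ orderOf q.1 ∧ q.1 * q.2 = q.2 * q.1} =
      (p - 1) * Nat.card {r : ↥(Subgroup.centralizer ((P : Subgroup G) : Set G)) ×
        ↥(Subgroup.centralizer ((P : Subgroup G) : Set G)) //
          ¬ p ∣ orderOf r.1 ∧ r.1 * r.2 = r.2 * r.1} := by
  classical
  set C := Subgroup.centralizer ((P : Subgroup G) : Set G) with hC
  have hcardP : Nat.card {u : ↥(P : Subgroup G) // u ≠ 1} = p - 1 := by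
    haveI : Fintype ↥(P : Subgroup G) := Fintype.ofFinite _
    rw [Nat.card_eq_fintype_card, Fintype.card_subtype_compl, Fintype.card_subtype_eq,
      ← Nat.card_eq_fintype_card, hP]
  rw [← hcardP, ← Nat.card_prod]
  symm
  let Φ : {u : ↥(P : Subgroup G) // u ≠ 1} ×
      {r : ↥C × ↥C // ¬ p ∣ orderOf r.1 ∧ r.1 * r.2 = r.2 * r.1} →
      {q : G × G // q.1 ∈ C ∧ p ∣ orderOf q.1 ∧ q.1 * q.2 = q.2 * q.1} := fun z =>
    ⟨((z.1.1 : G) * (z.2.1.1 : G), (z.2.1.2 : G)), by
      have hu1 : ((z.1.1 : ↥(P : Subgroup G)) : G) ≠ 1 := fun h => z.1.2 (Subtype.ext h)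
      have hyreg : ¬ p ∣ orderOf ((z.2.1.1 : ↥C) : G) := by
        rw [Subgroup.orderOf_coe]; exact z.2.2.1
      have h1 := mul_facts P hP z.1.1.2 hu1 z.2.1.1.2 hyreg
      refine ⟨h1.1, h1.2, ?_⟩
      have h2 : ((z.2.1.1 : ↥C) : G) * (z.2.1.2 : G) = (z.2.1.2 : G) * (z.2.1.1 : G) :=
        congrArg Subtype.val z.2.2.2
      have h3 : ((z.1.1 : ↥(P : Subgroup G)) : G) * (z.2.1.2 : G) = (z.2.1.2 : G) * (z.1.1 : G) :=
        Subgroup.mem_centralizer_iff.mp z.2.1.2.2 _ z.1.1.2
      show ((z.1.1 : ↥(P : Subgroup G)) : G) * (z.2.1.1 : G) * (z.2.1.2 : G) =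
        (z.2.1.2 : G) * ((z.1.1 : G) * (z.2.1.1 : G))
      rw [mul_assoc, h2, ← mul_assoc, h3, mul_assoc]⟩
  refine Nat.card_congr (Equiv.ofBijective Φ ⟨?_, ?_⟩)
  · rintro ⟨⟨⟨u, hu⟩, hu1⟩, ⟨⟨⟨y, hy⟩, ⟨h, hh⟩⟩, hyreg, hyh⟩⟩
      ⟨⟨⟨u', hu'⟩, hu1'⟩, ⟨⟨⟨y', hy'⟩, ⟨h', hh'⟩⟩, hyreg', hyh'⟩⟩ hEq
    have h1 : (u * y, h) = (u' * y', h') := congrArg Subtype.val hEq
    have h2 : u * y = u' * y' := congrArg Prod.fst h1
    have h3 : h = h' := congrArg Prod.snd h1
    have hr : ¬ p ∣ orderOf y := by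
      have := hyreg
      rwa [← Subgroup.orderOf_coe] at this
    have hr' : ¬ p ∣ orderOf y' := by
      have := hyreg'
      rwa [← Subgroup.orderOf_coe] at this
    obtain ⟨h4, h5⟩ := mul_unique P hP hu hu' hy hr hr' h2
    subst h3 h4 h5
    rfl
  · rintro ⟨⟨g, h⟩, hg, hgs, hgh⟩
    obtain ⟨u, y, huP, hu1, hyC, hyreg, huy, hhC, hyh⟩ := exists_mul P hP hg hgs hgh
    refine ⟨⟨⟨⟨u, huP⟩, fun h => hu1 (congrArg Subtype.val h)⟩,
      ⟨⟨⟨y, hyC⟩, ⟨h, hhC⟩⟩, by rw [← Subgroup.orderOf_coe]; exact hyreg,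
        Subtype.ext hyh⟩⟩, ?_⟩
    apply Subtype.ext
    show (u * y, h) = (g, h)
    rw [huy]

/-- the `p`-singular commuting pairs, sorted by the Sylow subgroup they centralize -/
theorem card_sing_pairs [Finite G] (P : Sylow p G) (hP : Nat.card P = p) :
    Nat.card {q : G × G // p ∣ orderOf q.1 ∧ q.1 * q.2 = q.2 * q.1} =
      Nat.card (Sylow p G) *
        Nat.card {q : G × G // q.1 ∈ Subgroup.centralizer ((P : Subgroup G) : Set G) ∧
          p ∣ orderOf q.1 ∧ q.1 * q.2 = q.2 * q.1} := by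
  classical
  haveI : Fintype (Sylow p G) := Fintype.ofFinite _
  let Ψ : (Σ Q : Sylow p G, {q : G × G // q.1 ∈ Subgroup.centralizer ((Q : Subgroup G) : Set G) ∧
      p ∣ orderOf q.1 ∧ q.1 * q.2 = q.2 * q.1}) →
      {q : G × G // p ∣ orderOf q.1 ∧ q.1 * q.2 = q.2 * q.1} := fun z => ⟨z.2.1, z.2.2.2⟩
  have hΨ : Function.Bijective Ψ := by
    constructor
    · rintro ⟨Q, ⟨q, h1, h2, h3⟩⟩ ⟨Q', ⟨q', h1', h2', h3'⟩⟩ hEq
      have h4 : q = q' := congrArg Subtype.val hEq
      subst h4
      have h5 : Q = Q' := sylow_centralizer_unique P hP h2 Q Q' h1 h1'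
      subst h5
      rfl
    · rintro ⟨q, h2, h3⟩
      obtain ⟨Q, hQ⟩ := exists_sylow_centralizer P hP h2
      exact ⟨⟨Q, ⟨q, hQ, h2, h3⟩⟩, rfl⟩
  rw [← Nat.card_congr (Equiv.ofBijective Ψ hΨ), Nat.card_sigma]
  have h6 : ∀ Q : Sylow p G,
      Nat.card {q : G × G // q.1 ∈ Subgroup.centralizer ((Q : Subgroup G) : Set G) ∧
        p ∣ orderOf q.1 ∧ q.1 * q.2 = q.2 * q.1} =
      Nat.card {q : G × G // q.1 ∈ Subgroup.centralizer ((P : Subgroup G) : Set G) ∧
        p ∣ orderOf q.1 ∧ q.1 * q.2 = q.2 * q.1} := by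
    intro Q
    obtain ⟨x, rfl⟩ := MulAction.exists_smul_eq G P Q
    rw [Sylow.coe_subgroup_smul]
    exact card_TT_conj (P : Subgroup G) x
  rw [Finset.sum_congr rfl (fun Q _ => h6 Q), Finset.sum_const, Finset.card_univ, smul_eq_mul,
    Nat.card_eq_fintype_card (α := Sylow p G)]

/-- splitting the commuting pairs into `p`-regular and `p`-singular first entry -/
theorem card_pairs_split [Finite G] :
    Nat.card {q : G × G // Commute q.1 q.2} =
      Nat.card {q : G × G // ¬ p ∣ orderOf q.1 ∧ q.1 * q.2 = q.2 * q.1} +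
        Nat.card {q : G × G // p ∣ orderOf q.1 ∧ q.1 * q.2 = q.2 * q.1} := by
  classical
  haveI : Fintype G := Fintype.ofFinite G
  rw [Nat.card_eq_fintype_card, Nat.card_eq_fintype_card, Nat.card_eq_fintype_card,
    Fintype.card_subtype, Fintype.card_subtype, Fintype.card_subtype]
  have h1 : (Finset.univ.filter (fun q : G × G => ¬ p ∣ orderOf q.1 ∧ q.1 * q.2 = q.2 * q.1)) =
      (Finset.univ.filter (fun q : G × G => Commute q.1 q.2)).filter
        (fun q => ¬ p ∣ orderOf q.1) := by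
    ext q
    simp only [Finset.mem_filter, Finset.mem_univ, true_and]
    exact and_comm
  have h2 : (Finset.univ.filter (fun q : G × G => p ∣ orderOf q.1 ∧ q.1 * q.2 = q.2 * q.1)) =
      (Finset.univ.filter (fun q : G × G => Commute q.1 q.2)).filter
        (fun q => p ∣ orderOf q.1) := by
    ext q
    simp only [Finset.mem_filter, Finset.mem_univ, true_and]
    exact and_comm
  rw [h1, h2, add_comm]
  exact (Finset.card_filter_add_card_filter_not (fun q : G × G => p ∣ orderOf q.1)).symm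

end Sylow

/-- **(X-G)** the class count for a Sylow `p`-subgroup of order `p`. -/
theorem card_conjClasses_eq_of_sylow_prime {G : Type u} [Group G] [Fintype G] (p : ℕ)
    [Fact p.Prime] (P : Sylow p G) (hP : Nat.card P = p) :
    (Subgroup.centralizer ((P : Subgroup G) : Set G)).relIndex
        (Subgroup.normalizer ((P : Subgroup G) : Set G)) * Nat.card (ConjClasses G) =
      (Subgroup.centralizer ((P : Subgroup G) : Set G)).relIndex
        (Subgroup.normalizer ((P : Subgroup G) : Set G)) *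
        Nat.card {c : ConjClasses G // ∃ g : G, ConjClasses.mk g = c ∧ ¬ p ∣ orderOf g} +
      (p - 1) * Nat.card {c : ConjClasses (Subgroup.centralizer ((P : Subgroup G) : Set G)) //
        ∃ g, ConjClasses.mk g = c ∧ ¬ p ∣ orderOf g} := by
  set C := Subgroup.centralizer ((P : Subgroup G) : Set G) with hC
  set N := Subgroup.normalizer ((P : Subgroup G) : Set G) with hN
  have hA := card_comm_eq_card_conjClasses_mul_card G
  have hAreg := card_commPairs_pred (G := G) (fun g => ¬ p ∣ orderOf g) (by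
    intro x g hg
    have h2 : orderOf (x * g * x⁻¹) = orderOf g := (MulAut.conj x).orderOf_eq g
    rw [h2]
    exact hg)
  have hCreg := card_commPairs_pred (G := ↥C) (fun g => ¬ p ∣ orderOf g) (by
    intro x g hg
    have h2 : orderOf (x * g * x⁻¹) = orderOf g := (MulAut.conj x).orderOf_eq g
    rw [h2]
    exact hg)
  have hsplit := card_pairs_split (G := G) (p := p)
  have hsing := card_sing_pairs P hP
  have hTT := card_TT_sylow P hP
  have hSyl : Nat.card (Sylow p G) = N.index := Sylow.card_eq_index_normalizer P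
  have hfN : C.relIndex N * N.index = C.index :=
    Subgroup.relIndex_mul_index (Subgroup.centralizer_le_normalizer _)
  have e1 : Nat.card G = C.relIndex N * N.index * Nat.card C := by
    rw [hfN, Subgroup.index_mul_card]
  apply Nat.eq_of_mul_eq_mul_left (Nat.card_pos (α := G))
  rw [hA] at hsplit
  rw [hAreg, hsing, hSyl, hTT, hCreg] at hsplit
  set k := Nat.card (ConjClasses G) with hk
  set rG := Nat.card {c : ConjClasses G // ∃ g : G, ConjClasses.mk g = c ∧ ¬ p ∣ orderOf g}
    with hrG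
  set rC := Nat.card {c : ConjClasses ↥C // ∃ g, ConjClasses.mk g = c ∧ ¬ p ∣ orderOf g} with hrC
  set f := C.relIndex N with hf
  calc Nat.card G * (f * k) = f * (k * Nat.card G) := by ring
    _ = f * (rG * Nat.card G + N.index * ((p - 1) * (rC * Nat.card C))) := by rw [hsplit]
    _ = Nat.card G * (f * rG) + (p - 1) * rC * (f * N.index * Nat.card C) := by ring
    _ = Nat.card G * (f * rG + (p - 1) * rC) := by rw [← e1]; ring

end Cfsg.Agent.Helper70.DefOneXG
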