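import Mathlib
import Cfsg.Agent.Helper15.MixDefs
import Cfsg.Agent.Helper63.MixI12

/-!
# S4017 piece (I4a): structure of the centralizer of a product of two non-commuting involutions
-/

set_option autoImplicit false
set_option linter.unusedSectionVars false
set_option linter.style.haveILetI false

namespace Cfsg.Agent.Helper70.Mix

open Subgroup Cfsg.Agent.Helper15.Mix
open scoped Pointwise

variable {G : Type*} [Group G] [Finite G] {p a : ℕ} {Q : Subgroup G} {x : G}

theorem p_ge_three (h : MC G p a) : 3 ≤ p := by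
  have h1 := h.hpa
  have h2 : 2 ^ 2 ≤ 2 ^ a := Nat.pow_le_pow_right (by norm_num) h.ha
  omega

theorem p_ne_two (h : MC G p a) : p ≠ 2 := by
  have := p_ge_three h; omega

theorem inv_eq_self_of_mul_self {u : G} (h : u * u = 1) : u⁻¹ = u :=
  inv_eq_of_mul_eq_one_right h

theorem Q_comm (h : Cfg G p a Q x) {u v : G} (hu : u ∈ Q) (hv : v ∈ Q) : u * v = v * u := by
  have h1 := inv_eq_self_of_mul_self (h.qexp u hu)
  have h2 := inv_eq_self_of_mul_self (h.qexp v hv)
  have h3 := inv_eq_self_of_mul_self (h.qexp (u * v) (Q.mul_mem hu hv))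
  rw [mul_inv_rev, h1, h2] at h3
  exact h3.symm

/-- Every `2`-subgroup is conjugate into `Q`. -/
theorem exists_conj_mem_Q (h : Cfg G p a Q x) (H : Subgroup G) (hH : IsPGroup 2 H) :
    ∃ c : G, ∀ y ∈ H, c * y * c⁻¹ ∈ Q := by
  haveI : Fact (Nat.Prime 2) := ⟨Nat.prime_two⟩
  have hQc : Nat.card Q = 2 ^ (Nat.card G).factorization 2 := by rw [h.qcard, h.mc.hcard]
  obtain ⟨P, hP⟩ := hH.exists_le_sylow
  obtain ⟨c, hc⟩ := MulAction.exists_smul_eq G P (Sylow.ofCard Q hQc)
  refine ⟨c, fun y hy => ?_⟩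
  have h1 : MulAut.conj c • y ∈ MulAut.conj c • (P : Subgroup G) :=
    Subgroup.smul_mem_pointwise_smul y (MulAut.conj c) P (hP hy)
  have h2 : ((c • P : Sylow 2 G) : Subgroup G) = Q := by rw [hc]; rfl
  rw [Sylow.coe_subgroup_smul] at h2
  rw [h2] at h1
  exact h1

theorem isPGroup_two_zpowers {e : G} (he : orderOf e = 2) : IsPGroup 2 (zpowers e) := by
  haveI : Fact (Nat.Prime 2) := ⟨Nat.prime_two⟩
  apply IsPGroup.of_card (n := 1)
  rw [Nat.card_zpowers, he, pow_one]

/-- Every element of a `2`-subgroup squares to `1`. -/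
theorem mul_self_of_two_group (h : Cfg G p a Q x) (H : Subgroup G) (hH : IsPGroup 2 H)
    {y : G} (hy : y ∈ H) : y * y = 1 := by
  obtain ⟨c, hc⟩ := exists_conj_mem_Q h H hH
  have := h.qexp _ (hc y hy)
  have h2 : c * (y * y) * c⁻¹ = 1 := by
    rw [← this]; group
  have : y * y = c⁻¹ * (c * (y * y) * c⁻¹) * c := by group
  rw [this, h2]; group

section withStubs

variable (hC2b : ∀ {t : G}, t ∈ Q → t ≠ 1 →
    ∀ c ∈ centralizer ({t} : Set G), ∃ w ∈ W p t, ∃ u ∈ Q, c = w * u)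

include hC2b in
theorem cz_le_Q (hW : ∀ t ∈ Q, t ≠ 1 → W p t = ⊥) {t : G} (ht : t ∈ Q) (ht1 : t ≠ 1) :
    centralizer ({t} : Set G) ≤ Q := by
  intro c hc
  obtain ⟨w, hw, u, hu, rfl⟩ := hC2b ht ht1 c hc
  rw [hW t ht ht1, Subgroup.mem_bot] at hw
  rw [hw, one_mul]; exact hu

include hC2b in
/-- The centralizer of an involution is a `2`-group of exponent `2`, conjugate into `Q`. -/
theorem exists_conj_cz (h : Cfg G p a Q x) (hW : ∀ t ∈ Q, t ≠ 1 → W p t = ⊥) {e : G}
    (he : orderOf e = 2) : ∃ c : G, ∀ y ∈ centralizer ({e} : Set G), c * y * c⁻¹ ∈ Q := by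
  obtain ⟨c, hc⟩ := exists_conj_mem_Q h (zpowers e) (isPGroup_two_zpowers he)
  have hce : c * e * c⁻¹ ∈ Q := hc e (mem_zpowers e)
  have hce1 : c * e * c⁻¹ ≠ 1 := by
    intro h1
    have : e = 1 := by
      have : e = c⁻¹ * (c * e * c⁻¹) * c := by group
      rw [this, h1]; group
    rw [this, orderOf_one] at he; omega
  refine ⟨c, fun y hy => ?_⟩
  apply cz_le_Q hC2b hW hce hce1
  rw [mem_centralizer_singleton_iff] at hy ⊢
  calc c * y * c⁻¹ * (c * e * c⁻¹) = c * (y * e) * c⁻¹ := by group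
    _ = c * (e * y) * c⁻¹ := by rw [hy]
    _ = c * e * c⁻¹ * (c * y * c⁻¹) := by group

include hC2b in
theorem mul_self_of_mem_cz (h : Cfg G p a Q x) (hW : ∀ t ∈ Q, t ≠ 1 → W p t = ⊥) {e y : G}
    (he : orderOf e = 2) (hy : y ∈ centralizer ({e} : Set G)) : y * y = 1 := by
  obtain ⟨c, hc⟩ := exists_conj_cz hC2b h hW he
  have := h.qexp _ (hc y hy)
  have h2 : c * (y * y) * c⁻¹ = 1 := by
    rw [← this]; group
  have : y * y = c⁻¹ * (c * (y * y) * c⁻¹) * c := by group
  rw [this, h2]; group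

end withStubs

/-- A `2`-element of `N(Q)` lies in `Q`. -/
theorem mem_Q_of_normalizer (h : Cfg G p a Q x) {y : G} (hy : y ∈ normalizer (Q : Set G))
    (hy2 : IsPGroup 2 (zpowers y)) : y ∈ Q := by
  haveI : Fact (Nat.Prime 2) := ⟨Nat.prime_two⟩
  have hQc : Nat.card Q = 2 ^ (Nat.card G).factorization 2 := by rw [h.qcard, h.mc.hcard]
  have hQ2 : IsPGroup 2 Q := IsPGroup.of_card hQc
  have hle : zpowers y ≤ normalizer (Q : Set G) := by
    rw [zpowers_le]; exact hy
  have hsup : IsPGroup 2 (zpowers y ⊔ Q : Subgroup G) := hy2.to_sup_of_normal_right' hQ2 hle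
  have := (Sylow.ofCard Q hQc).is_maximal' hsup (by
    change Q ≤ zpowers y ⊔ Q
    exact le_sup_right)
  have h2 : zpowers y ⊔ Q = Q := this
  have : y ∈ zpowers y ⊔ Q := (le_sup_left : zpowers y ≤ _) (mem_zpowers y)
  rwa [h2] at this

theorem orderOf_conj (c y : G) : orderOf (c * y * c⁻¹) = orderOf y :=
  (MulAut.conj c).orderOf_eq y

theorem orderOf_eq_two_of_mul_self {e : G} (h1 : e * e = 1) (h2 : e ≠ 1) : orderOf e = 2 := by
  haveI : Fact (Nat.Prime 2) := ⟨Nat.prime_two⟩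
  exact orderOf_eq_prime (by rw [pow_two]; exact h1) h2

/-- no nonidentity element has both `p`-power order and square one -/
theorem eq_one_of_pelt_of_mul_self (h : MC G p a) {y : G} (hy : IsPElt p y) (h2 : y * y = 1) :
    y = 1 := by
  obtain ⟨j, hj⟩ := hy
  have hd : orderOf y ∣ 2 := orderOf_dvd_of_pow_eq_one (by rw [pow_two]; exact h2)
  rw [hj] at hd
  have hcop : Nat.Coprime (p ^ j) 2 := by
    apply Nat.Coprime.pow_left
    rw [Nat.coprime_primes h.hp Nat.prime_two]
    exact p_ne_two h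
  have := Nat.Coprime.eq_one_of_dvd hcop hd
  rw [← hj] at this
  exact orderOf_eq_one_iff.mp this

section withStubs2

variable (hC2b : ∀ {t : G}, t ∈ Q → t ≠ 1 →
    ∀ c ∈ centralizer ({t} : Set G), ∃ w ∈ W p t, ∃ u ∈ Q, c = w * u)

include hC2b in
/-- an involution normalizing an abelian `p`-subgroup inverts it -/
theorem inverts_of_normalizes (h : Cfg G p a Q x) (hW : ∀ t ∈ Q, t ≠ 1 → W p t = ⊥)
    (S : Subgroup G) (hS : IsPGroup p S) {e : G} (he : orderOf e = 2)
    (hnorm : ∀ s ∈ S, e * s * e⁻¹ ∈ S) {s : G} (hs : s ∈ S) : e * s * e⁻¹ = s⁻¹ := by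
  have hab := h.mc.pab S hS
  have he2 : e * e = 1 := by rw [← pow_two, ← he, pow_orderOf_eq_one]
  have hei : e⁻¹ = e := inv_eq_self_of_mul_self he2
  set s' := s * (e * s * e⁻¹) with hs'
  have hs'S : s' ∈ S := S.mul_mem hs (hnorm s hs)
  have hcomm : s' * e = e * s' := by
    have h1 : e * s' * e⁻¹ = s' := by
      calc e * s' * e⁻¹ = (e * s * e⁻¹) * (e * e * s * (e * e)⁻¹) := by rw [hs']; group
        _ = (e * s * e⁻¹) * s := by rw [he2]; group
        _ = s * (e * s * e⁻¹) := hab _ (hnorm s hs) _ hs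
    calc s' * e = (e * s' * e⁻¹) * e := by rw [h1]
      _ = e * s' := by group
  have hmem : s' ∈ centralizer ({e} : Set G) := by
    rw [mem_centralizer_singleton_iff]; exact hcomm
  have hsq : s' * s' = 1 := mul_self_of_mem_cz hC2b h hW he hmem
  have hpe : IsPElt p s' := by
    haveI : Fact p.Prime := ⟨h.mc.hp⟩
    obtain ⟨k, hk⟩ := (IsPGroup.iff_orderOf.mp hS) ⟨s', hs'S⟩
    exact ⟨k, by rw [← hk, Subgroup.orderOf_mk]⟩
  have h1 := eq_one_of_pelt_of_mul_self h.mc hpe hsq
  rw [hs'] at h1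
  exact (eq_inv_of_mul_eq_one_right h1)

end withStubs2

section main

variable (hC2b : ∀ {t : G}, t ∈ Q → t ≠ 1 →
    ∀ c ∈ centralizer ({t} : Set G), ∃ w ∈ W p t, ∃ u ∈ Q, c = w * u)
  (hI2 : (∀ t ∈ Q, t ≠ 1 → W p t ≤ centralizer (Q : Set G)) → ∀ {t u : G}, t ∈ Q → t ≠ 1 →
    orderOf u = 2 → u ∉ normalizer (Q : Set G) →
    t * u ≠ 1 ∧ IsPElt p (t * u) ∧ IsPGroup p (centralizer ({t * u} : Set G)))

include hC2b hI2 in
/-- Step 1-2: `g = u * v` is a nontrivial `p`-element whose centralizer is a Sylow `p`-subgroup. -/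
theorem exists_sylow_eq_cz [Fact p.Prime] (h : Cfg G p a Q x)
    (hW : ∀ t ∈ Q, t ≠ 1 → W p t = ⊥) {u v : G} (hu : orderOf u = 2) (hv : orderOf v = 2)
    (huv : u * v ≠ v * u) :
    u * v ≠ 1 ∧ ∃ S : Sylow p G, (S : Subgroup G) = centralizer ({u * v} : Set G) := by
  have hI : ∀ t ∈ Q, t ≠ 1 → W p t ≤ centralizer (Q : Set G) := fun t ht ht1 => by
    rw [hW t ht ht1]; exact bot_le
  obtain ⟨c, hc⟩ := exists_conj_mem_Q h (zpowers u) (isPGroup_two_zpowers hu)
  have htQ : c * u * c⁻¹ ∈ Q := hc u (mem_zpowers u)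
  have ht1 : c * u * c⁻¹ ≠ 1 := by
    intro h1
    have : orderOf (c * u * c⁻¹) = 2 := by rw [orderOf_conj, hu]
    rw [h1, orderOf_one] at this; omega
  have hu'ord : orderOf (c * v * c⁻¹) = 2 := by rw [orderOf_conj, hv]
  have hu'N : c * v * c⁻¹ ∉ normalizer (Q : Set G) := by
    intro hN
    have hmem : c * v * c⁻¹ ∈ Q := mem_Q_of_normalizer h hN (isPGroup_two_zpowers hu'ord)
    have hcm := Q_comm h htQ hmem
    apply huv
    have e1 : u * v = c⁻¹ * ((c * u * c⁻¹) * (c * v * c⁻¹)) * c := by group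
    have e2 : v * u = c⁻¹ * ((c * v * c⁻¹) * (c * u * c⁻¹)) * c := by group
    rw [e1, e2, hcm]
  obtain ⟨hg1, hgp, hgcz⟩ := hI2 hI htQ ht1 hu'ord hu'N
  have hconj : c * u * c⁻¹ * (c * v * c⁻¹) = c * (u * v) * c⁻¹ := by group
  rw [hconj] at hg1 hgp hgcz
  have hg_ne : u * v ≠ 1 := by
    intro h1; apply hg1; rw [h1]; group
  refine ⟨hg_ne, ?_⟩
  -- the centralizer of `u * v` is a `p`-group
  have hczp : IsPGroup p (centralizer ({u * v} : Set G)) := by
    have h1 : IsPGroup p ((centralizer ({c * (u * v) * c⁻¹} : Set G)).comap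
        (MulAut.conj c).toMonoidHom) :=
      hgcz.comap_of_injective _ (MulAut.conj c).injective
    refine h1.to_le ?_
    intro y hy
    rw [mem_comap, mem_centralizer_singleton_iff]
    rw [mem_centralizer_singleton_iff] at hy
    change c * y * c⁻¹ * (c * (u * v) * c⁻¹) = c * (u * v) * c⁻¹ * (c * y * c⁻¹)
    calc c * y * c⁻¹ * (c * (u * v) * c⁻¹) = c * (y * (u * v)) * c⁻¹ := by group
      _ = c * ((u * v) * y) * c⁻¹ := by rw [hy]
      _ = c * (u * v) * c⁻¹ * (c * y * c⁻¹) := by group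
  obtain ⟨S, hS⟩ := hczp.exists_le_sylow
  refine ⟨S, le_antisymm ?_ hS⟩
  intro s hs
  have hgS : u * v ∈ (S : Subgroup G) := hS (by
    rw [mem_centralizer_singleton_iff])
  rw [mem_centralizer_singleton_iff]
  exact h.mc.pab S S.isPGroup' s hs (u * v) hgS

end main

theorem eq_one_of_pelt_of_two_elt (h : MC G p a) {y : G} (hy : IsPElt p y)
    (h2 : ∃ k : ℕ, orderOf y = 2 ^ k) : y = 1 := by
  obtain ⟨j, hj⟩ := hy
  obtain ⟨k, hk⟩ := h2
  have hcop : Nat.Coprime (p ^ j) (2 ^ k) := by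
    apply Nat.Coprime.pow
    rw [Nat.coprime_primes h.hp Nat.prime_two]
    exact p_ne_two h
  have hd : p ^ j ∣ 2 ^ k := by rw [← hj, ← hk]
  have := Nat.Coprime.eq_one_of_dvd hcop hd
  rw [← hj] at this
  exact orderOf_eq_one_iff.mp this

section card

variable (hC2b : ∀ {t : G}, t ∈ Q → t ≠ 1 →
    ∀ c ∈ centralizer ({t} : Set G), ∃ w ∈ W p t, ∃ u ∈ Q, c = w * u)

include hC2b in
theorem card_normalizer_eq [Fact p.Prime] (h : Cfg G p a Q x)
    (hW : ∀ t ∈ Q, t ≠ 1 → W p t = ⊥) (S : Sylow p G) {g u : G}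
    (hg1 : g ≠ 1) (hSg : (S : Subgroup G) = centralizer ({g} : Set G))
    (hu : orderOf u = 2) (huS : u ∈ normalizer ((S : Subgroup G) : Set G)) :
    Nat.card (normalizer ((S : Subgroup G) : Set G)) = 2 * Nat.card S := by
  have hpp : p.Prime := Fact.out
  have hp2 := p_ne_two h.mc
  set L := normalizer ((S : Subgroup G) : Set G) with hL
  have hSL : (S : Subgroup G) ≤ L := le_normalizer
  have hgS : g ∈ (S : Subgroup G) := by rw [hSg, mem_centralizer_singleton_iff]
  have hgp : IsPElt p g := by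
    obtain ⟨k, hk⟩ := (IsPGroup.iff_orderOf.mp S.isPGroup') ⟨g, hgS⟩
    exact ⟨k, by rw [← hk, Subgroup.orderOf_mk]⟩
  -- the centralizer of `S` is inside `S`
  have hcent : ∀ y : G, (∀ s ∈ S, y * s * y⁻¹ = s) → y ∈ (S : Subgroup G) := by
    intro y hy
    rw [hSg, mem_centralizer_singleton_iff]
    have := hy g hgS
    calc y * g = (y * g * y⁻¹) * y := by group
      _ = g * y := by rw [this]
  have hLtop : L ≠ ⊤ := by
    intro htop
    have hn : (S : Subgroup G).Normal := normalizer_eq_top_iff.mp htop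
    haveI := h.simple
    rcases hn.eq_bot_or_eq_top with hb | ht
    · apply hg1
      have := hgS
      rw [hb, mem_bot] at this
      exact this
    · have huS' : u ∈ (S : Subgroup G) := by rw [ht]; exact mem_top u
      have hup : IsPElt p u := by
        obtain ⟨k, hk⟩ := (IsPGroup.iff_orderOf.mp S.isPGroup') ⟨u, huS'⟩
        exact ⟨k, by rw [← hk, Subgroup.orderOf_mk]⟩
      have := eq_one_of_pelt_of_two_elt h.mc hup ⟨1, by rw [hu, pow_one]⟩
      rw [this, orderOf_one] at hu; omega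
  have h2L : 2 ∣ Nat.card L := by
    have := orderOf_dvd_natCard (⟨u, huS⟩ : L)
    rwa [Subgroup.orderOf_mk, hu] at this
  have hn2 : ¬ IsPGroup 2 L := by
    intro hL2
    apply hg1
    apply eq_one_of_pelt_of_two_elt h.mc hgp
    obtain ⟨k, hk⟩ := (IsPGroup.iff_orderOf.mp hL2) ⟨g, hSL hgS⟩
    exact ⟨k, by rw [← hk, Subgroup.orderOf_mk]⟩
  have hf1 := h.mc.f1 L hLtop h2L hn2
  let S' : Subgroup L := (S : Subgroup G).subgroupOf L
  haveI : S'.Normal := normal_in_normalizer
  have hcardS' : Nat.card S' = Nat.card S := Nat.card_congr (subgroupOfEquivOfLe hSL).toEquiv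
  have hidx : ¬ p ∣ S'.index := by
    have h1 : (S : Subgroup G).relIndex L * L.index = (S : Subgroup G).index :=
      relIndex_mul_index hSL
    intro hd
    apply S.not_dvd_index
    rw [← h1]
    exact Dvd.dvd.mul_right hd _
  have hcop : (Nat.card S').Coprime S'.index := by
    obtain ⟨k, hk⟩ := IsPGroup.iff_card.mp S.isPGroup'
    rw [hcardS', hk]
    exact Nat.Coprime.pow_left _ ((Nat.Prime.coprime_iff_not_dvd hpp).mpr hidx)
  obtain ⟨K, hK⟩ := exists_right_complement'_of_coprime hcop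
  have hmul : Nat.card S' * Nat.card K = Nat.card L := hK.card_mul_card
  have hKidx : Nat.card K = S'.index := by
    have h1 := S'.card_mul_index
    have hpos : 0 < Nat.card S' := Nat.card_pos
    exact Nat.eq_of_mul_eq_mul_left hpos (hmul.trans h1.symm)
  have hK2 : ∀ {d : ℕ}, d.Prime → d ∣ Nat.card K → d = 2 := by
    intro d hd hdK
    have hdL : d ∣ Nat.card L := by rw [← hmul]; exact Dvd.dvd.mul_left hdK _
    rcases hf1 d hd hdL with h1 | h1
    · exfalso; rw [h1, hKidx] at hdK; exact hidx hdK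
    · exact h1
  have hKcard : Nat.card K = 2 ^ (Nat.card K).primeFactorsList.length :=
    Nat.eq_prime_pow_of_unique_prime_dvd Nat.card_pos.ne' hK2
  haveI : Fact (Nat.Prime 2) := ⟨Nat.prime_two⟩
  have hKG : IsPGroup 2 (K.map L.subtype) := by
    apply IsPGroup.of_card (n := (Nat.card K).primeFactorsList.length)
    rw [card_map_of_injective L.subtype_injective]
    exact hKcard
  have hKsq : ∀ e : L, e ∈ K → (e : G) * (e : G) = 1 := fun e he =>
    mul_self_of_two_group h _ hKG (mem_map_of_mem L.subtype he)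
  have hnormL : ∀ e : L, ∀ s ∈ (S : Subgroup G), (e : G) * s * (e : G)⁻¹ ∈ (S : Subgroup G) := by
    intro e s hs
    exact ((mem_set_normalizer_iff.mp e.2) s).mp hs
  have hKinv : ∀ e : L, e ∈ K → e ≠ 1 → ∀ s ∈ (S : Subgroup G),
      (e : G) * s * (e : G)⁻¹ = s⁻¹ := by
    intro e he he1 s hs
    have hord : orderOf (e : G) = 2 := orderOf_eq_two_of_mul_self (hKsq e he) (by
      intro h1; apply he1; exact Subtype.ext h1)
    exact inverts_of_normalizes hC2b h hW S S.isPGroup' hord (hnormL e) hs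
  have hKeq : ∀ e e' : L, e ∈ K → e' ∈ K → e ≠ 1 → e' ≠ 1 → e = e' := by
    intro e e' he he' he1 he'1
    have hprod : (e * e' : L) ∈ S' := by
      rw [mem_subgroupOf]
      apply hcent
      intro s hs
      have h1 := hKinv e' he' he'1 s hs
      have h2 := hKinv e he he1 s⁻¹ ((S : Subgroup G).inv_mem hs)
      rw [Subgroup.coe_mul]
      calc (e : G) * e' * s * ((e : G) * e')⁻¹
          = e * ((e' : G) * s * (e' : G)⁻¹) * (e : G)⁻¹ := by group
        _ = e * s⁻¹ * (e : G)⁻¹ := by rw [h1]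
        _ = s := by rw [h2, inv_inv]
    have hmemK : (e * e' : L) ∈ K := K.mul_mem he he'
    have hbot : (e * e' : L) = 1 := by
      have hd := hK.disjoint
      have hmem : (e * e' : L) ∈ S' ⊓ K := ⟨hprod, hmemK⟩
      rw [hd.eq_bot, mem_bot] at hmem
      exact hmem
    have he_inv : e⁻¹ = e := by
      apply inv_eq_of_mul_eq_one_right
      exact Subtype.ext (hKsq e he)
    calc e = e⁻¹ := he_inv.symm
      _ = e' := inv_eq_of_mul_eq_one_right hbot
  have h2K : 2 ∣ Nat.card K := by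
    obtain ⟨k, hk⟩ := IsPGroup.iff_card.mp S.isPGroup'
    have hc : Nat.Coprime 2 (Nat.card S') := by
      rw [hcardS', hk]
      apply Nat.Coprime.pow_right
      rw [Nat.coprime_primes Nat.prime_two hpp]
      exact fun h => hp2 h.symm
    apply hc.dvd_of_dvd_mul_left
    rw [hmul]; exact h2L
  obtain ⟨e0, he0⟩ := exists_prime_orderOf_dvd_card' (G := K) 2 h2K
  have hKtwo : Nat.card K = 2 := by
    have he01 : e0 ≠ 1 := by
      intro h1; rw [h1, orderOf_one] at he0; omega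
    have hsub : ∀ y : K, y = 1 ∨ y = e0 := by
      intro y
      by_cases hy : y = 1
      · left; exact hy
      · right
        have := hKeq (y : L) (e0 : L) y.2 e0.2 (fun h1 => hy (Subtype.ext h1))
          (fun h1 => he01 (Subtype.ext h1))
        exact Subtype.ext this
    have hle : Nat.card K ≤ 2 := by
      classical
      haveI : Fintype K := Fintype.ofFinite K
      rw [Nat.card_eq_fintype_card]
      calc Fintype.card K = (Finset.univ : Finset K).card := rfl
        _ ≤ ({1, e0} : Finset K).card := Finset.card_le_card (fun y _ => by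
            rcases hsub y with h1 | h1 <;> simp [h1])
        _ ≤ 2 := Finset.card_le_two
    have hge : 2 ≤ Nat.card K := Nat.le_of_dvd Nat.card_pos h2K
    omega
  rw [← hmul, hcardS', hKtwo, mul_comm]

end card

section final

variable (hC2b : ∀ {t : G}, t ∈ Q → t ≠ 1 →
    ∀ c ∈ centralizer ({t} : Set G), ∃ w ∈ W p t, ∃ u ∈ Q, c = w * u)
  (hI2 : (∀ t ∈ Q, t ≠ 1 → W p t ≤ centralizer (Q : Set G)) → ∀ {t u : G}, t ∈ Q → t ≠ 1 →
    orderOf u = 2 → u ∉ normalizer (Q : Set G) →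
    t * u ≠ 1 ∧ IsPElt p (t * u) ∧ IsPGroup p (centralizer ({t * u} : Set G)))

include hC2b hI2 in
/-- (I4a) with the pieces (C2b), (I2) as explicit hypotheses. -/
theorem real_structure_aux [Fact p.Prime] (h : Cfg G p a Q x)
    (hW : ∀ t ∈ Q, t ≠ 1 → W p t = ⊥) {u v : G} (hu : orderOf u = 2) (hv : orderOf v = 2)
    (huv : u * v ≠ v * u) :
    ∃ S : Sylow p G, (S : Subgroup G) = centralizer ({u * v} : Set G) ∧
      (∀ s ∈ S, u * s * u⁻¹ = s⁻¹) ∧
      Nat.card (normalizer ((S : Subgroup G) : Set G)) = 2 * Nat.card S := by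
  obtain ⟨hg1, S, hS⟩ := exists_sylow_eq_cz hC2b hI2 h hW hu hv huv
  have hu2 : u * u = 1 := by rw [← pow_two, ← hu, pow_orderOf_eq_one]
  have hv2 : v * v = 1 := by rw [← pow_two, ← hv, pow_orderOf_eq_one]
  have hui := inv_eq_self_of_mul_self hu2
  have hvi := inv_eq_self_of_mul_self hv2
  -- `g = u g⁻¹ u⁻¹`
  have hinv : u * v = u * (u * v)⁻¹ * u⁻¹ := by
    rw [mul_inv_rev, hui, hvi]
    calc u * v = u * v * (u * u) := by rw [hu2, mul_one]
      _ = u * (v * u) * u := by group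
  have hnorm : ∀ s ∈ (S : Subgroup G), u * s * u⁻¹ ∈ (S : Subgroup G) := by
    intro s hs
    rw [hS, mem_centralizer_singleton_iff] at hs ⊢
    have hs' : s * (u * v)⁻¹ = (u * v)⁻¹ * s := by
      calc s * (u * v)⁻¹ = (u * v)⁻¹ * ((u * v) * s) * (u * v)⁻¹ := by group
        _ = (u * v)⁻¹ * (s * (u * v)) * (u * v)⁻¹ := by rw [hs]
        _ = (u * v)⁻¹ * s := by group
    calc u * s * u⁻¹ * (u * v) = u * s * u⁻¹ * (u * (u * v)⁻¹ * u⁻¹) := by rw [← hinv]
      _ = u * (s * (u * v)⁻¹) * u⁻¹ := by group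
      _ = u * ((u * v)⁻¹ * s) * u⁻¹ := by rw [hs']
      _ = (u * (u * v)⁻¹ * u⁻¹) * (u * s * u⁻¹) := by group
      _ = u * v * (u * s * u⁻¹) := by rw [← hinv]
  have huN : u ∈ normalizer ((S : Subgroup G) : Set G) := by
    rw [mem_set_normalizer_iff]
    intro n
    constructor
    · intro hn; exact hnorm n hn
    · intro hn
      have := hnorm _ hn
      have e : u * (u * n * u⁻¹) * u⁻¹ = n := by
        rw [hui]
        calc u * (u * n * u) * u = (u * u) * n * (u * u) := by group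
          _ = n := by rw [hu2, one_mul, mul_one]
      rw [e] at this
      exact this
  exact ⟨S, hS, fun s hs => inverts_of_normalizes hC2b h hW S S.isPGroup' hu hnorm hs,
    card_normalizer_eq hC2b h hW S hg1 hS hu huN⟩

end final





/-- (I4a), exact skeleton statement. -/
theorem real_structure [Fact p.Prime] (h : Cfg G p a Q x)
    (hW : ∀ t ∈ Q, t ≠ 1 → W p t = ⊥) {u v : G} (hu : orderOf u = 2) (hv : orderOf v = 2)
    (huv : u * v ≠ v * u) :
    ∃ S : Sylow p G, (S : Subgroup G) = centralizer ({u * v} : Set G) ∧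
      (∀ s ∈ S, u * s * u⁻¹ = s⁻¹) ∧
      Nat.card (normalizer ((S : Subgroup G) : Set G)) = 2 * Nat.card S :=
  real_structure_aux (fun {t} ht ht1 => Cfsg.Agent.Helper63.MixI12.c2b h t ht ht1)
    (fun hI {_ _} ht ht1 hu huN => Cfsg.Agent.Helper63.MixI12.real_elt h hI ht ht1 hu huN)
    h hW hu hv huv

end Cfsg.Agent.Helper70.Mix
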