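import Mathlib
import Cfsg.Agent.Helper15.MixDefs
import Cfsg.Agent.Helper70.MixI4a
import Cfsg.Agent.Helper24.MixI4b

/-!
# S4017 piece (I4c): the case `W_t = 1` for all `t` is impossible
-/

set_option autoImplicit false
set_option linter.unusedSectionVars false
set_option linter.style.haveILetI false

namespace Cfsg.Agent.Helper70.Mix

open Subgroup Cfsg.Agent.Helper15.Mix
open scoped Pointwise

variable {G : Type*} [Group G] [Finite G] {p a : ℕ} {Q : Subgroup G} {x : G}

theorem ncard_orbit_conjAct_eq_index (t : G) :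
    (MulAction.orbit (ConjAct G) t).ncard = (centralizer ({t} : Set G)).index := by
  rw [← MulAction.index_stabilizer, ConjAct.stabilizer_eq_centralizer]
  rfl

/-- (I4c), exact skeleton statement. -/
theorem false_of_W_eq_bot (h : Cfg G p a Q x) (hW : ∀ t ∈ Q, t ≠ 1 → W p t = ⊥) : False := by
  haveI : Fact p.Prime := ⟨h.mc.hp⟩
  have hpp := h.mc.hp
  have hp2 := p_ne_two h.mc
  have hp3 := p_ge_three h.mc
  have hC2b : ∀ {t : G}, t ∈ Q → t ≠ 1 →
      ∀ c ∈ centralizer ({t} : Set G), ∃ w ∈ W p t, ∃ u ∈ Q, c = w * u :=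
    fun {t} ht ht1 => Cfsg.Agent.Helper63.MixI12.c2b h t ht ht1
  have hI : ∀ t ∈ Q, t ≠ 1 → W p t ≤ centralizer (Q : Set G) := fun t ht ht1 => by
    rw [hW t ht ht1]; exact bot_le
  -- a nonidentity element of `Q`
  have hQne : Q ≠ ⊥ := by
    intro hb
    have h1 := h.qcard
    rw [hb, Subgroup.card_bot] at h1
    have : 2 ^ 2 ≤ 2 ^ a := Nat.pow_le_pow_right (by norm_num) h.mc.ha
    omega
  obtain ⟨t0, ht0, ht01⟩ : ∃ t0 : G, t0 ∈ Q ∧ t0 ≠ 1 := by
    obtain ⟨t, ht⟩ := (Subgroup.ne_bot_iff_exists_ne_one).mp hQne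
    exact ⟨(t : G), t.2, fun h1 => ht (Subtype.ext h1)⟩
  have hcz0 : centralizer ({t0} : Set G) = Q :=
    le_antisymm (cz_le_Q hC2b hW ht0 ht01) (fun y hy => by
      rw [mem_centralizer_singleton_iff]; exact Q_comm h hy ht0)
  have ht0ord : orderOf t0 = 2 := orderOf_eq_two_of_mul_self (h.qexp t0 ht0) ht01
  -- every involution is conjugate to `t0`
  have hconj : ∀ e : G, orderOf e = 2 → ∃ c : G, c * e * c⁻¹ = t0 := by
    intro e he
    obtain ⟨c, hc⟩ := exists_conj_mem_Q h (zpowers e) (isPGroup_two_zpowers he)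
    have h1 : c * e * c⁻¹ ∈ Q := hc e (mem_zpowers e)
    have h2 : c * e * c⁻¹ ≠ 1 := by
      intro h1
      have : orderOf (c * e * c⁻¹) = 2 := by rw [orderOf_conj, he]
      rw [h1, orderOf_one] at this; omega
    obtain ⟨k, hk⟩ := h.xtrans _ h1 t0 ht0 h2 ht01
    exact ⟨x ^ k * c, by rw [← hk]; group⟩
  -- the number of involutions
  set m := Nat.card {u : G // orderOf u = 2} with hm
  have hmG : m * 2 ^ a = Nat.card G := by
    have hset : {e : G | orderOf e = 2} = MulAction.orbit (ConjAct G) t0 := by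
      ext e
      constructor
      · intro he
        obtain ⟨c, hc⟩ := hconj e he
        refine ⟨ConjAct.toConjAct c⁻¹, ?_⟩
        change (ConjAct.toConjAct c⁻¹) • t0 = e
        rw [ConjAct.smul_def, ConjAct.ofConjAct_toConjAct, ← hc]; group
      · rintro ⟨c, rfl⟩
        change orderOf (c • t0) = 2
        rw [ConjAct.smul_def, orderOf_conj, ht0ord]
    have h1 : m = (MulAction.orbit (ConjAct G) t0).ncard := by
      rw [← hset, hm]; rfl
    rw [h1, ncard_orbit_conjAct_eq_index, hcz0, ← h.qcard]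
    exact Subgroup.index_mul_card Q
  have hmpos : 0 < m := by
    rw [hm]
    exact Nat.card_pos_iff.mpr ⟨⟨⟨t0, ht0ord⟩⟩, inferInstance⟩
  -- each involution commutes with exactly `p` involutions
  have hcomm : ∀ u : G, orderOf u = 2 →
      Nat.card {v : G // orderOf v = 2 ∧ u * v = v * u} = p := by
    intro u hu
    obtain ⟨c, hc⟩ := hconj u hu
    have hcardQ : Nat.card ↥((Q : Set G) \ {1}) = p := by
      rw [Nat.card_coe_set_eq, Set.ncard_sdiff_singleton_of_mem (Subgroup.one_mem _)]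
      have : (Q : Set G).ncard = 2 ^ a := by
        rw [← h.qcard]; exact (Nat.card_coe_set_eq _).symm
      rw [this, ← h.mc.hpa]; rfl
    rw [← hcardQ]
    refine Nat.card_congr
      { toFun := fun v => ⟨c * v.1 * c⁻¹, ?_, ?_⟩
        invFun := fun w => ⟨c⁻¹ * w.1 * c, ?_, ?_⟩
        left_inv := fun v => by apply Subtype.ext; simp only; group
        right_inv := fun w => by apply Subtype.ext; simp only; group }
    · -- membership in Q
      have hv := v.2.2
      have hmem : c * v.1 * c⁻¹ ∈ centralizer ({t0} : Set G) := by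
        rw [mem_centralizer_singleton_iff, ← hc]
        calc c * v.1 * c⁻¹ * (c * u * c⁻¹) = c * (v.1 * u) * c⁻¹ := by group
          _ = c * (u * v.1) * c⁻¹ := by rw [← hv]
          _ = c * u * c⁻¹ * (c * v.1 * c⁻¹) := by group
      rw [hcz0] at hmem
      exact hmem
    · -- not 1
      intro h1
      rw [Set.mem_singleton_iff] at h1
      have : orderOf (c * v.1 * c⁻¹) = 2 := by rw [orderOf_conj, v.2.1]
      rw [h1, orderOf_one] at this; omega
    · -- order 2
      have hw : w.1 ∈ Q := w.2.1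
      have hw1 : w.1 ≠ 1 := fun h1 => w.2.2 (Set.mem_singleton_iff.mpr h1)
      have : orderOf (c⁻¹ * w.1 * c) = orderOf w.1 := by
        have := orderOf_conj c⁻¹ w.1
        rwa [inv_inv] at this
      rw [this]
      exact orderOf_eq_two_of_mul_self (h.qexp _ hw) hw1
    · -- commutes with u
      have hw : w.1 ∈ Q := w.2.1
      have hcm := Q_comm h hw ht0
      have hu' : u = c⁻¹ * t0 * c := by rw [← hc]; group
      rw [hu']
      calc c⁻¹ * t0 * c * (c⁻¹ * w.1 * c) = c⁻¹ * (t0 * w.1) * c := by group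
        _ = c⁻¹ * (w.1 * t0) * c := by rw [hcm]
        _ = c⁻¹ * w.1 * c * (c⁻¹ * t0 * c) := by group
  -- Sylow p-subgroups
  set b := (Nat.card G).factorization p with hb
  have hs : ∀ S : Sylow p G, Nat.card S = p ^ b := fun S => S.card_eq_multiplicity
  have hb1 : 1 ≤ b := by
    have : 0 < (Nat.card G).factorization p :=
      hpp.factorization_pos_of_dvd Nat.card_pos.ne' h.mc.hpG
    omega
  -- a non-commuting pair of involutions
  have hNtop : normalizer (Q : Set G) ≠ ⊤ := by
    intro htop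
    have hn : Q.Normal := normalizer_eq_top_iff.mp htop
    haveI := h.simple
    rcases hn.eq_bot_or_eq_top with hb' | ht
    · exact hQne hb'
    · -- `G` would be a 2-group
      have h1 := h.qcard
      rw [ht, Subgroup.card_top] at h1
      have hd := h.mc.hpG
      rw [h1] at hd
      have := (Nat.prime_dvd_prime_iff_eq hpp Nat.prime_two).mp (hpp.dvd_of_dvd_pow hd)
      exact hp2 this
  obtain ⟨c, hcN⟩ : ∃ c : G, c ∉ normalizer (Q : Set G) := by
    by_contra hall
    push Not at hall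
    exact hNtop (eq_top_iff.mpr fun y _ => hall y)
  have huord : orderOf (c * t0 * c⁻¹) = 2 := by rw [orderOf_conj, ht0ord]
  have huN : c * t0 * c⁻¹ ∉ normalizer (Q : Set G) := by
    intro hN
    have hmem : c * t0 * c⁻¹ ∈ Q := mem_Q_of_normalizer h hN (isPGroup_two_zpowers huord)
    exact hcN (Cfsg.Agent.Helper63.MixI12.mem_normalizer_of_conj_mem h hI ht0 ht01 hmem)
  have hne : t0 * (c * t0 * c⁻¹) ≠ (c * t0 * c⁻¹) * t0 := by
    intro hcm
    apply huN
    have : c * t0 * c⁻¹ ∈ centralizer ({t0} : Set G) := by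
      rw [mem_centralizer_singleton_iff]; exact hcm.symm
    rw [hcz0] at this
    exact le_normalizer this
  have hcount := Cfsg.Agent.Helper24.Mix.count_pairs (G := G) p (p ^ b) p hcomm
    (fun u v hu hv huv => real_structure h hW hu hv huv) hs
    ⟨t0, c * t0 * c⁻¹, ht0ord, huord, hne⟩
  rw [← hm, ← hmG] at hcount
  -- arithmetic
  have hs1 : p ≤ p ^ b := by
    calc p = p ^ 1 := (pow_one p).symm
      _ ≤ p ^ b := Nat.pow_le_pow_right hpp.pos hb1
  have h2 : 2 * (m - p) = 2 ^ a * (p ^ b - 1) := by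
    have : m * (2 * (m - p)) = m * (2 ^ a * (p ^ b - 1)) := by
      calc m * (2 * (m - p)) = 2 * (m * (m - p)) := by ring
        _ = m * 2 ^ a * (p ^ b - 1) := hcount
        _ = m * (2 ^ a * (p ^ b - 1)) := by ring
    exact Nat.eq_of_mul_eq_mul_left hmpos this
  have hpm : p ∣ m := by
    have hd : p ∣ m * 2 ^ a := by rw [hmG]; exact h.mc.hpG
    have hcop : Nat.Coprime p (2 ^ a) := by
      apply Nat.Coprime.pow_right
      rw [Nat.coprime_primes hpp Nat.prime_two]; exact hp2
    exact hcop.dvd_of_dvd_mul_right hd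
  have hpmp : p ∣ m - p := Nat.dvd_sub hpm (dvd_refl p)
  have hd2 : p ∣ 2 ^ a * (p ^ b - 1) := by
    rw [← h2]; exact Dvd.dvd.mul_left hpmp 2
  have hcop : Nat.Coprime p (2 ^ a) := by
    apply Nat.Coprime.pow_right
    rw [Nat.coprime_primes hpp Nat.prime_two]; exact hp2
  have hd3 : p ∣ p ^ b - 1 := hcop.dvd_of_dvd_mul_left hd2
  have hd4 : p ∣ p ^ b := dvd_pow_self p (by omega)
  have hd5 : p ∣ p ^ b - (p ^ b - 1) := Nat.dvd_sub hd4 hd3
  have hpos : 1 ≤ p ^ b := Nat.one_le_pow _ _ hpp.pos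
  have : p ^ b - (p ^ b - 1) = 1 := by omega
  rw [this] at hd5
  exact hpp.one_lt.ne' (Nat.dvd_one.mp hd5)

end Cfsg.Agent.Helper70.Mix
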