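import Cfsg.Agent.Helper57.BP.PartI
import Cfsg.Agent.Helper57.BP.Weak

/-!
# S4705 (Brauer 1966), piece (P03) of helper16's skeleton: the arithmetic of the multiplicities of
`ψ|_C` when `δ = -1` and `ψ(1) = p - 2`.
(Adapted from `Helper57.BP.delta_eq_one_of_le`.)
-/

set_option autoImplicit false

namespace Cfsg.Agent.Helper70.B66

open Cfsg Cfsg.Agent.Helper16 Cfsg.Agent.Helper16.DefOne Cfsg.Agent.Helper82.DefOne
  Cfsg.Agent.Helper77.DefOne Cfsg.Agent.Helper57.BH Cfsg.Agent.Helper57.BP Cfsg.Agent.Helper63.BH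
open scoped ComplexConjugate

universe u

variable {G : Type u} [Group G] [Fintype G] {p : ℕ} [Fact p.Prime] (P : Sylow p G)

open Classical in
/-- (P03) the arithmetic of the multiplicities of `ψ|_C` when `δ = -1` and `ψ(1) = p - 2` -/
theorem setup_arith (hP : Nat.card P = p) [((P : Subgroup G).subgroupOf (nor P)).Normal]
    (hmod : ModCount p P) (hp5 : 5 < p) (θ : IrrCharacter (cen P)) (hθ : IsCanon P θ)
    {X Y : Set (IrrCharacter G)} {ε : IrrCharacter G → ℤ} (D : IsRData P θ X Y ε (-1))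
    (ψ : IrrCharacter G) (hψ : ψ ∈ Y) (hdeg : charDegree (ψ : G → ℂ) = p - 2)
    (hker : ∃ x : G, x ∈ (P : Subgroup G) ∧ (ψ : G → ℂ) x ≠ (ψ : G → ℂ) 1)
    (φ₀ : IrrCharacter (cen P)) (h1 : can P φ₀ = θ) (h2 : ¬ IsCanon P φ₀)
    (hrow : ∀ φ : IrrCharacter (cen P),
      rowZ P ψ φ = if φ ∈ MulAction.orbit (nor P) φ₀ then -1 else 0) :
    charDegree (θ : cen P → ℂ) = 1 ∧ (∀ n : nor P, n • θ = θ) ∧
      (cen P).relIndex (nor P) = 2 ∧
      ∀ φ : IrrCharacter (cen P), mult P ψ φ =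
        if can P φ = θ ∧ φ ∉ MulAction.orbit (nor P) φ₀ then 1 else 0 := by
  have hpp : p.Prime := Fact.out
  haveI : Finite (IrrCharacter (cen P)) := Helper79.irr_finite'
  haveI : Fintype (IrrCharacter (cen P)) := Fintype.ofFinite _
  -- the orbit consists of non-canonical characters
  have hOnc : ∀ φ ∈ MulAction.orbit (nor P) φ₀, ¬ IsCanon P φ := by
    rintro φ hφ hcan
    obtain ⟨n, hn⟩ := (mem_orbit_iff P φ₀ φ).mp hφ
    apply h2
    rw [← hn]
    exact isCanon_smul P hP n φ hcan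
  have hθO : θ ∉ MulAction.orbit (nor P) φ₀ := fun h => hOnc θ h hθ
  have hcanθ : can P θ = θ := can_eq_self P hP θ hθ
  -- multiplicities
  have hmθ : 1 ≤ mult P ψ θ := by
    have h3 := hrow φ₀
    rw [if_pos (MulAction.mem_orbit_self φ₀)] at h3
    unfold rowZ at h3
    rw [h1] at h3
    have h4 := mult_nonneg_aux P ψ φ₀
    omega
  have hmF : ∀ φ : IrrCharacter (cen P), can P φ = θ → φ ∉ MulAction.orbit (nor P) φ₀ →
      mult P ψ φ = mult P ψ θ := by
    intro φ hφ hφO
    have h3 := hrow φ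
    rw [if_neg hφO] at h3
    unfold rowZ at h3
    rw [hφ] at h3
    omega
  have hmO : ∀ φ : IrrCharacter (cen P), can P φ = θ → φ ∈ MulAction.orbit (nor P) φ₀ →
      mult P ψ φ = mult P ψ θ - 1 := by
    intro φ hφ hφO
    have h3 := hrow φ
    rw [if_pos hφO] at h3
    unfold rowZ at h3
    rw [hφ] at h3
    omega
  have hdegF : ∀ φ : IrrCharacter (cen P), can P φ = θ →
      charDegree (φ : cen P → ℂ) = charDegree (θ : cen P → ℂ) := by
    intro φ hφ
    rw [← hφ, Cfsg.Agent.Helper48.BH.charDegree_can P hP φ]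
  have hdpos : 0 < charDegree (θ : cen P → ℂ) := Nat.pos_of_ne_zero (charDegree_ne_zero' θ)
  -- cardinalities
  have hcardFib : Nat.card {φ : IrrCharacter (cen P) // can P φ = θ} = p :=
    card_fibre_can P hP θ hθ
  have hcardFO : Nat.card {φ : IrrCharacter (cen P) //
      can P φ = θ ∧ φ ∈ MulAction.orbit (nor P) φ₀} = inertia P θ := by
    have h3 := card_orbit_in_fibre P hP φ₀ h2
    rw [h1] at h3
    rw [← h3]
    apply Nat.card_congr
    apply Equiv.subtypeEquivRight
    intro φ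
    rw [mem_orbit_iff]
  -- finsets
  set Fib : Finset (IrrCharacter (cen P)) := Finset.univ.filter (fun φ => can P φ = θ) with hFib
  set FO : Finset (IrrCharacter (cen P)) :=
    Finset.univ.filter (fun φ => can P φ = θ ∧ φ ∈ MulAction.orbit (nor P) φ₀) with hFO
  set FN : Finset (IrrCharacter (cen P)) :=
    Finset.univ.filter (fun φ => can P φ = θ ∧ φ ∉ MulAction.orbit (nor P) φ₀) with hFN
  have hcFib : Fib.card = p := by
    have h3 : Fib.card = Nat.card {φ : IrrCharacter (cen P) // can P φ = θ} := by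
      rw [Nat.card_eq_fintype_card, Fintype.card_subtype]
    rw [h3]
    exact hcardFib
  have hcFO : FO.card = inertia P θ := by
    have h3 : FO.card = Nat.card {φ : IrrCharacter (cen P) //
        can P φ = θ ∧ φ ∈ MulAction.orbit (nor P) φ₀} := by
      rw [Nat.card_eq_fintype_card, Fintype.card_subtype]
    rw [h3]
    exact hcardFO
  have hsplit : FO.card + FN.card = Fib.card := by
    rw [hFO, hFN, hFib]
    have h3 := Finset.card_filter_add_card_filter_not
      (s := Finset.univ.filter (fun φ : IrrCharacter (cen P) => can P φ = θ))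
      (fun φ => φ ∈ MulAction.orbit (nor P) φ₀)
    rw [Finset.filter_filter, Finset.filter_filter] at h3
    exact h3
  -- the degree bound, with the multiplicity `m = mult ψ θ`
  have hsumFN : ∑ φ ∈ FN, mult P ψ φ * (charDegree (φ : cen P → ℂ) : ℤ) =
      (FN.card : ℤ) * (mult P ψ θ * (charDegree (θ : cen P → ℂ) : ℤ)) := by
    rw [← nsmul_eq_mul, ← Finset.sum_const]
    apply Finset.sum_congr rfl
    intro φ hφ
    rw [hFN, Finset.mem_filter] at hφ
    rw [hmF φ hφ.2.1 hφ.2.2, hdegF φ hφ.2.1]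
  have hsumle : ∑ φ ∈ FN, mult P ψ φ * (charDegree (φ : cen P → ℂ) : ℤ) ≤
      (charDegree (ψ : G → ℂ) : ℤ) := by
    rw [degree_eq_sum_mult P ψ]
    apply Finset.sum_le_sum_of_subset_of_nonneg (Finset.subset_univ _)
    intro φ _ _
    exact mul_nonneg (mult_nonneg_aux P ψ φ) (Int.natCast_nonneg _)
  have hdegb : (FN.card : ℤ) * (mult P ψ θ * (charDegree (θ : cen P → ℂ) : ℤ)) ≤
      (charDegree (ψ : G → ℂ) : ℤ) := by
    rw [← hsumFN]; exact hsumle
  have hepos : 0 < inertia P θ := inertia_pos P hP θ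
  have he_dvd_f : inertia P θ ∣ (cen P).relIndex (nor P) := inertia_dvd P hP θ
  have hf_dvd : (cen P).relIndex (nor P) ∣ p - 1 := relIndex_cen_nor_dvd P hP
  have he_dvd : inertia P θ ∣ p - 1 := dvd_trans he_dvd_f hf_dvd
  have hp2 : 2 ≤ p := hpp.two_le
  have hfpos : 0 < (cen P).relIndex (nor P) := Nat.pos_of_dvd_of_pos hf_dvd (by omega)
  have hfle : (cen P).relIndex (nor P) ≤ p - 1 := Nat.le_of_dvd (by omega) hf_dvd
  have hele : inertia P θ ≤ p - 1 := Nat.le_of_dvd (by omega) he_dvd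
  have hFNcard : FN.card = p - inertia P θ := by omega
  have hdθ1 : (1 : ℤ) ≤ (charDegree (θ : cen P → ℂ) : ℤ) := by exact_mod_cast hdpos
  have hψdeg : (charDegree (ψ : G → ℂ) : ℤ) = (p : ℤ) - 2 := by
    rw [hdeg]; push_cast [Nat.cast_sub (by omega : 2 ≤ p)]; ring
  -- the case `e = p - 1` is impossible
  have hene : inertia P θ ≠ p - 1 := by
    intro he1
    have hFN1 : FN.card = 1 := by omega
    have hθFN : θ ∈ FN := by
      rw [hFN, Finset.mem_filter]
      exact ⟨Finset.mem_univ _, hcanθ, hθO⟩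
    have hFNθ : ∀ φ : IrrCharacter (cen P), can P φ = θ → φ ≠ θ →
        φ ∈ MulAction.orbit (nor P) φ₀ := by
      intro φ hφ hne
      by_contra hφO
      have hφFN : φ ∈ FN := by
        rw [hFN, Finset.mem_filter]
        exact ⟨Finset.mem_univ _, hφ, hφO⟩
      obtain ⟨a, ha⟩ := Finset.card_eq_one.mp hFN1
      rw [ha, Finset.mem_singleton] at hφFN hθFN
      exact hne (hφFN.trans hθFN.symm)
    -- `N` fixes `θ`
    have hf : (cen P).relIndex (nor P) = inertia P θ := by
      have h6 : inertia P θ ≤ (cen P).relIndex (nor P) := Nat.le_of_dvd hfpos he_dvd_f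
      omega
    have horbθ : Nat.card (MulAction.orbit (nor P) θ) = 1 := by
      have h3 := card_orbit_mul_inertia P hP θ
      rw [hf] at h3
      exact Nat.eq_of_mul_eq_mul_right hepos (by rw [h3, one_mul])
    have hstab : ∀ n : nor P, n • θ = θ := by
      intro n
      have hss := (Nat.card_eq_one_iff_unique.mp horbθ).1
      have h3 : (⟨n • θ, MulAction.mem_orbit θ n⟩ : MulAction.orbit (nor P) θ) =
          ⟨θ, MulAction.mem_orbit_self θ⟩ := Subsingleton.elim _ _
      exact congrArg Subtype.val h3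
    have hOFib : ∀ φ ∈ MulAction.orbit (nor P) φ₀, can P φ = θ := by
      rintro φ ⟨n, rfl⟩
      show can P (n • φ₀) = θ
      rw [can_smul P hP n φ₀, h1, hstab n]
    -- the values of `ψ` on `P \ 1`
    have hval : ∀ x : G, x ∈ (P : Subgroup G) → x ≠ 1 →
        (ψ : G → ℂ) x = (((charDegree (θ : cen P → ℂ) : ℕ) : ℤ) : ℂ) := by
      intro x hx hx1
      have hc := dvd_orderOf_of_mem P hP x hx hx1
      have h3 := apply_singular_eq P hP ψ ⟨x, le_cen P hP hx⟩ hc
      have h4 := finsum_fibre_apply_singular P hP θ hθ ⟨x, le_cen P hP hx⟩ hc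
      rw [finsum_eq_sum_of_fintype] at h3
      rw [finsum_mem_def, finsum_eq_sum_of_fintype] at h4
      simp only [Set.indicator_apply, Set.mem_ofPred_eq] at h4
      have h5 : ∀ φ : IrrCharacter (cen P),
          (if can P φ = θ then (φ : cen P → ℂ) ⟨x, le_cen P hP hx⟩ else 0) =
          (if φ ∈ MulAction.orbit (nor P) φ₀ then (φ : cen P → ℂ) ⟨x, le_cen P hP hx⟩ else 0) +
            (if φ = θ then (θ : cen P → ℂ) ⟨x, le_cen P hP hx⟩ else 0) := by
        intro φ
        by_cases hφO : φ ∈ MulAction.orbit (nor P) φ₀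
        · have hne : φ ≠ θ := fun h => hθO (h ▸ hφO)
          rw [if_pos hφO, if_neg hne, if_pos (hOFib φ hφO), add_zero]
        · by_cases hφθ : φ = θ
          · subst hφθ
            rw [if_pos hcanθ, if_neg hφO, if_pos rfl, zero_add]
          · rw [if_neg hφO, if_neg hφθ, add_zero, if_neg]
            intro hcan
            exact hφO (hFNθ φ hcan hφθ)
      simp only [h5] at h4
      rw [Finset.sum_add_distrib, Finset.sum_ite_eq' Finset.univ θ,
        if_pos (Finset.mem_univ _)] at h4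
      have h6 : ∀ φ : IrrCharacter (cen P),
          (rowZ P ψ φ : ℂ) * (φ : cen P → ℂ) ⟨x, le_cen P hP hx⟩ =
          -(if φ ∈ MulAction.orbit (nor P) φ₀ then (φ : cen P → ℂ) ⟨x, le_cen P hP hx⟩
            else 0) := by
        intro φ
        rw [hrow φ]
        split_ifs <;> simp
      simp only [h6] at h3
      rw [Finset.sum_neg_distrib] at h3
      have h7 : (ψ : G → ℂ) x = (θ : cen P → ℂ) ⟨x, le_cen P hP hx⟩ := by
        rw [h3]
        linear_combination (-1 : ℂ) * h4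
      rw [h7, hθ ⟨x, le_cen P hP hx⟩ hx, irr_one_eq_natCast θ]
      simp
    -- the degree of `ψ`
    have hmodeq := degree_modEq_of_const P hP ψ ((charDegree (θ : cen P → ℂ) : ℕ) : ℤ) hval
    have hdθ : charDegree (θ : cen P → ℂ) ≤ charDegree (ψ : G → ℂ) := by
      rw [hFN1, Nat.cast_one, one_mul] at hdegb
      have h3 : ((charDegree (θ : cen P → ℂ) : ℕ) : ℤ) ≤ (charDegree (ψ : G → ℂ) : ℤ) := by
        have h4 : (0 : ℤ) ≤ (charDegree (θ : cen P → ℂ) : ℤ) := Int.natCast_nonneg _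
        nlinarith
      exact_mod_cast h3
    have hdegeq : charDegree (ψ : G → ℂ) = charDegree (θ : cen P → ℂ) := by
      have h3 : charDegree (ψ : G → ℂ) ≡ charDegree (θ : cen P → ℂ) [MOD p] :=
        Int.natCast_modEq_iff.mp hmodeq
      exact Nat.ModEq.eq_of_lt_of_lt h3 (by omega) (by omega)
    obtain ⟨x, hx, hne⟩ := hker
    apply hne
    by_cases hx1 : x = 1
    · rw [hx1]
    · rw [hval x hx hx1, irr_one_eq_natCast ψ, hdegeq]
      simp
  -- hence `2 e ≤ p - 1`
  have he2 : 2 * inertia P θ ≤ p - 1 := by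
    obtain ⟨k, hk⟩ := he_dvd
    rcases k with _ | _ | k
    · omega
    · exfalso; apply hene; omega
    · have h4 : 2 * inertia P θ ≤ inertia P θ * (k + 1 + 1) := by nlinarith
      omega
  -- `m θ(1) = 1`
  have hmd : mult P ψ θ * (charDegree (θ : cen P → ℂ) : ℤ) = 1 := by
    have h3 : (1 : ℤ) ≤ mult P ψ θ * (charDegree (θ : cen P → ℂ) : ℤ) := by nlinarith
    by_contra hne
    have h4 : (2 : ℤ) ≤ mult P ψ θ * (charDegree (θ : cen P → ℂ) : ℤ) := by omega
    have h5 : (FN.card : ℤ) * 2 ≤ (p : ℤ) - 2 := by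
      have h6 : (0 : ℤ) ≤ (FN.card : ℤ) := Int.natCast_nonneg _
      nlinarith
    have h7 : FN.card * 2 + 2 ≤ p := by
      have : ((FN.card * 2 + 2 : ℕ) : ℤ) ≤ (p : ℤ) := by push_cast; linarith
      exact_mod_cast this
    omega
  have hm1 : mult P ψ θ = 1 := by
    have h3 : mult P ψ θ ∣ 1 := Dvd.intro _ hmd
    exact Int.eq_one_of_dvd_one (by omega) h3
  have hθ1 : charDegree (θ : cen P → ℂ) = 1 := by
    rw [hm1, one_mul] at hmd
    exact_mod_cast hmd
  -- `e ≥ 2`
  have hege : 2 ≤ inertia P θ := by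
    rw [hmd, mul_one, hψdeg] at hdegb
    have h3 : FN.card + 2 ≤ p := by
      have : ((FN.card + 2 : ℕ) : ℤ) ≤ (p : ℤ) := by push_cast; linarith
      exact_mod_cast this
    omega
  -- `f = 2`
  have hf2 : (cen P).relIndex (nor P) = 2 := by
    have h3 := D.degY ψ hψ
    rw [hθ1, mul_one, hψdeg] at h3
    have h4 : (p : ℤ) ∣ -1 * (((cen P).relIndex (nor P) : ℕ) : ℤ) - ((p : ℤ) - 2) :=
      Int.modEq_iff_dvd.1 h3
    have h5 : (p : ℤ) ∣ (((cen P).relIndex (nor P) : ℕ) : ℤ) - 2 := by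
      have h6 : (((cen P).relIndex (nor P) : ℕ) : ℤ) - 2 =
          -(-1 * (((cen P).relIndex (nor P) : ℕ) : ℤ) - ((p : ℤ) - 2)) - (p : ℤ) := by ring
      rw [h6]
      exact dvd_sub ((dvd_neg (a := (p : ℤ))).2 h4) (dvd_refl _)
    have hf2le : 2 ≤ (cen P).relIndex (nor P) :=
      le_trans hege (Nat.le_of_dvd hfpos he_dvd_f)
    have h7 : p ∣ (cen P).relIndex (nor P) - 2 := by
      have h8 : (((cen P).relIndex (nor P) - 2 : ℕ) : ℤ) =
          (((cen P).relIndex (nor P) : ℕ) : ℤ) - 2 := by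
        rw [Nat.cast_sub hf2le]; rfl
      have : (p : ℤ) ∣ (((cen P).relIndex (nor P) - 2 : ℕ) : ℤ) := by rw [h8]; exact h5
      exact Int.natCast_dvd_natCast.1 this
    rcases Nat.eq_zero_or_pos ((cen P).relIndex (nor P) - 2) with h9 | h9
    · omega
    · have := Nat.le_of_dvd h9 h7
      omega
  have he2' : inertia P θ = 2 := by
    have h3 : inertia P θ ≤ 2 := by
      rw [← hf2]; exact Nat.le_of_dvd hfpos he_dvd_f
    omega
  -- `N` fixes `θ`
  have horbθ : Nat.card (MulAction.orbit (nor P) θ) = 1 := by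
    have h3 := card_orbit_mul_inertia P hP θ
    rw [hf2, he2'] at h3
    omega
  have hstab : ∀ n : nor P, n • θ = θ := by
    intro n
    have hss := (Nat.card_eq_one_iff_unique.mp horbθ).1
    have h3 : (⟨n • θ, MulAction.mem_orbit θ n⟩ : MulAction.orbit (nor P) θ) =
        ⟨θ, MulAction.mem_orbit_self θ⟩ := Subsingleton.elim _ _
    exact congrArg Subtype.val h3
  have hOFib : ∀ φ ∈ MulAction.orbit (nor P) φ₀, can P φ = θ := by
    rintro φ ⟨n, rfl⟩
    show can P (n • φ₀) = θ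
    rw [can_smul P hP n φ₀, h1, hstab n]
  refine ⟨hθ1, hstab, hf2, ?_⟩
  -- the multiplicities
  have hFNsum : ∑ φ ∈ FN, mult P ψ φ * (charDegree (φ : cen P → ℂ) : ℤ) =
      (charDegree (ψ : G → ℂ) : ℤ) := by
    rw [hsumFN, hmd, mul_one, hψdeg, hFNcard, he2']
    push_cast [Nat.cast_sub (by omega : 2 ≤ p)]
    ring
  have hrest : ∀ φ : IrrCharacter (cen P), φ ∉ FN →
      mult P ψ φ * (charDegree (φ : cen P → ℂ) : ℤ) = 0 := by
    have h3 := degree_eq_sum_mult P ψ
    rw [← Finset.sum_add_sum_compl FN, hFNsum] at h3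
    have h4 : ∑ φ ∈ FNᶜ, mult P ψ φ * (charDegree (φ : cen P → ℂ) : ℤ) = 0 := by linarith
    have h5 := (Finset.sum_eq_zero_iff_of_nonneg (fun φ _ =>
      mul_nonneg (mult_nonneg_aux P ψ φ) (Int.natCast_nonneg _))).mp h4
    intro φ hφ
    exact h5 φ (Finset.mem_compl.mpr hφ)
  intro φ
  by_cases hφ : can P φ = θ ∧ φ ∉ MulAction.orbit (nor P) φ₀
  · rw [if_pos hφ, hmF φ hφ.1 hφ.2, hm1]
  · rw [if_neg hφ]
    have hφFN : φ ∉ FN := by
      rw [hFN, Finset.mem_filter]
      exact fun h => hφ h.2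
    have h3 := hrest φ hφFN
    have h4 : ((charDegree (φ : cen P → ℂ) : ℕ) : ℤ) ≠ 0 := by
      exact_mod_cast charDegree_ne_zero' φ
    rcases mul_eq_zero.mp h3 with h5 | h5
    · exact h5
    · exact absurd h5 h4

end Cfsg.Agent.Helper70.B66
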