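import Cfsg.Agent.Helper57.BP.PartI
import Cfsg.Agent.Helper81.B66P15

/-!
# S4705 (Brauer 1966), piece (P16) of helper16's skeleton: the class constant sum over the block of
an invariant linear `θ` at two `p`-regular elements and an element of `P ∖ 1`.
First with (P15) as an explicit hypothesis (`tsum_Rset_regular_of`), then with helper81's (P15).
-/

set_option autoImplicit false

namespace Cfsg.Agent.Helper70.B66

open Cfsg Cfsg.Agent.Helper16 Cfsg.Agent.Helper16.DefOne Cfsg.Agent.Helper82.DefOne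
  Cfsg.Agent.Helper77.DefOne Cfsg.Agent.Helper57.BH Cfsg.Agent.Helper57.BP
open scoped ComplexConjugate

universe u

variable {G : Type u} [Group G] [Fintype G] {p : ℕ} [Fact p.Prime] (P : Sylow p G)

/-- (P16) with the conclusion of (P15) at `c = u` as a hypothesis -/
theorem tsum_Rset_regular_of (hP : Nat.card P = p)
    (θ : IrrCharacter (cen P)) (hθ : IsCanon P θ) (hθ1 : charDegree (θ : cen P → ℂ) = 1)
    (hinv : ∀ n : nor P, n • θ = θ)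
    {X Y : Set (IrrCharacter G)} {ε : IrrCharacter G → ℤ} {δ : ℤ} (D : IsRData P θ X Y ε δ)
    (t t' : G) (ht : ¬ p ∣ orderOf t) (ht' : ¬ p ∣ orderOf t')
    (u : G) (hu : u ∈ (P : Subgroup G)) (hu1 : u ≠ 1)
    (ψ₀ : IrrCharacter G) (hψ₀ : ψ₀ ∈ Y)
    (h15 : ∑ᶠ ψ ∈ Y, (ψ : G → ℂ) u = -(δ : ℂ) * (θ : cen P → ℂ) ⟨u, le_cen P hP hu⟩) :
    tsum (Rset P θ) t t' u =
      (∑ᶠ χ ∈ X, (ε χ : ℂ) * ((χ : G → ℂ) t * (χ : G → ℂ) t' / (χ : G → ℂ) 1)) -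
        (δ : ℂ) * ((ψ₀ : G → ℂ) t * (ψ₀ : G → ℂ) t' / (ψ₀ : G → ℂ) 1) := by
  classical
  have hpp : p.Prime := Fact.out
  haveI : Finite (IrrCharacter G) := Helper79.irr_finite'
  haveI : Fintype (cen P) := Fintype.ofFinite _
  have hXfin : X.Finite := Set.toFinite X
  have hYfin : Y.Finite := Set.toFinite Y
  have hconjZ : ∀ n : ℤ, conj (n : ℂ) = (n : ℂ) := fun n => by simp
  -- `θ(u) = 1`
  have hθu : (θ : cen P → ℂ) ⟨u, le_cen P hP hu⟩ = 1 := by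
    rw [hθ ⟨u, le_cen P hP hu⟩ hu, irr_one_eq_natCast θ, hθ1]
    simp
  -- the orbit of `θ`
  have horb : MulAction.orbit (nor P) θ = {θ} := by
    ext φ
    constructor
    · rintro ⟨n, rfl⟩
      exact hinv n
    · intro h
      rw [Set.mem_singleton_iff] at h
      rw [h]
      exact MulAction.mem_orbit_self θ
  -- values of the non-exceptional characters at `u`
  have hXu : ∀ χ ∈ X, (χ : G → ℂ) u = (ε χ : ℂ) := by
    intro χ hχ
    have h1 := D.valX χ hχ ⟨u, le_cen P hP hu⟩ (dvd_orderOf_of_mem P hP u hu hu1)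
    rw [horb, finsum_mem_singleton, hθu, mul_one] at h1
    exact h1
  -- the exceptional characters agree on the regular elements
  have hδne : (δ : ℂ) ≠ 0 := by
    rcases D.del with h | h <;> rw [h] <;> norm_num
  have hYreg : ∀ ψ ∈ Y, ∀ g : G, ¬ p ∣ orderOf g → (ψ : G → ℂ) g = (ψ₀ : G → ℂ) g := by
    intro ψ hψ g hg
    have h1 := D.rel ψ hψ g hg
    have h2 := D.rel ψ₀ hψ₀ g hg
    exact mul_left_cancel₀ hδne (h1.trans h2.symm)
  have h1reg : ¬ p ∣ orderOf (1 : G) := by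
    rw [orderOf_one]
    exact hpp.not_dvd_one
  -- split the sum
  unfold Cfsg.Agent.Helper57.BP.tsum
  rw [D.union, finsum_mem_union D.disj hXfin hYfin]
  have hX : ∑ᶠ χ ∈ X, (χ : G → ℂ) t * (χ : G → ℂ) t' * conj ((χ : G → ℂ) u) / (χ : G → ℂ) 1 =
      ∑ᶠ χ ∈ X, (ε χ : ℂ) * ((χ : G → ℂ) t * (χ : G → ℂ) t' / (χ : G → ℂ) 1) := by
    apply finsum_mem_congr rfl
    intro χ hχ
    rw [hXu χ hχ, hconjZ]
    ring
  have hY : ∑ᶠ ψ ∈ Y, (ψ : G → ℂ) t * (ψ : G → ℂ) t' * conj ((ψ : G → ℂ) u) / (ψ : G → ℂ) 1 =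
      -((δ : ℂ) * ((ψ₀ : G → ℂ) t * (ψ₀ : G → ℂ) t' / (ψ₀ : G → ℂ) 1)) := by
    have h2 : ∑ᶠ ψ ∈ Y, (ψ : G → ℂ) t * (ψ : G → ℂ) t' * conj ((ψ : G → ℂ) u) / (ψ : G → ℂ) 1 =
        ∑ᶠ ψ ∈ Y, ((ψ₀ : G → ℂ) t * (ψ₀ : G → ℂ) t' / (ψ₀ : G → ℂ) 1) *
          conj ((ψ : G → ℂ) u) := by
      apply finsum_mem_congr rfl
      intro ψ hψ
      rw [hYreg ψ hψ t ht, hYreg ψ hψ t' ht', hYreg ψ hψ 1 h1reg]
      ring
    rw [h2, ← mul_finsum_mem]
    have h3 : ∑ᶠ ψ ∈ Y, conj ((ψ : G → ℂ) u) = conj (∑ᶠ ψ ∈ Y, (ψ : G → ℂ) u) := by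
      rw [finsum_mem_eq_finite_toFinset_sum _ hYfin, finsum_mem_eq_finite_toFinset_sum _ hYfin,
        map_sum]
    rw [h3, h15, hθu, mul_one, map_neg, hconjZ]
    ring
  rw [hX, hY]
  ring

/-- (P16) the class constant sum over the block of an invariant linear `θ` at two `p`-regular
elements and an element of `P ∖ 1` -/
theorem tsum_Rset_regular (hP : Nat.card P = p)
    [((P : Subgroup G).subgroupOf (nor P)).Normal] (hmod : ModCount p P)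
    (θ : IrrCharacter (cen P)) (hθ : IsCanon P θ) (hθ1 : charDegree (θ : cen P → ℂ) = 1)
    (hinv : ∀ n : nor P, n • θ = θ)
    {X Y : Set (IrrCharacter G)} {ε : IrrCharacter G → ℤ} {δ : ℤ} (D : IsRData P θ X Y ε δ)
    (t t' : G) (ht : ¬ p ∣ orderOf t) (ht' : ¬ p ∣ orderOf t')
    (u : G) (hu : u ∈ (P : Subgroup G)) (hu1 : u ≠ 1)
    (ψ₀ : IrrCharacter G) (hψ₀ : ψ₀ ∈ Y) :
    tsum (Rset P θ) t t' u =
      (∑ᶠ χ ∈ X, (ε χ : ℂ) * ((χ : G → ℂ) t * (χ : G → ℂ) t' / (χ : G → ℂ) 1)) -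
        (δ : ℂ) * ((ψ₀ : G → ℂ) t * (ψ₀ : G → ℂ) t' / (ψ₀ : G → ℂ) 1) :=
  tsum_Rset_regular_of P hP θ hθ hθ1 hinv D t t' ht ht' u hu hu1 ψ₀ hψ₀
    (Cfsg.Agent.Helper81.B66.finsum_Y_singular P hP hmod θ hθ hinv D ⟨u, le_cen P hP hu⟩
      (dvd_orderOf_of_mem P hP u hu hu1))

end Cfsg.Agent.Helper70.B66
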