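import Cfsg.Agent.Helper54.BT.Defs
import Cfsg.Agent.S0142
import Cfsg.Agent.Helper3.ScalarSubgroup
import Cfsg.Agent.Helper3.CharEq
import Cfsg.Agent.Helper78.LocalRing
import Cfsg.Agent.Helper74.DegP

/-!
# (FC) of helper54's S0998 engine (#7616)

`burnside_vanish`, `ne_zero_of_sameBlock`, `exists_coprime_class`, `final_contra`.
-/

set_option autoImplicit false

namespace Cfsg.Agent.Helper70.BT

open Cfsg Cfsg.Agent.Helper16 Cfsg.Agent.Helper16.DefOne Cfsg.Agent.Helper82.DefOne
  Cfsg.Agent.Helper77.DefOne Cfsg.Agent.Helper16.Brauer43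
open scoped ComplexConjugate

universe u

section abstract

variable {G : Type u} [Group G] [Fintype G]

/-- (BV) Burnside: in a perfect simple group a nonprincipal irreducible character vanishes on the
nontrivial elements whose class size is prime to its degree -/
theorem burnside_vanish [IsSimpleGroup G] (hperf : commutator G = ⊤) (χ : IrrCharacter G)
    (hχ : χ ≠ Helper79.principalIrr G) (u : G) (hu : u ≠ 1)
    (hcop : Nat.Coprime (charDegree (χ : G → ℂ)) (Subgroup.centralizer ({u} : Set G)).index) :
    (χ : G → ℂ) u = 0 := by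
  obtain ⟨χf, n, ρ, hρ, rfl⟩ := χ
  have hρ' := hρ
  change ρ.character u = 0
  have hcop' : Nat.Coprime (Module.finrank ℂ (Fin n → ℂ))
      (Subgroup.centralizer ({u} : Set G)).index := by
    rw [← Helper79.charDegree_character ρ]
    exact hcop
  rcases Cfsg.Agent.S0142.result ρ u hcop' with h0 | hnorm
  · exact h0
  · exfalso
    apply hχ
    have hsc := (Cfsg.Agent.Helper3.norm_char_eq_iff ρ u (isOfFinOrder_of_finite u)).mp hnorm
    have := Cfsg.Agent.Helper3.character_eq_one_of_scalar ρ hperf u hu hsc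
    apply Subtype.ext
    exact this

/-- (PB) a character in the principal `q`-block does not vanish on classes of size prime to `q` -/
theorem ne_zero_of_sameBlock (q : ℕ) [Fact q.Prime] (M : Ideal AlgInt) (hM : IsPModular q M)
    (χ : IrrCharacter G)
    (h : SameBlock M (χ : G → ℂ) ((Helper79.principalIrr G : IrrCharacter G) : G → ℂ))
    (u : G) (hu : ¬ q ∣ (Subgroup.centralizer ({u} : Set G)).index) : (χ : G → ℂ) u ≠ 0 := by
  intro h0
  have h1 := h u
  have e1 : centralChar (χ : G → ℂ) u = 0 := by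
    unfold centralChar
    rw [h0, mul_zero, zero_div]
  have e2 : centralChar ((Helper79.principalIrr G : IrrCharacter G) : G → ℂ) u =
      ((Subgroup.centralizer ({u} : Set G)).index : ℂ) := by
    unfold centralChar
    show ((Subgroup.centralizer ({u} : Set G)).index : ℂ) * 1 / 1 = _
    rw [mul_one, div_one]
  rw [e1, e2, zero_sub] at h1
  have h2 : MemLocalIdeal M (((-((Subgroup.centralizer ({u} : Set G)).index : ℤ) : ℤ)) : ℂ) := by
    push_cast
    exact h1
  rw [Helper78.memLocalIdeal_intCast_iff hM] at h2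
  apply hu
  have h3 := dvd_neg.mp h2
  exact_mod_cast h3

/-- (CE) a nontrivial element whose class size is prime to `q` -/
theorem exists_coprime_class (q : ℕ) [Fact q.Prime] (hq : q ∣ Nat.card G) :
    ∃ u : G, u ≠ 1 ∧ ¬ q ∣ (Subgroup.centralizer ({u} : Set G)).index := by
  classical
  obtain ⟨Q⟩ : Nonempty (Sylow q G) := inferInstance
  have hQne : (Q : Subgroup G) ≠ ⊥ := Q.ne_bot_of_dvd_card hq
  have hnt : Nontrivial (Q : Subgroup G) := (Subgroup.nontrivial_iff_ne_bot _).mpr hQne
  have hpg : IsPGroup q (Q : Subgroup G) := Q.isPGroup'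
  have hcn : Nontrivial (Subgroup.center (Q : Subgroup G)) := IsPGroup.center_nontrivial hpg
  obtain ⟨⟨z, hz⟩, hz1⟩ := exists_ne (1 : Subgroup.center (Q : Subgroup G))
  refine ⟨(z : G), ?_, ?_⟩
  · intro h
    apply hz1
    apply Subtype.ext
    apply Subtype.ext
    exact h
  · have hle : (Q : Subgroup G) ≤ Subgroup.centralizer ({(z : G)} : Set G) := by
      intro x hx
      rw [Subgroup.mem_centralizer_iff]
      intro y hy
      rw [Set.mem_singleton_iff] at hy
      subst hy
      have := Subgroup.mem_center_iff.mp hz ⟨x, hx⟩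
      have h2 := congrArg Subtype.val this
      exact h2.symm
    intro hdvd
    exact Q.not_dvd_index (dvd_trans hdvd (Subgroup.index_dvd_of_le hle))

/-- (FC) a simple group has no nonprincipal character of `2`-power degree in its principal
`2`-block -/
theorem final_contra [IsSimpleGroup G] (hperf : commutator G = ⊤) (k : ℕ) (hk : 1 ≤ k)
    (χ₀ : IrrCharacter G) (hdeg : charDegree (χ₀ : G → ℂ) = 2 ^ k)
    (M₂ : Ideal AlgInt) (hM₂ : IsPModular 2 M₂)
    (hsame : Helper79.principalIrr G ∈ blockOf M₂ (χ₀ : G → ℂ)) : False := by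
  have hne : χ₀ ≠ Helper79.principalIrr G := by
    intro h
    rw [h] at hdeg
    have h1 : charDegree ((Helper79.principalIrr G : IrrCharacter G) : G → ℂ) = 1 := by
      show charDegree (fun _ : G => (1 : ℂ)) = 1
      simp [charDegree]
    rw [h1] at hdeg
    have : 2 ≤ 2 ^ k := by
      calc 2 = 2 ^ 1 := (pow_one 2).symm
        _ ≤ 2 ^ k := Nat.pow_le_pow_right (by norm_num) hk
    omega
  have h2 : 2 ∣ Nat.card G := by
    have h3 : 2 ∣ charDegree (χ₀ : G → ℂ) := by
      rw [hdeg]
      exact dvd_pow_self 2 (by omega)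
    exact dvd_trans h3 (Helper74.charDegree_dvd_card χ₀)
  have : Fact (Nat.Prime 2) := ⟨Nat.prime_two⟩
  obtain ⟨u, hu1, hu⟩ := exists_coprime_class (G := G) 2 h2
  have hcop : Nat.Coprime (charDegree (χ₀ : G → ℂ))
      (Subgroup.centralizer ({u} : Set G)).index := by
    rw [hdeg]
    exact Nat.Coprime.pow_left k ((Nat.Prime.coprime_iff_not_dvd Nat.prime_two).mpr hu)
  have h0 := burnside_vanish hperf χ₀ hne u hu1 hcop
  exact ne_zero_of_sameBlock 2 M₂ hM₂ χ₀ hsame u hu h0

end abstract

end Cfsg.Agent.Helper70.BT
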