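import Cfsg.Agent.Helper70.PCount6

set_option autoImplicit false
set_option linter.unusedSectionVars false

open scoped Classical

namespace Cfsg.Agent.Helper70.PCount

section action
variable {α β : Type*} [Group α] [Finite α] [MulAction α β] {p : ℕ} [hp : Fact p.Prime]

theorem index_stabilizer_smul (g : α) (t : β) :
    (MulAction.stabilizer α (g • t)).index = (MulAction.stabilizer α t).index := by
  rw [MulAction.stabilizer_smul_eq_stabilizer_map_conj]
  exact Subgroup.index_map_equiv _ (MulAut.conj g)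

theorem dvd_index_stabilizer_of_ne_top (hα : IsPGroup p α) (t : β)
    (h : MulAction.stabilizer α t ≠ ⊤) : p ∣ (MulAction.stabilizer α t).index := by
  obtain ⟨n, hn⟩ := hα.index (MulAction.stabilizer α t)
  rw [hn]
  cases n with
  | zero =>
    exfalso
    rw [pow_zero] at hn
    exact h (Subgroup.index_eq_one.mp hn)
  | succ n => exact dvd_pow_self p (by omega)

theorem stabilizer_ne_top_iff (t : β) :
    MulAction.stabilizer α t ≠ ⊤ ↔ ∃ g : α, g • t ≠ t := by
  rw [Ne, Subgroup.eq_top_iff']
  push Not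
  simp only [MulAction.mem_stabilizer_iff]

/-- fixed point congruence for an invariant finset -/
theorem card_modEq_card_fixed (hα : IsPGroup p α) (T : Finset β)
    (hinv : ∀ g : α, ∀ t ∈ T, g • t ∈ T) :
    T.card ≡ (T.filter (fun t => ∀ g : α, g • t = t)).card [MOD p] := by
  have hsplit := Finset.card_filter_add_card_filter_not (s := T) (fun t => ∀ g : α, g • t = t)
  set T' := T.filter (fun t => ¬ ∀ g : α, g • t = t) with hT'
  have hinv' : ∀ g : α, ∀ t ∈ T', g • t ∈ T' := by
    intro g t ht
    rw [hT', Finset.mem_filter] at ht ⊢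
    refine ⟨hinv g t ht.1, fun hfix => ht.2 (fun k => ?_)⟩
    have := hfix (g * k * g⁻¹)
    rw [mul_smul, mul_smul, inv_smul_smul] at this
    exact smul_left_cancel g this
  have hd : ∀ t ∈ T', p ∣ (MulAction.stabilizer α t).index := by
    intro t ht
    rw [hT', Finset.mem_filter] at ht
    apply dvd_index_stabilizer_of_ne_top hα
    rw [stabilizer_ne_top_iff]
    have := ht.2
    push Not at this
    exact this
  have h1 := Helper66.dvd_card_of_forall_dvd_index_stabilizer p T'.card T' rfl hinv' hd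
  rw [← hsplit]
  conv_rhs => rw [← add_zero (Finset.card _)]
  exact Nat.ModEq.add_left _ ((Nat.modEq_zero_iff_dvd).mpr h1)

/-- orbit counting modulo `p²` for an invariant finset without fixed points -/
theorem card_modEq_sum_fixed (hα : IsPGroup p α) (T : Finset β)
    (hinv : ∀ g : α, ∀ t ∈ T, g • t ∈ T) (hnofix : ∀ t ∈ T, ∃ g : α, g • t ≠ t) :
    T.card ≡ ∑ M ∈ gam1 α p, (T.filter (fun t => ∀ g ∈ M, g • t = t)).card [MOD p ^ 2] := by
  have hsplit := Finset.card_filter_add_card_filter_not (s := T)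
    (fun t => (MulAction.stabilizer α t).index = p)
  set T₂ := T.filter (fun t => (MulAction.stabilizer α t).index = p) with hT₂
  set T₃ := T.filter (fun t => ¬ (MulAction.stabilizer α t).index = p) with hT₃
  have hinv₃ : ∀ g : α, ∀ t ∈ T₃, g • t ∈ T₃ := by
    intro g t ht
    rw [hT₃, Finset.mem_filter] at ht ⊢
    exact ⟨hinv g t ht.1, by rw [index_stabilizer_smul]; exact ht.2⟩
  have hd₃ : ∀ t ∈ T₃, p ^ 2 ∣ (MulAction.stabilizer α t).index := by
    intro t ht
    rw [hT₃, Finset.mem_filter] at ht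
    obtain ⟨n, hn⟩ := hα.index (MulAction.stabilizer α t)
    rw [hn]
    have hn0 : n ≠ 0 := by
      rintro rfl
      rw [pow_zero] at hn
      have := (stabilizer_ne_top_iff t).mpr (hnofix t ht.1)
      exact this (Subgroup.index_eq_one.mp hn)
    have hn1 : n ≠ 1 := by
      rintro rfl
      rw [pow_one] at hn
      exact ht.2 hn
    exact pow_dvd_pow p (by omega)
  have h3 := Helper66.dvd_card_of_forall_dvd_index_stabilizer (p ^ 2) T₃.card T₃ rfl hinv₃ hd₃
  have hmaps : ∀ t ∈ T₂, MulAction.stabilizer α t ∈ gam1 α p := by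
    intro t ht
    rw [hT₂, Finset.mem_filter] at ht
    exact mem_gam1.mpr ht.2
  have h2 := Finset.card_eq_sum_card_fiberwise hmaps
  have hfib : ∀ M ∈ gam1 α p, (T₂.filter (fun t => MulAction.stabilizer α t = M)).card =
      (T.filter (fun t => ∀ g ∈ M, g • t = t)).card := by
    intro M hM
    rw [mem_gam1] at hM
    congr 1
    ext t
    rw [hT₂, Finset.mem_filter, Finset.mem_filter, Finset.mem_filter]
    constructor
    · rintro ⟨⟨ht, _⟩, hst⟩
      refine ⟨ht, fun g hg => ?_⟩
      rw [← hst] at hg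
      exact hg
    · rintro ⟨ht, hfix⟩
      have hle : M ≤ MulAction.stabilizer α t := fun g hg => hfix g hg
      have hst : MulAction.stabilizer α t = M := by
        by_contra hne
        have := eq_top_of_lt_of_index_eq M _ hM (lt_of_le_of_ne hle (Ne.symm hne))
        exact (stabilizer_ne_top_iff t).mpr (hnofix t ht) this
      exact ⟨⟨ht, by rw [hst]; exact hM⟩, hst⟩
  rw [Finset.sum_congr rfl hfib] at h2
  rw [← hsplit, h2]
  conv_rhs => rw [← add_zero (Finset.sum _ _)]
  exact Nat.ModEq.add_left _ ((Nat.modEq_zero_iff_dvd).mpr h3)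

/-- the sum of an invariant function over an invariant finset without fixed points is divisible by `p` -/
theorem dvd_sum_of_invariant (hα : IsPGroup p α) (S : Finset β) (w : β → ℕ)
    (hinv : ∀ g : α, ∀ c ∈ S, g • c ∈ S) (hw : ∀ g : α, ∀ c ∈ S, w (g • c) = w c)
    (hnofix : ∀ c ∈ S, ∃ g : α, g • c ≠ c) : p ∣ ∑ c ∈ S, w c := by
  letI : MulAction α (Σ _ : β, ℕ) :=
    { smul := fun g x => ⟨g • x.1, x.2⟩
      one_smul := fun x => by
        show (⟨(1 : α) • x.1, x.2⟩ : Σ _ : β, ℕ) = x
        rw [one_smul]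
      mul_smul := fun g h x => by
        show (⟨(g * h) • x.1, x.2⟩ : Σ _ : β, ℕ) = ⟨g • (h • x.1), x.2⟩
        rw [mul_smul] }
  have hsmul : ∀ (g : α) (x : Σ _ : β, ℕ), g • x = ⟨g • x.1, x.2⟩ := fun g x => rfl
  set S' : Finset (Σ _ : β, ℕ) := S.sigma (fun c => Finset.range (w c)) with hS'
  have hcard : S'.card = ∑ c ∈ S, w c := by
    rw [hS', Finset.card_sigma]
    exact Finset.sum_congr rfl (fun c _ => Finset.card_range _)
  have hinv' : ∀ g : α, ∀ x ∈ S', g • x ∈ S' := by
    intro g x hx
    rw [hS', Finset.mem_sigma, Finset.mem_range] at hx ⊢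
    rw [hsmul]
    exact ⟨hinv g x.1 hx.1, by rw [hw g x.1 hx.1]; exact hx.2⟩
  have hd : ∀ x ∈ S', p ∣ (MulAction.stabilizer α x).index := by
    intro x hx
    rw [hS', Finset.mem_sigma] at hx
    apply dvd_index_stabilizer_of_ne_top hα
    rw [stabilizer_ne_top_iff]
    obtain ⟨g, hg⟩ := hnofix x.1 hx.1
    refine ⟨g, fun h => hg ?_⟩
    rw [hsmul] at h
    exact congrArg Sigma.fst h
  rw [← hcard]
  exact Helper66.dvd_card_of_forall_dvd_index_stabilizer p S'.card S' rfl hinv' hd

end action

end Cfsg.Agent.Helper70.PCount
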