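import Cfsg.Agent.Helper18.InvOdd.G2B

/-!
# helper18 S4278/S4279, batch B piece (D) (#11557): an involution `k n_r` of `G₂(F)` over a fundamental
reflection sends `X_r(t)` to `X_{-r}(e² t)`.
-/

set_option autoImplicit false
set_option maxRecDepth 100000

namespace Cfsg.Agent.Helper70.G2Inv

open Cfsg Cfsg.Lie Cfsg.Agent.Helper18 Cfsg.Agent.Helper18.G2Odd Cfsg.Agent.Helper40.SL2Hom

variable {F : Type*} [Field F]

/-- the general computation: `r` a root with `n_r = n_w`, `w` swapping the roots `s`, `s' = s + r`, and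
`⟨s, r^∨⟩ = -1` -/
theorem refl_aux (r s s' : ℕ) (w : List ℕ) (hr : r < 12) (hs : s < 12) (hs' : s' < 12)
    (hw : ∀ i ∈ w, i < 2) (hn : nn (F := F) r = nW w) (h1 : rho chevG2 w s = s')
    (h2' : rho chevG2 w s' = s) (hp : pairing' chevG2 r s = -1)
    (hc1 : ∀ c₀ c₁ : Fˣ, chr s' c₀ c₁ = chr s c₀ c₁ * chr r c₀ c₁)
    (hc2 : ∀ c₀ c₁ : Fˣ, chr (11 - r) c₀ c₁ = (chr r c₀ c₁)⁻¹)
    (c₀ c₁ : Fˣ) (hsq : (tor c₀ c₁ * nn r) * (tor c₀ c₁ * nn r) = 1) :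
    ∃ e : F, e ≠ 0 ∧ ∀ t : F,
      (tor c₀ c₁ * nn r) * X r t * (tor c₀ c₁ * nn r)⁻¹ = X (11 - r) (e * e * t) := by
  have R := relX (F := F) r hr
  obtain ⟨-, η, -, hηc⟩ := nW_conj (F := F) w hw s hs
  rw [h1] at hηc
  obtain ⟨-, η', -, hηc'⟩ := nW_conj (F := F) w hw s' hs'
  rw [h2'] at hηc'
  set m : GL chevG2.Idx F := tor c₀ c₁ * nn r with hm
  -- the action of `m` on `X s`, `X s'`
  have A : ∀ t : F, m * X s t * m⁻¹ = X s' ((chr s' c₀ c₁ : Fˣ) * (η * t)) := by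
    intro t
    have e : m * X s t * m⁻¹ = tor c₀ c₁ * (nW w * X s t * (nW w)⁻¹) * (tor c₀ c₁)⁻¹ := by
      rw [hm, hn]; group
    rw [e, hηc, tor_conj _ _ _ hs']
  have B : ∀ t : F, m * X s' t * m⁻¹ = X s ((chr s c₀ c₁ : Fˣ) * (η' * t)) := by
    intro t
    have e : m * X s' t * m⁻¹ = tor c₀ c₁ * (nW w * X s' t * (nW w)⁻¹) * (tor c₀ c₁)⁻¹ := by
      rw [hm, hn]; group
    rw [e, hηc', tor_conj _ _ _ hs]
  -- `m² = 1`
  have C : X s (1 : F) = X s ((chr s c₀ c₁ : Fˣ) * (η' * ((chr s' c₀ c₁ : Fˣ) * (η * 1)))) := by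
    have h3 : m * (m * X s (1 : F) * m⁻¹) * m⁻¹ = X s 1 := by
      calc m * (m * X s (1 : F) * m⁻¹) * m⁻¹ = (m * m) * X s 1 * (m * m)⁻¹ := by group
        _ = X s 1 := by rw [hsq]; simp
    rw [A, B] at h3
    exact h3.symm
  have D : ((chr s c₀ c₁ : Fˣ) : F) * (η' * ((chr s' c₀ c₁ : Fˣ) * (η * 1))) = 1 :=
    (X_injective s hs _ _ C).symm
  -- `n_r² = h_r(-1)`
  have hsq2 : nn (F := F) r * nn r = hh r (-1) := R.n_sq
  have E : X s (η' * (η * 1)) = X s ((-1 : F) ^ pairing' chevG2 r s * 1) := by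
    have e1 : nn r * (nn r * X s (1 : F) * (nn r)⁻¹) * (nn r)⁻¹ = X s (η' * (η * 1)) := by
      rw [hn, hηc, hηc']
    have e2 : nn r * (nn r * X s (1 : F) * (nn r)⁻¹) * (nn r)⁻¹ =
        X s ((-1 : F) ^ pairing' chevG2 r s * 1) := by
      calc nn r * (nn r * X s (1 : F) * (nn r)⁻¹) * (nn r)⁻¹
          = (nn r * nn r) * X s 1 * (nn r * nn r)⁻¹ := by group
        _ = X s ((-1 : F) ^ pairing' chevG2 r s * 1) := by
            rw [hsq2, hh_conj r s hr hs (-1) 1 (by simp)]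
    rw [← e1, e2]
  have G : η' * η = -1 := by
    have := X_injective s hs _ _ E
    rw [hp, zpow_neg_one, inv_neg_one, mul_one, mul_one] at this
    exact this
  -- hence `chr s * chr s' = -1`
  have K : ((chr s c₀ c₁ : Fˣ) : F) * ((chr s c₀ c₁ : Fˣ) : F) * ((chr r c₀ c₁ : Fˣ) : F) = -1 := by
    have h4 : ((chr s' c₀ c₁ : Fˣ) : F) = ((chr s c₀ c₁ : Fˣ) : F) * ((chr r c₀ c₁ : Fˣ) : F) := by
      rw [hc1, Units.val_mul]
    have h5 : ((chr s c₀ c₁ : Fˣ) : F) * ((chr s' c₀ c₁ : Fˣ) : F) * (η' * η) = 1 := by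
      rw [← D]; ring
    rw [G, h4] at h5
    linear_combination -h5
  refine ⟨((chr s c₀ c₁ : Fˣ) : F), Units.ne_zero _, fun t => ?_⟩
  have e : m * X r t * m⁻¹ = tor c₀ c₁ * (nn r * X r t * (nn r)⁻¹) * (tor c₀ c₁)⁻¹ := by
    rw [hm]; group
  have hconj : nn r * X r t * (nn r)⁻¹ = X (11 - r) (-(1⁻¹ * 1⁻¹ * t)) := R.conj 1 t one_ne_zero
  rw [e, hconj, tor_conj _ _ _ (by omega), hc2, Units.val_inv_eq_inv_val]
  congr 1
  have hne : ((chr r c₀ c₁ : Fˣ) : F) ≠ 0 := Units.ne_zero _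
  field_simp
  linear_combination (-t) * K

theorem nn7_eq : nn (F := F) 7 = nW [0] := by
  have h : chevG2.simple 0 = 7 := by decide
  rw [nW_cons, nW_nil, mul_one, nn_eq 7 (by norm_num), h]

theorem nn6_eq : nn (F := F) 6 = nW [1] := by
  have h : chevG2.simple 1 = 6 := by decide
  rw [nW_cons, nW_nil, mul_one, nn_eq 6 (by norm_num), h]

theorem chr_add (a b c : ℕ) (h0 : chevG2.cartan 0 a = chevG2.cartan 0 b + chevG2.cartan 0 c)
    (h1 : chevG2.cartan 1 a = chevG2.cartan 1 b + chevG2.cartan 1 c) (c₀ c₁ : Fˣ) :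
    chr a c₀ c₁ = chr b c₀ c₁ * chr c c₀ c₁ := by
  unfold chr
  rw [h0, h1, zpow_add, zpow_add]
  exact mul_mul_mul_comm _ _ _ _

theorem chr_neg (a b : ℕ) (h0 : chevG2.cartan 0 a = -chevG2.cartan 0 b)
    (h1 : chevG2.cartan 1 a = -chevG2.cartan 1 b) (c₀ c₁ : Fˣ) :
    chr a c₀ c₁ = (chr b c₀ c₁)⁻¹ := by
  unfold chr
  rw [h0, h1, zpow_neg, zpow_neg, mul_inv]

/-- (D) an involution `k n_r` over a fundamental reflection sends `X_r(t)` to `X_{-r}(e² t)`. -/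
theorem refl_invol_square (r : ℕ) (hr : r = 6 ∨ r = 7) (k : GL chevG2.Idx F)
    (hk : k ∈ chevG2.diagonalSubgroup F) (h2 : (k * nn r) * (k * nn r) = 1) :
    ∃ e : F, e ≠ 0 ∧ ∀ t : F, (k * nn r) * X r t * (k * nn r)⁻¹ = X (11 - r) (e * e * t) := by
  obtain ⟨c₀, c₁, rfl⟩ := (mem_diagonal_iff k).mp hk
  rcases hr with rfl | rfl
  · exact refl_aux 6 7 8 [1] (by norm_num) (by norm_num) (by norm_num) (by decide) nn6_eq (by decide)
      (by decide) (by decide) (chr_add 8 7 6 (by decide) (by decide))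
      (chr_neg 5 6 (by decide) (by decide)) c₀ c₁ h2
  · exact refl_aux 7 8 9 [0] (by norm_num) (by norm_num) (by norm_num) (by decide) nn7_eq (by decide)
      (by decide) (by decide) (chr_add 9 8 7 (by decide) (by decide))
      (chr_neg 4 7 (by decide) (by decide)) c₀ c₁ h2

end Cfsg.Agent.Helper70.G2Inv
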