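import Mathlib
import Cfsg.Agent.Helper99.O9.Defs

set_option autoImplicit false
set_option linter.unusedSectionVars false
set_option linter.unusedVariables false

/-!
# S2517 piece (SIMD) for helper99: isometric pairs have the same dimension
-/

namespace Cfsg.Agent.Helper70.O9

open Matrix QuadraticMap Cfsg.Agent.Helper44 Cfsg.Agent.Helper44.QType Cfsg.Agent.Helper99.O9

universe u

variable {F : Type u} [Field F] [Fintype F]

/-- (SIMD) -/
theorem sim_dim {P P' : OPair F} (h : P.Sim P') : P.dim = P'.dim := by
  rw [OPair.sim_def] at h
  obtain ⟨C, hC, hg⟩ := h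
  rw [OPair.dim_def, OPair.dim_def]
  have := LinearEquiv.finrank_eq C
  rwa [Module.finrank_fintype_fun_eq_card, Module.finrank_fintype_fun_eq_card] at this

end Cfsg.Agent.Helper70.O9
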