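import Mathlib
import Cfsg.Agent.Helper70.BG14N1
import Cfsg.Agent.Helper67.CyclicSub
import Cfsg.Agent.S1409
import Cfsg.Agent.Helper71.BGHall

/-!
# B-G §13/§14, THEOREM N3: STEP 0 (helper70, board #3585 / #3892 chunk [S0])
-/

set_option autoImplicit false
set_option linter.unusedVariables false
set_option linter.unusedSectionVars false
set_option linter.style.haveILetI false

namespace Cfsg.Agent.Helper70.BG14

open Cfsg Cfsg.Agent.Helper29 Cfsg.Agent.Helper29.BG10 Cfsg.Agent.Helper29.BG11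
open scoped commutatorElement

variable {G : Type*} [Group G] [Finite G]

/-- (PU1) in a cyclic group a subgroup is determined by its order -/
theorem eq_of_le_cyclic_of_card_eq {Z A B : Subgroup G} (hZ : IsCyclic ↥Z) (hA : A ≤ Z)
    (hB : B ≤ Z) (h : Nat.card A = Nat.card B) : A = B :=
  Cfsg.Agent.Helper67.eq_of_card_eq_of_le_cyclic Z A B hA hB h

/-- the normalizer of a cyclic subgroup normalizes its subgroups -/
theorem normalizer_le_normalizer_of_le_cyclic {Z A : Subgroup G} (hZ : IsCyclic ↥Z)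
    (hA : A ≤ Z) : Subgroup.normalizer (Z : Set G) ≤ Subgroup.normalizer (A : Set G) := by
  intro g hg
  apply mem_normalizer_of_cj_eq
  refine eq_of_le_cyclic_of_card_eq hZ ?_ hA (card_cj g A)
  calc cj g A ≤ cj g Z := cj_mono hA
    _ = Z := cj_eq_of_mem_normalizer hg

/-- a subgroup of prime order is a nontrivial `p`-group -/
theorem isPGroup_of_card_eq {Y : Subgroup G} {s : ℕ} (hY : Nat.card ↥Y = s) : IsPGroup s ↥Y :=
  IsPGroup.of_card (n := 1) (by rw [hY, pow_one])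

theorem ne_bot_of_card_eq {Y : Subgroup G} {s : ℕ} (hs : s.Prime) (hY : Nat.card ↥Y = s) :
    Y ≠ ⊥ := by
  intro hb
  rw [hb, Subgroup.card_bot] at hY
  exact hs.one_lt.ne hY

/-- (GB1) a prime dividing `|E|` is in `τ₁(M) ∪ τ₂(M) ∪ τ₃(M)` -/
theorem mem_tau_of_dvd_card_compl (hG : Cfsg.IsMinSimpleOddOrder G) {M E : Subgroup G}
    (hM : IsCoatom M) (hE : Cfsg.IsComplIn E (Cfsg.sigmaCore M) M) {r : ℕ} (hr : r.Prime)
    (hrE : r ∣ Nat.card ↥E) : r ∈ Cfsg.tau1 M ∨ r ∈ Cfsg.tau2 M ∨ r ∈ Cfsg.tau3 M := by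
  have hc := ectx hG hM hE
  have hrσ : r ∉ Cfsg.sigma M := hc.not_sigma_of_dvd r hr hrE
  have hrM : r ∣ Nat.card ↥M := hrE.trans (Subgroup.card_dvd_of_le hE.1)
  by_cases h2 : Cfsg.PRankLE r 2 ↥M
  · by_cases h1 : Cfsg.PRankLE r 1 ↥M
    · by_cases hd : r ∣ Nat.card ↥⁅M, M⁆
      · exact Or.inr (Or.inr ⟨hr, hrσ, hd, h1⟩)
      · exact Or.inl ⟨hr, hrσ, hrM, hd, h1⟩
    · exact Or.inr (Or.inl ⟨hr, hrσ, h2, h1⟩)
  · exact absurd (hc.alpha_sub ⟨hr, h2⟩) hrσ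

/-- (GB2) `N_G(P) ≤ H` for `P` of order `p ∈ τ₁(M)` forces `H` not conjugate to `M` (S1409) -/
theorem not_conj_of_mem_tau1 (hG : Cfsg.IsMinSimpleOddOrder G) {M H : Subgroup G}
    (hM : IsCoatom M) {p : ℕ} (hp : p ∈ Cfsg.tau1 M) {P : Subgroup G} (hP : Nat.card ↥P = p)
    (hNH : Subgroup.normalizer (P : Set G) ≤ H) : ∀ g : G, cj g M ≠ H := by
  intro g hg
  haveI : Fact p.Prime := ⟨hp.1⟩
  have h1 : Subgroup.normalizer ((cj g⁻¹ P : Subgroup G) : Set G) ≤ M := by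
    rw [normalizer_cj]
    calc cj g⁻¹ (Subgroup.normalizer (P : Set G)) ≤ cj g⁻¹ H := cj_mono hNH
      _ = M := by rw [← hg, cj_inv_cj]
  have h2 := (Cfsg.Agent.S1409.result hG M hM p hp.2.1 (cj g⁻¹ P)
    (by rw [card_cj, hP]) h1).1.2
  exact h2 hp.2.2.2.2

/-- a subgroup of order `s ∈ τ₃(M)` of a complement `E` is normal in `E` and lies in `E'` -/
theorem normal_of_mem_tau3 (hG : Cfsg.IsMinSimpleOddOrder G) {M E Y : Subgroup G} {s : ℕ}
    (hM : IsCoatom M) (hE : Cfsg.IsComplIn E (Cfsg.sigmaCore M) M) (hs : s ∈ Cfsg.tau3 M)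
    (hYE : Y ≤ E) (hY : Nat.card ↥Y = s) :
    E ≤ Subgroup.normalizer (Y : Set G) ∧ Y ≤ ⁅E, E⁆ := by
  have hc := ectx hG hM hE
  haveI := hc.solvable
  have hsp : s.Prime := hs.1
  obtain ⟨E₃, hE₃, hYE₃⟩ := Cfsg.Agent.Helper71.BGHall.exists_isPiHallOf_ge (Cfsg.tau3 M) E hYE
    (by
      intro q hq hqd
      rw [hY] at hqd
      rw [(Nat.prime_dvd_prime_iff_eq hq hsp).1 hqd]; exact hs)
  obtain ⟨hE₃c, hE₃le, hE₃n⟩ := hc.tau3 hE₃
  exact ⟨hE₃n.trans (normalizer_le_normalizer_of_le_cyclic hE₃c hYE₃), hYE₃.trans hE₃le⟩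

/-- STEP 0 -/
theorem step0_of (hG : Cfsg.IsMinSimpleOddOrder G) {M E Y : Subgroup G} {s : ℕ}
    (h : N3Hyp M E Y s) {L : Subgroup G} (hL : IsCoatom L)
    (hNL : Subgroup.normalizer (Y : Set G) ≤ L) : Step0 M E Y s L := by
  have hU := bbU hG
  have hM := h.coatom
  have hc := ectx hG hM h.compl
  have hsp : s.Prime := h.mem_tau3.1
  haveI : Fact s.Prime := ⟨hsp⟩
  have hYp : IsPGroup s ↥Y := isPGroup_of_card_eq h.card
  have hY1 : Y ≠ ⊥ := ne_bot_of_card_eq hsp h.card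
  obtain ⟨hnormal, hcomm⟩ := normal_of_mem_tau3 hG hM h.compl h.mem_tau3 h.le h.card
  have hEL : E ≤ L := hnormal.trans hNL
  have hYM : Y ≤ M := h.le.trans h.compl.1
  have hYL : Y ≤ L := h.le.trans hEL
  -- not conjugate
  have hnc : ∀ g : G, cj g M ≠ L := by
    intro g hg
    obtain ⟨S, hYS, hS⟩ := exists_isSylowIn_ge (p := s) hYM hYp
    have hSc : IsCyclic ↥S := Cfsg.Agent.Helper23.BG13.isCyclic_of_isPGroup_of_pRankLE_one hG.1
      hS.2.1 (Cfsg.Agent.Helper23.BG13.pRankLE_mono hS.1 h.mem_tau3.2.2.2)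
    have hNS : Subgroup.normalizer (S : Set G) ≤ L :=
      (normalizer_le_normalizer_of_le_cyclic hSc hYS).trans hNL
    have hSL : S ≤ L := Subgroup.le_normalizer.trans hNS
    have hcardLM : Nat.card ↥L = Nat.card ↥M := by rw [← hg, card_cj]
    have hrel : S.relIndex L = S.relIndex M := by
      have h1 := Cfsg.Agent.Helper31.relIndex_mul_card' hSL
      have h2 := Cfsg.Agent.Helper31.relIndex_mul_card' hS.1
      rw [hcardLM, ← h2] at h1
      exact Nat.eq_of_mul_eq_mul_right Nat.card_pos h1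
    have hSylL : IsSylowIn s S L := ⟨hSL, hS.2.1, by rw [hrel]; exact hS.2.2⟩
    have hsL : s ∣ Nat.card ↥L := by
      rw [← h.card]; exact Subgroup.card_dvd_of_le hYL
    have hσ : s ∈ Cfsg.sigma L := mem_sigma_iff.2 ⟨hsL, S, hSylL, hNS⟩
    rw [← hg, sigma_cj] at hσ
    exact h.mem_tau3.2.1 hσ
  have hLM : L ≠ M := fun e => hnc 1 (by rw [cj_one]; exact e.symm)
  have hCL : Cfsg.sigmaCore M ⊓ Subgroup.centralizer (Y : Set G) ≤ Cfsg.sigmaCore M ⊓ L :=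
    inf_le_inf_left _ ((Subgroup.centralizer_le_normalizer _).trans hNL)
  refine ⟨h, hL, hNL, hnormal, hcomm, hEL, hnc, ?_, ?_⟩
  · -- τ₂(M) = ∅
    rw [Set.eq_empty_iff_forall_notMem]
    intro r hr
    haveI : Fact r.Prime := ⟨hr.1⟩
    obtain ⟨A, hAE, hAe, hAc⟩ :=
      Cfsg.Agent.Helper71.BGHall.exists_elementaryAbelian_sq_le_compl hc hr.2.1 hr.2.2.1 hr.2.2.2
    have h17 := Cfsg.Agent.S1417.result hG M hM r hr A ⟨hAE.trans h.compl.1, hAe, hAc⟩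
    have h5 := h17.2.2.2.2.1 L hL hLM (hAE.trans hEL)
    apply h.cent_ne_bot
    rw [eq_bot_iff, ← h5]
    exact hCL
  · apply le_antisymm _ hCL
    refine le_inf inf_le_left ?_
    have hs1 : s ∉ Cfsg.tau1 L := by
      intro h1
      apply h1.2.2.2.1
      have hle : Y ≤ ⁅L, L⁆ := hcomm.trans (Subgroup.commutator_mono hEL hEL)
      rw [← h.card]; exact Subgroup.card_dvd_of_le hle
    have h3 := lemmaA hG hM hL hnc h.mem_tau3.2.1 hYp hY1 hYM hYL hs1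
    exact Subgroup.commutator_eq_bot_iff_le_centralizer.1 h3

theorem exists_step0 (hG : Cfsg.IsMinSimpleOddOrder G) {M E Y : Subgroup G} {s : ℕ}
    (h : N3Hyp M E Y s) : ∃ L : Subgroup G, Step0 M E Y s L := by
  haveI : IsSimpleGroup G := hG.2.1
  have hsp : s.Prime := h.mem_tau3.1
  haveI : Fact s.Prime := ⟨hsp⟩
  have hYp : IsPGroup s ↥Y := isPGroup_of_card_eq h.card
  have hY1 : Y ≠ ⊥ := ne_bot_of_card_eq hsp h.card
  have hNtop : Subgroup.normalizer (Y : Set G) ≠ ⊤ :=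
    Cfsg.Agent.Helper31.bgt_normalizer_ne_top_of_simple hY1 (isPGroup_ne_top hG hYp)
  obtain ⟨L, hL, hNL⟩ := (eq_top_or_exists_le_coatom _).resolve_left hNtop
  exact ⟨L, step0_of hG h hL hNL⟩

/-- `C_{M_σ}(Y)` does not depend on the subgroup `Y` of prime order in `τ₃(M)` of `E` -/
theorem step0_same (hG : Cfsg.IsMinSimpleOddOrder G) {M E Y : Subgroup G} {s : ℕ}
    (h : N3Hyp M E Y s) {Y' : Subgroup G} {s' : ℕ} (hs' : s' ∈ Cfsg.tau3 M) (hY'E : Y' ≤ E)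
    (hY' : Nat.card ↥Y' = s') :
    Cfsg.sigmaCore M ⊓ Subgroup.centralizer (Y' : Set G) =
      Cfsg.sigmaCore M ⊓ Subgroup.centralizer (Y : Set G) := by
  have key : ∀ {Y₁ Y₂ : Subgroup G} {s₁ s₂ : ℕ}, N3Hyp M E Y₁ s₁ → s₂ ∈ Cfsg.tau3 M → Y₂ ≤ E →
      Nat.card ↥Y₂ = s₂ →
      Cfsg.sigmaCore M ⊓ Subgroup.centralizer (Y₁ : Set G) ≤
        Cfsg.sigmaCore M ⊓ Subgroup.centralizer (Y₂ : Set G) := by
    intro Y₁ Y₂ s₁ s₂ h₁ hs₂ hY₂E hY₂
    obtain ⟨L, h0⟩ := exists_step0 hG h₁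
    haveI : Fact s₂.Prime := ⟨hs₂.1⟩
    obtain ⟨-, hcomm⟩ := normal_of_mem_tau3 hG h₁.coatom h₁.compl hs₂ hY₂E hY₂
    rw [← h0.inf_eq]
    refine le_inf inf_le_left ?_
    have hs1 : s₂ ∉ Cfsg.tau1 L := by
      intro h1
      apply h1.2.2.2.1
      have hle : Y₂ ≤ ⁅L, L⁆ := hcomm.trans (Subgroup.commutator_mono h0.le_L h0.le_L)
      rw [← hY₂]; exact Subgroup.card_dvd_of_le hle
    have h3 := lemmaA hG h₁.coatom h0.coatomL h0.not_conj hs₂.2.1 (isPGroup_of_card_eq hY₂)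
      (ne_bot_of_card_eq hs₂.1 hY₂) (hY₂E.trans h₁.compl.1) (hY₂E.trans h0.le_L) hs1
    exact Subgroup.commutator_eq_bot_iff_le_centralizer.1 h3
  have h1 := key h hs' hY'E hY'
  have h' : N3Hyp M E Y' s' :=
    ⟨h.coatom, h.compl, hs', hY'E, hY', fun hb => h.cent_ne_bot (le_bot_iff.1 (hb ▸ h1))⟩
  exact le_antisymm (key h' h.mem_tau3 h.le h.card) h1

end Cfsg.Agent.Helper70.BG14
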