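import Mathlib
import Cfsg.Agent.Helper70.BG14N2
import Cfsg.Agent.S1408
import Cfsg.Agent.Helper64.BG13W
import Cfsg.Agent.Helper68.BG117B

/-!
# B-G §13/§14, THEOREM N3: chunk [T3] (helper70, board #3585 / #3892)

A `τ₃(M)`-subgroup of `M` centralizes every `t`-subgroup of `M'` that it normalizes, for
`t ∉ β(M)`; consequences.
-/

set_option autoImplicit false
set_option linter.unusedVariables false
set_option linter.unusedSectionVars false
set_option linter.style.haveILetI false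

namespace Cfsg.Agent.Helper70.BG14

open Cfsg Cfsg.Agent.Helper29 Cfsg.Agent.Helper29.BG10 Cfsg.Agent.Helper29.BG11
open scoped commutatorElement

variable {G : Type*} [Group G] [Finite G]

/-- (GB3) a `τ₃(M)`-subgroup of `M` centralizes every `t`-subgroup of `M'` it normalizes,
`t ∉ β(M)` -/
theorem le_centralizer_of_mem_tau3 (hG : Cfsg.IsMinSimpleOddOrder G) {M : Subgroup G}
    (hM : IsCoatom M) {s : ℕ} (hs : s ∈ Cfsg.tau3 M) {Y : Subgroup G} (hYM : Y ≤ M)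
    (hY : Nat.card ↥Y = s) {t : ℕ} (ht : t.Prime) (hts : t ≠ s) (htβ : t ∉ Cfsg.beta M)
    {T : Subgroup G} (hTM : T ≤ ⁅M, M⁆) (hT : IsPGroup t ↥T)
    (hYT : Y ≤ Subgroup.normalizer (T : Set G)) : T ≤ Subgroup.centralizer (Y : Set G) := by
  have hU := bbU hG
  haveI : Fact t.Prime := ⟨ht⟩
  haveI : Fact s.Prime := ⟨hs.1⟩
  by_cases hT1 : T = ⊥
  · rw [hT1]; exact bot_le
  have hcommM : (⁅M, M⁆ : Subgroup G) ≤ M := Subgroup.commutator_le_self M
  have htM : t ∣ Nat.card ↥M :=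
    (Cfsg.Agent.Helper23.BG13.dvd_card_of_isPGroup_ne_bot hT hT1).trans
      (Subgroup.card_dvd_of_le (hTM.trans hcommM))
  obtain ⟨N, hNK, hMN, htN, hNall⟩ :=
    Cfsg.Agent.Helper23.BG13.exists_normal_qcompl (q := t) (H := M) (K := ⁅M, M⁆)
      (Cfsg.Agent.Helper23.BG13.le_normalizer_commutator_self M) (bb1414 hG M hM t ht htM htβ)
  have hYcomm : Y ≤ ⁅M, M⁆ :=
    Cfsg.Agent.Helper23.BG13.le_commutator_of_mem_tau3 hG hU hM hs (isPGroup_of_card_eq hY) hYM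
  have hYN : Y ≤ N := hNall Y hYcomm (by
    rw [hY]; exact (Nat.coprime_primes hs.1 ht).2 (Ne.symm hts))
  -- `[T, Y] ≤ T ⊓ N = 1`
  have h1 : ⁅T, Y⁆ ≤ T := Cfsg.Agent.Helper68.BG11.commutator_le_left_of_le_normalizer hYT
  have h2 : ⁅T, Y⁆ ≤ N := by
    rw [Subgroup.commutator_le]
    intro a ha b hb
    have haM : a ∈ M := hcommM (hTM ha)
    have h3 : a * b * a⁻¹ ∈ N := (Subgroup.mem_normalizer_iff.1 (hMN haM) b).1 (hYN hb)
    have e : ⁅a, b⁆ = (a * b * a⁻¹) * b⁻¹ := by rw [commutatorElement_def]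
    rw [e]
    exact N.mul_mem h3 (N.inv_mem (hYN hb))
  have h3 : ⁅T, Y⁆ = ⊥ := by
    by_contra hne
    have hd : t ∣ Nat.card ↥⁅T, Y⁆ :=
      Cfsg.Agent.Helper23.BG13.dvd_card_of_isPGroup_ne_bot (hT.to_le h1) hne
    exact htN (hd.trans (Subgroup.card_dvd_of_le h2))
  exact Subgroup.commutator_eq_bot_iff_le_centralizer.1 h3

/-- for `q ∈ σ(M) ∖ β(M)` some Sylow `q`-subgroup of `M_σ` centralizes `Y` -/
theorem exists_sylow_le_centralizer (hG : Cfsg.IsMinSimpleOddOrder G) {M E Y : Subgroup G}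
    {s : ℕ} (h : N3Hyp M E Y s) {q : ℕ} (hq : q ∈ Cfsg.sigma M) (hqβ : q ∉ Cfsg.beta M) :
    ∃ Q : Subgroup G, IsSylowIn q Q (Cfsg.sigmaCore M) ∧
      Q ≤ Cfsg.sigmaCore M ⊓ Subgroup.centralizer (Y : Set G) := by
  have hU := bbU hG
  have hM := h.coatom
  have hsp : s.Prime := h.mem_tau3.1
  haveI : Fact q.Prime := ⟨hq.1⟩
  have hYM : Y ≤ M := h.le.trans h.compl.1
  have hMn : M ≤ Subgroup.normalizer ((Cfsg.sigmaCore M : Subgroup G) : Set G) :=
    le_normalizer_sigmaCore M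
  have hcop : (Nat.card ↥Y).Coprime (Nat.card ↥(Cfsg.sigmaCore M)) := by
    rw [h.card, Nat.Prime.coprime_iff_not_dvd hsp]
    exact fun hd => h.mem_tau3.2.1 (primes_sigmaCore M s hsp hd)
  have hYsolv : Group.IsSolvable ↥Y := by
    haveI : Group.IsSolvable ↥M := hG.2.2.2 M hM.1
    exact Group.isSolvable_of_isSolvable_injective (Subgroup.inclusion_injective hYM)
  have hbotn : Y ≤ Subgroup.normalizer (((⊥ : Subgroup G) : Subgroup G) : Set G) := by
    intro y _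
    rw [Subgroup.mem_normalizer_iff]
    intro x
    simp
  obtain ⟨Q, hQ, -, hYQ⟩ := Cfsg.Agent.Helper64.BG13W.exists_invariant_sylow_ge Y
    (Cfsg.sigmaCore M) ⊥ (hYM.trans hMn) hcop (Or.inl hYsolv) q IsPGroup.of_bot bot_le hbotn
  have hQM : Q ≤ M := hQ.1.trans (sigmaCore_le M)
  have hQcomm : Q ≤ ⁅M, M⁆ :=
    Cfsg.Agent.Helper23.BG13.le_commutator_of_mem_sigma hG hU hM hq hQ.2.1 hQM
  have hqs : q ≠ s := fun e => h.mem_tau3.2.1 (e ▸ hq)
  exact ⟨Q, hQ, le_inf hQ.1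
    (le_centralizer_of_mem_tau3 hG hM h.mem_tau3 hYM h.card hq.1 hqs hqβ hQcomm hQ.2.1 hYQ)⟩

/-- (GB4) for a prime `t ∈ β(M)` and `H` maximal not conjugate to `M`, the `t`-subgroups of `H`
are cyclic (uses SP, S1408) -/
theorem isCyclic_of_ideal_of_not_conj (hG : Cfsg.IsMinSimpleOddOrder G) (hSP : SP G)
    {M H : Subgroup G} (hM : IsCoatom M) (hH : IsCoatom H) (hnc : ∀ g : G, cj g M ≠ H)
    {t : ℕ} (ht : t ∈ Cfsg.beta M) {S : Subgroup G} (hSH : S ≤ H) (hS : IsPGroup t ↥S) :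
    IsCyclic ↥S := by
  have hU := bbU hG
  have htp : t.Prime := ht.1.1
  haveI : Fact t.Prime := ⟨htp⟩
  have htσM : t ∈ Cfsg.sigma M := alpha_subset_sigma hG hU hM ht.1
  have htσH : t ∉ Cfsg.sigma H := hSP M H hM hH hnc t htσM
  have hr1 : Cfsg.PRankLE t 1 ↥H := by
    by_contra hr1
    by_cases hr2 : Cfsg.PRankLE t 2 ↥H
    · exact (Cfsg.Agent.S1408.result hG H hH t htσH hr2 hr1).1 ht.2
    · exact htσH (alpha_subset_sigma hG hU hH ⟨htp, hr2⟩)
  exact Cfsg.Agent.Helper23.BG13.isCyclic_of_isPGroup_of_pRankLE_one hG.1 hS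
    (Cfsg.Agent.Helper23.BG13.pRankLE_mono hSH hr1)

end Cfsg.Agent.Helper70.BG14
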