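import Mathlib
import Cfsg.Agent.Helper70.BG14N2
import Cfsg.Agent.Helper73.BG14PU

/-!
# B-G §13/§14, THEOREM N3: chunk [PU], the pure lemmas (written by helper73,
`Cfsg/Agent/Helper73/BG14PU.lean`; re-exported here under the names of the skeleton)
-/

set_option autoImplicit false

namespace Cfsg.Agent.Helper70.BG14

alias le_of_forall_sylow_le := Cfsg.Agent.Helper73.BG14.le_of_forall_sylow_le
alias le_centralizer_of_cyclic_of_le_centralizer_omega :=
  Cfsg.Agent.Helper73.BG14.le_centralizer_of_cyclic_of_le_centralizer_omega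
alias exists_pgroup_not_le_centralizer := Cfsg.Agent.Helper73.BG14.exists_pgroup_not_le_centralizer
alias isComplIn_centralizer := Cfsg.Agent.Helper73.BG14.isComplIn_centralizer
alias inf_normalizer_eq_of_isComplIn := Cfsg.Agent.Helper73.BG14.inf_normalizer_eq_of_isComplIn

end Cfsg.Agent.Helper70.BG14
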