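import Mathlib
import Cfsg.Agent.Helper70.BG14PU
import Cfsg.Agent.Helper54.BG14K1
import Cfsg.Agent.Helper22.Sup

set_option autoImplicit false
set_option linter.unusedSectionVars false
set_option linter.unusedVariables false
set_option linter.style.haveILetI false

/-!
# B-G §14, THEOREM N3 (helper70's skeleton, board #3892): chunk [S57] = STEP 5 and STEP 7
-/

namespace Cfsg.Agent.Helper70.BG14.S57

open Cfsg Cfsg.Agent.Helper29 Cfsg.Agent.Helper29.BG10 Cfsg.Agent.Helper29.BG11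
open Cfsg.Agent.Helper70.BG14
open scoped commutatorElement

variable {G : Type*} [Group G] [Finite G]

/-- a subgroup of prime order is nontrivial -/
theorem ne_bot_of_card_eq_prime {Y : Subgroup G} {s : ℕ} (hs : s.Prime) (hY : Nat.card ↥Y = s) :
    Y ≠ ⊥ := by
  rintro rfl
  rw [Subgroup.card_bot] at hY
  exact hs.one_lt.ne hY

/-- a subgroup of prime order `s` is an `s`-group -/
theorem isPGroup_of_card_eq_prime {Y : Subgroup G} {s : ℕ} [Fact s.Prime]
    (hY : Nat.card ↥Y = s) : IsPGroup s ↥Y :=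
  IsPGroup.of_card (n := 1) (by rw [hY, pow_one])

/-- STEP 5 -/
theorem sigma_or_tau2_L (hG : Cfsg.IsMinSimpleOddOrder G) {M E Y L : Subgroup G} {s : ℕ}
    (h0 : Step0 M E Y s L) : s ∈ Cfsg.sigma L ∨ s ∈ Cfsg.tau2 L := by
  have hs : s.Prime := h0.hyp.mem_tau3.1
  haveI : Fact s.Prime := ⟨hs⟩
  have hYp : IsPGroup s ↥Y := isPGroup_of_card_eq_prime h0.hyp.card
  have hY1 : Y ≠ ⊥ := ne_bot_of_card_eq_prime hs h0.hyp.card
  rcases mem_sigma_or_rank_two hG (bbU hG) h0.coatomL Y hYp hY1 h0.normalizer_le with h | ⟨h2, h1⟩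
  · exact Or.inl h
  · by_cases hσ : s ∈ Cfsg.sigma L
    · exact Or.inl hσ
    · exact Or.inr ⟨hs, hσ, h2, h1⟩

/-- STEP 7 -/
theorem step7 (hG : Cfsg.IsMinSimpleOddOrder G) (hK1 : K1 G) {M E Y L : Subgroup G} {s : ℕ}
    (h0 : Step0 M E Y s L) (hno : NoAlpha M E) : s ∈ Cfsg.sigma L := by
  classical
  rcases sigma_or_tau2_L hG h0 with hσ | hτ2
  · exact hσ
  exfalso
  have h := h0.hyp
  have hM := h.coatom
  have hE := h.compl
  have hL := h0.coatomL
  have hU := bbU hG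
  have hctx := ectx hG hM hE
  haveI := hctx.solvable
  haveI : IsSimpleGroup G := hG.2.1
  have hs : s.Prime := h.mem_tau3.1
  haveI : Fact s.Prime := ⟨hs⟩
  have hYp : IsPGroup s ↥Y := isPGroup_of_card_eq_prime h.card
  have hY1 : Y ≠ ⊥ := ne_bot_of_card_eq_prime hs h.card
  have hEM : E ≤ M := hE.1
  have hsM : s ∣ Nat.card ↥M := by
    rw [← h.card]
    exact Subgroup.card_dvd_of_le (h.le.trans hEM)
  have hsσ : s ∉ Cfsg.sigma M := h.mem_tau3.2.1
  -- Lemma A(iii): `E` centralizes `C`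
  have hA3 := bbA3 hG M L hM hL h0.not_conj s hτ2 hsM hsσ
  rw [h0.inf_eq] at hA3
  set C : Subgroup G := Cfsg.sigmaCore M ⊓ Subgroup.centralizer (Y : Set G) with hC
  have hCE : C ≤ Subgroup.centralizer (E : Set G) := by
    have h1 : ⁅C, E⁆ = ⊥ := by
      rw [eq_bot_iff, ← hA3]
      exact Subgroup.commutator_mono le_rfl (le_inf hEM h0.le_L)
    exact Subgroup.commutator_eq_bot_iff_le_centralizer.1 h1
  have hCne : C ≠ ⊥ := h.cent_ne_bot
  -- the Sylow `s`-subgroup of `E` over `Y`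
  obtain ⟨S, hYS, hS⟩ := exists_isSylowIn_ge h.le hYp
  have hSE : S ≤ E := hS.1
  have hSp : IsPGroup s ↥S := hS.2.1
  have hSc : IsCyclic ↥S :=
    Cfsg.Agent.Helper23.BG13.isCyclic_of_isPGroup_of_pRankLE_one hG.1 hSp
      (Cfsg.Agent.Helper23.BG13.pRankLE_mono (hSE.trans hEM) h.mem_tau3.2.2.2)
  have hS1 : S ≠ ⊥ := fun hb => hY1 (le_bot_iff.1 (hb ▸ hYS))
  obtain ⟨r, R₀, hr, hrs, hR₀E, hR₀p, hR₀N, hR₀C⟩ :=
    exists_pgroup_not_le_centralizer hs hS hSc hYS hY1 h0.le_comm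
  haveI : Fact r.Prime := ⟨hr⟩
  have hR₀1 : R₀ ≠ ⊥ := by
    rintro rfl
    exact hR₀C bot_le
  have hrR₀ : r ∣ Nat.card ↥R₀ := Cfsg.Agent.Helper23.BG13.dvd_card_of_isPGroup_ne_bot hR₀p hR₀1
  have hrE : r ∣ Nat.card ↥E := hrR₀.trans (Subgroup.card_dvd_of_le hR₀E)
  -- `r ∈ τ₁(M)`
  have hr1 : r ∈ Cfsg.tau1 M := by
    rcases mem_tau_of_dvd_card_compl hG hM hE hr hrE with h1 | h2 | h3
    · exact h1
    · rw [h0.tau2_empty] at h2
      exact absurd h2 (Set.notMem_empty _)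
    · exfalso
      -- `S ⊔ R₀` is a `τ₃(M)`-group, hence cyclic
      have hle : R₀ ⊔ S ≤ E := sup_le hR₀E hSE
      have hprimes : ∀ q : ℕ, q.Prime → q ∣ Nat.card ↥(R₀ ⊔ S) → q ∈ Cfsg.tau3 M := by
        intro q hq hqd
        have h4 := hqd.trans (Cfsg.Agent.Helper22.card_sup_dvd_of_le_normalizer R₀ S hR₀N)
        rcases (Nat.Prime.dvd_mul hq).1 h4 with h5 | h5
        · rw [Cfsg.Agent.Helper23.BG13.eq_of_prime_dvd_card_pgroup hR₀p hq h5]
          exact h3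
        · rw [Cfsg.Agent.Helper23.BG13.eq_of_prime_dvd_card_pgroup hSp hq h5]
          exact h.mem_tau3
      obtain ⟨E₃, hE₃, hle₃⟩ :=
        Cfsg.Agent.Helper71.BGHall.exists_isPiHallOf_ge (Cfsg.tau3 M) E hle hprimes
      have hcyc : IsCyclic ↥E₃ := (hctx.tau3 hE₃).1
      apply hR₀C
      intro x hx
      rw [Subgroup.mem_centralizer_iff]
      intro y hy
      have hx3 : x ∈ E₃ := hle₃ (Subgroup.mem_sup_left hx)
      have hy3 : y ∈ E₃ := hle₃ (Subgroup.mem_sup_right hy)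
      haveI := hcyc
      exact ((Cfsg.Agent.Helper23.isMulCommutative_subgroup_iff E₃).1 IsCyclic.isMulCommutative)
        y hy3 x hx3
  -- a subgroup `R` of order `r` of `R₀`
  obtain ⟨R, hRR₀, hRc⟩ := Cfsg.Agent.Helper54.BG14K1.exists_card_prime_le hR₀1
  have hRr : Nat.card ↥R = r :=
    Cfsg.Agent.Helper23.BG13.eq_of_prime_dvd_card_pgroup hR₀p hRc
      (Subgroup.card_dvd_of_le hRR₀)
  have hRE : R ≤ E := hRR₀.trans hR₀E
  have hRY : R ≤ Subgroup.centralizer (Y : Set G) :=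
    hno R r hr1 hRE hRr Y s h.mem_tau3 h.le h.card
  have hcop : (Nat.card ↥R).Coprime s := by
    rw [hRr]
    exact (Nat.coprime_primes hr hs).2 hrs
  have hRS : R ≤ Subgroup.centralizer (S : Set G) :=
    le_centralizer_of_cyclic_of_le_centralizer_omega hs hSp hSc (hRR₀.trans hR₀N) hcop hYS
      h.card hRY
  -- `R₀` is cyclic
  have hR₀c : IsCyclic ↥R₀ :=
    Cfsg.Agent.Helper23.BG13.isCyclic_of_isPGroup_of_pRankLE_one hG.1 hR₀p
      (Cfsg.Agent.Helper23.BG13.pRankLE_mono (hR₀E.trans hEM) hr1.2.2.2.2)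
  have hR₀R : R₀ ≤ Subgroup.centralizer (R : Set G) := by
    intro x hx
    rw [Subgroup.mem_centralizer_iff]
    intro y hy
    haveI := hR₀c
    exact ((Cfsg.Agent.Helper23.isMulCommutative_subgroup_iff R₀).1 IsCyclic.isMulCommutative)
      y (hRR₀ hy) x hx
  have hSR : S ≤ Subgroup.centralizer (R : Set G) := by
    intro x hx
    rw [Subgroup.mem_centralizer_iff]
    intro y hy
    exact ((Subgroup.mem_centralizer_iff.1 (hRS hy)) x hx).symm
  -- a maximal subgroup over `N_G(R)`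
  have hRp : IsPGroup r ↥R := hR₀p.to_le hRR₀
  have hR1 : R ≠ ⊥ := ne_bot_of_card_eq_prime hr hRr
  have hNtop : Subgroup.normalizer (R : Set G) ≠ ⊤ :=
    Cfsg.Agent.Helper31.bgt_normalizer_ne_top_of_simple hR1 (isPGroup_ne_top hG hRp)
  obtain ⟨H, hH, hNH⟩ := (eq_top_or_exists_le_coatom _).resolve_left hNtop
  have hDne : Cfsg.sigmaCore M ⊓ Subgroup.centralizer (R : Set G) ≠ ⊥ := by
    intro hb
    apply hCne
    rw [eq_bot_iff, ← hb]
    refine le_inf inf_le_left ?_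
    exact hCE.trans (Subgroup.centralizer_le hRE)
  have hrH : r ∈ Cfsg.sigma H := hK1 M E hM hE r hr1 R hRE hRr hDne H hH hNH
  have hCRH : Subgroup.centralizer (R : Set G) ≤ H :=
    (Subgroup.centralizer_le_normalizer _).trans hNH
  have hR₀H : R₀ ≤ H := hR₀R.trans hCRH
  have hSH : S ≤ H := hSR.trans hCRH
  have hR₀σ : R₀ ≤ Cfsg.sigmaCore H := le_sigmaCore_of_isPGroup hG hU hH hrH hR₀p hR₀H
  have hsH : s ∣ Nat.card ↥H :=
    (Cfsg.Agent.Helper23.BG13.dvd_card_of_isPGroup_ne_bot hSp hS1).trans (Subgroup.card_dvd_of_le hSH)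
  -- the commutator `[S, R₀]`
  have hcomm1 : ⁅S, R₀⁆ ≠ ⊥ := by
    intro hb
    apply hR₀C
    have h1 : S ≤ Subgroup.centralizer (R₀ : Set G) :=
      Subgroup.commutator_eq_bot_iff_le_centralizer.1 hb
    intro x hx
    rw [Subgroup.mem_centralizer_iff]
    intro y hy
    exact ((Subgroup.mem_centralizer_iff.1 (h1 hy)) x hx).symm
  have hcommS : ⁅S, R₀⁆ ≤ S := by
    rw [Subgroup.commutator_le]
    intro a ha b hb
    have h1 : b * a⁻¹ * b⁻¹ ∈ S :=
      (Subgroup.mem_normalizer_iff.1 (hR₀N hb) a⁻¹).1 (S.inv_mem ha)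
    have e : ⁅a, b⁆ = a * (b * a⁻¹ * b⁻¹) := by
      rw [commutatorElement_def]; group
    rw [e]
    exact S.mul_mem ha h1
  by_cases hsβ : s ∈ Cfsg.beta H
  · -- `s` is ideal, but `s ∈ τ₂(L)`
    exact (thm_10_5 hG hU L hL s hτ2.2.2.1 hτ2.2.2.2).1 hsβ.2
  · obtain ⟨N, hNK, hHN, hsN, hNall⟩ :=
      Cfsg.Agent.Helper23.BG13.exists_normal_qcompl (q := s) (H := H) (K := Cfsg.sigmaCore H)
        (le_normalizer_sigmaCore H) (bb1414σ hG hH hs hsH hsβ)
    have hR₀cop : (Nat.card ↥R₀).Coprime s := by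
      obtain ⟨k, hk⟩ := IsPGroup.iff_card.1 hR₀p
      rw [hk]
      exact Nat.Coprime.pow_left k ((Nat.coprime_primes hr hs).2 hrs)
    have hR₀N' : R₀ ≤ N := hNall R₀ hR₀σ hR₀cop
    have hcommN : ⁅S, R₀⁆ ≤ N := by
      rw [Subgroup.commutator_le]
      intro a ha b hb
      have h1 : a * b * a⁻¹ ∈ N :=
        (Subgroup.mem_normalizer_iff.1 (hHN (hSH ha)) b).1 (hR₀N' hb)
      have e : ⁅a, b⁆ = (a * b * a⁻¹) * b⁻¹ := by
        rw [commutatorElement_def]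
      rw [e]
      exact N.mul_mem h1 (N.inv_mem (hR₀N' hb))
    have hd1 : s ∣ Nat.card ↥⁅S, R₀⁆ :=
      Cfsg.Agent.Helper23.BG13.dvd_card_of_isPGroup_ne_bot (hSp.to_le hcommS) hcomm1
    exact hsN (hd1.trans (Subgroup.card_dvd_of_le hcommN))

end Cfsg.Agent.Helper70.BG14.S57

namespace Cfsg.Agent.Helper70.BG14

alias sigma_or_tau2_L := S57.sigma_or_tau2_L
alias step7 := S57.step7

end Cfsg.Agent.Helper70.BG14
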