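import Mathlib
import Cfsg.Agent.Helper70.BG14N3
import Cfsg.Agent.Helper70.BG14S57
import Cfsg.Agent.Helper71.BG14K1
import Cfsg.Agent.Helper71.BG11Leaf
import Cfsg.Agent.Helper23.BG14E
import Cfsg.Agent.S0026
import Cfsg.Agent.S1417
import Cfsg.Agent.S1420
import Cfsg.Agent.S1423

/-!
# THEOREM N3 of helper70 (board #3892), chunk [AL]: `not_tau2_L`, `alphaL` (helper23)
-/

set_option autoImplicit false
set_option linter.unusedVariables false
set_option linter.unusedSectionVars false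
set_option linter.style.haveILetI false

namespace Cfsg.Agent.Helper70.BG14.AL

open Cfsg.Agent.Helper23.BG14

open Cfsg Cfsg.Agent.Helper29 Cfsg.Agent.Helper29.BG10 Cfsg.Agent.Helper29.BG11
open Cfsg.Agent.Helper70.BG14
open scoped commutatorElement

variable {G : Type*} [Group G] [Finite G]

/-- a subgroup of prime order `q` inside a subgroup of order divisible by `q` -/
theorem exists_le_card_eq_prime {q : ℕ} [hq : Fact q.Prime] {C : Subgroup G}
    (hqC : q ∣ Nat.card C) : ∃ X : Subgroup G, X ≤ C ∧ Nat.card X = q := by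
  obtain ⟨x, hx⟩ := exists_prime_orderOf_dvd_card' (G := ↥C) q hqC
  refine ⟨Subgroup.zpowers (x : G), ?_, ?_⟩
  · rw [Subgroup.zpowers_le]; exact x.2
  · rw [Nat.card_zpowers, Subgroup.orderOf_coe, hx]

/-- 3.3: no prime of `|C|` is in `τ₂(L)` -/
theorem not_tau2_L (hG : Cfsg.IsMinSimpleOddOrder G) (hSP : SP G) {M E Y L : Subgroup G}
    {s : ℕ} (h0 : Step0 M E Y s L) (hsL : s ∈ Cfsg.sigma L) {q : ℕ} (hq : q.Prime)
    (hqC : q ∣ Nat.card ↥(Cfsg.sigmaCore M ⊓ Subgroup.centralizer (Y : Set G))) :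
    q ∉ Cfsg.tau2 L := by
  classical
  intro hqτ
  have hU := bbU hG
  haveI hqf : Fact q.Prime := ⟨hq⟩
  have h := h0.hyp
  have hM := h.coatom
  have hL := h0.coatomL
  have hsp : s.Prime := h.mem_tau3.1
  haveI hsf : Fact s.Prime := ⟨hsp⟩
  have hLM : L ≠ M := by
    intro hLM
    apply h0.not_conj 1
    rw [BG10.cj_one, hLM]
  have hqσ : q ∈ Cfsg.sigma M :=
    BG11.primes_sigmaCore M q hq (hqC.trans (Subgroup.card_dvd_of_le inf_le_left))
  have hYp : IsPGroup s Y := IsPGroup.of_card (n := 1) (by rw [pow_one, h.card])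
  have hY1 : Y ≠ ⊥ := by
    intro hb
    have := h.card
    rw [hb, Subgroup.card_bot] at this
    exact hsp.one_lt.ne this
  have hYL : Y ≤ L := h.le.trans h0.le_L
  have hYM : Y ≤ M := h.le.trans h.compl.1
  have hYσL : Y ≤ Cfsg.sigmaCore L := BG11.le_sigmaCore_of_isPGroup hG hU hL hsL hYp hYL
  by_cases hqβ : q ∈ Cfsg.beta M
  · obtain ⟨X, hXC, hXc⟩ := exists_le_card_eq_prime hqC
    have hXM : X ≤ M := (hXC.trans inf_le_left).trans (BG11.sigmaCore_le M)
    obtain ⟨S⟩ : Nonempty (Sylow q ↥(Cfsg.sigmaCore M)) := inferInstance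
    have h1423 := (Cfsg.Agent.S1423.result hG M hM q hqσ X hXM hXc S (Or.inl hqβ)).1.2
    -- a generator of `X`
    obtain ⟨x, hxX, hx1⟩ : ∃ x ∈ X, x ≠ 1 := by
      by_contra hcon
      push Not at hcon
      have : X = ⊥ := by
        rw [eq_bot_iff]; intro x hx; exact Subgroup.mem_bot.2 (hcon x hx)
      rw [this, Subgroup.card_bot] at hXc
      exact hq.one_lt.ne hXc
    have hXL : X ≤ L := by
      have := hXC.trans (le_of_eq h0.inf_eq.symm)
      exact this.trans inf_le_right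
    obtain ⟨EL, hEL, -⟩ := Cfsg.Agent.Helper71.BGHall.exists_isComplIn_sigmaCore_ge hG hU hL
      (bot_le : (⊥ : Subgroup G) ≤ L) (by
        intro r hr hrd
        rw [Subgroup.card_bot] at hrd
        exact absurd (Nat.dvd_one.1 hrd) hr.one_lt.ne')
    have hord : ∀ r : ℕ, r.Prime → r ∣ orderOf x → r ∈ Cfsg.tau2 L := by
      intro r hr hrd
      have h1 : orderOf x ∣ q := by
        have := orderOf_dvd_natCard (⟨x, hxX⟩ : ↥X)
        rwa [Subgroup.orderOf_mk, hXc] at this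
      rw [(Nat.prime_dvd_prime_iff_eq hr hq).1 (hrd.trans h1)]
      exact hqτ
    -- `x` centralizes a generator of `Y ≤ L_σ`
    obtain ⟨y, hyY, hy1⟩ : ∃ y ∈ Y, y ≠ 1 := by
      by_contra hcon
      push Not at hcon
      apply hY1
      rw [eq_bot_iff]; intro y hy; exact Subgroup.mem_bot.2 (hcon y hy)
    have hxy : x * y = y * x :=
      ((Subgroup.mem_centralizer_iff.1 (Subgroup.mem_inf.1 (hXC hxX)).2) y hyY).symm
    have hxhat : x ∈ Cfsg.sigmaHat L := ⟨hXL hxX, y, hYσL hyY, hy1, hxy⟩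
    have h1420 := (Cfsg.Agent.S1420.result hG L hL EL hEL).2.2.2 x (hXL hxX) hx1 hord hxhat
    have hCX : Subgroup.centralizer (X : Set G) ≤ L :=
      (Subgroup.centralizer_le (by
        intro z hz
        rw [Set.mem_singleton_iff.1 hz]; exact hxX)).trans h1420.1
    exact hLM (h1423 L hL hCX)
  · obtain ⟨Q, hQ, hQC⟩ := exists_sylow_le_centralizer hG h hqσ hqβ
    have hQM : Q ≤ M := hQ.1.trans (BG11.sigmaCore_le M)
    have hQL : Q ≤ L := (hQC.trans (le_of_eq h0.inf_eq.symm)).trans inf_le_right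
    have hQsM : IsSylowIn q Q M := (BG11.isSylowIn_sigmaCore_iff hG hU hM hqσ).1 hQ
    have hQG : IsSylowIn q Q ⊤ :=
      Cfsg.Agent.Helper63.BG12.isSylowIn_top_of_sigma hG hU hM hqσ hQsM
    have hQsL : IsSylowIn q Q L := Cfsg.Agent.Helper71.BG11.isSylowIn_of_top hQG hQL
    obtain ⟨A₀, hA₀L, hA₀e, hA₀c⟩ := BG10.exists_elementaryAbelian_sq hqτ.2.2.1 hqτ.2.2.2
    have hA₀p : IsPGroup q A₀ := IsPGroup.of_card (n := 2) hA₀c
    obtain ⟨S, hA₀S, hS⟩ := BG10.exists_isSylowIn_ge hA₀L hA₀p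
    obtain ⟨n, hn, hnS⟩ := hQsL.exists_cj_eq hS
    have hAQ : BG10.cj n A₀ ≤ Q := hnS ▸ BG10.cj_mono hA₀S
    have hAe : Cfsg.IsElementaryAbelian q (BG10.cj n A₀) :=
      Cfsg.Agent.Helper23.BG13.isElementaryAbelian_cj hA₀e n
    have hAc : Nat.card (BG10.cj n A₀) = q ^ 2 := by rw [BG10.card_cj, hA₀c]
    have h1417 := (Cfsg.Agent.S1417.result hG L hL q hqτ (BG10.cj n A₀)
      ⟨hAQ.trans hQL, hAe, hAc⟩).2.2.2.2.1 M hM (Ne.symm hLM) (hAQ.trans hQM)
    have hYbot : Y ≤ Cfsg.sigmaCore L ⊓ M := le_inf hYσL hYM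
    rw [h1417] at hYbot
    exact hY1 (le_bot_iff.1 hYbot)

omit [Finite G] in
theorem le_normalizer_inf' {P A B : Subgroup G} (hA : P ≤ Subgroup.normalizer (A : Set G))
    (hB : P ≤ Subgroup.normalizer (B : Set G)) :
    P ≤ Subgroup.normalizer ((A ⊓ B : Subgroup G) : Set G) := by
  apply le_normalizer_of_conj_mem
  intro a ha z hz
  exact Subgroup.mem_inf.2 ⟨(Subgroup.mem_normalizer_iff.1 (hA ha) z).1 (Subgroup.mem_inf.1 hz).1,
    (Subgroup.mem_normalizer_iff.1 (hB ha) z).1 (Subgroup.mem_inf.1 hz).2⟩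

theorem alphaL (hG : Cfsg.IsMinSimpleOddOrder G) (hSP : SP G) (hT6 : T6 G)
    {M E Y P L : Subgroup G} {s p : ℕ} (h0 : Step0 M E Y s L) (h31 : Alpha31 M E Y s P p) :
    AlphaL M E Y s P p L := by
  classical
  have hU := bbU hG
  have h := h0.hyp
  have hα := h31.alpha
  have hM := h.coatom
  have hL := h0.coatomL
  have hsp : s.Prime := h.mem_tau3.1
  haveI hsf : Fact s.Prime := ⟨hsp⟩
  have hpp : p.Prime := hα.mem_tau1.1
  haveI hpf : Fact p.Prime := ⟨hpp⟩
  obtain ⟨C, hCdef⟩ : ∃ C : Subgroup G,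
      C = Cfsg.sigmaCore M ⊓ Subgroup.centralizer (Y : Set G) := ⟨_, rfl⟩
  have hCL : C = Cfsg.sigmaCore M ⊓ L := by rw [hCdef]; exact h0.inf_eq.symm
  have hC1 : C ≠ ⊥ := by rw [hCdef]; exact h.cent_ne_bot
  have hCσ : C ≤ Cfsg.sigmaCore M := by rw [hCdef]; exact inf_le_left
  have hCleL : C ≤ L := by rw [hCL]; exact inf_le_right
  have hCP0 : C ⊓ Subgroup.centralizer (P : Set G) = ⊥ := by rw [hCdef]; exact h31.inf_eq_bot
  have hEM : E ≤ M := h.compl.1
  have hPE := hα.le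
  have hPL : P ≤ L := hPE.trans h0.le_L
  have hPM : P ≤ M := hPE.trans hEM
  have hpσM : p ∉ Cfsg.sigma M := hα.mem_tau1.2.1
  have hLM : L ≠ M := by
    intro hLM
    apply h0.not_conj 1
    rw [BG10.cj_one, hLM]
  -- a subgroup of `C` centralized by `P` is trivial
  have hkill : C ≤ Subgroup.centralizer (P : Set G) → False := by
    intro hle
    apply hC1
    rw [eq_bot_iff, ← hCP0]
    exact le_inf le_rfl hle
  -- (1)
  have htau1 : ∀ R : Subgroup G, R ≤ E → R ≤ Subgroup.centralizer (P : Set G) →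
      (Nat.card R).Prime → Nat.card R ∈ Cfsg.tau1 L := by
    intro R hRE hRP hRc
    obtain ⟨hr1, hRD⟩ := h31.cent_prime R hRE hRP hRc
    by_contra hrL
    haveI : Fact (Nat.card R).Prime := ⟨hRc⟩
    have hRp : IsPGroup (Nat.card R) R := IsPGroup.of_card (n := 1) (by rw [pow_one])
    have hR1 : R ≠ ⊥ := by
      intro hb
      rw [hb, Subgroup.card_bot] at hRc
      exact Nat.not_prime_one hRc
    have hA := lemmaA hG hM hL h0.not_conj hr1.2.1 hRp hR1 (hRE.trans hEM)
      (hRE.trans h0.le_L) hrL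
    have hCR : C ≤ Cfsg.sigmaCore M ⊓ Subgroup.centralizer (R : Set G) := by
      refine le_inf hCσ ?_
      rw [hCL]
      exact Subgroup.commutator_eq_bot_iff_le_centralizer.1 hA
    rw [hRD] at hCR
    exact hkill (hCR.trans inf_le_right)
  have hPcomm : P ≤ Subgroup.centralizer (P : Set G) := by
    haveI : IsCyclic ↥P := isCyclic_of_prime_card hα.card
    intro a ha
    rw [Subgroup.mem_centralizer_iff]
    intro b hb
    exact congrArg Subtype.val
      ((IsCyclic.isMulCommutative (α := ↥P)).is_comm.comm ⟨b, hb⟩ ⟨a, ha⟩)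
  have hpL : p ∈ Cfsg.tau1 L := by
    have := htau1 P hPE hPcomm (by rw [hα.card]; exact hpp)
    rwa [hα.card] at this
  -- (2) `s ∈ σ(L)`
  have hsL : s ∈ Cfsg.sigma L := by
    rcases sigma_or_tau2_L hG h0 with h1 | h2
    · exact h1
    · exfalso
      have hsM : s ∣ Nat.card M := by
        have := Subgroup.card_dvd_of_le (h.le.trans hEM)
        rwa [h.card] at this
      have h3 := bbA3 hG M L hM hL h0.not_conj s h2 hsM h.mem_tau3.2.1
      apply hkill
      rw [hCL]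
      exact (Subgroup.commutator_eq_bot_iff_le_centralizer.1 h3).trans
        (Subgroup.centralizer_le (by exact_mod_cast (le_inf hPM hPL)))
  -- `C = [C, P]`
  have hPC : P ≤ Subgroup.normalizer (C : Set G) := by
    rw [hCL]
    exact le_normalizer_inf' (hPM.trans (BG11.le_normalizer_sigmaCore M))
      (hPL.trans Subgroup.le_normalizer)
  have hcopPC : (Nat.card P).Coprime (Nat.card C) := by
    rw [hα.card]
    refine (Nat.Prime.coprime_iff_not_dvd hpp).2 (fun hd => hpσM ?_)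
    exact BG11.primes_sigmaCore M p hpp (hd.trans (Subgroup.card_dvd_of_le hCσ))
  have hCcomm : ⁅C, P⁆ = C := by
    have h26 := Cfsg.Agent.S0026.result P C hPC hcopPC (Or.inl (isSolvable_of_card_eq_prime hα.card))
    rwa [hCP0, sup_bot_eq] at h26
  -- (3)
  have hτ3 : ∀ q : ℕ, q.Prime → q ∣ Nat.card C → q ∈ Cfsg.tau3 L := by
    intro q hq hqC
    have hqσM : q ∈ Cfsg.sigma M :=
      BG11.primes_sigmaCore M q hq (hqC.trans (Subgroup.card_dvd_of_le hCσ))
    have hqσL : q ∉ Cfsg.sigma L := hSP M L hM hL h0.not_conj q hqσM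
    have hqL : q ∣ Nat.card L := hqC.trans (Subgroup.card_dvd_of_le hCleL)
    rcases Cfsg.Agent.Helper71.BG14K1.tau_cases hG hU hL hq hqL hqσL with h1 | h2 | h3
    · exfalso
      apply h1.2.2.2.1
      refine hqC.trans (Subgroup.card_dvd_of_le ?_)
      rw [← hCcomm]
      exact Subgroup.commutator_mono hCleL hPL
    · exact absurd h2 (not_tau2_L hG hSP h0 hsL hq (by rw [← hCdef]; exact hqC))
    · exact h3
  -- (4)
  have hcardA : ∀ r : ℕ, r.Prime → r ∣ Nat.card ↥(C ⊔ P) → r ∉ Cfsg.sigma L := by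
    intro r hr hrd
    have h1 := Cfsg.Agent.Helper10.card_sup_mul_card_inf P C hPC
    have h2 : r ∣ Nat.card P * Nat.card C := by
      rw [← h1, sup_comm]
      exact Dvd.dvd.mul_right hrd _
    rcases (Nat.Prime.dvd_mul hr).1 h2 with h3 | h3
    · rw [hα.card] at h3
      rw [(Nat.prime_dvd_prime_iff_eq hr hpp).1 h3]
      exact hpL.2.1
    · exact (hτ3 r hr h3).2.1
  obtain ⟨E', hE', hAE'⟩ := Cfsg.Agent.Helper71.BGHall.exists_isComplIn_sigmaCore_ge hG hU hL
    (sup_le hCleL hPL) hcardA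
  obtain ⟨q, hq, hqC⟩ := Nat.exists_prime_and_dvd (fun h1 => hC1 (Subgroup.card_eq_one.1 h1))
  haveI hqf : Fact q.Prime := ⟨hq⟩
  obtain ⟨X, hXC, hXc⟩ := exists_le_card_eq_prime hqC
  have hX1 : X ≠ ⊥ := by
    intro hb
    rw [hb, Subgroup.card_bot] at hXc
    exact hq.one_lt.ne hXc
  have hYp : IsPGroup s Y := IsPGroup.of_card (n := 1) (by rw [pow_one, h.card])
  have hY1 : Y ≠ ⊥ := by
    intro hb
    have := h.card
    rw [hb, Subgroup.card_bot] at this
    exact hsp.one_lt.ne this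
  have hYσL : Y ≤ Cfsg.sigmaCore L :=
    BG11.le_sigmaCore_of_isPGroup hG hU hL hsL hYp (h.le.trans h0.le_L)
  have hXY : X ≤ Subgroup.centralizer (Y : Set G) := by
    have := hXC
    rw [hCdef] at this
    exact this.trans inf_le_right
  refine ⟨htau1, E', X, q, ⟨⟨hL, hE', hτ3 q hq hqC, hXC.trans (le_sup_left.trans hAE'), hXc, ?_⟩,
    hpL, le_sup_right.trans hAE', hα.card, ?_⟩⟩
  · intro hb
    have : Y ≤ Cfsg.sigmaCore L ⊓ Subgroup.centralizer (X : Set G) :=
      le_inf hYσL (Subgroup.le_centralizer_iff.1 hXY)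
    rw [hb] at this
    exact hY1 (le_bot_iff.1 this)
  · intro hPX
    have : X ≤ C ⊓ Subgroup.centralizer (P : Set G) :=
      le_inf hXC (Subgroup.le_centralizer_iff.1 hPX)
    rw [hCP0] at this
    exact hX1 (le_bot_iff.1 this)

end Cfsg.Agent.Helper70.BG14.AL

namespace Cfsg.Agent.Helper70.BG14

alias not_tau2_L := AL.not_tau2_L
alias alphaL := AL.alphaL

end Cfsg.Agent.Helper70.BG14
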