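import Mathlib
import Cfsg.Agent.Helper70.BG14N3
import Cfsg.Agent.S1428
import Cfsg.Agent.Helper68.BG14P5
import Cfsg.Agent.Helper63.BG13F
import Cfsg.Agent.Helper64.BG13W

/-!
# B-G §13/§14, THEOREM N3: STEP 2 and STEP 3.1 (helper70, board #3585 / #3892 chunk [A31])
-/

set_option autoImplicit false
set_option linter.unusedVariables false
set_option linter.unusedSectionVars false
set_option linter.style.haveILetI false

namespace Cfsg.Agent.Helper70.BG14

open Cfsg Cfsg.Agent.Helper29 Cfsg.Agent.Helper29.BG10 Cfsg.Agent.Helper29.BG11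
open scoped commutatorElement

variable {G : Type*} [Group G] [Finite G]

/-- Cauchy for subgroups: a subgroup of order `t` inside `K` for a prime `t ∣ |K|` -/
theorem exists_le_card_eq_of_dvd {K : Subgroup G} {t : ℕ} (ht : t.Prime)
    (hd : t ∣ Nat.card ↥K) : ∃ X : Subgroup G, X ≤ K ∧ Nat.card ↥X = t := by
  haveI : Fact t.Prime := ⟨ht⟩
  obtain ⟨x, hx⟩ := exists_prime_orderOf_dvd_card' t hd
  refine ⟨Subgroup.zpowers (x : G), ?_, ?_⟩
  · rw [Subgroup.zpowers_le]; exact x.2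
  · rw [Nat.card_zpowers, Subgroup.orderOf_coe, hx]

/-- a nontrivial subgroup contains a subgroup of prime order -/
theorem exists_le_card_prime_of_ne_bot {K : Subgroup G} (hK : K ≠ ⊥) :
    ∃ (t : ℕ) (X : Subgroup G), t.Prime ∧ t ∣ Nat.card ↥K ∧ X ≤ K ∧ Nat.card ↥X = t := by
  have h1 : Nat.card ↥K ≠ 1 := fun h => hK (Subgroup.card_eq_one.1 h)
  obtain ⟨t, ht, hd⟩ := Nat.exists_prime_and_dvd h1
  obtain ⟨X, hXK, hX⟩ := exists_le_card_eq_of_dvd ht hd
  exact ⟨t, X, ht, hd, hXK, hX⟩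

/-- the primes `s ∈ τ₃(M)` and `p ∈ τ₁(M)` are different -/
theorem ne_of_tau3_of_tau1 {M : Subgroup G} {s p : ℕ} (hs : s ∈ Cfsg.tau3 M)
    (hp : p ∈ Cfsg.tau1 M) : s ≠ p := by
  rintro rfl
  exact hp.2.2.2.1 hs.2.2.1

/-- STEP 2: `D ≠ 1` in case (α) -/
theorem D_ne_bot_of_alpha (hG : Cfsg.IsMinSimpleOddOrder G) {M E Y P : Subgroup G} {s p : ℕ}
    (hα : Alpha M E Y s P p) :
    Cfsg.sigmaCore M ⊓ Subgroup.centralizer (P : Set G) ≠ ⊥ := by
  intro hD
  have h := hα.hyp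
  have hM := h.coatom
  obtain ⟨L, h0⟩ := exists_step0 hG h
  have hc := ectx hG hM h.compl
  have hsp : s.Prime := h.mem_tau3.1
  have hpp : p.Prime := hα.mem_tau1.1
  have hEM : E ≤ M := h.compl.1
  have hMn : M ≤ Subgroup.normalizer ((Cfsg.sigmaCore M : Subgroup G) : Set G) :=
    le_normalizer_sigmaCore M
  have hcop : (Nat.card ↥(Cfsg.sigmaCore M)).Coprime (s * p) := by
    apply Nat.Coprime.mul_right
    · rw [Nat.coprime_comm, Nat.Prime.coprime_iff_not_dvd hsp]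
      exact fun hd => h.mem_tau3.2.1 (primes_sigmaCore M s hsp hd)
    · rw [Nat.coprime_comm, Nat.Prime.coprime_iff_not_dvd hpp]
      exact fun hd => hα.mem_tau1.2.1 (primes_sigmaCore M p hpp hd)
  have hYc : Y ≤ Subgroup.centralizer ((Cfsg.sigmaCore M : Subgroup G) : Set G) :=
    Cfsg.Agent.Helper68.BG14P5.centralizes_of_frobenius_fpf (Cfsg.sigmaCore M) Y P hsp hpp
      h.card hα.card (hα.le.trans h0.normal) hα.not_cent ((h.le.trans hEM).trans hMn)
      ((hα.le.trans hEM).trans hMn) hG.1 hcop hD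
  -- then `M ≤ N(Y) ≤ L`
  have hML : M ≤ L := by
    intro m hm
    obtain ⟨a, ha, b, hb, rfl⟩ := h.compl.2.2.2 m hm
    apply h0.normalizer_le
    apply Subgroup.mul_mem
    · exact h0.normal ha
    · apply Subgroup.centralizer_le_normalizer
      rw [Subgroup.mem_centralizer_iff]
      intro y hy
      exact ((Subgroup.mem_centralizer_iff.1 (hYc hy)) b hb).symm
  have hMLeq : M = L := ((hM.le_iff.1 hML).resolve_left h0.coatomL.1).symm
  exact h0.not_conj 1 (by rw [cj_one]; exact hMLeq)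

/-- 3.1: the primes of `D` are in `β(M)` -/
theorem primes_beta_of_alpha (hG : Cfsg.IsMinSimpleOddOrder G) (hT6 : T6 G)
    {M E Y P : Subgroup G} {s p : ℕ} (hα : Alpha M E Y s P p) {q : ℕ} (hq : q.Prime)
    (hqD : q ∣ Nat.card ↥(Cfsg.sigmaCore M ⊓ Subgroup.centralizer (P : Set G))) :
    q ∈ Cfsg.beta M := by
  by_contra hqβ
  have h := hα.hyp
  have hM := h.coatom
  obtain ⟨L, h0⟩ := exists_step0 hG h
  have hqσ : q ∈ Cfsg.sigma M :=
    primes_sigmaCore M q hq (hqD.trans (Subgroup.card_dvd_of_le inf_le_left))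
  obtain ⟨Q, hQ, hQC⟩ := exists_sylow_le_centralizer hG h hqσ hqβ
  have hu := (hT6 M E hM h.compl p hα.mem_tau1 P hα.le hα.card q hq hqD Q hQ).1
  obtain ⟨M₀, -, huniq⟩ := hu
  have hQM : Q ≤ M := hQ.1.trans (sigmaCore_le M)
  have hQL : Q ≤ L :=
    (hQC.trans inf_le_right).trans ((Subgroup.centralizer_le_normalizer _).trans
      h0.normalizer_le)
  have e1 : M = M₀ := huniq M ⟨hM, hQM⟩
  have e2 : L = M₀ := huniq L ⟨h0.coatomL, hQL⟩
  exact h0.not_conj 1 (by rw [cj_one]; exact e1.trans e2.symm)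

/-- 3.1: `C ∩ D = 1` in case (α) -/
theorem inf_eq_bot_of_alpha (hG : Cfsg.IsMinSimpleOddOrder G) (hT6 : T6 G)
    {M E Y P : Subgroup G} {s p : ℕ} (hα : Alpha M E Y s P p) :
    Cfsg.sigmaCore M ⊓ Subgroup.centralizer (Y : Set G) ⊓
      Subgroup.centralizer (P : Set G) = ⊥ := by
  by_contra hne
  have hU := bbU hG
  have h := hα.hyp
  have hM := h.coatom
  obtain ⟨L, h0⟩ := exists_step0 hG h
  have hsp : s.Prime := h.mem_tau3.1
  have hpp : p.Prime := hα.mem_tau1.1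
  haveI : Fact p.Prime := ⟨hpp⟩
  have hEM : E ≤ M := h.compl.1
  have hYM : Y ≤ M := h.le.trans hEM
  have hPM : P ≤ M := hα.le.trans hEM
  have hPY : P ≤ Subgroup.normalizer (Y : Set G) := hα.le.trans h0.normal
  obtain ⟨t, X₀, ht, htd, hX₀le, hX₀⟩ := exists_le_card_prime_of_ne_bot hne
  haveI : Fact t.Prime := ⟨ht⟩
  have htD : t ∣ Nat.card ↥(Cfsg.sigmaCore M ⊓ Subgroup.centralizer (P : Set G)) :=
    htd.trans (Subgroup.card_dvd_of_le (inf_le_inf_right _ inf_le_left))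
  have htβ : t ∈ Cfsg.beta M := primes_beta_of_alpha hG hT6 hα ht htD
  have htα : t ∈ Cfsg.alpha M := htβ.1
  have htσ : t ∈ Cfsg.sigma M := alpha_subset_sigma hG hU hM htα
  have hts : t ≠ s := fun e => h.mem_tau3.2.1 (e ▸ htσ)
  have htp : t ≠ p := fun e => hα.mem_tau1.2.1 (e ▸ htσ)
  -- the group `A = Y P`
  have hMn : M ≤ Subgroup.normalizer ((Cfsg.sigmaCore M : Subgroup G) : Set G) :=
    le_normalizer_sigmaCore M
  have hAdvd : Nat.card ↥(Y ⊔ P) ∣ s * p := by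
    have := Cfsg.Agent.Helper68.BG11.card_sup_dvd (S := Y) (A := P) hPY
    rwa [h.card, hα.card] at this
  have hAM : Y ⊔ P ≤ M := sup_le hYM hPM
  have hcopσ : ∀ r : ℕ, r.Prime → r ∣ Nat.card ↥(Y ⊔ P) → r ∉ Cfsg.sigma M := by
    intro r hr hrd
    rcases (Nat.Prime.dvd_mul hr).1 (hrd.trans hAdvd) with h1 | h1
    · rw [(Nat.prime_dvd_prime_iff_eq hr hsp).1 h1]; exact h.mem_tau3.2.1
    · rw [(Nat.prime_dvd_prime_iff_eq hr hpp).1 h1]; exact hα.mem_tau1.2.1
  have hcopA : (Nat.card ↥(Y ⊔ P)).Coprime (Nat.card ↥(Cfsg.sigmaCore M)) :=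
    Nat.coprime_of_dvd fun k hk hkA hkS => hcopσ k hk hkA (primes_sigmaCore M k hk hkS)
  have hsolvA : Group.IsSolvable ↥(Y ⊔ P) := by
    haveI : Group.IsSolvable ↥M := hG.2.2.2 M hM.1
    exact Group.isSolvable_of_isSolvable_injective (Subgroup.inclusion_injective hAM)
  have hX₀σ : X₀ ≤ Cfsg.sigmaCore M := hX₀le.trans (inf_le_left.trans inf_le_left)
  have hX₀Y : X₀ ≤ Subgroup.centralizer (Y : Set G) := hX₀le.trans (inf_le_left.trans inf_le_right)
  have hX₀P : X₀ ≤ Subgroup.centralizer (P : Set G) := hX₀le.trans inf_le_right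
  have hYX₀ : Y ≤ Subgroup.centralizer (X₀ : Set G) := Subgroup.le_centralizer_iff.1 hX₀Y
  have hPX₀ : P ≤ Subgroup.centralizer (X₀ : Set G) := Subgroup.le_centralizer_iff.1 hX₀P
  have hAX₀ : Y ⊔ P ≤ Subgroup.normalizer (X₀ : Set G) :=
    (sup_le hYX₀ hPX₀).trans (Subgroup.centralizer_le_normalizer _)
  obtain ⟨T, hT, hX₀T, hAT⟩ := Cfsg.Agent.Helper64.BG13W.exists_invariant_sylow_ge (Y ⊔ P)
    (Cfsg.sigmaCore M) X₀ (hAM.trans hMn) hcopA (Or.inl hsolvA) t (isPGroup_of_card_eq hX₀)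
    hX₀σ hAX₀
  have hTM : T ≤ M := hT.1.trans (sigmaCore_le M)
  have hTα : T ≤ Cfsg.alphaCore M :=
    Cfsg.Agent.Helper23.BG13.le_alphaCore_of_isPGroup hG hU hM htα hT.2.1 hTM
  -- cyclicity of `C_T(P)` and `C_T(Y)`
  have hcR : IsCyclic ↥(T ⊓ Subgroup.centralizer (P : Set G)) := by
    have h1 := Cfsg.Agent.Helper23.BG13.rankLE_one_alphaCore_centralizer hG hU hM hα.mem_tau1
      hα.card hPM
    exact Cfsg.Agent.Helper23.BG13.isCyclic_of_isPGroup_of_pRankLE_one hG.1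
      (hT.2.1.to_le inf_le_left)
      (Cfsg.Agent.Helper23.BG13.pRankLE_mono (inf_le_inf_right _ hTα) (h1 t ht))
  have hLM : L ≠ M := fun e => h0.not_conj 1 (by rw [cj_one]; exact e.symm)
  have hcQ : IsCyclic ↥(T ⊓ Subgroup.centralizer (Y : Set G)) := by
    have h1 := Cfsg.Agent.Helper23.BG13.rankLE_one_alphaCore_centralizer' hG hU hM h0.coatomL hLM
      hYM
      (by
        intro q hq hqd hqα
        rw [h.card] at hqd
        rw [(Nat.prime_dvd_prime_iff_eq hq hsp).1 hqd] at hqα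
        exact h.mem_tau3.2.1 (alpha_subset_sigma hG hU hM hqα))
      (inf_le_right.trans ((Subgroup.centralizer_le_normalizer _).trans h0.normalizer_le))
    exact Cfsg.Agent.Helper23.BG13.isCyclic_of_isPGroup_of_pRankLE_one hG.1
      (hT.2.1.to_le inf_le_left)
      (Cfsg.Agent.Helper23.BG13.pRankLE_mono (inf_le_inf_right _ hTα) (h1 t ht))
  have hYP : ⁅Y, P⁆ = Y :=
    Cfsg.Agent.Helper68.BG14P5.commutator_eq_of_not_le_centralizer hsp h.card hPY hα.not_cent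
  have hoddA : Odd (Nat.card ↥(Y ⊔ P)) :=
    Odd.of_dvd_nat hG.1 (Subgroup.card_subgroup_dvd_card _)
  have hcopt : (Nat.card ↥(Y ⊔ P)).Coprime t := by
    apply Nat.Coprime.coprime_dvd_left hAdvd
    apply Nat.Coprime.mul_left
    · exact (Nat.coprime_primes hsp ht).2 (Ne.symm hts)
    · exact (Nat.coprime_primes hpp ht).2 (Ne.symm htp)
  have hpY : ¬ p ∣ Nat.card ↥Y := by
    rw [h.card]
    intro hd
    exact ne_of_tau3_of_tau1 h.mem_tau3 hα.mem_tau1
      ((Nat.prime_dvd_prime_iff_eq hpp hsp).1 hd).symm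
  have ht2 : t ≠ 2 := by
    rintro rfl
    have h2 : 2 ∣ Nat.card G := by
      have := htσ.2.1.trans (Subgroup.card_subgroup_dvd_card M)
      exact this
    exact (Nat.not_even_iff_odd.2 hG.1) (even_iff_two_dvd.2 h2)
  have hTc : IsCyclic ↥T :=
    Cfsg.Agent.Helper63.BG13F.lemmaF_c ht ht2 hpp T Y P hT.2.1 hα.card (le_sup_right.trans hAT)
      (le_sup_left.trans hAT) hPY hYP hsolvA hoddA hcopt hpY hcR hcQ X₀ hX₀T hX₀ hYX₀ hPX₀
  -- but `T` is a Sylow `t`-subgroup of `M` and `t ∈ α(M)`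
  have hTSM : IsSylowIn t T M := (isSylowIn_sigmaCore_iff hG hU hM htσ).1 hT
  have hr1 : Cfsg.PRankLE t 1 ↥M :=
    Cfsg.Agent.Helper23.BG13.pRankLE_one_of_isCyclic_sylow hTSM hTc
  exact htα.2 (Cfsg.Agent.Helper23.BG13.pRankLE_succ hr1)

/-- 3.1: the subgroups of prime order of `C_E(P)` -/
theorem cent_prime_of_alpha (hG : Cfsg.IsMinSimpleOddOrder G) {M E Y P : Subgroup G}
    {s p : ℕ} (hα : Alpha M E Y s P p)
    (hD : Cfsg.sigmaCore M ⊓ Subgroup.centralizer (P : Set G) ≠ ⊥)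
    (hbot : Cfsg.sigmaCore M ⊓ Subgroup.centralizer (Y : Set G) ⊓
      Subgroup.centralizer (P : Set G) = ⊥)
    {R : Subgroup G} (hRE : R ≤ E) (hRP : R ≤ Subgroup.centralizer (P : Set G))
    (hR : (Nat.card ↥R).Prime) :
    Nat.card ↥R ∈ Cfsg.tau1 M ∧
      Cfsg.sigmaCore M ⊓ Subgroup.centralizer (R : Set G) =
        Cfsg.sigmaCore M ⊓ Subgroup.centralizer (P : Set G) := by
  have h := hα.hyp
  have hM := h.coatom
  obtain ⟨L, h0⟩ := exists_step0 hG h
  have hle1 := Cfsg.Agent.S1428.result hG M hM E h.compl p hα.mem_tau1 P hα.le hα.card R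
    (le_inf hRE hRP) hR
  have hrE : Nat.card ↥R ∣ Nat.card ↥E := Subgroup.card_dvd_of_le hRE
  rcases mem_tau_of_dvd_card_compl hG hM h.compl hR hrE with h1 | h2 | h3
  · refine ⟨h1, le_antisymm ?_ hle1⟩
    have hPR : P ≤ Subgroup.centralizer (R : Set G) := Subgroup.le_centralizer_iff.1 hRP
    exact Cfsg.Agent.S1428.result hG M hM E h.compl _ h1 R hRE rfl P (le_inf hα.le hPR)
      (by rw [hα.card]; exact hα.mem_tau1.1)
  · rw [h0.tau2_empty] at h2; exact absurd h2 (Set.notMem_empty _)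
  · exfalso
    apply hD
    rw [eq_bot_iff, ← hbot]
    refine le_inf ?_ inf_le_right
    rw [← step0_same hG h h3 hRE rfl]
    exact hle1

/-- **STEP 2 + 3.1** -/
theorem alpha31 (hG : Cfsg.IsMinSimpleOddOrder G) (hT6 : T6 G) {M E Y P : Subgroup G}
    {s p : ℕ} (hα : Alpha M E Y s P p) : Alpha31 M E Y s P p := by
  have hD := D_ne_bot_of_alpha hG hα
  have hbot := inf_eq_bot_of_alpha hG hT6 hα
  exact ⟨hα, hD, fun q hq hqD => primes_beta_of_alpha hG hT6 hα hq hqD, hbot,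
    fun R hRE hRP hR => cent_prime_of_alpha hG hα hD hbot hRE hRP hR⟩

end Cfsg.Agent.Helper70.BG14
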