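import Mathlib
import Cfsg.Agent.Helper70.BG14N4
import Cfsg.Agent.Helper70.BG14PU
import Cfsg.Agent.S1423
import Cfsg.Agent.Helper60.BG14J

/-!
# B-G §13/§14, THEOREM N3: chunk [FC], the final contradiction in case (α)
(helper70, board #3585 / #3892)

`t ∣ |C_{M_σ}(P)|`, `t' ∣ |C_{L_σ}(P)|` are ideal primes; in `K = C_G(P)` (solvable, inside a
maximal subgroup `H` conjugate neither to `M` nor to `L`) the `t`- and `t'`-subgroups are cyclic,
and Lemma J (helper60) produces a subgroup of order `t'` in `C_M(P) = C_{M_σ}(P) C_E(P)`; so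
`t' ∣ |C_E(P)|`, `t' ∈ τ₁(L)`, against `t' ∈ σ(L)`.
-/

set_option autoImplicit false
set_option linter.unusedVariables false
set_option linter.unusedSectionVars false
set_option linter.style.haveILetI false

namespace Cfsg.Agent.Helper70.BG14

open Cfsg Cfsg.Agent.Helper29 Cfsg.Agent.Helper29.BG10 Cfsg.Agent.Helper29.BG11
open scoped commutatorElement

variable {G : Type*} [Group G] [Finite G]

/-- for `t ∈ β(M)` and `X ≤ M` of order `t`: `N_G(X) ≤ M` (S1423) -/
theorem normalizer_le_of_mem_beta (hG : Cfsg.IsMinSimpleOddOrder G) {M : Subgroup G}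
    (hM : IsCoatom M) {t : ℕ} (ht : t ∈ Cfsg.beta M) {X : Subgroup G} (hXM : X ≤ M)
    (hX : Nat.card ↥X = t) : Subgroup.normalizer (X : Set G) ≤ M := by
  have hU := bbU hG
  haveI : IsSimpleGroup G := hG.2.1
  have htp : t.Prime := ht.1.1
  haveI : Fact t.Prime := ⟨htp⟩
  have htσ : t ∈ Cfsg.sigma M := alpha_subset_sigma hG hU hM ht.1
  obtain ⟨P0⟩ : Nonempty (Sylow t ↥(Cfsg.sigmaCore M)) := inferInstance
  have h23 := (Cfsg.Agent.S1423.result hG M hM t htσ X hXM hX P0 (Or.inl ht)).1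
  have hX1 : X ≠ ⊥ := ne_bot_of_card_eq htp hX
  have hNt : Subgroup.normalizer (X : Set G) ≠ ⊤ :=
    Cfsg.Agent.Helper31.bgt_normalizer_ne_top_of_simple hX1
      (isPGroup_ne_top hG (isPGroup_of_card_eq hX))
  obtain ⟨L0, hL0, hNL0⟩ := (eq_top_or_exists_le_coatom _).resolve_left hNt
  have e : L0 = M := h23.2 L0 hL0 ((Subgroup.centralizer_le_normalizer _).trans hNL0)
  rw [← e]; exact hNL0

/-- the final contradiction in case (α) -/
theorem final_contra (hG : Cfsg.IsMinSimpleOddOrder G) (hSP : SP G)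
    {M E Y P L E' X : Subgroup G} {s p q : ℕ} (h0 : Step0 M E Y s L)
    (h31 : Alpha31 M E Y s P p)
    (hL1 : ∀ R : Subgroup G, R ≤ E → R ≤ Subgroup.centralizer (P : Set G) →
      (Nat.card R).Prime → Nat.card R ∈ Cfsg.tau1 L)
    (h31L : Alpha31 L E' X q P p) : False := by
  have hU := bbU hG
  haveI : IsSimpleGroup G := hG.2.1
  have hα := h31.alpha
  have hαL := h31L.alpha
  have h := hα.hyp
  have hM := h.coatom
  have hL := h0.coatomL
  have hpp : p.Prime := hα.mem_tau1.1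
  haveI : Fact p.Prime := ⟨hpp⟩
  obtain ⟨t, Xt, ht, htd, hXtD, hXt⟩ := exists_le_card_prime_of_ne_bot h31.D_ne_bot
  obtain ⟨t', X', ht', htd', hX'D, hX'⟩ := exists_le_card_prime_of_ne_bot h31L.D_ne_bot
  have htβ : t ∈ Cfsg.beta M := h31.primes_beta t ht htd
  have ht'β : t' ∈ Cfsg.beta L := h31L.primes_beta t' ht' htd'
  have htσ : t ∈ Cfsg.sigma M := alpha_subset_sigma hG hU hM htβ.1
  have ht'σ : t' ∈ Cfsg.sigma L := alpha_subset_sigma hG hU hL ht'β.1
  have htσL : t ∉ Cfsg.sigma L := hSP M L hM hL h0.not_conj t htσ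
  have hne : t ≠ t' := fun e => htσL (e ▸ ht'σ)
  -- a maximal subgroup `H ⊇ N_G(P)`
  have hP1 : P ≠ ⊥ := ne_bot_of_card_eq hpp hα.card
  have hPp : IsPGroup p ↥P := isPGroup_of_card_eq hα.card
  have hNtop : Subgroup.normalizer (P : Set G) ≠ ⊤ :=
    Cfsg.Agent.Helper31.bgt_normalizer_ne_top_of_simple hP1 (isPGroup_ne_top hG hPp)
  obtain ⟨H, hH, hNH⟩ := (eq_top_or_exists_le_coatom _).resolve_left hNtop
  have hKH : Subgroup.centralizer (P : Set G) ≤ H :=
    (Subgroup.centralizer_le_normalizer _).trans hNH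
  haveI : Group.IsSolvable ↥(Subgroup.centralizer (P : Set G)) := by
    haveI : Group.IsSolvable ↥H := hG.2.2.2 H hH.1
    exact Group.isSolvable_of_isSolvable_injective (Subgroup.inclusion_injective hKH)
  have hncM : ∀ g : G, cj g M ≠ H := not_conj_of_mem_tau1 hG hM hα.mem_tau1 hα.card hNH
  have hncL : ∀ g : G, cj g L ≠ H := not_conj_of_mem_tau1 hG hL hαL.mem_tau1 hαL.card hNH
  have hcyc : ∀ S : Subgroup G, S ≤ Subgroup.centralizer (P : Set G) → IsPGroup t ↥S →
      IsCyclic ↥S := fun S hS hSp =>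
    isCyclic_of_ideal_of_not_conj hG hSP hM hH hncM htβ (hS.trans hKH) hSp
  have hcyc' : ∀ S : Subgroup G, S ≤ Subgroup.centralizer (P : Set G) → IsPGroup t' ↥S →
      IsCyclic ↥S := fun S hS hSp =>
    isCyclic_of_ideal_of_not_conj hG hSP hL hH hncL ht'β (hS.trans hKH) hSp
  have hXtM : Xt ≤ M := hXtD.trans (inf_le_left.trans (sigmaCore_le M))
  have hX'L : X' ≤ L := hX'D.trans (inf_le_left.trans (sigmaCore_le L))
  have hNXt : Subgroup.normalizer (Xt : Set G) ≤ M := normalizer_le_of_mem_beta hG hM htβ hXtM hXt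
  have hNX' : Subgroup.normalizer (X' : Set G) ≤ L :=
    normalizer_le_of_mem_beta hG hL ht'β hX'L hX'
  have hN : Subgroup.centralizer (P : Set G) ⊓ Subgroup.normalizer (Xt : Set G) ≤
      M ⊓ Subgroup.centralizer (P : Set G) := fun g hg => ⟨hNXt hg.2, hg.1⟩
  have hN' : Subgroup.centralizer (P : Set G) ⊓ Subgroup.normalizer (X' : Set G) ≤
      L ⊓ Subgroup.centralizer (P : Set G) := fun g hg => ⟨hNX' hg.2, hg.1⟩
  have hPL : P ≤ L := hαL.le.trans hαL.hyp.compl.1
  -- elements of order `t` of `C_L(P)` centralize `D' = C_{L_σ}(P)`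
  have hcent : ∀ g ∈ L ⊓ Subgroup.centralizer (P : Set G), orderOf g = t →
      g ∈ Subgroup.centralizer
        ((Cfsg.sigmaCore L ⊓ Subgroup.centralizer (P : Set G) : Subgroup G) : Set G) := by
    intro g hg hgo
    have hZc : Nat.card ↥(Subgroup.zpowers g) = t := by rw [Nat.card_zpowers, hgo]
    have hZL : Subgroup.zpowers g ≤ L := (Subgroup.zpowers_le).2 hg.1
    have hZP : Subgroup.zpowers g ≤ Subgroup.centralizer (P : Set G) :=
      (Subgroup.zpowers_le).2 hg.2
    have hPZ : P ≤ Subgroup.normalizer ((Subgroup.zpowers g : Subgroup G) : Set G) :=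
      (Subgroup.le_centralizer_iff.1 hZP).trans (Subgroup.centralizer_le_normalizer _)
    have hdvd : Nat.card ↥(Subgroup.zpowers g ⊔ P) ∣ t * p := by
      have := Cfsg.Agent.Helper68.BG11.card_sup_dvd (S := Subgroup.zpowers g) (A := P) hPZ
      rwa [hZc, hα.card] at this
    have hprimes : ∀ r : ℕ, r.Prime → r ∣ Nat.card ↥(Subgroup.zpowers g ⊔ P) →
        r ∉ Cfsg.sigma L := by
      intro r hr hrd
      rcases (Nat.Prime.dvd_mul hr).1 (hrd.trans hdvd) with h1 | h1
      · rw [(Nat.prime_dvd_prime_iff_eq hr ht).1 h1]; exact htσL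
      · rw [(Nat.prime_dvd_prime_iff_eq hr hpp).1 h1]; exact hαL.mem_tau1.2.1
    obtain ⟨E'', hE'', hle⟩ := Cfsg.Agent.Helper71.BGHall.exists_isComplIn_sigmaCore_ge hG hU hL
      (sup_le hZL hPL) hprimes
    have h28 := Cfsg.Agent.S1428.result hG L hL E'' hE'' p hαL.mem_tau1 P
      (le_sup_right.trans hle) hα.card (Subgroup.zpowers g)
      (le_inf (le_sup_left.trans hle) hZP) (by rw [hZc]; exact ht)
    rw [Subgroup.mem_centralizer_iff]
    intro d hd
    have hd2 : d ∈ Subgroup.centralizer ((Subgroup.zpowers g : Subgroup G) : Set G) :=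
      (h28 hd).2
    exact ((Subgroup.mem_centralizer_iff.1 hd2) g (Subgroup.mem_zpowers g)).symm
  obtain ⟨X'', hX''N, hX''⟩ := Cfsg.Agent.Helper60.BG14J.lemma_J
    (Subgroup.centralizer (P : Set G)) ht ht' hne hcyc hcyc' Xt X'
    (Cfsg.sigmaCore L ⊓ Subgroup.centralizer (P : Set G))
    (M ⊓ Subgroup.centralizer (P : Set G)) (L ⊓ Subgroup.centralizer (P : Set G))
    (hXtD.trans inf_le_right) hXt hX'D inf_le_right hX' hN hN' hcent
  -- `|C_M(P)| = |C_E(P)| |D|`
  have hcompl := isComplIn_centralizer h.compl (le_normalizer_sigmaCore M) hα.le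
  have hcard := Cfsg.Agent.Helper68.BG12.card_mul_card_of_isComplIn hcompl
  have h1 : t' ∣ Nat.card ↥(M ⊓ Subgroup.centralizer (P : Set G)) := by
    rw [← hX'']; exact Subgroup.card_dvd_of_le hX''N
  rw [← hcard] at h1
  rcases (Nat.Prime.dvd_mul ht').1 h1 with h2 | h2
  · obtain ⟨R, hRle, hR⟩ := exists_le_card_eq_of_dvd ht' h2
    have h3 := hL1 R (hRle.trans inf_le_left) (hRle.trans inf_le_right) (by rw [hR]; exact ht')
    rw [hR] at h3
    exact h3.2.1 ht'σ
  · have h3 : t' ∈ Cfsg.sigma M :=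
      primes_sigmaCore M t' ht' (h2.trans (Subgroup.card_dvd_of_le inf_le_left))
    exact hSP M L hM hL h0.not_conj t' h3 ht'σ

end Cfsg.Agent.Helper70.BG14
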