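import Mathlib
import Cfsg.Agent.Helper70.BG14FC
import Cfsg.Agent.Helper70.BG14AL

/-!
# B-G §13/§14, THEOREM N3: case (α) is impossible (helper70, board #3585 / #3892)
-/

set_option autoImplicit false

namespace Cfsg.Agent.Helper70.BG14

open Cfsg Cfsg.Agent.Helper29 Cfsg.Agent.Helper29.BG10 Cfsg.Agent.Helper29.BG11

variable {G : Type*} [Group G] [Finite G]

/-- **case (α) is impossible** -/
theorem alpha_false (hG : Cfsg.IsMinSimpleOddOrder G) (hSP : SP G) (hT6 : T6 G)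
    {M E Y P : Subgroup G} {s p : ℕ} (hα : Alpha M E Y s P p) : False := by
  obtain ⟨L, h0⟩ := exists_step0 hG hα.hyp
  have h31 := alpha31 hG hT6 hα
  obtain ⟨hL1, E', X, q, hαL⟩ := alphaL hG hSP hT6 h0 h31
  exact final_contra hG hSP h0 h31 hL1 (alpha31 hG hT6 hαL)

/-- STEP 4: no case (α) -/
theorem no_alpha (hG : Cfsg.IsMinSimpleOddOrder G) (hSP : SP G) (hT6 : T6 G)
    {M E Y : Subgroup G} {s : ℕ} (h : N3Hyp M E Y s) : NoAlpha M E := by
  intro P p hp hPE hP Y' s' hs' hY'E hY'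
  by_contra hnc
  refine alpha_false hG hSP hT6 (M := M) (E := E) (Y := Y') (P := P) (s := s') (p := p)
    ⟨⟨h.coatom, h.compl, hs', hY'E, hY', ?_⟩, hp, hPE, hP, hnc⟩
  rw [step0_same hG h hs' hY'E hY']
  exact h.cent_ne_bot

end Cfsg.Agent.Helper70.BG14
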