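import Mathlib
import Cfsg.Agent.Helper70.BG14N7
import Cfsg.Agent.Helper54.BG14K1
import Cfsg.Agent.Helper22.Sup

set_option autoImplicit false
set_option linter.unusedSectionVars false
set_option linter.unusedVariables false
set_option linter.style.haveILetI false

/-!
# B-G §14, THEOREM N3 (helper70's skeleton, board #3892): chunk [S6] = STEP 6 (`dEq`)
-/

namespace Cfsg.Agent.Helper70.BG14.S6


open Cfsg Cfsg.Agent.Helper29 Cfsg.Agent.Helper29.BG10 Cfsg.Agent.Helper29.BG11
open Cfsg.Agent.Helper70.BG14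
open scoped commutatorElement

variable {G : Type*} [Group G] [Finite G]

/-- symmetry of "centralizes" for subgroups -/
theorem le_centralizer_symm {A B : Subgroup G} (h : A ≤ Subgroup.centralizer (B : Set G)) :
    B ≤ Subgroup.centralizer (A : Set G) := by
  intro x hx
  rw [Subgroup.mem_centralizer_iff]
  intro y hy
  exact ((Subgroup.mem_centralizer_iff.1 (h hy)) x hx).symm

/-- a subgroup normalizing `H` and `K` normalizes `H ⊓ K` -/
theorem le_normalizer_inf {A H K : Subgroup G} (hH : A ≤ Subgroup.normalizer (H : Set G))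
    (hK : A ≤ Subgroup.normalizer (K : Set G)) :
    A ≤ Subgroup.normalizer ((H ⊓ K : Subgroup G) : Set G) := by
  intro a ha
  rw [Subgroup.mem_normalizer_iff]
  intro x
  rw [Subgroup.mem_inf, Subgroup.mem_inf, ← Subgroup.mem_normalizer_iff.1 (hH ha) x,
    ← Subgroup.mem_normalizer_iff.1 (hK ha) x]

/-- STEP 6 -/
theorem dEq (hG : Cfsg.IsMinSimpleOddOrder G) (hSP : SP G) (hT6 : T6 G)
    {M E Y L : Subgroup G} {s : ℕ} (h0 : Step0 M E Y s L) (hsL : s ∈ Cfsg.sigma L)
    (hno : NoAlpha M E) : DEq M E Y := by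
  classical
  intro P p hp hPE hPc
  have h := h0.hyp
  have hM := h.coatom
  have hE := h.compl
  have hL := h0.coatomL
  have hU := bbU hG
  have hctx := ectx hG hM hE
  haveI : IsSimpleGroup G := hG.2.1
  have hs : s.Prime := h.mem_tau3.1
  haveI : Fact s.Prime := ⟨hs⟩
  have hpp : p.Prime := hp.1
  haveI : Fact p.Prime := ⟨hpp⟩
  have hYp : IsPGroup s ↥Y := IsPGroup.of_card (n := 1) (by rw [h.card, pow_one])
  have hPp : IsPGroup p ↥P := IsPGroup.of_card (n := 1) (by rw [hPc, pow_one])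
  have hY1 : Y ≠ ⊥ := by
    rintro rfl
    have := h.card
    rw [Subgroup.card_bot] at this
    exact hs.one_lt.ne this
  have hP1 : P ≠ ⊥ := by
    rintro rfl
    rw [Subgroup.card_bot] at hPc
    exact hpp.one_lt.ne hPc
  have hEM : E ≤ M := hE.1
  have hPM : P ≤ M := hPE.trans hEM
  have hPL : P ≤ L := hPE.trans h0.le_L
  have hpσM : p ∉ Cfsg.sigma M := hp.2.1
  have hPY : P ≤ Subgroup.centralizer (Y : Set G) :=
    hno P p hp hPE hPc Y s h.mem_tau3 h.le h.card
  set C : Subgroup G := Cfsg.sigmaCore M ⊓ Subgroup.centralizer (Y : Set G) with hC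
  apply le_antisymm
  · -- S1428 with `R := Y`
    haveI : Fact (Nat.card ↥Y).Prime := ⟨by rw [h.card]; exact hs⟩
    exact Cfsg.Agent.S1428.result hG M hM E hE p hp P hPE hPc Y
      (le_inf h.le (le_centralizer_symm hPY)) (by rw [h.card]; exact hs)
  · -- `C ≤ C(P)`
    refine le_inf inf_le_left ?_
    by_contra hCP
    have hcomm : ⁅C, P⁆ ≠ ⊥ := fun hb =>
      hCP (Subgroup.commutator_eq_bot_iff_le_centralizer.1 hb)
    have hCL : C = Cfsg.sigmaCore M ⊓ L := h0.inf_eq.symm
    have hCleL : C ≤ L := hCL ▸ inf_le_right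
    have hCleS : C ≤ Cfsg.sigmaCore M := inf_le_left
    have hCM : C ≤ M := hCleS.trans (sigmaCore_le M)
    have hPNC : P ≤ Subgroup.normalizer (C : Set G) := by
      rw [hCL]
      exact le_normalizer_inf (hPM.trans (le_normalizer_sigmaCore M))
        (hPL.trans Subgroup.le_normalizer)
    have hcopPC : (Nat.card ↥P).Coprime (Nat.card ↥C) := by
      rw [hPc]
      apply Nat.Coprime.symm
      apply Nat.Coprime.symm
      rw [Nat.Prime.coprime_iff_not_dvd hpp]
      intro hd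
      exact hpσM (primes_sigmaCore M p hpp (hd.trans (Subgroup.card_dvd_of_le hCleS)))
    haveI := hctx.solvable_M
    have hsolvC : Group.IsSolvable ↥C :=
      Group.isSolvable_of_isSolvable_injective (Subgroup.inclusion_injective hCM)
    obtain ⟨q, Q0, hq, hQ0C, hQ0p, hQ01, hPQ0, hQ0comm⟩ :=
      Cfsg.Agent.Helper64.BG13W.exists_invariant_pgroup_commutator P C hPNC hcopPC
        (Or.inr hsolvC) hcomm
    haveI : Fact q.Prime := ⟨hq⟩
    have hqQ0 : q ∣ Nat.card ↥Q0 :=
      Cfsg.Agent.Helper23.BG13.dvd_card_of_isPGroup_ne_bot hQ0p hQ01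
    have hqC : q ∣ Nat.card ↥C := hqQ0.trans (Subgroup.card_dvd_of_le hQ0C)
    have hqσM : q ∈ Cfsg.sigma M :=
      primes_sigmaCore M q hq (hqC.trans (Subgroup.card_dvd_of_le hCleS))
    have hqσL : q ∉ Cfsg.sigma L := hSP M L hM hL h0.not_conj q hqσM
    have hpq : p ≠ q := by
      rintro rfl
      exact hpσM hqσM
    have hQ0L : Q0 ≤ L := hQ0C.trans hCleL
    -- `p ∈ τ₁(L)`
    have hp1L : p ∈ Cfsg.tau1 L := by
      by_contra hcon
      have h1 := lemmaA hG hM hL h0.not_conj hpσM hPp hP1 hPM hPL hcon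
      rw [← hCL] at h1
      exact hcomm h1
    have hpσL : p ∉ Cfsg.sigma L := hp1L.2.1
    -- a complement of `L_σ` over `Q0 ⊔ P`
    have hAL : P ⊔ Q0 ≤ L := sup_le hPL hQ0L
    have hAσ : ∀ t : ℕ, t.Prime → t ∣ Nat.card ↥(P ⊔ Q0) → t ∉ Cfsg.sigma L := by
      intro t ht htd
      have h4 := htd.trans (Cfsg.Agent.Helper22.card_sup_dvd_of_le_normalizer P Q0 hPQ0)
      rcases (Nat.Prime.dvd_mul ht).1 h4 with h5 | h5
      · rw [Cfsg.Agent.Helper23.BG13.eq_of_prime_dvd_card_pgroup hPp ht h5]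
        exact hpσL
      · rw [Cfsg.Agent.Helper23.BG13.eq_of_prime_dvd_card_pgroup hQ0p ht h5]
        exact hqσL
    obtain ⟨E', hE', hAE'⟩ :=
      Cfsg.Agent.Helper71.BGHall.exists_isComplIn_sigmaCore_ge hG hU hL hAL hAσ
    have hPE' : P ≤ E' := le_sup_left.trans hAE'
    have hQ0E' : Q0 ≤ E' := le_sup_right.trans hAE'
    -- `q ∈ τ₃(L)`
    have hq3L : q ∈ Cfsg.tau3 L := by
      rcases mem_tau_of_dvd_card_compl hG hL hE' hq
        (hqQ0.trans (Subgroup.card_dvd_of_le hQ0E')) with h1 | h2 | h3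
      · exfalso
        apply h1.2.2.2.1
        have hle : Q0 ≤ ⁅L, L⁆ := by
          rw [← hQ0comm]
          exact Subgroup.commutator_mono hQ0L hPL
        exact hqQ0.trans (Subgroup.card_dvd_of_le hle)
      · exact absurd h2 (not_tau2_L hG hSP h0 hsL hq hqC)
      · exact h3
    have hQ0c : IsCyclic ↥Q0 :=
      Cfsg.Agent.Helper23.BG13.isCyclic_of_isPGroup_of_pRankLE_one hG.1 hQ0p
        (Cfsg.Agent.Helper23.BG13.pRankLE_mono hQ0L hq3L.2.2.2)
    -- a subgroup `X` of order `q` of `Q0`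
    obtain ⟨X, hXQ0, hXc⟩ := Cfsg.Agent.Helper54.BG14K1.exists_card_prime_le hQ01
    have hXq : Nat.card ↥X = q :=
      Cfsg.Agent.Helper23.BG13.eq_of_prime_dvd_card_pgroup hQ0p hXc
        (Subgroup.card_dvd_of_le hXQ0)
    have hPX : ¬ P ≤ Subgroup.centralizer (X : Set G) := by
      intro hcon
      have hcop : (Nat.card ↥P).Coprime q := by
        rw [hPc]
        exact (Nat.coprime_primes hpp hq).2 hpq
      have h1 : P ≤ Subgroup.centralizer (Q0 : Set G) :=
        le_centralizer_of_cyclic_of_le_centralizer_omega hq hQ0p hQ0c hPQ0 hcop hXQ0 hXq hcon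
      have h2 : ⁅Q0, P⁆ = ⊥ :=
        Subgroup.commutator_eq_bot_iff_le_centralizer.2 (le_centralizer_symm h1)
      rw [hQ0comm] at h2
      exact hQ01 h2
    -- `Y ≤ L_σ ⊓ C(X)`
    have hYL : Y ≤ L := (h.le.trans h0.le_L)
    have hYσ : Y ≤ Cfsg.sigmaCore L := le_sigmaCore_of_isPGroup hG hU hL hsL hYp hYL
    have hXY : X ≤ Subgroup.centralizer (Y : Set G) :=
      (hXQ0.trans hQ0C).trans inf_le_right
    have hne : Cfsg.sigmaCore L ⊓ Subgroup.centralizer (X : Set G) ≠ ⊥ := by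
      intro hb
      apply hY1
      rw [eq_bot_iff, ← hb]
      exact le_inf hYσ (le_centralizer_symm hXY)
    exact alpha_false hG hSP hT6 (M := L) (E := E') (Y := X) (P := P) (s := q) (p := p)
      ⟨⟨hL, hE', hq3L, hXQ0.trans hQ0E', hXq, hne⟩, hp1L, hPE', hPc, hPX⟩

end Cfsg.Agent.Helper70.BG14.S6

namespace Cfsg.Agent.Helper70.BG14

alias dEq := S6.dEq

end Cfsg.Agent.Helper70.BG14
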