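import Mathlib
import Cfsg.Agent.Helper70.BG14S6

/-!
# B-G §13/§14, THEOREM N3: chunk [Z], part 1 (helper70, board #3585 / #3892)

`exists_tau1`: a complement `E` in the situation of THEOREM N3 has a subgroup of prime order in
`τ₁(M)`; `le_centralizer_of_tau1`: without case (α) such subgroups are central in `E`.
-/

set_option autoImplicit false
set_option linter.unusedVariables false
set_option linter.unusedSectionVars false
set_option linter.style.haveILetI false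

namespace Cfsg.Agent.Helper70.BG14

open Cfsg Cfsg.Agent.Helper29 Cfsg.Agent.Helper29.BG10 Cfsg.Agent.Helper29.BG11
open scoped commutatorElement

variable {G : Type*} [Group G] [Finite G]

/-- `E` has a subgroup of prime order in `τ₁(M)` -/
theorem exists_tau1 (hG : Cfsg.IsMinSimpleOddOrder G) {M E Y : Subgroup G} {s : ℕ}
    (h : N3Hyp M E Y s) :
    ∃ (P : Subgroup G) (p : ℕ), p ∈ Cfsg.tau1 M ∧ P ≤ E ∧ Nat.card ↥P = p := by
  by_contra hcon
  have hM := h.coatom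
  obtain ⟨L, h0⟩ := exists_step0 hG h
  have hc := ectx hG hM h.compl
  have hprimes : ∀ r : ℕ, r.Prime → r ∣ Nat.card ↥E → r ∈ Cfsg.tau3 M := by
    intro r hr hrE
    rcases mem_tau_of_dvd_card_compl hG hM h.compl hr hrE with h1 | h2 | h3
    · exfalso
      obtain ⟨P, hPE, hP⟩ := exists_le_card_eq_of_dvd hr hrE
      exact hcon ⟨P, r, h1, hPE, hP⟩
    · rw [h0.tau2_empty] at h2; exact absurd h2 (Set.notMem_empty _)
    · exact h3
  have hHall : Cfsg.IsPiHallOf (Cfsg.tau3 M) E E := by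
    refine ⟨le_rfl, hprimes, ?_⟩
    intro r hr _ hd
    rw [Subgroup.relIndex_self] at hd
    exact hr.one_lt.ne' (Nat.dvd_one.1 hd)
  obtain ⟨hEc, hEle, -⟩ := hc.tau3 hHall
  have hcomm : (⁅E, E⁆ : Subgroup G) = ⊥ := by
    rw [Subgroup.commutator_eq_bot_iff_le_centralizer]
    intro x hx
    rw [Subgroup.mem_centralizer_iff]
    intro y hy
    haveI := hEc
    have := (IsCyclic.isMulCommutative (α := ↥E)).is_comm.comm ⟨y, hy⟩ ⟨x, hx⟩
    exact congrArg Subtype.val this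
  have hY1 : Y ≠ ⊥ := ne_bot_of_card_eq h.mem_tau3.1 h.card
  apply hY1
  rw [eq_bot_iff, ← hcomm]
  exact h0.le_comm

/-- (Z3) for `τ₁`: the subgroups of order `p ∈ τ₁(M)` of `E` are central in `E` -/
theorem le_centralizer_of_tau1 (hG : Cfsg.IsMinSimpleOddOrder G) {M E Y : Subgroup G} {s : ℕ}
    (h : N3Hyp M E Y s) (hno : NoAlpha M E) {P : Subgroup G} {p : ℕ} (hp : p ∈ Cfsg.tau1 M)
    (hPE : P ≤ E) (hP : Nat.card ↥P = p) : E ≤ Subgroup.centralizer (P : Set G) := by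
  have hM := h.coatom
  obtain ⟨L, h0⟩ := exists_step0 hG h
  have hpp : p.Prime := hp.1
  have hEM : E ≤ M := h.compl.1
  have hE'E : (⁅E, E⁆ : Subgroup G) ≤ E := Subgroup.commutator_le_self E
  have hE'M' : (⁅E, E⁆ : Subgroup G) ≤ ⁅M, M⁆ := Subgroup.commutator_mono hEM hEM
  -- the primes of `E'` are in `τ₃(M)`
  have hprimes : ∀ r : ℕ, r.Prime → r ∣ Nat.card ↥(⁅E, E⁆ : Subgroup G) → r ∈ Cfsg.tau3 M := by
    intro r hr hrd
    have hrE : r ∣ Nat.card ↥E := hrd.trans (Subgroup.card_dvd_of_le hE'E)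
    rcases mem_tau_of_dvd_card_compl hG hM h.compl hr hrE with h1 | h2 | h3
    · exact absurd (hrd.trans (Subgroup.card_dvd_of_le hE'M')) h1.2.2.2.1
    · rw [h0.tau2_empty] at h2; exact absurd h2 (Set.notMem_empty _)
    · exact h3
  have hpE' : ¬ p ∣ Nat.card ↥(⁅E, E⁆ : Subgroup G) := fun hd =>
    hp.2.2.2.1 (hd.trans (Subgroup.card_dvd_of_le hE'M'))
  have hcop : (Nat.card ↥P).Coprime (Nat.card ↥(⁅E, E⁆ : Subgroup G)) := by
    rw [hP]; exact (Nat.Prime.coprime_iff_not_dvd hpp).2 hpE'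
  have hPN : P ≤ Subgroup.normalizer (((⁅E, E⁆ : Subgroup G)) : Set G) :=
    hPE.trans (Cfsg.Agent.Helper23.BG13.le_normalizer_commutator_self E)
  have hPsolv : Group.IsSolvable ↥P := by
    haveI : Group.IsSolvable ↥M := hG.2.2.2 M hM.1
    exact Group.isSolvable_of_isSolvable_injective (Subgroup.inclusion_injective (hPE.trans hEM))
  -- `P` centralizes `E'`
  have hE'P : (⁅E, E⁆ : Subgroup G) ≤ Subgroup.centralizer (P : Set G) := by
    rw [← Subgroup.commutator_eq_bot_iff_le_centralizer]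
    by_contra hne
    obtain ⟨q, Q0, hq, hQ0le, hQ0p, hQ01, hPQ0, hQ0P⟩ :=
      Cfsg.Agent.Helper64.BG13W.exists_invariant_pgroup_commutator P ⁅E, E⁆ hPN hcop
        (Or.inl hPsolv) hne
    haveI : Fact q.Prime := ⟨hq⟩
    have hqd : q ∣ Nat.card ↥Q0 := Cfsg.Agent.Helper23.BG13.dvd_card_of_isPGroup_ne_bot hQ0p hQ01
    have hq3 : q ∈ Cfsg.tau3 M := hprimes q hq (hqd.trans (Subgroup.card_dvd_of_le hQ0le))
    have hQ0c : IsCyclic ↥Q0 :=
      Cfsg.Agent.Helper23.BG13.isCyclic_of_isPGroup_of_pRankLE_one hG.1 hQ0p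
        (Cfsg.Agent.Helper23.BG13.pRankLE_mono ((hQ0le.trans hE'E).trans hEM) hq3.2.2.2)
    obtain ⟨X, hXQ0, hX⟩ := exists_le_card_eq_of_dvd hq hqd
    have hPX : P ≤ Subgroup.centralizer (X : Set G) :=
      hno P p hp hPE hP X q hq3 ((hXQ0.trans hQ0le).trans hE'E) hX
    have hpq : p ≠ q := fun e => (ne_of_tau3_of_tau1 hq3 hp) e.symm
    have hcop' : (Nat.card ↥P).Coprime q := by
      rw [hP]; exact (Nat.coprime_primes hpp hq).2 hpq
    have hPQ0c : P ≤ Subgroup.centralizer (Q0 : Set G) :=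
      le_centralizer_of_cyclic_of_le_centralizer_omega hq hQ0p hQ0c hPQ0 hcop' hXQ0 hX hPX
    have hbot : ⁅Q0, P⁆ = ⊥ := by
      rw [Subgroup.commutator_eq_bot_iff_le_centralizer]
      exact Subgroup.le_centralizer_iff.1 hPQ0c
    rw [hQ0P] at hbot
    exact hQ01 hbot
  -- the commutator computation
  intro e he
  rw [Subgroup.mem_centralizer_iff]
  intro x hx
  have hc : ⁅e, x⁆ ∈ (⁅E, E⁆ : Subgroup G) := Subgroup.commutator_mem_commutator he (hPE hx)
  have hcx : x * ⁅e, x⁆ = ⁅e, x⁆ * x := (Subgroup.mem_centralizer_iff.1 (hE'P hc)) x hx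
  have hxp : x ^ p = 1 := by
    have := pow_card_eq_one' (G := ↥P) (x := ⟨x, hx⟩)
    rw [hP] at this
    exact congrArg Subtype.val this
  have hconj : e * x * e⁻¹ = ⁅e, x⁆ * x := by
    rw [commutatorElement_def]; group
  have hpow : (⁅e, x⁆ * x) ^ p = 1 := by
    rw [← hconj, conj_pow, hxp, mul_one, mul_inv_cancel]
  have hcp : ⁅e, x⁆ ^ p = 1 := by
    have hcomm : Commute ⁅e, x⁆ x := hcx.symm
    rw [hcomm.mul_pow, hxp, mul_one] at hpow
    exact hpow
  have ho1 : orderOf ⁅e, x⁆ ∣ p := orderOf_dvd_of_pow_eq_one hcp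
  have ho2 : orderOf ⁅e, x⁆ ∣ Nat.card ↥(⁅E, E⁆ : Subgroup G) :=
    Subgroup.orderOf_dvd_natCard _ hc
  have ho : orderOf ⁅e, x⁆ = 1 := by
    rcases (Nat.dvd_prime hpp).1 ho1 with h1 | h1
    · exact h1
    · exact absurd (h1 ▸ ho2) hpE'
  have hc1 : ⁅e, x⁆ = 1 := orderOf_eq_one_iff.1 ho
  rw [commutatorElement_eq_one_iff_mul_comm] at hc1
  exact hc1.symm

end Cfsg.Agent.Helper70.BG14
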