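import Mathlib
import Cfsg.Agent.Helper70.BG14Z1

/-!
# B-G §13/§14, THEOREM N3: chunk [Z], part 2 (helper70, board #3585 / #3892)

`le_centralizer_C`: `E` centralizes `C = C_{M_σ}(Y)`; `cent_singleton_eq`: `C_{M_σ}(x) = C` for
every `x ∈ E#`.
-/

set_option autoImplicit false
set_option linter.unusedVariables false
set_option linter.unusedSectionVars false
set_option linter.style.haveILetI false

namespace Cfsg.Agent.Helper70.BG14

open Cfsg Cfsg.Agent.Helper29 Cfsg.Agent.Helper29.BG10 Cfsg.Agent.Helper29.BG11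
open scoped commutatorElement

variable {G : Type*} [Group G] [Finite G]

/-- a Sylow `q`-subgroup of a complement `E` of `K` in `M` is a Sylow `q`-subgroup of `M` if
`q ∤ |K|` -/
theorem isSylowIn_of_isComplIn {M E K S : Subgroup G} {q : ℕ} (hq : q.Prime)
    (hE : Cfsg.IsComplIn E K M) (hqK : ¬ q ∣ Nat.card ↥K) (hS : IsSylowIn q S E) :
    IsSylowIn q S M := by
  refine ⟨hS.1.trans hE.1, hS.2.1, ?_⟩
  have hcard := Cfsg.Agent.Helper68.BG12.card_mul_card_of_isComplIn hE
  have hrel : E.relIndex M = Nat.card ↥K := by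
    have h1 := Cfsg.Agent.Helper31.relIndex_mul_card' hE.1
    rw [← hcard, mul_comm] at h1
    exact Nat.eq_of_mul_eq_mul_left Nat.card_pos h1
  rw [← Subgroup.relIndex_mul_relIndex S E M hS.1 hE.1, hrel]
  intro hd
  rcases (Nat.Prime.dvd_mul hq).1 hd with h | h
  · exact hS.2.2 h
  · exact hqK h

/-- `E` centralizes `C` -/
theorem le_centralizer_C (hG : Cfsg.IsMinSimpleOddOrder G) {M E Y L : Subgroup G} {s : ℕ}
    (h0 : Step0 M E Y s L) (hD : DEq M E Y) :
    E ≤ Subgroup.centralizer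
      ((Cfsg.sigmaCore M ⊓ Subgroup.centralizer (Y : Set G) : Subgroup G) : Set G) := by
  have hU := bbU hG
  have h := h0.hyp
  have hM := h.coatom
  have hc := ectx hG hM h.compl
  haveI := hc.solvable
  have hEM : E ≤ M := h.compl.1
  apply le_of_forall_sylow_le
  intro q hq
  haveI : Fact q.Prime := ⟨hq⟩
  obtain ⟨S, -, hS⟩ := exists_isSylowIn_ge (p := q) (N := E) (Y := ⊥) bot_le IsPGroup.of_bot
  refine ⟨S, hS, ?_⟩
  by_cases hS1 : S = ⊥
  · rw [hS1]; exact bot_le
  have hqS : q ∣ Nat.card ↥S := Cfsg.Agent.Helper23.BG13.dvd_card_of_isPGroup_ne_bot hS.2.1 hS1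
  have hqE : q ∣ Nat.card ↥E := hqS.trans (Subgroup.card_dvd_of_le hS.1)
  rcases mem_tau_of_dvd_card_compl hG hM h.compl hq hqE with h1 | h2 | h3
  · -- `q ∈ τ₁(M)`: Corollary 13.3(a)
    obtain ⟨Pq, hPqS, hPq⟩ := exists_le_card_eq_of_dvd hq hqS
    have hqσ : ¬ q ∣ Nat.card ↥(Cfsg.sigmaCore M) := fun hd =>
      h1.2.1 (primes_sigmaCore M q hq hd)
    have hSM : IsSylowIn q S M := isSylowIn_of_isComplIn hq h.compl hqσ hS
    have hSc : IsCyclic ↥S :=
      Cfsg.Agent.Helper23.BG13.isCyclic_of_isPGroup_of_pRankLE_one hG.1 hS.2.1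
        (Cfsg.Agent.Helper23.BG13.pRankLE_mono hSM.1 h1.2.2.2.2)
    have h13 := Cfsg.Agent.Helper23.BG13.cor_13_3a_core hG hU (bb1414 hG) (bb1416 hG) (bb1417 hG)
      (bbW hG) hM h1.2.1 hSM hS1 hSc hPqS (ne_bot_of_card_eq hq hPq)
    rw [hD Pq q h1 (hPqS.trans hS.1) hPq] at h13
    exact Subgroup.le_centralizer_iff.1 (Subgroup.commutator_eq_bot_iff_le_centralizer.1 h13)
  · rw [h0.tau2_empty] at h2; exact absurd h2 (Set.notMem_empty _)
  · -- `q ∈ τ₃(M)`: Lemma A
    obtain ⟨E₃, hE₃, hSE₃⟩ := Cfsg.Agent.Helper71.BGHall.exists_isPiHallOf_ge (Cfsg.tau3 M) E hS.1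
      (by
        intro r hr hrd
        rw [Cfsg.Agent.Helper23.BG13.eq_of_prime_dvd_card_pgroup hS.2.1 hr hrd]; exact h3)
    have hScomm : S ≤ ⁅E, E⁆ := hSE₃.trans (hc.tau3 hE₃).2.1
    have hq1 : q ∉ Cfsg.tau1 L := by
      intro h1
      apply h1.2.2.2.1
      have hle : S ≤ ⁅L, L⁆ := hScomm.trans (Subgroup.commutator_mono h0.le_L h0.le_L)
      exact hqS.trans (Subgroup.card_dvd_of_le hle)
    have hA := lemmaA hG hM h0.coatomL h0.not_conj h3.2.1 hS.2.1 hS1 (hS.1.trans hEM)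
      (hS.1.trans h0.le_L) hq1
    rw [h0.inf_eq] at hA
    exact Subgroup.le_centralizer_iff.1 (Subgroup.commutator_eq_bot_iff_le_centralizer.1 hA)

/-- (Z2) -/
theorem cent_singleton_eq (hG : Cfsg.IsMinSimpleOddOrder G) {M E Y L : Subgroup G} {s : ℕ}
    (h0 : Step0 M E Y s L) (hD : DEq M E Y)
    (hEC : E ≤ Subgroup.centralizer
      ((Cfsg.sigmaCore M ⊓ Subgroup.centralizer (Y : Set G) : Subgroup G) : Set G))
    {x : G} (hx : x ∈ E) (hx1 : x ≠ 1) :
    Cfsg.sigmaCore M ⊓ Subgroup.centralizer ({x} : Set G) =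
      Cfsg.sigmaCore M ⊓ Subgroup.centralizer (Y : Set G) := by
  have h := h0.hyp
  have hM := h.coatom
  apply le_antisymm
  · -- a power of `x` of prime order
    have hn1 : orderOf x ≠ 1 := fun e => hx1 (orderOf_eq_one_iff.1 e)
    have hn0 : orderOf x ≠ 0 := (orderOf_pos x).ne'
    obtain ⟨r, hr, hrd⟩ := Nat.exists_prime_and_dvd hn1
    set z : G := x ^ (orderOf x / r) with hz
    have hzo : orderOf z = r := orderOf_pow_orderOf_div hn0 hrd
    have hzE : z ∈ E := E.pow_mem hx _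
    have hRE : Subgroup.zpowers z ≤ E := (Subgroup.zpowers_le).2 hzE
    have hRc : Nat.card ↥(Subgroup.zpowers z) = r := by rw [Nat.card_zpowers, hzo]
    have hle : Subgroup.centralizer ({x} : Set G) ≤
        Subgroup.centralizer ((Subgroup.zpowers z : Subgroup G) : Set G) := by
      rw [← centralizer_zpowers x]
      apply Subgroup.centralizer_le
      intro w hw
      exact (Subgroup.zpowers_le (H := Subgroup.zpowers x)).2
        (Subgroup.pow_mem _ (Subgroup.mem_zpowers x) _) hw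
    have hrE : r ∣ Nat.card ↥E := by
      rw [← hRc]; exact Subgroup.card_dvd_of_le hRE
    have heq : Cfsg.sigmaCore M ⊓ Subgroup.centralizer ((Subgroup.zpowers z : Subgroup G) : Set G) =
        Cfsg.sigmaCore M ⊓ Subgroup.centralizer (Y : Set G) := by
      rcases mem_tau_of_dvd_card_compl hG hM h.compl hr hrE with h1 | h2 | h3
      · exact hD _ r h1 hRE hRc
      · rw [h0.tau2_empty] at h2; exact absurd h2 (Set.notMem_empty _)
      · exact step0_same hG h h3 hRE hRc
    rw [← heq]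
    exact inf_le_inf_left _ hle
  · refine le_inf inf_le_left ?_
    intro c hc
    rw [Subgroup.mem_centralizer_iff]
    intro y hy
    rw [Set.mem_singleton_iff] at hy
    subst hy
    exact ((Subgroup.mem_centralizer_iff.1 (hEC hx)) c hc).symm

end Cfsg.Agent.Helper70.BG14
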