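import Mathlib
import Cfsg.Agent.Helper70.BG14Z1
import Cfsg.Agent.Helper70.BG14Z2

/-!
# B-G §13/§14, THEOREM N3: chunk [Z] (helper70): see `BG14Z1.lean` (`exists_tau1`,
`le_centralizer_of_tau1`) and `BG14Z2.lean` (`le_centralizer_C`, `cent_singleton_eq`).
-/
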