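import Mathlib
import Cfsg.Agent.Helper70.BG14Z
import Cfsg.Agent.Helper32.BGSigmaR2
import Cfsg.Agent.Helper23.BG14G
import Cfsg.Agent.Helper54.BG14K1

/-!
# B-G §13/§14: THEOREM N3 (helper70, board #3585 / #3892)

`n3_main hG : N3 G`: let `M` be a maximal subgroup, `E` a complement of `M_σ` and `Y ≤ E` of prime
order `s ∈ τ₃(M)` with `C_{M_σ}(Y) ≠ 1`. Then `τ₂(M) = ∅`, `C := C_{M_σ}(E) ≠ 1` equals
`C_{M_σ}(x)` for every `x ∈ E#`, every subgroup `X` of prime order of `E` is normal in `E` with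
`N_M(X) = E C` and `X ≤ M*_σ` for every maximal `M* ⊇ N_G(X)`, and `M` is the only maximal subgroup
containing `N_G(X)` for `X ≤ C` of prime order.

Chunks written by helper55 ([S57], [S6]), helper23 ([AL]), helper73 ([PU]), helper10 ([T3]),
helper49 ([FC]), helper80 ([Z]); inputs: sigma-partition (helper32), STEP I / (T6) (helper23),
(K1) (helper54), Lemma J (helper60).
-/

set_option autoImplicit false
set_option linter.unusedVariables false
set_option linter.style.haveILetI false

namespace Cfsg.Agent.Helper70.BG14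

open Cfsg Cfsg.Agent.Helper29 Cfsg.Agent.Helper29.BG10 Cfsg.Agent.Helper29.BG11
open scoped commutatorElement

variable {G : Type*} [Group G] [Finite G]

/-- **THEOREM N3** -/
theorem n3 (hG : Cfsg.IsMinSimpleOddOrder G) (hSP : SP G) (hI : StepI G) (hT6 : T6 G)
    (hK1 : K1 G) : N3 G := by
  intro M E Y s h
  have hU := bbU hG
  obtain ⟨L, h0⟩ := exists_step0 hG h
  have hno := no_alpha hG hSP hT6 h
  have hsL := step7 hG hK1 h0 hno
  have hD := dEq hG hSP hT6 h0 hsL hno
  have hEC := le_centralizer_C hG h0 hD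
  -- `C = C_{M_σ}(E)`
  have hCE : Cfsg.sigmaCore M ⊓ Subgroup.centralizer (E : Set G) =
      Cfsg.sigmaCore M ⊓ Subgroup.centralizer (Y : Set G) := by
    apply le_antisymm
    · exact inf_le_inf_left _ (Subgroup.centralizer_le h.le)
    · refine le_inf inf_le_left ?_
      intro c hc
      rw [Subgroup.mem_centralizer_iff]
      intro e he
      have := Subgroup.mem_centralizer_iff.1 (hEC he) c hc
      exact this.symm
  have hnormal : ∀ X : Subgroup G, X ≤ E → (Nat.card X).Prime →
      E ≤ Subgroup.normalizer (X : Set G) := by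
    intro X hXE hX
    have hr : (Nat.card X) ∣ Nat.card E := Subgroup.card_dvd_of_le hXE
    rcases mem_tau_of_dvd_card_compl hG h.coatom h.compl hX hr with h1 | h2 | h3
    · exact (le_centralizer_of_tau1 hG h hno h1 hXE rfl).trans
        (Subgroup.centralizer_le_normalizer _)
    · rw [h0.tau2_empty] at h2; exact absurd h2 (Set.notMem_empty _)
    · have hX' : N3Hyp M E X (Nat.card X) :=
        ⟨h.coatom, h.compl, h3, hXE, rfl, by
          rw [step0_same hG h h3 hXE rfl]; exact h.cent_ne_bot⟩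
      obtain ⟨L', h0'⟩ := exists_step0 hG hX'
      exact h0'.normal
  have hcentX : ∀ X : Subgroup G, X ≤ E → (Nat.card X).Prime →
      Cfsg.sigmaCore M ⊓ Subgroup.centralizer (X : Set G) =
        Cfsg.sigmaCore M ⊓ Subgroup.centralizer (Y : Set G) := by
    intro X hXE hX
    have hr : (Nat.card X) ∣ Nat.card E := Subgroup.card_dvd_of_le hXE
    rcases mem_tau_of_dvd_card_compl hG h.coatom h.compl hX hr with h1 | h2 | h3
    · exact hD X _ h1 hXE rfl
    · rw [h0.tau2_empty] at h2; exact absurd h2 (Set.notMem_empty _)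
    · exact step0_same hG h h3 hXE rfl
  refine ⟨h0.tau2_empty, ?_, ?_, hnormal, ?_, ?_, ?_⟩
  · rw [hCE]; exact h.cent_ne_bot
  · intro x hx hx1
    rw [hCE]
    exact cent_singleton_eq hG h0 hD hEC hx hx1
  · intro X hXE hX
    rw [hCE, ← hcentX X hXE hX]
    exact inf_normalizer_eq_of_isComplIn h.compl (le_normalizer_sigmaCore M) hXE
      (hnormal X hXE hX)
  · intro X hXE hX Ms hMs hNMs
    have hr : (Nat.card X) ∣ Nat.card E := Subgroup.card_dvd_of_le hXE
    haveI : Fact (Nat.card X).Prime := ⟨hX⟩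
    have hXp : IsPGroup (Nat.card X) X := IsPGroup.of_card (n := 1) (by rw [pow_one])
    have hXMs : X ≤ Ms := (Subgroup.le_normalizer).trans hNMs
    rcases mem_tau_of_dvd_card_compl hG h.coatom h.compl hX hr with h1 | h2 | h3
    · have hne : Cfsg.sigmaCore M ⊓ Subgroup.centralizer (X : Set G) ≠ ⊥ := by
        rw [hcentX X hXE hX]; exact h.cent_ne_bot
      exact le_sigmaCore_of_isPGroup hG hU hMs
        (hK1 M E h.coatom h.compl _ h1 X hXE rfl hne Ms hMs hNMs) hXp hXMs
    · rw [h0.tau2_empty] at h2; exact absurd h2 (Set.notMem_empty _)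
    · have hX' : N3Hyp M E X (Nat.card X) :=
        ⟨h.coatom, h.compl, h3, hXE, rfl, by
          rw [step0_same hG h h3 hXE rfl]; exact h.cent_ne_bot⟩
      have h0' := step0_of hG hX' hMs hNMs
      exact le_sigmaCore_of_isPGroup hG hU hMs (step7 hG hK1 h0' hno) hXp hXMs
  · intro X hXC hX L' hL' hNL'
    obtain ⟨P, p, hp, hPE, hP⟩ := exists_tau1 hG h
    refine hI M E h.coatom h.compl p hp P hPE hP X ?_ hX L' hL' hNL'
    rw [hD P p hp hPE hP, ← hCE]
    exact hXC

/-- **THEOREM N3**, unconditional -/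
theorem n3_main (hG : Cfsg.IsMinSimpleOddOrder G) : N3 G :=
  n3 hG (Cfsg.Agent.Helper32.BGSigma.sigma_partition hG) (Cfsg.Agent.Helper23.BG14.stepI_prop hG)
    (Cfsg.Agent.Helper23.BG14.t6_prop hG)
    (Cfsg.Agent.Helper54.BG14K1.k1 hG (Cfsg.Agent.Helper23.BG14.stepI_prop hG))

end Cfsg.Agent.Helper70.BG14
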