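import Cfsg.Agent.Helper6.SPweil1
import Cfsg.Agent.Helper65.SPWW1
import Cfsg.Agent.Helper66.SPWW2

/-!
# (W3) of helper6's S2347 Weil engine (#8107): the Heisenberg operators are a basis of `End`
-/

set_option autoImplicit false

namespace Cfsg.Agent.Helper70.SPweil

open Matrix Module
open Cfsg.Agent.Helper6.SPweil
open Cfsg.Agent.Helper65.SPweil (heis_mul heis_zero)
open Cfsg.Agent.Helper66.SPweil (trace_heis)

variable {F : Type*} [Field F] [Fintype F] {n : ℕ}

omit [Fintype F] in
theorem W3_sympForm_self (v : Fin n ⊕ Fin n → F) : Cfsg.sympForm n F v v = 0 := by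
  rw [Cfsg.Agent.Helper13.sympForm_eq_sum]
  apply Finset.sum_eq_zero
  intro i _
  ring

/-- (W3a) -/
theorem linearIndependent_heis (h2 : (2 : F) ≠ 0) (ψ : AddChar F ℂ) (hψ : ψ ≠ 0) :
    LinearIndependent ℂ (fun v : Fin n ⊕ Fin n → F => heis ψ v) := by
  classical
  rw [Fintype.linearIndependent_iff]
  intro a ha w
  -- multiply by `heis (-w)` and take traces
  have h1 : (∑ v, a v • heis ψ v) * heis ψ (-w) = 0 := by
    rw [ha, zero_mul]
  rw [Finset.sum_mul] at h1
  have h3 := congrArg (LinearMap.trace ℂ ((Fin n → F) → ℂ)) h1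
  rw [map_sum, map_zero] at h3
  rw [Finset.sum_eq_single w] at h3
  · rw [smul_mul_assoc, heis_mul h2, add_neg_cancel, heis_zero, map_smul, map_smul,
      Cfsg.Agent.Helper13.sympForm_neg_right, W3_sympForm_self, neg_zero, mul_zero,
      AddChar.map_zero_eq_one, LinearMap.trace_one, smul_eq_mul, smul_eq_mul, one_mul] at h3
    have hne : ((finrank ℂ ((Fin n → F) → ℂ) : ℕ) : ℂ) ≠ 0 := by
      rw [Module.finrank_fintype_fun_eq_card]
      exact_mod_cast Fintype.card_ne_zero
    rcases mul_eq_zero.mp h3 with h | h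
    · exact h
    · exact absurd h hne
  · intro v _ hvw
    rw [smul_mul_assoc, heis_mul h2, map_smul, map_smul, trace_heis ψ hψ, smul_zero, smul_zero]
    intro h
    apply hvw
    rw [← sub_eq_add_neg, sub_eq_zero] at h
    exact h
  · intro h
    exact absurd (Finset.mem_univ w) h

/-- (W3b) -/
theorem span_heis (h2 : (2 : F) ≠ 0) (ψ : AddChar F ℂ) (hψ : ψ ≠ 0) :
    Submodule.span ℂ (Set.range (fun v : Fin n ⊕ Fin n → F => heis ψ v)) = ⊤ := by
  classical
  apply LinearIndependent.span_eq_top_of_card_eq_finrank' (linearIndependent_heis h2 ψ hψ)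
  rw [Module.finrank_linearMap, Module.finrank_fintype_fun_eq_card, Fintype.card_fun,
    Fintype.card_fun, Fintype.card_sum, Fintype.card_fin, pow_add]

end Cfsg.Agent.Helper70.SPweil
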