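import Mathlib
import Cfsg.Agent.Helper3.Cov2P4Defs
import Cfsg.Agent.Helper5.UnitaryCenter

/-!
# S2500 part (4), piece (K2) of helper3's market #12132

The stabiliser in `SU_4(q)` of the line `⟨e₀⟩` is a proper subgroup: the permutation matrix of
`(0 1)(2 3)` lies in `SU_4(q)` and sends `e₀` to `e₁`.
-/

set_option autoImplicit false
set_option linter.unusedVariables false

namespace Cfsg.Agent.Helper70.Cov2P4

open Matrix Cfsg.Agent.Helper3.Cov2

variable {F : Type*} [Field F] [Fintype F] {q : ℕ}

/-- the permutation `(0 1)(2 3)` -/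
def k2perm : Equiv.Perm (Fin 4) := Equiv.swap 0 1 * Equiv.swap 2 3

theorem k2perm_sign : Equiv.Perm.sign k2perm = 1 := by decide

/-- the permutation matrix of `(0 1)(2 3)` as an element of `SU_4(q)` -/
noncomputable def k2elt : Cfsg.SU 4 F q :=
  Cfsg.Agent.Helper5.mkSU (k2perm.permMatrix F)
    (by rw [Matrix.det_permutation, k2perm_sign]; simp)
    (by
      intro u v
      rw [Matrix.permMatrix_mulVec, Matrix.permMatrix_mulVec]
      unfold Cfsg.Agent.Helper5.herm
      exact Equiv.sum_comp k2perm (fun i => u i * v i ^ q))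

/-- (K2) -/
theorem stabH_ne_top (hF : Fintype.card F = q ^ 2) :
    stabSU (q := q) (Submodule.span F {(Pi.single 0 1 : Fin 4 → F)}) ≠ ⊤ := by
  intro htop
  have hmem : (k2elt : Cfsg.SU 4 F q) ∈
      stabSU (q := q) (Submodule.span F {(Pi.single 0 1 : Fin 4 → F)}) := by
    rw [htop]
    exact Subgroup.mem_top _
  have h := ((mem_stabSU _ _).mp hmem (Pi.single 0 1)).mpr
    (Submodule.subset_span (Set.mem_singleton _))
  have hcoe : ((k2elt : Cfsg.SU 4 F q).1.1 : Matrix (Fin 4) (Fin 4) F) = k2perm.permMatrix F := rfl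
  rw [hcoe, Matrix.permMatrix_mulVec, Submodule.mem_span_singleton] at h
  obtain ⟨a, ha⟩ := h
  have h1 := congrFun ha 1
  have hk : k2perm 1 = 0 := by decide
  simp only [Pi.smul_apply, Function.comp_apply, hk, Pi.single_eq_same, smul_eq_mul] at h1
  rw [Pi.single_eq_of_ne (by decide), mul_zero] at h1
  exact zero_ne_one h1

end Cfsg.Agent.Helper70.Cov2P4
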