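-- helper70: piece (P4) `lam_lower` of helper8's farm #12989 (S3385 + S3685).
import Mathlib
import Cfsg.Agent.Helper8.Sims3Defs
import Cfsg.Agent.Helper8.Sims3Basic

set_option autoImplicit false

namespace Cfsg.Agent.Helper70.Sims3

open Cfsg.Agent.Helper8.Sims3 Pointwise

variable {G : Type*} [Group G]

/-! ### basic facts on `U` -/

theorem P4_mem_U (y : ℤ → G) {a k : ℤ} {m : ℕ} (h1 : a ≤ k) (h2 : k < a + m) : y k ∈ U y a m :=
  Subgroup.subset_closure ⟨k, ⟨h1, h2⟩, rfl⟩

theorem P4_U_zero (y : ℤ → G) (a : ℤ) : U y a 0 = ⊥ := by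
  unfold U
  simp

theorem P4_U_le (y : ℤ → G) {a b : ℤ} {m n : ℕ} (h1 : b ≤ a) (h2 : a + m ≤ b + n) :
    U y a m ≤ U y b n :=
  Subgroup.closure_mono (Set.image_mono (Set.Ico_subset_Ico h1 h2))

theorem P4_commute_of_mem_U {y : ℤ → G} {a : ℤ} {m : ℕ} {t : G}
    (hgen : ∀ k, a ≤ k → k < a + m → Commute t (y k)) {z : G} (hz : z ∈ U y a m) :
    Commute t z := by
  unfold U at hz
  induction hz using Subgroup.closure_induction with
  | mem x hx =>
    obtain ⟨k, ⟨h1, h2⟩, rfl⟩ := hx
    exact hgen k h1 h2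
  | one => exact Commute.one_right t
  | mul x y _ _ hx hy => exact hx.mul_right hy
  | inv x _ hx => exact hx.inv_right

/-- commuting of `y i`, `y k` at distance `< l` -/
theorem P4_comm {y : ℤ → G} {l : ℕ} (hl : IsLam y l) (i k : ℤ) (h1 : i - k < l) (h2 : k - i < l) :
    Commute (y i) (y k) := by
  rcases le_total i k with hik | hik
  · have := hl.comm i (k - i).toNat (by omega)
    rwa [Int.toNat_of_nonneg (by omega), add_sub_cancel] at this
  · have := hl.comm k (i - k).toNat (by omega)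
    rw [Int.toNat_of_nonneg (by omega), add_sub_cancel] at this
    exact this.symm

/-! ### two pure group lemmas -/

/-- the centraliser argument -/
theorem P4_cent {A A' : Subgroup G} (hle : A' ≤ A) (n : ℕ) (hA : Nat.card ↥A = 2 ^ (n + 1))
    (hA' : Nat.card ↥A' = 2 ^ n) (t x : G) (hx : x ∈ A) (hxt : ¬ Commute t x)
    (hcomm : ∀ z ∈ A', Commute t z) (c : G) (hc : c ∈ A) (hct : Commute t c) : c ∈ A' := by
  haveI : Finite ↥A := Nat.finite_of_card_ne_zero (by rw [hA]; positivity)
  set C : Subgroup G := A ⊓ Subgroup.centralizer {t} with hC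
  have hCA : C ≤ A := inf_le_left
  haveI : Finite ↥C := Finite.of_injective _ (Subgroup.inclusion_injective hCA)
  have hA'C : A' ≤ C := by
    intro z hz
    exact Subgroup.mem_inf.2 ⟨hle hz, Subgroup.mem_centralizer_singleton_iff.2 (hcomm z hz).eq.symm⟩
  have hcC : c ∈ C :=
    Subgroup.mem_inf.2 ⟨hc, Subgroup.mem_centralizer_singleton_iff.2 hct.eq.symm⟩
  have hxC : x ∉ C := by
    intro hxC
    have hx2 := Subgroup.mem_centralizer_singleton_iff.1 (Subgroup.mem_inf.1 hxC).2
    exact hxt hx2.symm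
  have hdvd : Nat.card ↥C ∣ 2 ^ (n + 1) := by
    rw [← hA]; exact Subgroup.card_dvd_of_le hCA
  obtain ⟨k, hk, hCk⟩ := (Nat.dvd_prime_pow Nat.prime_two).1 hdvd
  have hkn : k ≤ n := by
    by_contra hcon
    have hk' : k = n + 1 := by omega
    have : C = A := Subgroup.eq_of_le_of_card_ge hCA (by rw [hA, hCk, hk'])
    exact hxC (this ▸ hx)
  have hCA' : A' = C := by
    apply Subgroup.eq_of_le_of_card_ge hA'C
    rw [hA', hCk]
    exact Nat.pow_le_pow_right (by norm_num) hkn
  rw [hCA']
  exact hcC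

/-- `t` centralises the commutator `[a, b]` of two involutions if it centralises `b` and `[a, t]`
centralises `b` -/
theorem P4_comm_aux {a b t : G} (ha : a * a = 1) (ht : t * t = 1)
    (htb : Commute t b) (hdb : Commute (a * t * a * t) b) : Commute t (a * b * a * b) := by
  set d := a * t * a * t with hd
  have hai : a⁻¹ = a := inv_eq_of_mul_eq_one_right ha
  have hti : t⁻¹ = t := inv_eq_of_mul_eq_one_right ht
  have h1 : t * a = a * d * t := by
    rw [hd]
    calc t * a = (a * a) * t * a * (t * t) := by rw [ha, ht]; group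
      _ = a * (a * t * a * t) * t := by group
  have hdi : d⁻¹ = t * a * t * a := by
    rw [hd]; simp only [mul_inv_rev, hai, hti]; group
  have h2 : a * d = d⁻¹ * a := by
    rw [hdi, hd]
    calc a * (a * t * a * t) = (a * a) * t * a * t := by group
      _ = t * a * t * (a * a) := by rw [ha]; group
      _ = t * a * t * a * a := by group
  have h3 : d * b * d⁻¹ = b := by
    rw [hdb.eq]; group
  show t * (a * b * a * b) = a * b * a * b * t
  calc t * (a * b * a * b) = (t * a) * b * a * b := by group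
    _ = a * d * t * b * a * b := by rw [h1]
    _ = a * d * (t * b) * a * b := by group
    _ = a * d * (b * t) * a * b := by rw [htb.eq]
    _ = a * d * b * (t * a) * b := by group
    _ = a * d * b * (a * d * t) * b := by rw [h1]
    _ = a * d * b * (a * d) * (t * b) := by group
    _ = a * d * b * (d⁻¹ * a) * (b * t) := by rw [h2, htb.eq]
    _ = a * (d * b * d⁻¹) * a * b * t := by group
    _ = a * b * a * b * t := by rw [h3]

/-- the support claim of (P4), given (P1a) and (P1b) for `y` -/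
theorem P4_support_core {s : ℕ} {y : ℤ → G} (h : Tower s y)
    (hP1a : ∀ (a : ℤ) (m : ℕ), m + 2 < s →
      U y a (m + 1) ⊓ U y (a + 1) (m + 1) = U y (a + 1) m)
    (hP1b : ∀ (a : ℤ) (d : ℕ), d + 2 < s →
      y a * y (a + (d + 1 : ℕ)) * y a * y (a + (d + 1 : ℕ)) ∈ U y (a + 1) d)
    {l : ℕ} (hl : IsLam y l) (hl1 : 1 ≤ l) :
    y 0 * y (l : ℤ) * y 0 * y (l : ℤ) ≠ 1 ∧
    ∀ j : ℕ, l + j + 2 ≤ s →
      y 0 * y (l : ℤ) * y 0 * y (l : ℤ) ∈ U y ((j : ℤ) + 1) (l - 1 - 2 * j) := by
  have hi0 : (y 0)⁻¹ = y 0 := inv_eq_of_mul_eq_one_right (h.sq 0)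
  have hil : (y (l : ℤ))⁻¹ = y (l : ℤ) := inv_eq_of_mul_eq_one_right (h.sq l)
  set c : G := y 0 * y (l : ℤ) * y 0 * y (l : ℤ) with hc
  have hc1 : c ≠ 1 := by
    intro h1
    apply hl.ncomm 0
    rw [zero_add]
    have h2 : y 0 * y (l : ℤ) = (y 0 * y (l : ℤ))⁻¹ :=
      eq_inv_of_mul_eq_one_left (by rw [← mul_assoc]; exact h1)
    rw [mul_inv_rev, hi0, hil] at h2
    exact h2
  have claim : ∀ j : ℕ, l + j + 2 ≤ s → c ∈ U y ((j : ℤ) + 1) (l - 1 - 2 * j) := by
    intro j
    induction j with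
    | zero =>
      intro _
      have h0 := hP1b 0 (l - 1) (by omega)
      rw [Nat.sub_add_cancel hl1] at h0
      simpa using h0
    | succ j ih =>
      intro hj
      have ihc := ih (by omega)
      have hn : l - 1 - 2 * j ≠ 0 := by
        intro h0
        rw [h0, P4_U_zero] at ihc
        exact hc1 (Subgroup.mem_bot.1 ihc)
      obtain ⟨n', hn'⟩ : ∃ n', l = 2 * j + 2 + n' := ⟨l - 2 * j - 2, by omega⟩
      have e1 : l - 1 - 2 * j = n' + 1 := by omega
      have e2 : l - 1 - 2 * (j + 1) = n' - 1 := by omega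
      rw [e1] at ihc
      have cA : Nat.card ↥(U y ((j : ℤ) + 1) (n' + 1)) = 2 ^ (n' + 1) := h.card_lt _ _ (by omega)
      have cA' : Nat.card ↥(U y ((j : ℤ) + 1 + 1) n') = 2 ^ n' := h.card_lt _ _ (by omega)
      have cA'' : Nat.card ↥(U y ((j : ℤ) + 1) n') = 2 ^ n' := h.card_lt _ _ (by omega)
      -- the step on the left
      have hL : c ∈ U y ((j : ℤ) + 1 + 1) n' := by
        refine P4_cent (P4_U_le y (by omega) (by omega)) n' cA cA' (y ((l + j + 1 : ℕ) : ℤ))
          (y ((j : ℤ) + 1)) (P4_mem_U y (by omega) (by omega)) ?_ ?_ c ihc ?_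
        · intro hcomm
          apply hl.ncomm ((j : ℤ) + 1)
          have e : ((j : ℤ) + 1 + l) = ((l + j + 1 : ℕ) : ℤ) := by push_cast; ring
          rw [e]
          exact hcomm.symm
        · intro z hz
          refine P4_commute_of_mem_U (fun k hk1 hk2 => ?_) hz
          exact P4_comm hl _ _ (by push_cast; omega) (by push_cast; omega)
        · apply P4_comm_aux (h.sq 0) (h.sq _)
          · exact P4_comm hl _ _ (by push_cast; omega) (by push_cast; omega)
          · have hd := hP1b 0 (l + j) (by omega)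
            simp only [zero_add] at hd
            exact (P4_commute_of_mem_U (fun k hk1 hk2 =>
              P4_comm hl _ _ (by push_cast at hk2 ⊢; omega) (by push_cast at hk2 ⊢; omega)) hd).symm
      -- the mirrored step on the right
      have hR : c ∈ U y ((j : ℤ) + 1) n' := by
        refine P4_cent (P4_U_le y (by omega) (by omega)) n' cA cA'' (y (-((j : ℤ) + 1)))
          (y ((j : ℤ) + 1 + n')) (P4_mem_U y (by omega) (by push_cast; omega)) ?_ ?_ c ihc ?_
        · intro hcomm
          apply hl.ncomm (-((j : ℤ) + 1))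
          have e : (-((j : ℤ) + 1) + l) = (j : ℤ) + 1 + n' := by rw [hn']; push_cast; ring
          rw [e]
          exact hcomm
        · intro z hz
          refine P4_commute_of_mem_U (fun k hk1 hk2 => ?_) hz
          exact P4_comm hl _ _ (by push_cast at hk2 ⊢; omega) (by push_cast at hk2 ⊢; omega)
        · have hcinv : c⁻¹ = y (l : ℤ) * y 0 * y (l : ℤ) * y 0 := by
            rw [hc]
            simp only [mul_inv_rev, hi0, hil]
            group
          have hcc : Commute (y (-((j : ℤ) + 1))) c⁻¹ := by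
            rw [hcinv]
            apply P4_comm_aux (h.sq _) (h.sq _)
            · exact P4_comm hl _ _ (by push_cast; omega) (by push_cast; omega)
            · have hd := hP1b (-((j : ℤ) + 1)) (l + j) (by omega)
              have e : (-((j : ℤ) + 1) + ((l + j + 1 : ℕ) : ℤ)) = (l : ℤ) := by push_cast; ring
              rw [e] at hd
              have hti : (y (-((j : ℤ) + 1)))⁻¹ = y (-((j : ℤ) + 1)) :=
                inv_eq_of_mul_eq_one_right (h.sq _)
              have hd' : y (l : ℤ) * y (-((j : ℤ) + 1)) * y (l : ℤ) * y (-((j : ℤ) + 1)) ∈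
                  U y (-((j : ℤ) + 1) + 1) (l + j) := by
                have h3 := Subgroup.inv_mem _ hd
                simp only [mul_inv_rev, hil, hti] at h3
                simpa only [mul_assoc] using h3
              exact (P4_commute_of_mem_U (fun k hk1 hk2 =>
                P4_comm hl _ _ (by push_cast at hk2 ⊢; omega) (by push_cast at hk2 ⊢; omega)) hd').symm
          exact Commute.inv_right_iff.1 hcc
      rw [e2]
      rcases Nat.eq_zero_or_pos n' with h0 | hpos
      · subst h0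
        have e3 : (((j + 1 : ℕ) : ℤ) + 1) = (j : ℤ) + 1 + 1 := by push_cast; ring
        rw [e3]
        exact hL
      · obtain ⟨m, rfl⟩ : ∃ m, n' = m + 1 := ⟨n' - 1, by omega⟩
        have h4 := hP1a ((j : ℤ) + 1) m (by omega)
        have hmem : c ∈ U y ((j : ℤ) + 1) (m + 1) ⊓ U y ((j : ℤ) + 1 + 1) (m + 1) :=
          Subgroup.mem_inf.2 ⟨hR, hL⟩
        rw [h4] at hmem
        have e3 : (((j + 1 : ℕ) : ℤ) + 1) = (j : ℤ) + 1 + 1 := by push_cast; ring
        rw [e3, Nat.add_sub_cancel]
        exact hmem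
  exact ⟨hc1, claim⟩

/-- the support claim of (P4): `[y_0, y_l] ∈ ⟨y_(j+1), …, y_(l-1-j)⟩` as long as `l + j + 2 ≤ s` -/
theorem lam_support {s : ℕ} {y : ℤ → G} (h : Tower s y) {l : ℕ} (hl : IsLam y l) (hl1 : 1 ≤ l)
    (j : ℕ) (hj : l + j + 2 ≤ s) :
    y 0 * y l * y 0 * y l ∈ U y (j + 1) (l - 1 - 2 * j) :=
  (P4_support_core h (tower_inter h) (tower_comm_mem h) hl hl1).2 j hj

/-- (P4) -/
theorem lam_lower {s : ℕ} {y : ℤ → G} (h : Tower s y) {l : ℕ}
    (hl : IsLam y l) (hl1 : 1 ≤ l) (hls : l + 2 ≤ s) : 2 * s ≤ 3 * l + 2 := by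
  obtain ⟨hc1, claim⟩ := P4_support_core h (tower_inter h) (tower_comm_mem h) hl hl1
  have hfin := claim (s - 2 - l) (by omega)
  by_contra hcon
  have h0 : l - 1 - 2 * (s - 2 - l) = 0 := by omega
  rw [h0, P4_U_zero] at hfin
  exact hc1 (Subgroup.mem_bot.1 hfin)

end Cfsg.Agent.Helper70.Sims3
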