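-- helper70: leaf (GB4) `ptower_lam_lower` of helper8's farm #13388 (S4359), the `p`-version of Sims3 (P4).
import Mathlib
import Cfsg.Agent.Helper8.GlaubDefs
import Cfsg.Agent.Helper70.Sims3_P4
import Cfsg.Agent.Helper10.Glaub_GB1a
import Cfsg.Agent.Helper93.Glaub_GB1b

set_option autoImplicit false

namespace Cfsg.Agent.Helper70.Glaub

open Cfsg.Agent.Helper8.Sims3 Cfsg.Agent.Helper8.Glaub Cfsg.Agent.Helper70.Sims3 Pointwise

variable {G : Type*} [Group G]

/-- the centraliser argument, for a prime `p` -/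
theorem GB4_cent {p : ℕ} (hp : p.Prime) {A A' : Subgroup G} (hle : A' ≤ A) (n : ℕ)
    (hA : Nat.card ↥A = p ^ (n + 1)) (hA' : Nat.card ↥A' = p ^ n) (t x : G) (hx : x ∈ A)
    (hxt : ¬ Commute t x) (hcomm : ∀ z ∈ A', Commute t z) (c : G) (hc : c ∈ A)
    (hct : Commute t c) : c ∈ A' := by
  haveI : Finite ↥A := Nat.finite_of_card_ne_zero (by rw [hA]; exact pow_ne_zero _ hp.ne_zero)
  set C : Subgroup G := A ⊓ Subgroup.centralizer {t} with hC
  have hCA : C ≤ A := inf_le_left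
  haveI : Finite ↥C := Finite.of_injective _ (Subgroup.inclusion_injective hCA)
  have hA'C : A' ≤ C := by
    intro z hz
    exact Subgroup.mem_inf.2 ⟨hle hz, Subgroup.mem_centralizer_singleton_iff.2 (hcomm z hz).eq.symm⟩
  have hcC : c ∈ C :=
    Subgroup.mem_inf.2 ⟨hc, Subgroup.mem_centralizer_singleton_iff.2 hct.eq.symm⟩
  have hxC : x ∉ C := by
    intro hxC
    have hx2 := Subgroup.mem_centralizer_singleton_iff.1 (Subgroup.mem_inf.1 hxC).2
    exact hxt hx2.symm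
  have hdvd : Nat.card ↥C ∣ p ^ (n + 1) := by
    rw [← hA]; exact Subgroup.card_dvd_of_le hCA
  obtain ⟨k, hk, hCk⟩ := (Nat.dvd_prime_pow hp).1 hdvd
  have hkn : k ≤ n := by
    by_contra hcon
    have hk' : k = n + 1 := by omega
    have : C = A := Subgroup.eq_of_le_of_card_ge hCA (by rw [hA, hCk, hk'])
    exact hxC (this ▸ hx)
  have hCA' : A' = C := by
    apply Subgroup.eq_of_le_of_card_ge hA'C
    rw [hA', hCk]
    exact Nat.pow_le_pow_right hp.pos hkn
  rw [hCA']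
  exact hcC

/-- `t` centralises `[a, b]` if it centralises `b` and `[a⁻¹, t]` centralises `b` -/
theorem GB4_comm_aux {a b t : G} (htb : Commute t b) (hdb : Commute (a⁻¹ * t * a * t⁻¹) b) :
    Commute t (a * b * a⁻¹ * b⁻¹) := by
  set d := a⁻¹ * t * a * t⁻¹ with hd
  have h1 : t * a = a * d * t := by rw [hd]; group
  have h1' : t * a⁻¹ = d⁻¹ * a⁻¹ * t := by rw [hd]; group
  have h3 : d * b * d⁻¹ = b := by rw [hdb.eq]; group
  have htb' : t * b⁻¹ = b⁻¹ * t := (htb.inv_right).eq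
  show t * (a * b * a⁻¹ * b⁻¹) = a * b * a⁻¹ * b⁻¹ * t
  calc t * (a * b * a⁻¹ * b⁻¹) = (t * a) * b * a⁻¹ * b⁻¹ := by group
    _ = a * d * t * b * a⁻¹ * b⁻¹ := by rw [h1]
    _ = a * d * (t * b) * a⁻¹ * b⁻¹ := by group
    _ = a * d * (b * t) * a⁻¹ * b⁻¹ := by rw [htb.eq]
    _ = a * d * b * (t * a⁻¹) * b⁻¹ := by group
    _ = a * d * b * (d⁻¹ * a⁻¹ * t) * b⁻¹ := by rw [h1']
    _ = a * (d * b * d⁻¹) * a⁻¹ * (t * b⁻¹) := by group
    _ = a * b * a⁻¹ * (b⁻¹ * t) := by rw [h3, htb']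
    _ = a * b * a⁻¹ * b⁻¹ * t := by group

/-- the support claim of (GB4), given (GB1a) and (GB1b) for `y` -/
theorem GB4_support_core {p t : ℕ} (hp : p.Prime) {y : ℤ → G} (h : PTower p t y)
    (hP1a : ∀ (a : ℤ) (m : ℕ), m + 2 ≤ t →
      U y a (m + 1) ⊓ U y (a + 1) (m + 1) = U y (a + 1) m)
    (hP1b : ∀ (a : ℤ) (d : ℕ), d + 2 ≤ t → ∀ u w : G, u ∈ Subgroup.zpowers (y a) →
      w ∈ Subgroup.zpowers (y (a + (d + 1 : ℕ))) → u * w * u⁻¹ * w⁻¹ ∈ U y (a + 1) d)
    {l : ℕ} (hl : IsLam y l) (hl1 : 1 ≤ l) :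
    y 0 * y (l : ℤ) * (y 0)⁻¹ * (y (l : ℤ))⁻¹ ≠ 1 ∧
    ∀ j : ℕ, l + j + 1 ≤ t →
      y 0 * y (l : ℤ) * (y 0)⁻¹ * (y (l : ℤ))⁻¹ ∈ U y ((j : ℤ) + 1) (l - 1 - 2 * j) := by
  set c : G := y 0 * y (l : ℤ) * (y 0)⁻¹ * (y (l : ℤ))⁻¹ with hc
  have hc1 : c ≠ 1 := by
    intro h1
    apply hl.ncomm 0
    rw [zero_add]
    show y 0 * y (l : ℤ) = y (l : ℤ) * y 0
    calc y 0 * y (l : ℤ) = (y 0 * y (l : ℤ) * (y 0)⁻¹ * (y (l : ℤ))⁻¹) * (y (l : ℤ) * y 0) := by group
      _ = y (l : ℤ) * y 0 := by rw [← hc, h1, one_mul]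
  have claim : ∀ j : ℕ, l + j + 1 ≤ t → c ∈ U y ((j : ℤ) + 1) (l - 1 - 2 * j) := by
    intro j
    induction j with
    | zero =>
      intro _
      have h0 := hP1b 0 (l - 1) (by omega) (y 0) (y (l : ℤ)) (Subgroup.mem_zpowers _)
        (by rw [Nat.sub_add_cancel hl1, zero_add]; exact Subgroup.mem_zpowers _)
      simpa using h0
    | succ j ih =>
      intro hj
      have ihc := ih (by omega)
      have hn : l - 1 - 2 * j ≠ 0 := by
        intro h0
        rw [h0, P4_U_zero] at ihc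
        exact hc1 (Subgroup.mem_bot.1 ihc)
      obtain ⟨n', hn'⟩ : ∃ n', l = 2 * j + 2 + n' := ⟨l - 2 * j - 2, by omega⟩
      have e1 : l - 1 - 2 * j = n' + 1 := by omega
      have e2 : l - 1 - 2 * (j + 1) = n' - 1 := by omega
      rw [e1] at ihc
      have cA : Nat.card ↥(U y ((j : ℤ) + 1) (n' + 1)) = p ^ (n' + 1) := h.card _ _ (by omega)
      have cA' : Nat.card ↥(U y ((j : ℤ) + 1 + 1) n') = p ^ n' := h.card _ _ (by omega)
      have cA'' : Nat.card ↥(U y ((j : ℤ) + 1) n') = p ^ n' := h.card _ _ (by omega)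
      -- the step on the left
      have hL : c ∈ U y ((j : ℤ) + 1 + 1) n' := by
        refine GB4_cent hp (P4_U_le y (by omega) (by omega)) n' cA cA' (y ((l + j + 1 : ℕ) : ℤ))
          (y ((j : ℤ) + 1)) (P4_mem_U y (by omega) (by omega)) ?_ ?_ c ihc ?_
        · intro hcomm
          apply hl.ncomm ((j : ℤ) + 1)
          have e : ((j : ℤ) + 1 + l) = ((l + j + 1 : ℕ) : ℤ) := by push_cast; ring
          rw [e]
          exact hcomm.symm
        · intro z hz
          refine P4_commute_of_mem_U (fun k hk1 hk2 => ?_) hz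
          exact P4_comm hl _ _ (by push_cast; omega) (by push_cast; omega)
        · apply GB4_comm_aux
          · exact P4_comm hl _ _ (by push_cast; omega) (by push_cast; omega)
          · have hd := hP1b 0 (l + j) (by omega) (y 0)⁻¹ (y ((l + j + 1 : ℕ) : ℤ))
              (Subgroup.inv_mem _ (Subgroup.mem_zpowers _))
              (by rw [zero_add]; exact Subgroup.mem_zpowers _)
            simp only [zero_add, inv_inv] at hd
            exact (P4_commute_of_mem_U (fun k hk1 hk2 =>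
              P4_comm hl _ _ (by push_cast at hk2 ⊢; omega) (by push_cast at hk2 ⊢; omega)) hd).symm
      -- the mirrored step on the right
      have hR : c ∈ U y ((j : ℤ) + 1) n' := by
        refine GB4_cent hp (P4_U_le y (by omega) (by omega)) n' cA cA'' (y (-((j : ℤ) + 1)))
          (y ((j : ℤ) + 1 + n')) (P4_mem_U y (by omega) (by push_cast; omega)) ?_ ?_ c ihc ?_
        · intro hcomm
          apply hl.ncomm (-((j : ℤ) + 1))
          have e : (-((j : ℤ) + 1) + l) = (j : ℤ) + 1 + n' := by rw [hn']; push_cast; ring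
          rw [e]
          exact hcomm
        · intro z hz
          refine P4_commute_of_mem_U (fun k hk1 hk2 => ?_) hz
          exact P4_comm hl _ _ (by push_cast at hk2 ⊢; omega) (by push_cast at hk2 ⊢; omega)
        · have hcinv : c⁻¹ = y (l : ℤ) * y 0 * (y (l : ℤ))⁻¹ * (y 0)⁻¹ := by
            rw [hc]; group
          have hcc : Commute (y (-((j : ℤ) + 1))) c⁻¹ := by
            rw [hcinv]
            apply GB4_comm_aux
            · exact P4_comm hl _ _ (by push_cast; omega) (by push_cast; omega)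
            · have hd := hP1b (-((j : ℤ) + 1)) (l + j) (by omega) (y (-((j : ℤ) + 1)))
                (y (l : ℤ))⁻¹ (Subgroup.mem_zpowers _) (by
                  have e : (-((j : ℤ) + 1) + ((l + j + 1 : ℕ) : ℤ)) = (l : ℤ) := by
                    push_cast; ring
                  rw [e]
                  exact Subgroup.inv_mem _ (Subgroup.mem_zpowers _))
              have hd' : (y (l : ℤ))⁻¹ * y (-((j : ℤ) + 1)) * y (l : ℤ) * (y (-((j : ℤ) + 1)))⁻¹ ∈
                  U y (-((j : ℤ) + 1) + 1) (l + j) := by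
                have h3 := Subgroup.inv_mem _ hd
                have e3 : (y (-((j : ℤ) + 1)) * (y (l : ℤ))⁻¹ * (y (-((j : ℤ) + 1)))⁻¹ *
                    (y (l : ℤ))⁻¹⁻¹)⁻¹ = (y (l : ℤ))⁻¹ * y (-((j : ℤ) + 1)) * y (l : ℤ) *
                    (y (-((j : ℤ) + 1)))⁻¹ := by group
                rwa [e3] at h3
              exact (P4_commute_of_mem_U (fun k hk1 hk2 =>
                P4_comm hl _ _ (by push_cast at hk2 ⊢; omega) (by push_cast at hk2 ⊢; omega)) hd').symm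
          exact Commute.inv_right_iff.1 hcc
      rw [e2]
      rcases Nat.eq_zero_or_pos n' with h0 | hpos
      · subst h0
        have e3 : (((j + 1 : ℕ) : ℤ) + 1) = (j : ℤ) + 1 + 1 := by push_cast; ring
        rw [e3]
        exact hL
      · obtain ⟨m, rfl⟩ : ∃ m, n' = m + 1 := ⟨n' - 1, by omega⟩
        have h4 := hP1a ((j : ℤ) + 1) m (by omega)
        have hmem : c ∈ U y ((j : ℤ) + 1) (m + 1) ⊓ U y ((j : ℤ) + 1 + 1) (m + 1) :=
          Subgroup.mem_inf.2 ⟨hR, hL⟩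
        rw [h4] at hmem
        have e3 : (((j + 1 : ℕ) : ℤ) + 1) = (j : ℤ) + 1 + 1 := by push_cast; ring
        rw [e3, Nat.add_sub_cancel]
        exact hmem
  exact ⟨hc1, claim⟩

/-- (GB4) with (GB1a), (GB1b) as hypotheses -/
theorem GB4_lam_lower_core {p t : ℕ} (hp : p.Prime) {y : ℤ → G} (h : PTower p t y)
    (hP1a : ∀ (a : ℤ) (m : ℕ), m + 2 ≤ t →
      U y a (m + 1) ⊓ U y (a + 1) (m + 1) = U y (a + 1) m)
    (hP1b : ∀ (a : ℤ) (d : ℕ), d + 2 ≤ t → ∀ u w : G, u ∈ Subgroup.zpowers (y a) →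
      w ∈ Subgroup.zpowers (y (a + (d + 1 : ℕ))) → u * w * u⁻¹ * w⁻¹ ∈ U y (a + 1) d)
    {l : ℕ} (hl : IsLam y l) (hl1 : 1 ≤ l) (hlt : l + 1 ≤ t) : 2 * t ≤ 3 * l := by
  obtain ⟨hc1, claim⟩ := GB4_support_core hp h hP1a hP1b hl hl1
  have hfin := claim (t - 1 - l) (by omega)
  by_contra hcon
  have h0 : l - 1 - 2 * (t - 1 - l) = 0 := by omega
  rw [h0, P4_U_zero] at hfin
  exact hc1 (Subgroup.mem_bot.1 hfin)

/-- (GB4) the support argument (`p`-version of Sims3 (P4)) -/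
theorem ptower_lam_lower {p t : ℕ} (hp : p.Prime) {y : ℤ → G} (h : PTower p t y) {l : ℕ}
    (hl : IsLam y l) (hl1 : 1 ≤ l) (hlt : l + 1 ≤ t) : 2 * t ≤ 3 * l :=
  GB4_lam_lower_core hp h (fun a m hm => Cfsg.Agent.Helper10.Glaub.ptower_inter hp h a m hm)
    (fun a d hd u w hu hw => Cfsg.Agent.Helper93.Glaub.ptower_comm_mem hp h a d hd u w hu hw)
    hl hl1 hlt

end Cfsg.Agent.Helper70.Glaub
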