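import Mathlib
import Cfsg.Agent.Helper84.SU3P.Defs

/-!
# S2289 piece (BN) of helper84's farm #12539: the Bruhat normal form of `t u(a,b) t⁻¹`
-/

set_option autoImplicit false
set_option linter.unusedSimpArgs false
set_option linter.unusedSectionVars false
set_option linter.unusedVariables false

namespace Cfsg.Agent.Helper70.SU3P

open Matrix Polynomial Cfsg.Agent.Helper84.RU3 Cfsg.Agent.Helper84.SU3P

variable {K : Type*} [Field K] (bar : K →+* K) (hb : ∀ x, bar (bar x) = x)
include hb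

/-- (BN) the Bruhat normal form of `t u(a,b) t⁻¹` -/
theorem bruhat_normal {ε : K} (hε : ε ≠ 0) (hεb : bar ε = -ε) {a b : K}
    (hab : b + bar b + a * bar a = 0) (hb0 : b ≠ 0) :
    tM ε * uM bar a b * tM (-ε) =
      uM bar (a / (ε * b)) (-1 / (ε ^ 2 * b)) * hM bar (1 / (ε * bar b)) * tM ε *
        uM bar (a / (ε * bar b)) (-1 / (ε ^ 2 * b)) ∧
    (-1 / (ε ^ 2 * b)) + bar (-1 / (ε ^ 2 * b)) + (a / (ε * b)) * bar (a / (ε * b)) = 0 ∧
    (-1 / (ε ^ 2 * b)) + bar (-1 / (ε ^ 2 * b)) + (a / (ε * bar b)) * bar (a / (ε * bar b)) = 0 := by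
  have hbb0 : bar b ≠ 0 := by
    intro h
    apply hb0
    have := congrArg bar h
    rwa [hb, map_zero] at this
  obtain ⟨A, hA⟩ : ∃ A, bar a = A := ⟨_, rfl⟩
  obtain ⟨B, hB⟩ : ∃ B, bar b = B := ⟨_, rfl⟩
  have hbarA : bar A = a := by rw [← hA, hb]
  have hbarB : bar B = b := by rw [← hB, hb]
  rw [hB] at hbb0
  rw [hA, hB] at hab
  have hBval : B = -b - a * A := by linear_combination hab
  subst hBval
  have hbb1 : -b - A * a ≠ 0 := by rwa [mul_comm A a]
  have hbb2 : b + A * a ≠ 0 := by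
    intro h
    apply hbb1
    linear_combination -h
  have hbb3 : b + a * A ≠ 0 := by rwa [mul_comm a A]
  refine ⟨?_, ?_, ?_⟩
  · unfold tM uM hM
    simp only [map_div₀, map_mul, map_neg, map_pow, map_one, hεb, hA, hB, hbarA, hbarB]
    ext i j
    fin_cases i <;> fin_cases j <;>
      simp [Matrix.mul_apply, Fin.sum_univ_three] <;> (try field_simp) <;>
      (first | exact Or.inl trivial | ring)
  · simp only [map_div₀, map_mul, map_neg, map_pow, map_one, hεb, hA, hB, hbarA, hbarB]
    field_simp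
    ring
  · simp only [map_div₀, map_mul, map_neg, map_pow, map_one, hεb, hA, hB, hbarA, hbarB]
    field_simp
    ring

end Cfsg.Agent.Helper70.SU3P
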