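import Mathlib
import Cfsg.Agent.S2119

set_option autoImplicit false

/-! Automorphisms of `A_n` preserving three-cycles are induced by permutations (any `n ≥ 4`); the proof
is the one of `Cfsg.Agent.S2119.exists_conj` (helper35) with the hypothesis `n ≠ 6` replaced by the
preservation of three-cycles. -/

namespace Cfsg.Agent.Helper70.AltAut

open Equiv Equiv.Perm Cfsg.Agent.S2119

variable {n : ℕ}

/-- every automorphism of `A_n` preserving three-cycles is conjugation by a permutation -/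
theorem exists_conj_of_preserves (hn : 4 ≤ n) (φ : MulAut (alternatingGroup (Fin n)))
    (hφ : ∀ g : alternatingGroup (Fin n), IsThreeCycle (g : Perm (Fin n)) →
      IsThreeCycle ((φ g : alternatingGroup (Fin n)) : Perm (Fin n))) :
    ∃ σ : Perm (Fin n), MulAut.conjNormal σ = φ := by
  classical
  -- base points
  obtain ⟨o, i, y0, z0, hoi, hy0o, hy0i, hz0o, hz0i, hy0z0⟩ :
      ∃ o i y0 z0 : Fin n, o ≠ i ∧ y0 ≠ o ∧ y0 ≠ i ∧ z0 ≠ o ∧ z0 ≠ i ∧ y0 ≠ z0 := by
    refine ⟨⟨0, by omega⟩, ⟨1, by omega⟩, ⟨2, by omega⟩, ⟨3, by omega⟩, ?_, ?_, ?_, ?_, ?_, ?_⟩ <;>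
    simp [Fin.ext_iff]
  -- the generators
  let c : ∀ y : Fin n, y ≠ o → y ≠ i → alternatingGroup (Fin n) := fun y h1 h2 =>
    ⟨cyc o i y, (isThreeCycle_cyc hoi h1.symm h2.symm).mem_alternatingGroup⟩
  have hc : ∀ y (h1 : y ≠ o) (h2 : y ≠ i), ((c y h1 h2 : alternatingGroup (Fin n)) : Perm (Fin n)) =
      cyc o i y := fun y h1 h2 => rfl
  -- their images
  let d : Fin n → Perm (Fin n) := fun y =>
    if h : y ≠ o ∧ y ≠ i then ((φ (c y h.1 h.2) : alternatingGroup (Fin n)) : Perm (Fin n)) else 1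
  have hd : ∀ y (h1 : y ≠ o) (h2 : y ≠ i),
      d y = ((φ (c y h1 h2) : alternatingGroup (Fin n)) : Perm (Fin n)) := by
    intro y h1 h2
    simp only [d, dif_pos (And.intro h1 h2)]
  have hd3 : ∀ y, y ≠ o → y ≠ i → IsThreeCycle (d y) := by
    intro y h1 h2
    rw [hd y h1 h2]
    exact hφ _ (isThreeCycle_cyc hoi h1.symm h2.symm)
  have hdinj : ∀ y z, y ≠ o → y ≠ i → z ≠ o → z ≠ i → d y = d z → y = z := by
    intro y z hy1 hy2 hz1 hz2 h
    rw [hd y hy1 hy2, hd z hz1 hz2] at h
    have h' := φ.injective (Subtype.ext h)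
    have h'' := congrArg (fun g : alternatingGroup (Fin n) => (g : Perm (Fin n)) i) h'
    simp only [hc] at h''
    rwa [cyc_apply_mid hy1.symm hy2.symm, cyc_apply_mid hz1.symm hz2.symm] at h''
  have hrel : ∀ y z, y ≠ o → y ≠ i → z ≠ o → z ≠ i → y ≠ z →
      (∀ x, d y (d z (d y (d z x))) = x) ∧ d y * d z ≠ 1 := by
    intro y z hy1 hy2 hz1 hz2 hyz
    have e : d y * d z =
        ((φ (c y hy1 hy2 * c z hz1 hz2) : alternatingGroup (Fin n)) : Perm (Fin n)) := by
      rw [hd y hy1 hy2, hd z hz1 hz2, map_mul]; rfl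
    constructor
    · intro x
      have hsq : (d y * d z) * (d y * d z) = 1 := by
        rw [e, ← Subgroup.coe_mul, ← map_mul]
        have h1 : (c y hy1 hy2 * c z hz1 hz2) * (c y hy1 hy2 * c z hz1 hz2) = 1 := by
          apply Subtype.ext
          simp only [Subgroup.coe_mul, Subgroup.coe_one, hc]
          exact cyc_mul_cyc_sq hoi hy1.symm hy2.symm hz1.symm hz2.symm hyz
        rw [h1, map_one]; rfl
      have h2 := congrArg (fun f : Perm (Fin n) => f x) hsq
      simpa using h2
    · rw [e]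
      intro h
      have h1 : c y hy1 hy2 * c z hz1 hz2 = 1 := by
        apply φ.injective
        rw [map_one]
        exact Subtype.ext h
      have h2 := congrArg (fun g : alternatingGroup (Fin n) => (g : Perm (Fin n))) h1
      simp only [Subgroup.coe_mul, Subgroup.coe_one, hc] at h2
      exact cyc_mul_cyc_ne_one hoi hy1.symm hy2.symm hz1.symm hz2.symm hyz h2
  -- the common arc
  obtain ⟨a, hab, ha⟩ := exists_common_arc (hd3 y0 hy0o hy0i) (hd3 z0 hz0o hz0i)
    (hrel y0 z0 hy0o hy0i hz0o hz0i hy0z0).1 (hrel y0 z0 hy0o hy0i hz0o hz0i hy0z0).2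
  have hall : ∀ w, w ≠ o → w ≠ i → d w a = d y0 a := by
    intro w hw1 hw2
    by_cases h1 : w = y0
    · rw [h1]
    by_cases h2 : w = z0
    · rw [h2, hab]
    · apply common_arc_of_three (hd3 y0 hy0o hy0i) (hd3 z0 hz0o hz0i) (hd3 w hw1 hw2) hab ha
      · intro h; exact hy0z0 (hdinj _ _ hy0o hy0i hz0o hz0i h)
      · exact exists_common_arc (hd3 y0 hy0o hy0i) (hd3 w hw1 hw2)
          (hrel y0 w hy0o hy0i hw1 hw2 (Ne.symm h1)).1 (hrel y0 w hy0o hy0i hw1 hw2 (Ne.symm h1)).2
      · exact exists_common_arc (hd3 z0 hz0o hz0i) (hd3 w hw1 hw2)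
          (hrel z0 w hz0o hz0i hw1 hw2 (Ne.symm h2)).1 (hrel z0 w hz0o hz0i hw1 hw2 (Ne.symm h2)).2
  obtain ⟨b, hb⟩ : ∃ b, b = d y0 a := ⟨_, rfl⟩
  rw [← hb] at hall ha
  -- structure of `d w`
  have hdw : ∀ w (h1 : w ≠ o) (h2 : w ≠ i), d w = cyc a b (d w b) ∧ a ≠ d w b ∧ b ≠ d w b := by
    intro w h1 h2
    have h3 := hd3 w h1 h2
    have hwa : d w a = b := hall w h1 h2
    have hmem : a ∈ (d w).support := by rw [mem_support, hwa]; exact ha
    have e := eq_cyc h3 hmem
    have nd := h3.nodup_iff_mem_support.mpr hmem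
    rw [hwa] at e nd
    simp only [List.nodup_cons, List.mem_cons, List.not_mem_nil, or_false, not_or,
      List.nodup_nil, and_true, not_false_eq_true] at nd
    exact ⟨e, nd.1.2, nd.2⟩
  -- the permutation
  let f : Fin n → Fin n := fun w => if w = o then a else if w = i then b else d w b
  have hfo : f o = a := by simp [f]
  have hfi : f i = b := by simp [f, hoi.symm]
  have hfw : ∀ w, w ≠ o → w ≠ i → f w = d w b := by
    intro w h1 h2; simp [f, h1, h2]
  have hfinj : Function.Injective f := by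
    intro w w' h
    by_cases h1 : w = o
    · by_cases h1' : w' = o
      · rw [h1, h1']
      · by_cases h2' : w' = i
        · exfalso; rw [h1, h2', hfo, hfi] at h; exact ha h.symm
        · exfalso; rw [h1, hfo, hfw w' h1' h2'] at h; exact (hdw w' h1' h2').2.1 h
    · by_cases h2 : w = i
      · by_cases h1' : w' = o
        · exfalso; rw [h2, h1', hfo, hfi] at h; exact ha h
        · by_cases h2' : w' = i
          · rw [h2, h2']
          · exfalso; rw [h2, hfi, hfw w' h1' h2'] at h; exact (hdw w' h1' h2').2.2 h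
      · by_cases h1' : w' = o
        · exfalso; rw [h1', hfo, hfw w h1 h2] at h; exact (hdw w h1 h2).2.1 h.symm
        · by_cases h2' : w' = i
          · exfalso; rw [h2', hfi, hfw w h1 h2] at h; exact (hdw w h1 h2).2.2 h.symm
          · rw [hfw w h1 h2, hfw w' h1' h2'] at h
            apply hdinj w w' h1 h2 h1' h2'
            rw [(hdw w h1 h2).1, (hdw w' h1' h2').1, h]
  let σ : Perm (Fin n) := Equiv.ofBijective f (Finite.injective_iff_bijective.mp hfinj)
  have hσ : ∀ w, σ w = f w := fun w => rfl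
  refine ⟨σ, ?_⟩
  -- agreement on the generators
  have hagree : ∀ w (h1 : w ≠ o) (h2 : w ≠ i),
      MulAut.conjNormal σ (c w h1 h2) = φ (c w h1 h2) := by
    intro w h1 h2
    apply Subtype.ext
    rw [MulAut.conjNormal_apply, ← hd w h1 h2, (hdw w h1 h2).1, hc w h1 h2, conj_cyc, hσ, hσ, hσ, hfo, hfi,
      hfw w h1 h2]
  -- agreement everywhere
  let E : Subgroup (alternatingGroup (Fin n)) :=
    MonoidHom.eqLocus ((MulAut.conjNormal σ : MulAut (alternatingGroup (Fin n))).toMonoidHom)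
      φ.toMonoidHom
  let K : Subgroup (Perm (Fin n)) := E.map (alternatingGroup (Fin n)).subtype
  have hK : ∀ y, y ≠ o → y ≠ i → cyc o i y ∈ K := by
    intro y h1 h2
    exact ⟨c y h1 h2, hagree y h1 h2, rfl⟩
  have h3 : ∀ g : alternatingGroup (Fin n), IsThreeCycle (g : Perm (Fin n)) → g ∈ E := by
    intro g hg
    obtain ⟨g', hg', e⟩ := mem_of_isThreeCycle hoi hK _ hg
    have : g' = g := Subtype.ext e
    rwa [← this]
  have hE : E = ⊤ := by
    rw [eq_top_iff, ← alternatingGroup.closure_isThreeCycles_eq_top, Subgroup.closure_le]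
    exact fun g hg => h3 g hg
  apply MulEquiv.ext
  intro g
  have hg : g ∈ E := hE ▸ Subgroup.mem_top g
  exact hg


end Cfsg.Agent.Helper70.AltAut
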