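import Mathlib
import Cfsg.Agent.S2119

set_option autoImplicit false
set_option linter.style.haveILetI false

namespace Cfsg.Agent.Helper70.AltAut

open Equiv Equiv.Perm Cfsg.Agent.S2119

theorem mul_comm_of_card_le_prime {R : Type*} [Group R] [Finite R] {p : ℕ} (hp : p.Prime)
    (h : Nat.card R = 1 ∨ Nat.card R = p) (a b : R) : a * b = b * a := by
  rcases h with h | h
  · have : Subsingleton R := (Nat.card_eq_one_iff_unique.mp h).1
    exact Subsingleton.elim _ _
  · haveI : Fact p.Prime := ⟨hp⟩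
    haveI : IsCyclic R := isCyclic_of_prime_card h
    obtain ⟨g, hg⟩ := IsCyclic.exists_generator (α := R)
    obtain ⟨i, rfl⟩ := Subgroup.mem_zpowers_iff.mp (hg a)
    obtain ⟨j, rfl⟩ := Subgroup.mem_zpowers_iff.mp (hg b)
    rw [← zpow_add, ← zpow_add, add_comm]

/-- a `p`-group of permutations of fewer than `p²` points is commutative -/
theorem commute_of_isPGroup {α : Type*} [Fintype α] [DecidableEq α] {p : ℕ} [hp : Fact p.Prime]
    (P : Subgroup (Perm α)) (hP : IsPGroup p P) (hn : Fintype.card α < p ^ 2)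
    (g h : Perm α) (hg : g ∈ P) (hh : h ∈ P) : g * h = h * g := by
  ext x
  let ρ := MulAction.toPermHom P (MulAction.orbit P x)
  have hR : IsPGroup p ρ.range := IsPGroup.of_surjective hP ρ.rangeRestrict ρ.rangeRestrict_surjective
  obtain ⟨k, hk⟩ := hP.card_orbit x
  have hk1 : k ≤ 1 := by
    have h1 : Nat.card (MulAction.orbit P x) ≤ Fintype.card α := by
      rw [← Nat.card_eq_fintype_card]
      exact Nat.card_le_card_of_injective _ Subtype.val_injective
    rw [hk] at h1
    have : p ^ k < p ^ 2 := lt_of_le_of_lt h1 hn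
    have := (Nat.pow_lt_pow_iff_right hp.out.one_lt).mp this
    omega
  obtain ⟨j, hj⟩ := IsPGroup.iff_card.mp hR
  have hdvd : Nat.card ρ.range ∣ (Nat.card (MulAction.orbit P x)).factorial := by
    have := Subgroup.card_subgroup_dvd_card ρ.range
    rwa [Nat.card_perm] at this
  have hj1 : j ≤ 1 := by
    rw [hj, hk] at hdvd
    by_contra hcon
    have h2 : p ^ 2 ∣ (p ^ k).factorial := (pow_dvd_pow p (by omega)).trans hdvd
    interval_cases k
    · simp at h2
      have := hp.out.one_lt
      nlinarith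
    · rw [pow_one] at h2
      have hfac : p.factorial = p * (p - 1).factorial := by
        obtain ⟨m, hm⟩ : ∃ m, p = m + 1 := ⟨p - 1, by have := hp.out.pos; omega⟩
        rw [hm, Nat.factorial_succ]
        simp
      rw [hfac, sq] at h2
      have h3 : p ∣ (p - 1).factorial := Nat.dvd_of_mul_dvd_mul_left hp.out.pos h2
      have := (hp.out.dvd_factorial).mp h3
      have := hp.out.pos
      omega
  have hcard : Nat.card ρ.range = 1 ∨ Nat.card ρ.range = p := by
    rw [hj]
    interval_cases j
    · left; simp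
    · right; simp
  have hcomm := mul_comm_of_card_le_prime hp.out hcard
    ⟨ρ ⟨g, hg⟩, ⟨_, rfl⟩⟩ ⟨ρ ⟨h, hh⟩, ⟨_, rfl⟩⟩
  have h1 : ρ ⟨g, hg⟩ * ρ ⟨h, hh⟩ = ρ ⟨h, hh⟩ * ρ ⟨g, hg⟩ := congrArg Subtype.val hcomm
  have h2 := congrArg (fun σ : Perm (MulAction.orbit P x) => (σ ⟨x, MulAction.mem_orbit_self x⟩ : α)) h1
  simpa [ρ] using h2


/-- `A_n` contains an element of order `p q` as soon as `q² ≤ n` (`p < q` primes). -/
theorem exists_alt_orderOf_eq (n p q : ℕ) (hp : p.Prime) (hq : q.Prime) (hpq : p < q)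
    (hn : q ^ 2 ≤ n) : ∃ σ : alternatingGroup (Fin n), orderOf σ = p * q := by
  have hq3 : 3 ≤ q := by have := hp.two_le; omega
  have hqodd : Odd q := hq.odd_of_ne_two (by omega)
  have hcop : Nat.Coprime p q := (Nat.coprime_primes hp hq).mpr (by omega)
  by_cases hp2 : p = 2
  · subst hp2
    have hsum : ({2, 2, q} : Multiset ℕ).sum ≤ Fintype.card (Fin n) := by
      simp only [Multiset.insert_eq_cons, Multiset.sum_cons, Multiset.sum_singleton, Fintype.card_fin]
      nlinarith
    obtain ⟨g, hg⟩ := (Equiv.Perm.exists_with_cycleType_iff (α := Fin n) (m := {2, 2, q})).mpr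
      ⟨hsum, by
        intro a ha
        simp only [Multiset.insert_eq_cons, Multiset.mem_cons, Multiset.mem_singleton] at ha
        rcases ha with rfl | rfl | rfl <;> omega⟩
    have hsign : sign g = 1 := by
      rw [sign_of_cycleType', hg]
      simp only [Multiset.insert_eq_cons, Multiset.map_cons, Multiset.map_singleton,
        Multiset.prod_cons, Multiset.prod_singleton]
      rw [hqodd.neg_one_pow]
      simp
    have hord : orderOf g = 2 * q := by
      rw [← lcm_cycleType, hg]
      simp only [Multiset.insert_eq_cons, Multiset.lcm_cons, Multiset.lcm_singleton, normalize_eq]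
      rw [lcm_eq_nat_lcm, lcm_eq_nat_lcm, hcop.lcm_eq_mul]
      exact Nat.lcm_eq_right (dvd_mul_right 2 q)
    refine ⟨⟨g, mem_alternatingGroup.mpr hsign⟩, ?_⟩
    rw [← hord, ← Subgroup.orderOf_coe]
  · have hpodd : Odd p := hp.odd_of_ne_two hp2
    have hsum : ({p, q} : Multiset ℕ).sum ≤ Fintype.card (Fin n) := by
      simp only [Multiset.insert_eq_cons, Multiset.sum_cons, Multiset.sum_singleton, Fintype.card_fin]
      nlinarith
    obtain ⟨g, hg⟩ := (Equiv.Perm.exists_with_cycleType_iff (α := Fin n) (m := {p, q})).mpr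
      ⟨hsum, by
        intro a ha
        simp only [Multiset.insert_eq_cons, Multiset.mem_cons, Multiset.mem_singleton] at ha
        rcases ha with rfl | rfl
        · exact hp.two_le
        · omega⟩
    have hsign : sign g = 1 := by
      rw [sign_of_cycleType', hg]
      simp only [Multiset.insert_eq_cons, Multiset.map_cons, Multiset.map_singleton,
        Multiset.prod_cons, Multiset.prod_singleton]
      rw [hqodd.neg_one_pow, hpodd.neg_one_pow]
      simp
    have hord : orderOf g = p * q := by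
      rw [← lcm_cycleType, hg]
      simp only [Multiset.insert_eq_cons, Multiset.lcm_cons, Multiset.lcm_singleton, normalize_eq]
      rw [lcm_eq_nat_lcm, hcop.lcm_eq_mul]
    refine ⟨⟨g, mem_alternatingGroup.mpr hsign⟩, ?_⟩
    rw [← hord, ← Subgroup.orderOf_coe]


/-- a fixed element of cycle type `3 + 3` -/
def u₀ : Perm (Fin 6) := cyc 0 1 2 * cyc 3 4 5

/-- an odd permutation commuting with `u₀` -/
def t₀ : Perm (Fin 6) := swap 0 3 * swap 1 4 * swap 2 5

theorem t₀_comm : t₀ * u₀ = u₀ * t₀ := by decide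

theorem sign_t₀ : sign t₀ = -1 := by decide

theorem cycleType_u₀ : u₀.cycleType = {3, 3} := by
  have h1 : IsThreeCycle (cyc (0 : Fin 6) 1 2) := isThreeCycle_cyc (by decide) (by decide) (by decide)
  have h2 : IsThreeCycle (cyc (3 : Fin 6) 4 5) := isThreeCycle_cyc (by decide) (by decide) (by decide)
  have hd : Perm.Disjoint (cyc (0 : Fin 6) 1 2) (cyc (3 : Fin 6) 4 5) := by
    unfold Perm.Disjoint cyc
    decide
  unfold u₀
  rw [hd.cycleType_mul, h1.cycleType, h2.cycleType]
  rfl

theorem exists_even_conj (u : Perm (Fin 6)) (hu : u.cycleType = {3, 3}) :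
    ∃ k : Perm (Fin 6), sign k = 1 ∧ k * u₀ * k⁻¹ = u := by
  have hc : IsConj u₀ u := by rw [isConj_iff_cycleType_eq, hu, cycleType_u₀]
  obtain ⟨k, hk⟩ := isConj_iff.mp hc
  rcases Int.units_eq_one_or (sign k) with h | h
  · exact ⟨k, h, hk⟩
  · refine ⟨k * t₀, by rw [Perm.sign_mul, h, sign_t₀]; rfl, ?_⟩
    rw [mul_inv_rev, ← hk]
    have : k * t₀ * u₀ * (t₀⁻¹ * k⁻¹) = k * (t₀ * u₀ * t₀⁻¹) * k⁻¹ := by group
    rw [this, t₀_comm, mul_inv_cancel_right]

theorem cycleType_of_orderOf_three (u : Perm (Fin 6)) (h3 : orderOf u = 3) (hn : ¬ IsThreeCycle u) :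
    u.cycleType = {3, 3} := by
  obtain ⟨k, hk⟩ := cycleType_prime_order (σ := u) (by rw [h3]; norm_num)
  rw [h3] at hk
  have hsum := sum_cycleType_le u
  rw [hk, Multiset.sum_replicate, Fintype.card_fin, smul_eq_mul] at hsum
  have hk1 : k = 0 ∨ k = 1 := by omega
  rcases hk1 with rfl | rfl
  · exfalso
    apply hn
    rw [IsThreeCycle, hk]
    rfl
  · rw [hk]; rfl

abbrev A6 := alternatingGroup (Fin 6)

def T1 (g : A6) : Prop := IsThreeCycle (g : Perm (Fin 6))
def T2 (g : A6) : Prop := orderOf g = 3 ∧ ¬ T1 g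

theorem T1.isConj {g g' : A6} (h : T1 g) (h' : T1 g') : IsConj g g' :=
  alternatingGroup.isThreeCycle_isConj (by simp) h h'

theorem T2.isConj {g g' : A6} (h : T2 g) (h' : T2 g') : IsConj g g' := by
  have c1 := cycleType_of_orderOf_three (g : Perm (Fin 6)) (by rw [Subgroup.orderOf_coe]; exact h.1) h.2
  have c2 := cycleType_of_orderOf_three (g' : Perm (Fin 6)) (by rw [Subgroup.orderOf_coe]; exact h'.1) h'.2
  obtain ⟨k, hk, e⟩ := exists_even_conj _ c1
  obtain ⟨k', hk', e'⟩ := exists_even_conj _ c2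
  rw [isConj_iff]
  refine ⟨⟨k' * k⁻¹, mem_alternatingGroup.mpr (by rw [Perm.sign_mul, Perm.sign_inv, hk, hk']; rfl)⟩, ?_⟩
  apply Subtype.ext
  simp only [Subgroup.coe_mul, Subgroup.coe_inv]
  rw [← e, ← e']
  group

theorem T1.conj {g : A6} (h : T1 g) (k : A6) : T1 (k * g * k⁻¹) := by
  unfold T1 IsThreeCycle at *
  simp only [Subgroup.coe_mul, Subgroup.coe_inv]
  rw [cycleType_conj]
  exact h

theorem T1.orderOf {g : A6} (h : T1 g) : orderOf g = 3 := by
  rw [← Subgroup.orderOf_coe]
  exact IsThreeCycle.orderOf h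

theorem T2.conj {g : A6} (h : T2 g) (k : A6) : T2 (k * g * k⁻¹) := by
  refine ⟨by rw [← MulAut.conj_apply, MulEquiv.orderOf_eq]; exact h.1, fun h1 => h.2 ?_⟩
  have := h1.conj k⁻¹
  simpa [mul_assoc] using this


/-- an automorphism of `A_6` of odd order preserves three-cycles -/
theorem T1_map_of_odd (α : MulAut A6) (hodd : Odd (orderOf α)) (g : A6) (hg : T1 g) : T1 (α g) := by
  by_contra hcon
  have hαg : T2 (α g) := ⟨by rw [MulEquiv.orderOf_eq]; exact hg.orderOf, hcon⟩
  have h12 : ∀ x, T1 x → T2 (α x) := by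
    intro x hx
    obtain ⟨k, hk⟩ := isConj_iff.mp (hg.isConj hx)
    rw [← hk, map_mul, map_mul, map_inv]
    exact hαg.conj (α k)
  have h21 : ∀ x, T2 x → T1 (α x) := by
    intro x hx
    by_contra hc
    have hx2 : T2 (α x) := ⟨by rw [MulEquiv.orderOf_eq]; exact hx.1, hc⟩
    obtain ⟨k, hk⟩ := isConj_iff.mp (hαg.isConj hx2)
    have : x = (α.symm k) * g * (α.symm k)⁻¹ := by
      apply α.injective
      rw [map_mul, map_mul, map_inv, MulEquiv.apply_symm_apply, hk]
    rw [this] at hx
    exact hx.2 (hg.conj _)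
  have hpow : ∀ m : ℕ, (∀ x, T1 x → (Even m → T1 ((α ^ m) x)) ∧ (Odd m → T2 ((α ^ m) x))) ∧
      (∀ x, T2 x → (Even m → T2 ((α ^ m) x)) ∧ (Odd m → T1 ((α ^ m) x))) := by
    intro m
    induction m with
    | zero =>
      refine ⟨fun x hx => ⟨fun _ => by simpa using hx, fun h => by simp at h⟩,
        fun x hx => ⟨fun _ => by simpa using hx, fun h => by simp at h⟩⟩
    | succ m ih =>
      have e : ∀ x, (α ^ (m + 1)) x = (α ^ m) (α x) := by
        intro x
        rw [pow_succ, MulAut.mul_apply]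
      refine ⟨fun x hx => ⟨fun he => ?_, fun ho => ?_⟩, fun x hx => ⟨fun he => ?_, fun ho => ?_⟩⟩
      · rw [e]
        have hm : Odd m := by
          rcases Nat.even_or_odd m with h | h
          · exact absurd he (Nat.not_even_iff_odd.mpr h.add_one)
          · exact h
        exact ((ih.2 (α x) (h12 x hx)).2 hm)
      · rw [e]
        have hm : Even m := by
          rcases Nat.even_or_odd m with h | h
          · exact h
          · exact absurd ho (Nat.not_odd_iff_even.mpr h.add_one)
        exact ((ih.2 (α x) (h12 x hx)).1 hm)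
      · rw [e]
        have hm : Odd m := by
          rcases Nat.even_or_odd m with h | h
          · exact absurd he (Nat.not_even_iff_odd.mpr h.add_one)
          · exact h
        exact ((ih.1 (α x) (h21 x hx)).2 hm)
      · rw [e]
        have hm : Even m := by
          rcases Nat.even_or_odd m with h | h
          · exact h
          · exact absurd ho (Nat.not_odd_iff_even.mpr h.add_one)
        exact ((ih.1 (α x) (h21 x hx)).1 hm)
  have := ((hpow (orderOf α)).1 g hg).2 hodd
  rw [pow_orderOf_eq_one] at this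
  exact this.2 hg

end Cfsg.Agent.Helper70.AltAut
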