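import Mathlib

/-!
# Piece (CONJ) of helper53's market #11776 (sub-farm of helper43's S2500)

Two `n × n` matrices killed by the same irreducible polynomial `m` are conjugate:
both make `Fin n → F` a vector space over the field `AdjoinRoot m`, of the same dimension
`n / deg m`, and an `AdjoinRoot m`-linear isomorphism is an intertwiner.
-/

set_option autoImplicit false

namespace Cfsg.Agent.Helper70.Cov2

open Polynomial Matrix

variable {F : Type*} [Field F]

/-- the evaluation homomorphism `AdjoinRoot m →ₐ[F] Matrix`, `root ↦ J` -/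
noncomputable def phiJ {n : ℕ} (m : F[X]) (J : Matrix (Fin n) (Fin n) F) (hJ : aeval J m = 0) :
    AdjoinRoot m →ₐ[F] Matrix (Fin n) (Fin n) F :=
  Ideal.Quotient.liftₐ (Ideal.span {m}) (Polynomial.aeval J) (by
    intro a ha
    obtain ⟨b, rfl⟩ := Ideal.mem_span_singleton.mp ha
    rw [map_mul, hJ, zero_mul])

theorem phiJ_mk {n : ℕ} (m : F[X]) (J : Matrix (Fin n) (Fin n) F) (hJ : aeval J m = 0)
    (g : F[X]) : phiJ m J hJ (AdjoinRoot.mk m g) = Polynomial.aeval J g := rfl

theorem phiJ_root {n : ℕ} (m : F[X]) (J : Matrix (Fin n) (Fin n) F) (hJ : aeval J m = 0) :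
    phiJ m J hJ (AdjoinRoot.root m) = J := by
  rw [← AdjoinRoot.mk_X, phiJ_mk, Polynomial.aeval_X]

/-- `Fin n → F` as a module over `AdjoinRoot m` through `J` (type synonym) -/
def VJ {n : ℕ} (m : F[X]) (J : Matrix (Fin n) (Fin n) F) (_hJ : aeval J m = 0) : Type _ :=
  Fin n → F

section inst

variable {n : ℕ} (m : F[X]) (J : Matrix (Fin n) (Fin n) F) (hJ : aeval J m = 0)

instance instAddCommGroupVJ : AddCommGroup (VJ m J hJ) :=
  inferInstanceAs (AddCommGroup (Fin n → F))

instance instModuleVJ : Module F (VJ m J hJ) :=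
  inferInstanceAs (Module F (Fin n → F))

instance instModuleFiniteVJ : Module.Finite F (VJ m J hJ) :=
  inferInstanceAs (Module.Finite F (Fin n → F))

noncomputable instance instModuleAdjoinRootVJ : Module (AdjoinRoot m) (VJ m J hJ) :=
  Module.compHom (Fin n → F)
    ((Matrix.toLinAlgEquiv' : Matrix (Fin n) (Fin n) F ≃ₐ[F] Module.End F (Fin n → F)).toAlgHom.comp
      (phiJ m J hJ)).toRingHom

theorem smul_VJ_def (e : AdjoinRoot m) (v : VJ m J hJ) :
    e • v = ((phiJ m J hJ e) *ᵥ (v : Fin n → F) : Fin n → F) := rfl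

theorem fsmul_VJ_def (c : F) (v : VJ m J hJ) :
    c • v = (c • (v : Fin n → F) : Fin n → F) := rfl

instance instIsScalarTowerVJ : IsScalarTower F (AdjoinRoot m) (VJ m J hJ) := by
  refine IsScalarTower.of_algebraMap_smul ?_
  intro c v
  have key : ∀ w : Fin n → F, (c • (1 : Matrix (Fin n) (Fin n) F)) *ᵥ w = c • w := by
    intro w
    rw [Matrix.smul_mulVec, Matrix.one_mulVec]
  rw [smul_VJ_def, AlgHom.commutes, Algebra.algebraMap_eq_smul_one]
  exact key v

end inst

theorem finrank_VJ {n : ℕ} (m : F[X]) (J : Matrix (Fin n) (Fin n) F) (hJ : aeval J m = 0) :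
    Module.finrank F (VJ m J hJ) = n := by
  show Module.finrank F (Fin n → F) = n
  exact Module.finrank_fin_fun F

/-- (CONJ) two matrices killed by the same irreducible polynomial are conjugate. -/
theorem exists_conj_of_aeval_eq_zero {n : ℕ} (m : F[X]) (hm : Irreducible m)
    (J J' : Matrix (Fin n) (Fin n) F) (hJ : aeval J m = 0) (hJ' : aeval J' m = 0) :
    ∃ y : Matrix (Fin n) (Fin n) F, IsUnit y.det ∧ y * J' = J * y := by
  haveI : Fact (Irreducible m) := ⟨hm⟩
  have hm0 : m ≠ 0 := hm.ne_zero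
  haveI : Module.Finite F (AdjoinRoot m) := (AdjoinRoot.powerBasis hm0).finite
  haveI : Module.Finite (AdjoinRoot m) (VJ m J hJ) := FiniteDimensional.right F _ _
  haveI : Module.Finite (AdjoinRoot m) (VJ m J' hJ') := FiniteDimensional.right F _ _
  -- equal dimensions over `AdjoinRoot m`
  have h1 := Module.finrank_mul_finrank F (AdjoinRoot m) (VJ m J hJ)
  have h2 := Module.finrank_mul_finrank F (AdjoinRoot m) (VJ m J' hJ')
  rw [finrank_VJ] at h1 h2
  have hdpos : 0 < Module.finrank F (AdjoinRoot m) := Module.finrank_pos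
  have hrk : Module.finrank (AdjoinRoot m) (VJ m J' hJ') =
      Module.finrank (AdjoinRoot m) (VJ m J hJ) :=
    Nat.eq_of_mul_eq_mul_left hdpos (h2.trans h1.symm)
  -- an `AdjoinRoot m`-linear isomorphism
  let e : VJ m J' hJ' ≃ₗ[AdjoinRoot m] VJ m J hJ := LinearEquiv.ofFinrankEq _ _ hrk
  -- its underlying `F`-linear maps on `Fin n → F`
  let f : (Fin n → F) →ₗ[F] (Fin n → F) := (e.restrictScalars F).toLinearMap
  let g : (Fin n → F) →ₗ[F] (Fin n → F) := (e.symm.restrictScalars F).toLinearMap
  have hfg : f.comp g = LinearMap.id := by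
    apply LinearMap.ext
    intro v
    exact e.apply_symm_apply v
  have hroot : ∀ v : VJ m J' hJ', f (J' *ᵥ v) = J *ᵥ f v := by
    intro v
    have hl : ∀ w : VJ m J' hJ', AdjoinRoot.root m • w = (J' *ᵥ (w : Fin n → F) : Fin n → F) := by
      intro w
      rw [smul_VJ_def, phiJ_root]
    have hr : ∀ w : VJ m J hJ, AdjoinRoot.root m • w = (J *ᵥ (w : Fin n → F) : Fin n → F) := by
      intro w
      rw [smul_VJ_def, phiJ_root]
    have h := e.map_smul (AdjoinRoot.root m) v
    have h5 : f (J' *ᵥ v) = e (AdjoinRoot.root m • v) :=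
      congrArg e (hl v).symm
    have h6 : (AdjoinRoot.root m • e v) = J *ᵥ f v := hr (e v)
    exact h5.trans (h.trans h6)
  refine ⟨LinearMap.toMatrix' f, ?_, ?_⟩
  · have hmul : LinearMap.toMatrix' f * LinearMap.toMatrix' g = 1 := by
      rw [← LinearMap.toMatrix'_comp, hfg, LinearMap.toMatrix'_id]
    exact IsUnit.of_mul_eq_one _ (by rw [← Matrix.det_mul, hmul, Matrix.det_one])
  · have h3 : f.comp (Matrix.toLin' J') = (Matrix.toLin' J).comp f := by
      apply LinearMap.ext
      intro v
      simp only [LinearMap.comp_apply, Matrix.toLin'_apply]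
      exact hroot v
    have h4 := congrArg LinearMap.toMatrix' h3
    rwa [LinearMap.toMatrix'_comp, LinearMap.toMatrix'_comp, LinearMap.toMatrix'_toLin',
      LinearMap.toMatrix'_toLin'] at h4

end Cfsg.Agent.Helper70.Cov2
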