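import Mathlib

/-!
# Piece (EXJ) of helper53's market #11776 (sub-farm of helper43's S2500)

Over a finite field `F`, for `0 < d ∣ n` there are a monic irreducible polynomial `m` of degree `d`
and an `n × n` matrix `J` with `m(J) = 0`: `m` is the minimal polynomial of a primitive element `α`
of the extension `L` of degree `d`, and `J` is multiplication by `α` on `L ^ (n / d) ≃ F ^ n`.
-/

set_option autoImplicit false

namespace Cfsg.Agent.Helper70.Cov2

open Polynomial Matrix

variable {F : Type*} [Field F]

/-- (EXJ) an irreducible polynomial of degree `d` with a matrix root of size `n`, `d ∣ n`. -/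
theorem exists_irreducible_root_matrix [Finite F] (n d : ℕ) (hd : 0 < d) (hdn : d ∣ n) :
    ∃ (m : F[X]) (J : Matrix (Fin n) (Fin n) F),
      m.Monic ∧ Irreducible m ∧ m.natDegree = d ∧ aeval J m = 0 := by
  obtain ⟨p, hp⟩ := CharP.exists F
  haveI : Fact p.Prime := ⟨CharP.char_is_prime F p⟩
  haveI : NeZero d := ⟨hd.ne'⟩
  obtain ⟨α, hα⟩ := Field.exists_primitive_element F (FiniteField.Extension F p d)
  have hint : IsIntegral F α := Algebra.IsIntegral.isIntegral α
  have hdeg : (minpoly F α).natDegree = d := by
    rw [← IntermediateField.adjoin.finrank hint, hα, IntermediateField.finrank_top',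
      FiniteField.finrank_extension]
  obtain ⟨k, rfl⟩ := hdn
  have hW : Module.finrank F (Fin k → FiniteField.Extension F p d) = d * k := by
    rw [Module.finrank_pi_fintype]
    simp [FiniteField.finrank_extension, mul_comm]
  let e : (Fin k → FiniteField.Extension F p d) ≃ₗ[F] (Fin (d * k) → F) :=
    LinearEquiv.ofFinrankEq _ _ (by rw [hW, Module.finrank_fin_fun])
  let ψ : FiniteField.Extension F p d →ₐ[F] Matrix (Fin (d * k)) (Fin (d * k)) F :=
    ((LinearMap.toMatrixAlgEquiv' : _ ≃ₐ[F] Matrix (Fin (d * k)) (Fin (d * k)) F).toAlgHom.comp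
      (e.conjAlgEquiv F).toAlgHom).comp
      (Algebra.lsmul F F (Fin k → FiniteField.Extension F p d))
  refine ⟨minpoly F α, ψ α, minpoly.monic hint, minpoly.irreducible hint, hdeg, ?_⟩
  rw [Polynomial.aeval_algHom_apply, minpoly.aeval, map_zero]

end Cfsg.Agent.Helper70.Cov2
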