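import Cfsg.Agent.Helper40.G2Tor.Defs

/-!
# S2371 piece (DIAG) of helper40's market #12335

`rho K (dg a b) = tor (a * b) (a ^ 2 * b)`: in `SL₃(K)`, `dg a b = H₁₂(a) H₂₃(ab)` with
`H_ij(t) = W_ij(t) W_ij(1)⁻¹`, `W_ij(t) = x_ij(t) x_ji(-t⁻¹) x_ij(t)`, so `rho` gives `hh 6 a * hh 10 (a b)`,
which is identified with a torus element through its action on `X 7 1` and `X 6 1`.
-/

set_option autoImplicit false
set_option linter.unusedSimpArgs false
set_option maxRecDepth 100000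

namespace Cfsg.Agent.Helper70.G2Tor

open Cfsg Cfsg.Lie Cfsg.Agent.Helper18 Cfsg.Agent.Helper18.G2Odd Cfsg.Agent.Helper40.G2Tor

variable {K : Type*} [Field K]

/-- `W_ij(t) = x_ij(t) x_ji(-t⁻¹) x_ij(t)` in `SL₃` -/
noncomputable def wtv (i j : Fin 3) (h : i ≠ j) (t : K) : SL3 K :=
  tv K i j h t * tv K j i h.symm (-t⁻¹) * tv K i j h t

theorem diag_mat01 (t : K) : Matrix.transvection (0 : Fin 3) 1 t = !![1, t, 0; 0, 1, 0; 0, 0, 1] := by
  ext i j
  fin_cases i <;> fin_cases j <;> simp [Matrix.transvection, Matrix.single_apply]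

theorem diag_mat10 (t : K) : Matrix.transvection (1 : Fin 3) 0 t = !![1, 0, 0; t, 1, 0; 0, 0, 1] := by
  ext i j
  fin_cases i <;> fin_cases j <;> simp [Matrix.transvection, Matrix.single_apply]

theorem diag_mat12 (t : K) : Matrix.transvection (1 : Fin 3) 2 t = !![1, 0, 0; 0, 1, t; 0, 0, 1] := by
  ext i j
  fin_cases i <;> fin_cases j <;> simp [Matrix.transvection, Matrix.single_apply]

theorem diag_mat21 (t : K) : Matrix.transvection (2 : Fin 3) 1 t = !![1, 0, 0; 0, 1, 0; 0, t, 1] := by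
  ext i j
  fin_cases i <;> fin_cases j <;> simp [Matrix.transvection, Matrix.single_apply]

theorem tv_val (i j : Fin 3) (h : i ≠ j) (t : K) :
    ((tv K i j h t : SL3 K) : Matrix (Fin 3) (Fin 3) K) = Matrix.transvection i j t := rfl

theorem wtv01_val (t : K) (ht : t ≠ 0) :
    ((wtv 0 1 (by decide) t : SL3 K) : Matrix (Fin 3) (Fin 3) K) = !![0, t, 0; -t⁻¹, 0, 0; 0, 0, 1] := by
  rw [wtv, Matrix.SpecialLinearGroup.coe_mul, Matrix.SpecialLinearGroup.coe_mul, tv_val, tv_val,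
    diag_mat01, diag_mat10]
  ext i j
  fin_cases i <;> fin_cases j <;> simp [Matrix.mul_apply, Fin.sum_univ_three, ht]

theorem wtv12_val (t : K) (ht : t ≠ 0) :
    ((wtv 1 2 (by decide) t : SL3 K) : Matrix (Fin 3) (Fin 3) K) = !![1, 0, 0; 0, 0, t; 0, -t⁻¹, 0] := by
  rw [wtv, Matrix.SpecialLinearGroup.coe_mul, Matrix.SpecialLinearGroup.coe_mul, tv_val, tv_val,
    diag_mat12, diag_mat21]
  ext i j
  fin_cases i <;> fin_cases j <;> simp [Matrix.mul_apply, Fin.sum_univ_three, ht]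

theorem dg_val (a b : Kˣ) :
    ((dg a b : SL3 K) : Matrix (Fin 3) (Fin 3) K) =
      !![(a : K), 0, 0; 0, (b : K), 0; 0, 0, (a : K)⁻¹ * (b : K)⁻¹] := by
  unfold dg
  ext i j
  fin_cases i <;> fin_cases j <;> simp [Matrix.diagonal, mul_comm]

theorem dg_mul_w01 (a : Kˣ) : dg a a⁻¹ * wtv 0 1 (by decide) (1 : K) = wtv 0 1 (by decide) (a : K) := by
  apply Subtype.ext
  rw [Matrix.SpecialLinearGroup.coe_mul, dg_val, wtv01_val _ one_ne_zero, wtv01_val _ a.ne_zero]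
  ext i j
  fin_cases i <;> fin_cases j <;> simp [Matrix.mul_apply, Fin.sum_univ_three]

theorem dg_mul_w12 (c : Kˣ) : dg 1 c * wtv 1 2 (by decide) (1 : K) = wtv 1 2 (by decide) (c : K) := by
  apply Subtype.ext
  rw [Matrix.SpecialLinearGroup.coe_mul, dg_val, wtv12_val _ one_ne_zero, wtv12_val _ c.ne_zero]
  ext i j
  fin_cases i <;> fin_cases j <;> simp [Matrix.mul_apply, Fin.sum_univ_three]

theorem dg_split (a b : Kˣ) : dg a b = dg a a⁻¹ * dg 1 (a * b) := by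
  apply Subtype.ext
  rw [Matrix.SpecialLinearGroup.coe_mul, dg_val, dg_val, dg_val]
  ext i j
  fin_cases i <;> fin_cases j <;> simp [Matrix.mul_apply, Fin.sum_univ_three, mul_comm]

section rho
variable [Finite K]

theorem rho_wtv01 (t : K) :
    rho K (wtv 0 1 (by decide) t) = Cfsg.Agent.Helper40.SL2Hom.w (X (F := K) 6) (X (11 - 6)) t := by
  unfold wtv
  rw [map_mul, map_mul, rho_tv, rho_tv]
  rfl

theorem rho_wtv12 (t : K) :
    rho K (wtv 1 2 (by decide) t) = Cfsg.Agent.Helper40.SL2Hom.w (X (F := K) 10) (X (11 - 10)) t := by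
  unfold wtv
  rw [map_mul, map_mul, rho_tv, rho_tv]
  rfl

theorem rho_dg01 (a : Kˣ) : rho K (dg a a⁻¹) = hh 6 (a : K) := by
  have h := congrArg (rho K) (dg_mul_w01 a)
  rw [map_mul, rho_wtv01, rho_wtv01] at h
  unfold hh Cfsg.Agent.Helper40.SL2Hom.h
  rw [← h, mul_inv_cancel_right]

theorem rho_dg12 (c : Kˣ) : rho K (dg 1 c) = hh 10 (c : K) := by
  have h := congrArg (rho K) (dg_mul_w12 c)
  rw [map_mul, rho_wtv12, rho_wtv12] at h
  unfold hh Cfsg.Agent.Helper40.SL2Hom.h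
  rw [← h, mul_inv_cancel_right]

theorem rho_dg_hh (a b : Kˣ) : rho K (dg a b) = hh 6 (a : K) * hh 10 ((a * b : Kˣ) : K) := by
  rw [dg_split, map_mul, rho_dg01, rho_dg12]

end rho

/-- `h_b(u) h_{3a+b}(v) = tor (u⁻¹ v)... ` : the product of two `hh` as a torus element -/
theorem hh6_hh10 (a b : Kˣ) :
    hh 6 (a : K) * hh 10 ((a * b : Kˣ) : K) = tor (a * b) (a ^ 2 * b) := by
  have hmem : hh 6 (a : K) * hh 10 ((a * b : Kˣ) : K) ∈ chevG2.diagonalSubgroup K :=
    mul_mem (hh_mem_diagonal 6 (by decide) _ a.ne_zero) (hh_mem_diagonal 10 (by decide) _ (a * b).ne_zero)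
  obtain ⟨c₀, c₁, e⟩ := (mem_diagonal_iff _).mp hmem
  have key : ∀ s < 12, ((chr s c₀ c₁ : Kˣ) : K) =
      (a : K) ^ pairing' chevG2 6 s * ((a * b : Kˣ) : K) ^ pairing' chevG2 10 s := by
    intro s hs
    have h1 := hh_conj 10 s (by decide) hs ((a * b : Kˣ) : K) 1 (a * b).ne_zero
    have h2 := hh_conj 6 s (by decide) hs (a : K) (((a * b : Kˣ) : K) ^ pairing' chevG2 10 s * 1) a.ne_zero
    have h3 : (hh 6 (a : K) * hh 10 ((a * b : Kˣ) : K)) * X s 1 * (hh 6 (a : K) * hh 10 ((a * b : Kˣ) : K))⁻¹ =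
        hh 6 (a : K) * (hh 10 ((a * b : Kˣ) : K) * X s 1 * (hh 10 ((a * b : Kˣ) : K))⁻¹) * (hh 6 (a : K))⁻¹ := by
      group
    rw [h1, h2, e, tor_conj c₀ c₁ s hs] at h3
    have := X_injective s hs _ _ h3
    simpa using this
  have h7 := key 7 (by decide)
  have h6 := key 6 (by decide)
  have p67 : pairing' chevG2 6 7 = -1 := by decide
  have p66 : pairing' chevG2 6 6 = 2 := by decide
  have p107 : pairing' chevG2 10 7 = 1 := by decide
  have p106 : pairing' chevG2 10 6 = -1 := by decide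
  rw [p67, p107] at h7
  rw [p66, p106] at h6
  have h7' : chr 7 c₀ c₁ = b := by
    apply Units.ext
    rw [h7]
    have ha : (a : K) ≠ 0 := a.ne_zero
    simp only [Units.val_mul, zpow_neg, zpow_one]
    field_simp
  have h6' : chr 6 c₀ c₁ = a * b⁻¹ := by
    apply Units.ext
    rw [h6]
    have ha : (a : K) ≠ 0 := a.ne_zero
    have hb : (b : K) ≠ 0 := b.ne_zero
    simp only [Units.val_mul, zpow_neg, zpow_one, Units.val_inv_eq_inv_val]
    field_simp
  have e0 : c₀ = chr 7 c₀ c₁ ^ (2 : ℤ) * chr 6 c₀ c₁ := by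
    rw [chr7, chr6, mul_zpow, ← zpow_mul, ← zpow_mul, mul_mul_mul_comm, ← zpow_add, ← zpow_add]
    norm_num
  have e1 : c₁ = chr 7 c₀ c₁ ^ (3 : ℤ) * chr 6 c₀ c₁ ^ (2 : ℤ) := by
    rw [chr7, chr6, mul_zpow, mul_zpow, ← zpow_mul, ← zpow_mul, ← zpow_mul, ← zpow_mul, mul_mul_mul_comm, ← zpow_add,
      ← zpow_add]
    norm_num
  rw [h7', h6'] at e0 e1
  have e0' : c₀ = a * b := by
    rw [e0]
    apply Units.ext
    have hb : (b : K) ≠ 0 := b.ne_zero
    simp only [Units.val_mul, Units.val_zpow_eq_zpow_val, Units.val_inv_eq_inv_val]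
    field_simp
  have e1' : c₁ = a ^ 2 * b := by
    rw [e1]
    apply Units.ext
    have hb : (b : K) ≠ 0 := b.ne_zero
    simp only [Units.val_mul, Units.val_zpow_eq_zpow_val, Units.val_inv_eq_inv_val, Units.val_pow_eq_pow_val]
    field_simp
  rw [e, e0', e1']

/-- (DIAG) -/
theorem rho_dg {K : Type*} [Field K] [Finite K] (a b : Kˣ) : rho K (dg a b) = tor (a * b) (a ^ 2 * b) := by
  rw [rho_dg_hh, hh6_hh10]

end Cfsg.Agent.Helper70.G2Tor
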