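import Cfsg.Agent.Helper40.G2Tor.Defs
import Cfsg.Agent.Helper18.ScalarExt

/-!
# S2371 piece (EXT) of helper40's market #12335

`rho` commutes with field maps; the Chevalley group `G₂` is functorial in the field.
-/

set_option autoImplicit false
set_option maxRecDepth 100000

namespace Cfsg.Agent.Helper70.G2Tor

open Cfsg Cfsg.Lie Cfsg.Agent.Helper18 Cfsg.Agent.Helper18.G2Odd Cfsg.Agent.Helper40.G2Tor

/-- the underlying matrix of `GL.map φ g` is the entrywise image -/
theorem ext_map_val {n : Type*} [Fintype n] [DecidableEq n] {F K : Type*} [Field F] [Field K] (φ : F →+* K)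
    (g : GL n F) :
    ((Matrix.GeneralLinearGroup.map φ g : GL n K) : Matrix n n K) = (g : Matrix n n F).map φ := by
  ext i j
  rw [Matrix.GeneralLinearGroup.map_apply, Matrix.map_apply]

/-- (EXT-X) `GL.map φ (x_r(t)) = x_r(φ t)`. -/
theorem map_X {F K : Type*} [Field F] [Field K] (φ : F →+* K) (r : ℕ) (t : F) :
    Matrix.GeneralLinearGroup.map φ (X r t) = X r (φ t) := by
  apply Units.ext
  rw [ext_map_val]
  unfold X
  rw [xGL_val chevG2 _ (triOK_of_mem chevG2 hG2), xGL_val chevG2 _ (triOK_of_mem chevG2 hG2), x_map']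

/-- (EXT-G) the entrywise image of `G₂(F)` lies in `G₂(K)`. -/
theorem map_mem_group {F K : Type*} [Field F] [Field K] (φ : F →+* K) (g : GL chevG2.Idx F)
    (hg : g ∈ chevG2.group F) : Matrix.GeneralLinearGroup.map φ g ∈ chevG2.group K := by
  unfold ChevalleyDatum.group at hg
  induction hg using Subgroup.closure_induction with
  | mem y hy =>
    obtain ⟨r, t, hrt⟩ := hy
    have hy' : y = X r.val t := by
      apply Units.ext
      rw [hrt]
      unfold X
      rw [xGL_val chevG2 _ (triOK_of_mem chevG2 hG2)]
      unfold ChevalleyDatum.x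
      rw [dif_pos r.2]
    rw [hy', map_X]
    exact X_mem_group _ _
  | one => rw [map_one]; exact one_mem _
  | mul a b _ _ ha hb => rw [map_mul]; exact mul_mem ha hb
  | inv a _ ha => rw [map_inv]; exact inv_mem ha

/-- the image of a transvection under `SL.map φ` -/
theorem ext_map_tv {F K : Type*} [Field F] [Finite F] [Field K] [Finite K] (φ : F →+* K) (i j : Fin 3)
    (h : i ≠ j) (t : F) :
    Matrix.SpecialLinearGroup.map φ (tv F i j h t) = tv K i j h (φ t) := by
  apply Subtype.ext
  have h1 : ((Matrix.SpecialLinearGroup.map φ (tv F i j h t) : SL3 K) : Matrix (Fin 3) (Fin 3) K) =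
      (Matrix.transvection i j t).map φ := rfl
  have h2 : ((tv K i j h (φ t) : SL3 K) : Matrix (Fin 3) (Fin 3) K) = Matrix.transvection i j (φ t) := rfl
  rw [h1, h2]
  ext a b
  simp only [Matrix.map_apply, Matrix.transvection, Matrix.add_apply, Matrix.one_apply,
    Matrix.single_apply]
  split_ifs <;> simp

/-- (EXT) `rho` commutes with field maps. -/
theorem rho_map {F K : Type*} [Field F] [Finite F] [Field K] [Finite K] (φ : F →+* K) (A : SL3 F) :
    rho K (Matrix.SpecialLinearGroup.map φ A) = Matrix.GeneralLinearGroup.map φ (rho F A) := by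
  have key : (rho K).comp (Matrix.SpecialLinearGroup.map φ) =
      (Matrix.GeneralLinearGroup.map φ).comp (rho F) := by
    apply hom_ext_tv
    intro i j hij t
    rw [MonoidHom.comp_apply, MonoidHom.comp_apply, ext_map_tv, rho_tv, rho_tv, map_X]
  exact DFunLike.congr_fun key A

end Cfsg.Agent.Helper70.G2Tor
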