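import Mathlib

/-!
# S4385 GD farm (helper42), piece (W4A): a word computation
-/

set_option autoImplicit false

universe u

namespace Cfsg.Agent.Helper70.GD

open Pointwise

/-- conjugation by an involution -/
theorem W4A_conj_invol {Γ : Type*} [Group Γ] (g x : Γ) (hg : g * g = 1) :
    MulAut.conj g x = g * x * g := by
  rw [MulAut.conj_apply, inv_eq_of_mul_eq_one_right hg]

/-- `Commute (g ^ n) x` from the conjugation action -/
theorem W4A_commute_of_conj {Γ : Type*} [Group Γ] (g x : Γ) (h : MulAut.conj g x = x) :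
    Commute g x := by
  rw [MulAut.conj_apply] at h
  show g * x = x * g
  calc g * x = g * x * g⁻¹ * g := by group
    _ = x * g := by rw [h]

/-- (W4A) `ρ`: `a1 ↦ a1 a2`, `a2 ↦ a2`, `a3 ↦ a1 a3`; order 4. -/
theorem w4a {Γ : Type*} [Group Γ] (a0 a1 a2 a3 a4 : Γ)
    (h0 : a0 * a0 = 1) (h1 : a1 * a1 = 1) (h2 : a2 * a2 = 1) (h3 : a3 * a3 = 1) (h4 : a4 * a4 = 1)
    (c01 : Commute a0 a1) (c12 : Commute a1 a2) (c23 : Commute a2 a3) (c34 : Commute a3 a4)
    (c02 : Commute a0 a2) (c13 : Commute a1 a3) (c24 : Commute a2 a4)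
    (e03 : a0 * a3 * a0 * a3 = a1) (e14 : a1 * a4 * a1 * a4 = a2) :
    (a0 * a4) * a3 * (a0 * a4)⁻¹ = a1 * a3 ∧
    Commute ((a0 * a4) ^ 4) a1 ∧ Commute ((a0 * a4) ^ 4) a2 ∧ Commute ((a0 * a4) ^ 4) a3 := by
  -- the actions of `a0` and `a4`
  have A01 : MulAut.conj a0 a1 = a1 := by
    rw [W4A_conj_invol _ _ h0, c01.eq, mul_assoc, h0, mul_one]
  have A02 : MulAut.conj a0 a2 = a2 := by
    rw [W4A_conj_invol _ _ h0, c02.eq, mul_assoc, h0, mul_one]
  have A03 : MulAut.conj a0 a3 = a1 * a3 := by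
    rw [W4A_conj_invol _ _ h0]
    calc a0 * a3 * a0 = a0 * a3 * a0 * a3 * a3 := by rw [mul_assoc (a0 * a3 * a0), h3, mul_one]
      _ = a1 * a3 := by rw [e03]
  have A41 : MulAut.conj a4 a1 = a1 * a2 := by
    rw [W4A_conj_invol _ _ h4]
    calc a4 * a1 * a4 = a1 * (a1 * a4 * a1 * a4) := by
          rw [← mul_assoc, ← mul_assoc, ← mul_assoc, h1, one_mul]
      _ = a1 * a2 := by rw [e14]
  have A42 : MulAut.conj a4 a2 = a2 := by
    rw [W4A_conj_invol _ _ h4, c24.symm.eq, mul_assoc, h4, mul_one]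
  have A43 : MulAut.conj a4 a3 = a3 := by
    rw [W4A_conj_invol _ _ h4, c34.symm.eq, mul_assoc, h4, mul_one]
  -- the action of `ρ`
  have hρ : MulAut.conj (a0 * a4) = MulAut.conj a0 * MulAut.conj a4 := map_mul _ _ _
  have R1 : MulAut.conj (a0 * a4) a1 = a1 * a2 := by
    rw [hρ, MulAut.mul_apply, A41, map_mul, A01, A02]
  have R2 : MulAut.conj (a0 * a4) a2 = a2 := by
    rw [hρ, MulAut.mul_apply, A42, A02]
  have R3 : MulAut.conj (a0 * a4) a3 = a1 * a3 := by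
    rw [hρ, MulAut.mul_apply, A43, A03]
  -- powers
  have hpow : MulAut.conj ((a0 * a4) ^ 4) = MulAut.conj (a0 * a4) ^ 4 := map_pow _ _ _
  have P1 : (MulAut.conj (a0 * a4) ^ 4) a1 = a1 := by
    have e2 : (MulAut.conj (a0 * a4) ^ 2) a1 = a1 := by
      rw [pow_two, MulAut.mul_apply, R1, map_mul, R1, R2, mul_assoc, h2, mul_one]
    have : (MulAut.conj (a0 * a4) ^ 4) = MulAut.conj (a0 * a4) ^ 2 * MulAut.conj (a0 * a4) ^ 2 := by
      rw [← pow_add]
    rw [this, MulAut.mul_apply, e2, e2]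
  have P2 : (MulAut.conj (a0 * a4) ^ 4) a2 = a2 := by
    have e2 : (MulAut.conj (a0 * a4) ^ 2) a2 = a2 := by
      rw [pow_two, MulAut.mul_apply, R2, R2]
    have : (MulAut.conj (a0 * a4) ^ 4) = MulAut.conj (a0 * a4) ^ 2 * MulAut.conj (a0 * a4) ^ 2 := by
      rw [← pow_add]
    rw [this, MulAut.mul_apply, e2, e2]
  have P3 : (MulAut.conj (a0 * a4) ^ 4) a3 = a3 := by
    have e2a : (MulAut.conj (a0 * a4) ^ 2) a2 = a2 := by
      rw [pow_two, MulAut.mul_apply, R2, R2]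
    have e2 : (MulAut.conj (a0 * a4) ^ 2) a3 = a2 * a3 := by
      rw [pow_two, MulAut.mul_apply, R3, map_mul, R1, R3]
      calc a1 * a2 * (a1 * a3) = a2 * (a1 * a1) * a3 := by
            rw [c12.eq]; group
        _ = a2 * a3 := by rw [h1, mul_one]
    have : (MulAut.conj (a0 * a4) ^ 4) = MulAut.conj (a0 * a4) ^ 2 * MulAut.conj (a0 * a4) ^ 2 := by
      rw [← pow_add]
    rw [this, MulAut.mul_apply, e2, map_mul, e2a, e2, ← mul_assoc, h2, one_mul]
  refine ⟨?_, ?_, ?_, ?_⟩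
  · rw [← MulAut.conj_apply]
    exact R3
  · exact W4A_commute_of_conj _ _ (by rw [hpow]; exact P1)
  · exact W4A_commute_of_conj _ _ (by rw [hpow]; exact P2)
  · exact W4A_commute_of_conj _ _ (by rw [hpow]; exact P3)

end Cfsg.Agent.Helper70.GD
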