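import Mathlib
import Cfsg.Agent.Helper86.Spec4.DefsU

/-!
# S2511 (helper86), piece (V0): the converse of `dag_mul_self_of_mem`
-/

set_option autoImplicit false

namespace Cfsg.Agent.Helper70.Spec4U

open Matrix Polynomial Cfsg.Agent.Helper86.Spec4

variable {F : Type*} [Field F] [Fintype F] {q n : ℕ}

/-- the hermitian form as a dot product -/
theorem hermForm_eq_dotProduct (bar : F →+* F) (hbar : ∀ x, bar x = x ^ q) (u v : Fin n → F) :
    Cfsg.hermForm n F q u v = u ⬝ᵥ (bar ∘ v) := by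
  unfold Cfsg.hermForm dotProduct
  apply Finset.sum_congr rfl
  intro i _
  rw [Function.comp_apply, hbar]

/-- (V0) converse of `dag_mul_self_of_mem`. -/
theorem mem_SU_of_dag (bar : F →+* F) (hbar : ∀ x, bar x = x ^ q)
    (g : SpecialLinearGroup (Fin n) F) (h : dag bar g.1 * g.1 = 1) : g ∈ Cfsg.SU n F q := by
  intro u v
  show Cfsg.hermForm n F q (g.1 *ᵥ u) (g.1 *ᵥ v) = Cfsg.hermForm n F q u v
  rw [hermForm_eq_dotProduct bar hbar, hermForm_eq_dotProduct bar hbar]
  have h1 : bar ∘ (g.1 *ᵥ v) = (g.1.map bar) *ᵥ (bar ∘ v) := by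
    funext i
    exact RingHom.map_mulVec bar g.1 v i
  rw [h1, dotProduct_comm, Matrix.dotProduct_mulVec, Matrix.vecMul_mulVec]
  have h2 : (g.1.map bar)ᵀ * g.1 = 1 := h
  rw [h2, Matrix.vecMul_one, dotProduct_comm]

end Cfsg.Agent.Helper70.Spec4U
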