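import Mathlib
import Cfsg.Agent.Helper44.TensDefs
import Cfsg.Agent.Helper43.PGLInvRep

/-!
# (E2a) of helper44's S5979 engine (#7763): the involution `diag(-1, -1, 1, …, 1)`
-/

set_option autoImplicit false
open scoped MatrixGroups

namespace Cfsg.Agent.Helper70.Tens

open Matrix Cfsg.Geo Cfsg.Agent.Helper44.QSim Cfsg.Agent.Helper44.Tens Polynomial
open scoped Kronecker

universe u

variable {F : Type u} [Field F] {n a b : ℕ}

/-- (E2a) `diag(-1, -1, 1, …, 1)` -/
theorem exists_invol_two (h2 : (2 : F) ≠ 0) (hn : 3 ≤ n) :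
    ∃ x : GL (Fin n) F, IsPrimeElt 2 x ∧ ((x : Matrix (Fin n) (Fin n) F) - 1).rank = 2 := by
  classical
  set x : GL (Fin n) F := Cfsg.Agent.Helper43.PGLInv.dGL n 2 F with hx
  have hxval : (x : Matrix (Fin n) (Fin n) F) = Cfsg.Agent.Helper43.PGLInv.dmat n 2 F := rfl
  have hdet : (Cfsg.Agent.Helper43.PGLInv.dmat n 2 F).det = 1 := by
    unfold Cfsg.Agent.Helper43.PGLInv.dmat
    rw [Matrix.det_diagonal, Finset.prod_ite, Finset.prod_const, Finset.prod_const_one, mul_one,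
      Fin.card_filter_val_lt, min_eq_right (by omega)]
    norm_num
  refine ⟨x, ⟨?_, ⟨1, ?_⟩, ?_⟩, ?_⟩
  · rw [mem_specialLinear_iff, hxval]
    exact hdet
  · rw [Units.val_pow_eq_pow_val, hxval, pow_two, Cfsg.Agent.Helper43.PGLInv.dmat_mul_self, one_smul]
  · intro z hz
    rw [hxval] at hz
    have e0 := congrFun (congrFun hz ⟨0, by omega⟩) ⟨0, by omega⟩
    have e1 := congrFun (congrFun hz ⟨n - 1, by omega⟩) ⟨n - 1, by omega⟩
    unfold Cfsg.Agent.Helper43.PGLInv.dmat at e0 e1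
    rw [Matrix.diagonal_apply_eq, Matrix.smul_apply, Matrix.one_apply_eq, smul_eq_mul, mul_one]
      at e0 e1
    have h0 : ((⟨0, by omega⟩ : Fin n) : ℕ) < 2 := by show 0 < 2; omega
    have h1 : ¬ ((⟨n - 1, by omega⟩ : Fin n) : ℕ) < 2 := by
      show ¬ n - 1 < 2
      omega
    rw [if_pos h0] at e0
    rw [if_neg h1] at e1
    apply h2
    have : (1 : F) = -1 := by rw [e0, e1]
    calc (2 : F) = 1 + 1 := by norm_num
      _ = 1 + -1 := by rw [← this]
      _ = 0 := by ring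
  · rw [hxval]
    exact Cfsg.Agent.Helper43.PGLInv.rank_dmat_sub_one h2 2 (by omega)

end Cfsg.Agent.Helper70.Tens
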