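import Mathlib
import Cfsg.Agent.Helper44.TensDefs

/-!
# (EU) of helper44's S5979 engine (#7763): a transvection is a prime element of rank-one type
-/

set_option autoImplicit false
open scoped MatrixGroups

namespace Cfsg.Agent.Helper70.Tens

open Matrix Cfsg.Geo Cfsg.Agent.Helper44.QSim Cfsg.Agent.Helper44.Tens Polynomial
open scoped Kronecker

universe u

variable {F : Type u} [Field F] {n a b : ℕ}

/-- (EU) a transvection -/
theorem exists_transvection (p : ℕ) [Fact p.Prime] [CharP F p] (hn : 2 ≤ n) :
    ∃ x : GL (Fin n) F, IsPrimeElt p x ∧ ((x : Matrix (Fin n) (Fin n) F) - 1).rank = 1 := by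
  classical
  have hp : p.Prime := Fact.out
  have : Nonempty (Fin n) := ⟨⟨0, by omega⟩⟩
  have : CharP (Matrix (Fin n) (Fin n) F) p := Matrix.charP p
  set i0 : Fin n := ⟨0, by omega⟩ with hi0
  set i1 : Fin n := ⟨1, by omega⟩ with hi1
  have h01 : i0 ≠ i1 := by
    intro h
    have := congrArg Fin.val h
    simp [hi0, hi1] at this
  set N : Matrix (Fin n) (Fin n) F := Matrix.single i0 i1 1 with hN
  have hNN : N * N = 0 := by
    rw [hN, Matrix.single_mul_single_of_ne _ _ _ _ (Ne.symm h01)]
  have hinv1 : (1 + N) * (1 - N) = 1 := by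
    rw [mul_sub, mul_one, add_mul, one_mul, hNN]; abel
  have hinv2 : (1 - N) * (1 + N) = 1 := by
    rw [mul_add, mul_one, sub_mul, one_mul, hNN]; abel
  set x : GL (Fin n) F := ⟨1 + N, 1 - N, hinv1, hinv2⟩ with hx
  have hxval : (x : Matrix (Fin n) (Fin n) F) = 1 + N := rfl
  have hpow : (1 + N) ^ p = 1 := by
    have hNp : N ^ p = 0 := by
      obtain ⟨j, rfl⟩ : ∃ j, p = 2 + j := ⟨p - 2, by have := hp.two_le; omega⟩
      rw [pow_add, pow_two, hNN, zero_mul]
    rw [add_pow_char_of_commute p (Commute.one_left _), one_pow, hNp, add_zero]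
  have hdet : (1 + N).det = 1 := by
    have h1 : (1 + N).det ^ p = 1 := by
      rw [← Matrix.det_pow, hpow, Matrix.det_one]
    have h2 : ((1 + N).det - 1) ^ p = 0 := by
      rw [sub_pow_char, h1, one_pow, sub_self]
    exact sub_eq_zero.mp (pow_eq_zero_iff hp.ne_zero |>.mp h2)
  refine ⟨x, ⟨?_, ⟨1, ?_⟩, ?_⟩, ?_⟩
  · rw [mem_specialLinear_iff, hxval]
    exact hdet
  · rw [Units.val_pow_eq_pow_val, hxval, hpow, one_smul]
  · intro z hz
    rw [hxval] at hz
    have := congrFun (congrFun hz i0) i1
    simp [hN, Matrix.smul_apply, Matrix.one_apply_ne h01] at this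
  · rw [hxval, add_sub_cancel_left]
    apply le_antisymm
    · have hv : N = Matrix.vecMulVec (Pi.single i0 (1 : F)) (Pi.single i1 (1 : F)) := by
        ext i j
        rw [hN, Matrix.vecMulVec_apply, Matrix.single_apply]
        by_cases hi : i0 = i
        · by_cases hj : i1 = j
          · subst hi; subst hj; simp
          · subst hi
            rw [if_neg (fun h => hj h.2), Pi.single_eq_of_ne (Ne.symm hj), mul_zero]
        · rw [if_neg (fun h => hi h.1), Pi.single_eq_of_ne (Ne.symm hi), zero_mul]
      rw [hv]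
      exact Matrix.rank_vecMulVec_le _ _
    · rw [Nat.one_le_iff_ne_zero]
      intro h0
      have hN0 : N = 0 := by
        have h1 : LinearMap.range N.mulVecLin = ⊥ := by
          apply Submodule.finrank_eq_zero.mp
          exact h0
        have h2 : N.mulVecLin = 0 := LinearMap.range_eq_bot.mp h1
        have h3 : Matrix.toLin' N = 0 := h2
        exact (Matrix.toLin'.map_eq_zero_iff).mp h3
      have := congrFun (congrFun hN0 i0) i1
      rw [hN, Matrix.single_apply_same] at this
      exact one_ne_zero this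

end Cfsg.Agent.Helper70.Tens
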