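import Mathlib
import Cfsg.Agent.Helper99.QSpEllDefs
import Cfsg.Agent.Helper99.QSpGlue
import Cfsg.Agent.Helper4.QSpQE3
import Cfsg.Agent.Helper44.QTypeAniso

/-!
# Piece (ME5b) of helper99's elliptic counting engine (#6771, S5988 / S5990): all fibres of the
span map on elliptic frames have the same size.

Port of `Helper4.QSp.exists_card_qfiber_const` (`Helper4/QSpQE3.lean`).  The properties (ME4b) of
the span of an elliptic frame enter as the explicit hypothesis `hprops`; with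
`hprops := fun x hx => qeSpan_props Q hnd hζ hx` the statement is the skeleton's (ME5b) up to
unfolding `qeSpanMap`.
-/

set_option autoImplicit false
set_option linter.unusedSectionVars false
set_option linter.unusedVariables false
set_option linter.style.haveILetI false

namespace Cfsg.Agent.Helper70.QSpEll

open Module
open Cfsg.Agent.Helper99.SpStruct
open Cfsg.Agent.Helper44 Cfsg.Agent.Helper44.QType
open Cfsg.Agent.Helper99.QSp
open Cfsg.Agent.Helper94

universe u v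

variable {F : Type u} [Field F] [Fintype F]
variable {V : Type v} [AddCommGroup V] [Module F V] [FiniteDimensional F V]

/-- elliptic frames inside a subspace -/
def InQEFrames (Q : QuadraticForm F V) (ζ : F) (W : Submodule F V) (e : ℕ) : Type v :=
  {x : (Fin e → V × V) × (V × V) // IsQEFrame Q ζ x ∧
    (∀ a, (x.1 a).1 ∈ W ∧ (x.1 a).2 ∈ W) ∧ x.2.1 ∈ W ∧ x.2.2 ∈ W}

omit [Fintype F] in
/-- the span of an elliptic frame with all its vectors in `W` lies in `W` -/
theorem qeSpan_le {e : ℕ} (x : (Fin e → V × V) × (V × V)) {W : Submodule F V}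
    (h : ∀ a, (x.1 a).1 ∈ W ∧ (x.1 a).2 ∈ W) (h1 : x.2.1 ∈ W) (h2 : x.2.2 ∈ W) :
    qeSpan (F := F) x ≤ W := by
  unfold qeSpan
  refine sup_le (Tn.hSpan_le x.1 h) ?_
  rw [Submodule.span_le]
  intro y hy
  rcases hy with rfl | hy
  · exact h1
  · rw [Set.mem_singleton_iff] at hy
    rw [hy]
    exact h2

omit [Fintype F] in
theorem fst_mem_qeSpan {e : ℕ} (x : (Fin e → V × V) × (V × V)) (a : Fin e) :
    (x.1 a).1 ∈ qeSpan (F := F) x :=
  (le_sup_left : Tn.hSpan (F := F) x.1 ≤ qeSpan (F := F) x) (Tn.fst_mem_hSpan _ a)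

omit [Fintype F] in
theorem snd_mem_qeSpan {e : ℕ} (x : (Fin e → V × V) × (V × V)) (a : Fin e) :
    (x.1 a).2 ∈ qeSpan (F := F) x :=
  (le_sup_left : Tn.hSpan (F := F) x.1 ≤ qeSpan (F := F) x) (Tn.snd_mem_hSpan _ a)

omit [Fintype F] in
theorem efst_mem_qeSpan {e : ℕ} (x : (Fin e → V × V) × (V × V)) :
    x.2.1 ∈ qeSpan (F := F) x :=
  (le_sup_right : Submodule.span F {x.2.1, x.2.2} ≤ qeSpan (F := F) x)
    (Submodule.subset_span (Set.mem_insert _ _))

omit [Fintype F] in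
theorem esnd_mem_qeSpan {e : ℕ} (x : (Fin e → V × V) × (V × V)) :
    x.2.2 ∈ qeSpan (F := F) x :=
  (le_sup_right : Submodule.span F {x.2.1, x.2.2} ≤ qeSpan (F := F) x)
    (Submodule.subset_span (Set.mem_insert_of_mem _ (Set.mem_singleton _)))

theorem card_inQE_le (Q : QuadraticForm F V) (ζ : F) {W W' : Submodule F V}
    (g : ↥W ≃ₗ[F] ↥W') (hg : ∀ w, qSub Q W' (g w) = qSub Q W w) (e : ℕ) :
    Nat.card (InQEFrames Q ζ W e) ≤ Nat.card (InQEFrames Q ζ W' e) := by
  classical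
  haveI : Finite V := Module.finite_of_finite F
  haveI : Finite (InQEFrames Q ζ W' e) := by unfold InQEFrames; infer_instance
  have hiso := Cfsg.Agent.Helper4.QSp.isom_of_qSub Q g hg
  have hqq : ∀ (x : V) (hx : x ∈ W), Q (g ⟨x, hx⟩ : V) = Q x := by
    intro x hx
    have := hg ⟨x, hx⟩
    rw [qSub_apply, qSub_apply] at this
    exact this
  let φ : InQEFrames Q ζ W e → InQEFrames Q ζ W' e := fun x =>
    ⟨(fun a => ((g ⟨(x.1.1 a).1, (x.2.2.1 a).1⟩ : V), (g ⟨(x.1.1 a).2, (x.2.2.1 a).2⟩ : V)),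
      ((g ⟨x.1.2.1, x.2.2.2.1⟩ : V), (g ⟨x.1.2.2, x.2.2.2.2⟩ : V))), by
      obtain ⟨hfr, ho1, ho2, hep⟩ := x.2.1
      rw [Tn.mem_orth_hSpan] at ho1 ho2
      refine ⟨⟨⟨⟨fun a => ?_, fun a b hab => ?_⟩, fun a => ⟨?_, ?_⟩⟩, ?_, ?_, ?_, ?_, ?_⟩,
        fun a => ⟨Subtype.coe_prop _, Subtype.coe_prop _⟩, Subtype.coe_prop _,
        Subtype.coe_prop _⟩
      · obtain ⟨h1, h3, h4⟩ := hfr.1.1 a
        refine ⟨?_, ?_, ?_⟩
        · show pB Q (g _ : V) (g _ : V) = 0
          rw [hiso]; exact h1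
        · show pB Q (g _ : V) (g _ : V) = 0
          rw [hiso]; exact h3
        · show pB Q (g _ : V) (g _ : V) = 1
          rw [hiso]; exact h4
      · obtain ⟨h1, h3, h4, h5⟩ := hfr.1.2 a b hab
        refine ⟨?_, ?_, ?_, ?_⟩
        · show pB Q (g _ : V) (g _ : V) = 0
          rw [hiso]; exact h1
        · show pB Q (g _ : V) (g _ : V) = 0
          rw [hiso]; exact h3
        · show pB Q (g _ : V) (g _ : V) = 0
          rw [hiso]; exact h4
        · show pB Q (g _ : V) (g _ : V) = 0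
          rw [hiso]; exact h5
      · show Q (g _ : V) = 0
        rw [hqq]; exact (hfr.2 a).1
      · show Q (g _ : V) = 0
        rw [hqq]; exact (hfr.2 a).2
      · rw [Tn.mem_orth_hSpan]
        intro a
        refine ⟨?_, ?_⟩
        · show pB Q (g _ : V) (g _ : V) = 0
          rw [hiso]; exact (ho1 a).1
        · show pB Q (g _ : V) (g _ : V) = 0
          rw [hiso]; exact (ho1 a).2
      · rw [Tn.mem_orth_hSpan]
        intro a
        refine ⟨?_, ?_⟩
        · show pB Q (g _ : V) (g _ : V) = 0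
          rw [hiso]; exact (ho2 a).1
        · show pB Q (g _ : V) (g _ : V) = 0
          rw [hiso]; exact (ho2 a).2
      · show Q (g _ : V) = 1
        rw [hqq]; exact hep.1
      · show pB Q (g _ : V) (g _ : V) = 1
        rw [hiso]; exact hep.2.1
      · show Q (g _ : V) = ζ
        rw [hqq]; exact hep.2.2⟩
  apply Nat.card_le_card_of_injective φ
  intro s s' hss
  apply Subtype.ext
  have h0 := congrArg Subtype.val hss
  have hA := congrArg Prod.fst h0
  have hB := congrArg Prod.snd h0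
  refine Prod.ext ?_ (Prod.ext ?_ ?_)
  · funext a
    have h1 := congrFun hA a
    have h3 : (g ⟨(s.1.1 a).1, (s.2.2.1 a).1⟩ : V) = (g ⟨(s'.1.1 a).1, (s'.2.2.1 a).1⟩ : V) :=
      congrArg Prod.fst h1
    have h4 : (g ⟨(s.1.1 a).2, (s.2.2.1 a).2⟩ : V) = (g ⟨(s'.1.1 a).2, (s'.2.2.1 a).2⟩ : V) :=
      congrArg Prod.snd h1
    have h5 := congrArg Subtype.val (g.injective (Subtype.ext h3))
    have h6 := congrArg Subtype.val (g.injective (Subtype.ext h4))
    exact Prod.ext h5 h6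
  · have h3 : (g ⟨s.1.2.1, s.2.2.2.1⟩ : V) = (g ⟨s'.1.2.1, s'.2.2.2.1⟩ : V) :=
      congrArg Prod.fst hB
    exact congrArg Subtype.val (g.injective (Subtype.ext h3))
  · have h3 : (g ⟨s.1.2.2, s.2.2.2.2⟩ : V) = (g ⟨s'.1.2.2, s'.2.2.2.2⟩ : V) :=
      congrArg Prod.snd hB
    exact congrArg Subtype.val (g.injective (Subtype.ext h3))

variable (Q : QuadraticForm F V)

/-- the fibre of the span map on elliptic frames -/
noncomputable def qeSpanFiberEquiv {ζ : F} (e : ℕ)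
    (hprops : ∀ x : (Fin e → V × V) × (V × V), IsQEFrame Q ζ x →
      finrank F ↥(qeSpan (F := F) x) = 2 * (e + 1) ∧ Nd (pB Q) (qeSpan (F := F) x) ∧
        ¬ Hyp Q (qeSpan (F := F) x))
    (W : {W : Submodule F V // finrank F ↥W = 2 * (e + 1) ∧ Nd (pB Q) W ∧ ¬ Hyp Q W}) :
    {x : {x : (Fin e → V × V) × (V × V) // IsQEFrame Q ζ x} //
      (⟨qeSpan (F := F) x.1, hprops x.1 x.2⟩ :
        {W : Submodule F V // finrank F ↥W = 2 * (e + 1) ∧ Nd (pB Q) W ∧ ¬ Hyp Q W}) = W} ≃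
      InQEFrames Q ζ W.1 e where
  toFun x := ⟨x.1.1, x.1.2, by
    have h3 : qeSpan (F := F) x.1.1 = W.1 := congrArg Subtype.val x.2
    rw [← h3]
    exact ⟨fun a => ⟨fst_mem_qeSpan _ a, snd_mem_qeSpan _ a⟩, efst_mem_qeSpan _,
      esnd_mem_qeSpan _⟩⟩
  invFun x := ⟨⟨x.1, x.2.1⟩, by
    apply Subtype.ext
    show qeSpan (F := F) x.1 = W.1
    exact Submodule.eq_of_le_of_finrank_eq (qeSpan_le x.1 x.2.2.1 x.2.2.2.1 x.2.2.2.2)
      (by rw [(hprops x.1 x.2.1).1, W.2.1])⟩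
  left_inv x := rfl
  right_inv x := rfl

/-- a nondegenerate non-hyperbolic space of dimension `2 g` has type `-1` -/
theorem qType_neg_of_not_hyp {W : Submodule F V} (hW : Nd (pB Q) W) {g : ℕ}
    (hdim : finrank F ↥W = 2 * g) (hH : ¬ Hyp Q W) : QType Q W g (-1) := by
  obtain ⟨ε, hε, hty⟩ := exists_qType Q hW hdim
  rcases hε with rfl | rfl
  · exact absurd ((Cfsg.Agent.Helper99.QSpGlue.hyp_iff_qType Q hW hdim).mpr hty) hH
  · exact hty

/-- **(ME5b)** all fibres of the span map on elliptic frames have the same size; the properties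
(ME4b) of the span are the hypothesis `hprops`. -/
theorem exists_card_qefiber_const (hnd : (pB Q).Nondegenerate) {ζ : F}
    (hζ : ∀ t : F, t ^ 2 + t + ζ ≠ 0) (e : ℕ)
    (hprops : ∀ x : (Fin e → V × V) × (V × V), IsQEFrame Q ζ x →
      finrank F ↥(qeSpan (F := F) x) = 2 * (e + 1) ∧ Nd (pB Q) (qeSpan (F := F) x) ∧
        ¬ Hyp Q (qeSpan (F := F) x)) :
    ∃ N : ℕ, ∀ W : {W : Submodule F V // finrank F ↥W = 2 * (e + 1) ∧ Nd (pB Q) W ∧ ¬ Hyp Q W},
      Nat.card {x : {x : (Fin e → V × V) × (V × V) // IsQEFrame Q ζ x} //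
        (⟨qeSpan (F := F) x.1, hprops x.1 x.2⟩ :
          {W : Submodule F V // finrank F ↥W = 2 * (e + 1) ∧ Nd (pB Q) W ∧ ¬ Hyp Q W}) = W} =
        N := by
  by_cases hne : Nonempty {W : Submodule F V // finrank F ↥W = 2 * (e + 1) ∧ Nd (pB Q) W ∧
      ¬ Hyp Q W}
  · obtain ⟨W₀⟩ := hne
    refine ⟨Nat.card (InQEFrames Q ζ W₀.1 e), fun W => ?_⟩
    rw [Nat.card_congr (qeSpanFiberEquiv Q e hprops W)]
    have hty : QType Q W.1 (e + 1) (-1) := qType_neg_of_not_hyp Q W.2.2.1 W.2.1 W.2.2.2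
    have hty₀ : QType Q W₀.1 (e + 1) (-1) := qType_neg_of_not_hyp Q W₀.2.2.1 W₀.2.1 W₀.2.2.2
    obtain ⟨g, hg⟩ := exists_isometry_of_hasType (qSub Q W.1) (qSub Q W₀.1) W.2.1 W₀.2.1
      (qSub_nd Q W.2.2.1) (qSub_nd Q W₀.2.2.1) hty hty₀
    apply le_antisymm
    · exact card_inQE_le Q ζ g hg e
    · refine card_inQE_le Q ζ g.symm (fun w => ?_) e
      have := hg (g.symm w)
      rw [LinearEquiv.apply_symm_apply] at this
      exact this.symm
  · refine ⟨0, fun W => ?_⟩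
    exact absurd ⟨W⟩ hne

end Cfsg.Agent.Helper70.QSpEll
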