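import Mathlib
import Cfsg.Agent.Helper47.SGDefs

set_option autoImplicit false

/-!
# Shult–Gross (S3793), piece W5: the exceptional case `q = 2`, `p ^ b = 2 ^ k + 1` is impossible
(for helper47).
-/

namespace Cfsg.Agent.Helper70.SG

open scoped commutatorElement

/-- a list product over `List.range` as a `Finset.range` product -/
theorem list_range_map_prod {M : Type*} [CommMonoid M] (f : ℕ → M) (n : ℕ) :
    ((List.range n).map f).prod = ∏ i ∈ Finset.range n, f i := by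
  induction n with
  | zero => simp
  | succ n ih =>
    rw [List.range_succ, List.map_append, List.prod_append, ih, Finset.prod_range_succ]
    simp

/-- the product of a periodic function over a multiple of the period -/
theorem prod_range_periodic {M : Type*} [CommMonoid M] (f : ℕ → M) (m : ℕ)
    (hf : ∀ i, f (i + m) = f i) (t : ℕ) :
    ∏ i ∈ Finset.range (m * t), f i = (∏ i ∈ Finset.range m, f i) ^ t := by
  have hper : ∀ s i, f (m * s + i) = f i := by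
    intro s
    induction s with
    | zero => intro i; simp
    | succ s ih =>
      intro i
      rw [show m * (s + 1) + i = (m * s + i) + m by ring, hf, ih]
  induction t with
  | zero => simp
  | succ t ih =>
    rw [show m * (t + 1) = m * t + m by ring, Finset.prod_range_add, ih, pow_succ]
    congr 1
    exact Finset.prod_congr rfl (fun i _ => hper t i)

section Rep

variable {K : Type*} [Field K] {Γ : Type*} [Group Γ]

/-- W5 (a): the partial norm of `χ` is trivial on `Z`. -/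
theorem exceptional_norm [Finite Γ] (Z : Subgroup Γ) [Z.Normal] (χ : Γ → Kˣ)
    (hχmul : ∀ z ∈ Z, ∀ z' ∈ Z, χ (z * z') = χ z * χ z') (hχq : ∀ z ∈ Z, χ z ^ 2 = 1)
    (x : Γ) {p N j : ℕ} (hp : p.Prime) (hp2 : p ≠ 2) (hxord : orderOf x = p ^ N) (hjN : j < N)
    (hstab : ∀ z ∈ Z, χ (x ^ (p ^ j) * z * (x ^ (p ^ j))⁻¹) = χ z)
    (hZfix : ∀ z ∈ Z, x * z = z * x → z = 1) (z : Γ) (hz : z ∈ Z) :
    ∏ i ∈ Finset.range (p ^ j), χ (x ^ i * z * (x ^ i)⁻¹) = 1 := by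
  have hχ1 : χ 1 = 1 := by
    have := hχmul 1 Z.one_mem 1 Z.one_mem
    rw [mul_one] at this
    exact (left_eq_mul.mp this)
  let χZ : ↥Z →* Kˣ :=
    { toFun := fun z => χ z
      map_one' := hχ1
      map_mul' := fun a b => hχmul a a.2 b b.2 }
  let φ : ↥Z →* ↥Z := (MulAut.conjNormal x : MulAut ↥Z).toMonoidHom
  have hφfpf : MonoidHom.FixedPointFree φ := by
    intro w hw
    have h1 : x * (w : Γ) * x⁻¹ = w := by
      have := congrArg Subtype.val hw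
      simpa [φ, MulAut.conjNormal_apply] using this
    exact Subtype.ext (hZfix w w.2 (mul_inv_eq_iff_eq_mul.mp h1))
  have hφiter : ∀ (k : ℕ) (w : ↥Z), ((φ^[k]) w : Γ) = x ^ k * w * (x ^ k)⁻¹ := by
    intro k
    induction k with
    | zero => intro w; simp
    | succ k ih =>
      intro w
      rw [Function.iterate_succ_apply']
      have h1 : ((φ ((φ^[k]) w) : ↥Z) : Γ) = x * ((φ^[k]) w : Γ) * x⁻¹ := by
        simp [φ, MulAut.conjNormal_apply]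
      rw [h1, ih, pow_succ']
      group
  have hφN : φ^[p ^ N] = id := by
    funext w
    apply Subtype.ext
    rw [hφiter, ← hxord, pow_orderOf_eq_one]
    simp
  have hprod := hφfpf.prod_pow_eq_one hφN ⟨z, hz⟩
  have h2 := congrArg χZ hprod
  rw [map_list_prod, map_one, List.map_map, list_range_map_prod] at h2
  have h3 : ∏ i ∈ Finset.range (p ^ N), χ (x ^ i * z * (x ^ i)⁻¹) = 1 := by
    rw [← h2]
    refine Finset.prod_congr rfl (fun i _ => ?_)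
    change χ (x ^ i * z * (x ^ i)⁻¹) = χ (((φ^[i]) ⟨z, hz⟩ : ↥Z) : Γ)
    rw [hφiter]
  -- periodicity
  have hper : ∀ i, χ (x ^ (i + p ^ j) * z * (x ^ (i + p ^ j))⁻¹) = χ (x ^ i * z * (x ^ i)⁻¹) := by
    intro i
    have h4 : x ^ (i + p ^ j) * z * (x ^ (i + p ^ j))⁻¹
        = x ^ (p ^ j) * (x ^ i * z * (x ^ i)⁻¹) * (x ^ (p ^ j))⁻¹ := by
      rw [add_comm, pow_add]
      group
    rw [h4]
    exact hstab _ (‹Z.Normal›.conj_mem z hz _)
  have hNj : p ^ N = p ^ j * p ^ (N - j) := by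
    rw [← pow_add]
    congr 1
    omega
  rw [hNj, prod_range_periodic (fun i => χ (x ^ i * z * (x ^ i)⁻¹)) (p ^ j) hper] at h3
  set P := ∏ i ∈ Finset.range (p ^ j), χ (x ^ i * z * (x ^ i)⁻¹) with hP
  have hP2 : P ^ 2 = 1 := by
    rw [hP, ← Finset.prod_pow]
    exact Finset.prod_eq_one (fun i _ => hχq _ (‹Z.Normal›.conj_mem z hz _))
  have h5 : orderOf P ∣ Nat.gcd 2 (p ^ (N - j)) :=
    Nat.dvd_gcd (orderOf_dvd_of_pow_eq_one hP2) (orderOf_dvd_of_pow_eq_one h3)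
  have hcop : Nat.Coprime 2 (p ^ (N - j)) :=
    Nat.Coprime.pow_right _ ((Nat.coprime_primes Nat.prime_two hp).2 (Ne.symm hp2))
  rw [hcop.gcd_eq_one, Nat.dvd_one] at h5
  exact orderOf_eq_one_iff.mp h5

/-- W5: the exceptional case is impossible. -/
theorem exceptional [Finite Γ] (Q Z T₀ : Subgroup Γ) [Q.Normal] [Z.Normal] (hZQ : Z ≤ Q)
    (hcomm : ∀ a ∈ Q, ∀ b ∈ Q, ⁅a, b⁆ ∈ Z) (hZc : ∀ z ∈ Z, ∀ a ∈ Q, a * z = z * a)
    (hQ2 : IsPGroup 2 Q) (χ : Γ → Kˣ)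
    (hχmul : ∀ z ∈ Z, ∀ z' ∈ Z, χ (z * z') = χ z * χ z') (hχq : ∀ z ∈ Z, χ z ^ 2 = 1)
    (hT₀ : ∀ a, a ∈ T₀ ↔ a ∈ Q ∧ ∀ b ∈ Q, χ ⁅a, b⁆ = 1) (hT₀Q : T₀ ≠ Q)
    (x : Γ) {p N j k : ℕ} (hp : p.Prime) (hp2 : p ≠ 2) (hxord : orderOf x = p ^ N) (hjN : j < N)
    (hk : 1 ≤ k)
    (hstab : ∀ z ∈ Z, χ (x ^ (p ^ j) * z * (x ^ (p ^ j))⁻¹) = χ z)
    (hidx : T₀.relIndex Q = 2 ^ (2 * k))
    (hfi : Z.relIndex Q ≡ 1 [MOD p ^ N])
    (hnt : ∀ d : ℕ, 2 ^ d ≡ 1 [MOD p ^ N] → 2 * k * p ^ j ∣ d)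
    (hirr : ∀ U : Subgroup Γ, Z ≤ U → U ≤ Q → (∀ a ∈ U, x * a * x⁻¹ ∈ U) → U = Z ∨ U = Q)
    (hZfix : ∀ z ∈ Z, x * z = z * x → z = 1) : False := by
  have hQn : Q.Normal := inferInstance
  have hZn : Z.Normal := inferInstance
  have hpj : 0 < p ^ j := pow_pos hp.pos j
  have hχ1 : χ 1 = 1 := by
    have := hχmul 1 Z.one_mem 1 Z.one_mem
    rw [mul_one] at this
    exact (left_eq_mul.mp this)
  have hT₀Q' : T₀ ≤ Q := fun a ha => ((hT₀ a).1 ha).1
  have hZT₀ : Z ≤ T₀ := by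
    intro z hz
    refine (hT₀ z).2 ⟨hZQ hz, fun b hb => ?_⟩
    have h1 : ⁅z, b⁆ = 1 := by
      rw [commutatorElement_eq_one_iff_mul_comm]
      exact (hZc z hz b hb).symm
    rw [h1, hχ1]
  -- (a)
  have hPi : ∀ z ∈ Z, ∏ i ∈ Finset.range (p ^ j), χ (x ^ i * z * (x ^ i)⁻¹) = 1 :=
    fun z hz => exceptional_norm Z χ hχmul hχq x hp hp2 hxord hjN hstab hZfix z hz
  -- the subgroup `S'`
  let f : Fin (p ^ j - 1) → Subgroup Γ :=
    fun i => T₀.comap (MulAut.conj (x ^ ((i : ℕ) + 1)) : Γ →* Γ)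
  let S' : Subgroup Γ := Q ⊓ ⨅ i, f i
  have hfmem : ∀ (i : Fin (p ^ j - 1)) (a : Γ),
      a ∈ f i ↔ x ^ ((i : ℕ) + 1) * a * (x ^ ((i : ℕ) + 1))⁻¹ ∈ T₀ := fun i a => Iff.rfl
  have hS'mem : ∀ a, a ∈ S' ↔ a ∈ Q ∧ ∀ i, 0 < i → i < p ^ j → x ^ i * a * (x ^ i)⁻¹ ∈ T₀ := by
    intro a
    rw [show S' = Q ⊓ ⨅ i, f i from rfl, Subgroup.mem_inf, Subgroup.mem_iInf]
    constructor
    · rintro ⟨h1, h2⟩
      refine ⟨h1, fun i hi0 hi => ?_⟩
      have h3 := (hfmem ⟨i - 1, by omega⟩ a).1 (h2 ⟨i - 1, by omega⟩)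
      have h4 : (i - 1) + 1 = i := Nat.sub_add_cancel hi0
      rw [show ((⟨i - 1, by omega⟩ : Fin (p ^ j - 1)) : ℕ) = i - 1 from rfl, h4] at h3
      exact h3
    · rintro ⟨h1, h2⟩
      exact ⟨h1, fun i => (hfmem i a).2 (h2 _ (Nat.succ_pos _) (by have := i.2; omega))⟩
  -- (b)
  have hS'T₀ : S' ≤ T₀ := by
    intro a ha
    obtain ⟨haQ, hai⟩ := (hS'mem a).1 ha
    refine (hT₀ a).2 ⟨haQ, fun b hb => ?_⟩
    have hz : ⁅a, b⁆ ∈ Z := hcomm a haQ b hb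
    have h1 := hPi _ hz
    rw [Finset.prod_eq_single_of_mem 0 (Finset.mem_range.2 hpj)] at h1
    · simpa using h1
    · intro i hi hne
      have h2 : x ^ i * ⁅a, b⁆ * (x ^ i)⁻¹ = ⁅x ^ i * a * (x ^ i)⁻¹, x ^ i * b * (x ^ i)⁻¹⁆ := by
        simp only [commutatorElement_def]
        group
      rw [h2]
      exact ((hT₀ _).1 (hai i (Nat.pos_of_ne_zero hne) (Finset.mem_range.1 hi))).2 _
        (hQn.conj_mem b hb _)
  -- `T₀` is invariant under `y = x ^ (p ^ j)`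
  have hT₀y : ∀ a ∈ T₀, x ^ (p ^ j) * a * (x ^ (p ^ j))⁻¹ ∈ T₀ := by
    intro a ha
    obtain ⟨haQ, hab⟩ := (hT₀ a).1 ha
    refine (hT₀ _).2 ⟨hQn.conj_mem a haQ _, fun b hb => ?_⟩
    set y := x ^ (p ^ j) with hy
    have hb' : y⁻¹ * b * y ∈ Q := by
      have := hQn.conj_mem b hb y⁻¹
      simpa using this
    have h2 : ⁅y * a * y⁻¹, b⁆ = y * ⁅a, y⁻¹ * b * y⁆ * y⁻¹ := by
      simp only [commutatorElement_def]
      group
    rw [h2, hstab _ (hcomm a haQ _ hb')]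
    exact hab _ hb'
  -- (c)
  have hS'x : ∀ a ∈ S', x * a * x⁻¹ ∈ S' := by
    intro a ha
    obtain ⟨haQ, hai⟩ := (hS'mem a).1 ha
    refine (hS'mem _).2 ⟨hQn.conj_mem a haQ _, fun i hi0 hi => ?_⟩
    have h2 : x ^ i * (x * a * x⁻¹) * (x ^ i)⁻¹ = x ^ (i + 1) * a * (x ^ (i + 1))⁻¹ := by
      rw [pow_succ]
      group
    rw [h2]
    rcases Nat.lt_or_ge (i + 1) (p ^ j) with h3 | h3
    · exact hai (i + 1) (Nat.succ_pos _) h3
    · have h4 : i + 1 = p ^ j := by omega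
      rw [h4]
      exact hT₀y a (hS'T₀ ha)
  have hZS' : Z ≤ S' := by
    intro z hz
    exact (hS'mem z).2 ⟨hZQ hz, fun i _ _ => hZT₀ (hZn.conj_mem z hz _)⟩
  have hS'Q : S' ≤ Q := inf_le_left
  have hS'Z : S' = Z := by
    rcases hirr S' hZS' hS'Q hS'x with h | h
    · exact h
    · exfalso
      apply hT₀Q
      apply le_antisymm hT₀Q'
      rw [← h]
      exact hS'T₀
  -- (d)
  have hfi_eq : ∀ i, (f i).relIndex Q = 2 ^ (2 * k) := by
    intro i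
    simp only [f]
    rw [Subgroup.relIndex_comap, Subgroup.Normal.map_conj_eq, hidx]
  have hle : Z.relIndex Q ≤ (2 ^ (2 * k)) ^ (p ^ j - 1) := by
    calc Z.relIndex Q = S'.relIndex Q := by rw [hS'Z]
      _ = (⨅ i, f i).relIndex Q := Subgroup.inf_relIndex_left _ _
      _ ≤ ∏ i, (f i).relIndex Q := Subgroup.relIndex_iInf_le f
      _ = (2 ^ (2 * k)) ^ (p ^ j - 1) := by
        rw [Finset.prod_congr rfl (fun i _ => hfi_eq i)]
        simp
  -- (e)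
  have : Finite ↥Q := inferInstance
  obtain ⟨d, hd⟩ := hQ2.index (Z.subgroupOf Q)
  have hd' : Z.relIndex Q = 2 ^ d := hd
  have hd0 : d ≠ 0 := by
    rintro rfl
    rw [pow_zero, Subgroup.relIndex_eq_one] at hd'
    exact hT₀Q (le_antisymm hT₀Q' (hd'.trans hZT₀))
  rw [hd'] at hfi hle
  have hdvd := hnt d hfi
  have h1 : 2 * k * p ^ j ≤ d := Nat.le_of_dvd (Nat.pos_of_ne_zero hd0) hdvd
  rw [← pow_mul] at hle
  have h2 : d ≤ 2 * k * (p ^ j - 1) := (Nat.pow_le_pow_iff_right (by norm_num)).1 hle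
  have h3 : 2 * k * (p ^ j - 1) < 2 * k * p ^ j := by
    apply Nat.mul_lt_mul_of_pos_left
    · omega
    · omega
  omega

end Rep

end Cfsg.Agent.Helper70.SG
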