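import Mathlib

/-!
# (AR1) of helper54's S0998 engine (#7605)
-/

set_option autoImplicit false

namespace Cfsg.Agent.Helper70.BT

/-- (AR1) -/
theorem q_dvd_of_modEq (p q r b d : ℕ) (hp : p.Prime) (hq : q.Prime) (hr : r.Prime) (hrp : r < p)
    (hr2 : r ≠ 2) (hd : d ∣ r * q ^ b) (hd1 : d ≠ 1)
    (hmod : (d : ℤ) ≡ 1 [ZMOD p] ∨ (d : ℤ) ≡ -1 [ZMOD p]) : q ∣ d := by
  by_contra hqd
  have hcop : Nat.Coprime d (q ^ b) :=
    Nat.Coprime.pow_right b ((Nat.Prime.coprime_iff_not_dvd hq).mpr hqd).symm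
  have hdr : d ∣ r := hcop.dvd_of_dvd_mul_right hd
  have hdr' : d = r := by
    rcases (Nat.dvd_prime hr).mp hdr with h | h
    · exact absurd h hd1
    · exact h
  subst hdr'
  have hr3 : 3 ≤ d := by
    have := hr.two_le
    omega
  rcases hmod with h | h
  · -- p ∣ d - 1
    have h1 : (p : ℤ) ∣ (d : ℤ) - 1 := (Int.modEq_iff_dvd.mp h.symm)
    have h2 : (p : ℤ) ∣ ((d - 1 : ℕ) : ℤ) := by
      rw [Nat.cast_sub (by omega)]
      simpa using h1
    have h3 : p ∣ d - 1 := Int.natCast_dvd_natCast.mp h2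
    have := Nat.le_of_dvd (by omega) h3
    omega
  · have h1 : (p : ℤ) ∣ (d : ℤ) - (-1) := (Int.modEq_iff_dvd.mp h.symm)
    have h2 : (p : ℤ) ∣ ((d + 1 : ℕ) : ℤ) := by
      push_cast
      simpa using h1
    have h3 : p ∣ d + 1 := Int.natCast_dvd_natCast.mp h2
    have h4 := Nat.le_of_dvd (by omega) h3
    have hpd : p = d + 1 := by omega
    -- `d` is odd, so `p` is even
    have hodd : d % 2 = 1 := by
      rcases hr.eq_two_or_odd with h | h
      · exact absurd h hr2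
      · exact h
    have hp2 : 2 ∣ p := by omega
    have := (Nat.prime_dvd_prime_iff_eq Nat.prime_two hp).mp hp2
    omega

end Cfsg.Agent.Helper70.BT
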