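import Mathlib

/-!
# (AR3) of helper54's S0998 engine (#7605)
-/

set_option autoImplicit false

namespace Cfsg.Agent.Helper70.BT

/-- (AR3) case `δ = -1`: `e = 2^c` -/
theorem arith_minus_e (p q r b e : ℕ) (hp : p.Prime) (hq : q.Prime) (hr : r.Prime) (hr2 : r ≠ 2)
    (hrp : r < p) (her : e + r = p) (hdvd : e ∣ r * q ^ b) : q = 2 ∧ ∃ c : ℕ, 1 ≤ c ∧ e = 2 ^ c := by
  have hrodd : r % 2 = 1 := by
    rcases hr.eq_two_or_odd with h | h
    · exact absurd h hr2
    · exact h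
  have hr2' := hr.two_le
  have hpodd : p % 2 = 1 := by
    rcases hp.eq_two_or_odd with h | h
    · omega
    · exact h
  have he2 : 2 ∣ e := by omega
  have hre : ¬ r ∣ e := by
    intro h
    have hrp' : r ∣ p := by
      rw [← her]
      exact Dvd.dvd.add h dvd_rfl
    have := (Nat.prime_dvd_prime_iff_eq hr hp).mp hrp'
    omega
  have hcop : Nat.Coprime e r := ((Nat.Prime.coprime_iff_not_dvd hr).mpr hre).symm
  have heq : e ∣ q ^ b := hcop.dvd_of_dvd_mul_left hdvd
  obtain ⟨c, hcb, hc⟩ := (Nat.dvd_prime_pow hq).mp heq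
  have h2q : 2 ∣ q := by
    rw [hc] at he2
    exact Nat.Prime.dvd_of_dvd_pow Nat.prime_two he2
  have hq2 : q = 2 := ((Nat.prime_dvd_prime_iff_eq Nat.prime_two hq).mp h2q).symm
  refine ⟨hq2, c, ?_, ?_⟩
  · rcases Nat.eq_zero_or_pos c with h0 | h0
    · rw [h0, pow_zero] at hc
      omega
    · exact h0
  · rw [hc, hq2]

end Cfsg.Agent.Helper70.BT
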