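import Mathlib

/-!
# S3614 (helper58), piece (ORB): the centralizer of an element of prime order permutes its
non-trivial orbits
-/

set_option autoImplicit false

namespace Cfsg.Agent.Helper70.N4

open MulAction
open scoped Pointwise

section

variable {G Ω : Type*} [Group G] [MulAction G Ω]

theorem ORB_comm (ρ : G) (c : ↥(Subgroup.centralizer ({ρ} : Set G))) : Commute ρ (c : G) :=
  Subgroup.mem_centralizer_iff.mp c.2 ρ (Set.mem_singleton ρ)

theorem ORB_comm_z (ρ : G) (c : ↥(Subgroup.centralizer ({ρ} : Set G))) (z : G)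
    (hz : z ∈ Subgroup.zpowers ρ) : Commute z (c : G) := by
  obtain ⟨n, rfl⟩ := Subgroup.mem_zpowers_iff.mp hz
  exact (ORB_comm ρ c).zpow_left n

/-- an element of the centralizer of `ρ` maps `⟨ρ⟩`-orbits to `⟨ρ⟩`-orbits -/
theorem ORB_smul_orbit (ρ : G) (c : ↥(Subgroup.centralizer ({ρ} : Set G))) (x : Ω) :
    c • orbit (Subgroup.zpowers ρ) x = orbit (Subgroup.zpowers ρ) ((c : G) • x) := by
  ext y
  constructor
  · rintro ⟨_, ⟨z, rfl⟩, rfl⟩
    refine ⟨z, ?_⟩
    show (z : G) • ((c : G) • x) = (c : G) • ((z : G) • x)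
    rw [smul_smul, smul_smul, (ORB_comm_z ρ c z z.2).eq]
  · rintro ⟨z, rfl⟩
    refine ⟨(z : G) • x, ⟨z, rfl⟩, ?_⟩
    show (c : G) • ((z : G) • x) = (z : G) • ((c : G) • x)
    rw [smul_smul, smul_smul, (ORB_comm_z ρ c z z.2).eq]

/-- the centralizer of `ρ` preserves the set of points moved by `ρ` -/
theorem ORB_moved_smul (ρ : G) (c : ↥(Subgroup.centralizer ({ρ} : Set G))) (x : Ω)
    (hx : ρ • x ≠ x) : ρ • ((c : G) • x) ≠ (c : G) • x := by
  intro h
  apply hx
  rw [smul_smul, (ORB_comm ρ c).eq, ← smul_smul] at h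
  exact smul_left_cancel _ h

/-- the set of non-trivial `⟨ρ⟩`-orbits, as a sub-action of the centralizer of `ρ` on `Set Ω` -/
def movedOrbits (ρ : G) : SubMulAction ↥(Subgroup.centralizer ({ρ} : Set G)) (Set Ω) where
  carrier := {s | ∃ x : Ω, ρ • x ≠ x ∧ s = orbit (Subgroup.zpowers ρ) x}
  smul_mem' := by
    rintro c _ ⟨x, hx, rfl⟩
    exact ⟨(c : G) • x, ORB_moved_smul ρ c x hx, ORB_smul_orbit ρ c x⟩

/-- the points of a non-trivial orbit are moved -/
theorem ORB_moved_of_mem (ρ : G) (x y : Ω) (hx : ρ • x ≠ x)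
    (hy : y ∈ orbit (Subgroup.zpowers ρ) x) : ρ • y ≠ y := by
  obtain ⟨z, rfl⟩ := hy
  intro h
  apply hx
  have hz : Commute ρ (z : G) := by
    obtain ⟨n, hn⟩ := Subgroup.mem_zpowers_iff.mp z.2
    rw [← hn]
    exact (Commute.refl ρ).zpow_right n
  have h' : ρ • ((z : G) • x) = (z : G) • x := h
  rw [smul_smul, hz.eq, ← smul_smul] at h'
  exact smul_left_cancel _ h'

/-- a non-trivial orbit of an element with `ρ ^ r = 1`, `r` prime, has `r` points -/
theorem ORB_card_orbit (ρ : G) (r : ℕ) (hr : r.Prime) (hρ : ρ ^ r = 1) (x : Ω) (hx : ρ • x ≠ x)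
    [Fintype (orbit (Subgroup.zpowers ρ) x)] :
    Fintype.card (orbit (Subgroup.zpowers ρ) x) = r := by
  rw [← MulAction.minimalPeriod_eq_card]
  have h1 : Function.IsPeriodicPt (ρ • · : Ω → Ω) r x := by
    show (ρ • · : Ω → Ω)^[r] x = x
    rw [smul_iterate, hρ]
    exact one_smul G x
  have h2 := h1.minimalPeriod_dvd
  rcases (Nat.dvd_prime hr).mp h2 with h3 | h3
  · exfalso
    exact hx (Function.minimalPeriod_eq_one_iff_isFixedPt.mp h3)
  · exact h3

end

/-- (ORB) the centralizer of an element `ρ` of prime order `r` with `k` non-trivial orbits permutes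
these orbits; an element acting trivially on the orbits has `r`-th power fixing the support of `ρ`
pointwise -/
theorem exists_orbit_hom {G Ω : Type*} [Group G] [MulAction G Ω] [Fintype Ω] [DecidableEq Ω]
    (ρ : G) (r k : ℕ) (hr : r.Prime) (hρ : ρ ^ r = 1)
    (hcard : Fintype.card Ω = k * r + (Finset.univ.filter (fun x : Ω => ρ • x = x)).card) :
    ∃ ψ : ↥(Subgroup.centralizer ({ρ} : Set G)) →* Equiv.Perm (Fin k),
      ∀ c : ↥(Subgroup.centralizer ({ρ} : Set G)), ψ c = 1 →
        ∀ x : Ω, ρ • x ≠ x → ((c : G) ^ r) • x = x := by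
  classical
  set T := movedOrbits (Ω := Ω) ρ with hT
  haveI : Fintype ↥T := Fintype.ofFinite _
  -- the map from the moved points to their orbits
  let f : {x : Ω // ρ • x ≠ x} → ↥T :=
    fun x => ⟨orbit (Subgroup.zpowers ρ) x.1, x.1, x.2, rfl⟩
  have hfib : ∀ t : ↥T, Fintype.card {x : {x : Ω // ρ • x ≠ x} // f x = t} = r := by
    rintro ⟨_, x₀, hx₀, rfl⟩
    rw [← ORB_card_orbit ρ r hr hρ x₀ hx₀]
    apply Fintype.card_congr
    refine ⟨fun x => ⟨x.1.1, ?_⟩, fun y => ⟨⟨y.1, ORB_moved_of_mem ρ x₀ y.1 hx₀ y.2⟩, ?_⟩, ?_, ?_⟩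
    · have h1 : orbit (Subgroup.zpowers ρ) x.1.1 = orbit (Subgroup.zpowers ρ) x₀ :=
        congrArg Subtype.val x.2
      exact MulAction.orbit_eq_iff.mp h1
    · apply Subtype.ext
      exact MulAction.orbit_eq_iff.mpr y.2
    · intro x
      rfl
    · intro y
      rfl
  have hcardM : Fintype.card {x : Ω // ρ • x ≠ x} = Fintype.card ↥T * r := by
    rw [← Fintype.card_congr (Equiv.sigmaFiberEquiv f), Fintype.card_sigma]
    simp only [hfib, Finset.sum_const, Finset.card_univ, smul_eq_mul]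
  have hcardΩ : Fintype.card Ω = Fintype.card {x : Ω // ρ • x ≠ x} +
      (Finset.univ.filter (fun x : Ω => ρ • x = x)).card := by
    rw [Fintype.card_subtype, ← Finset.card_univ (α := Ω), add_comm]
    exact (Finset.card_filter_add_card_filter_not (fun x : Ω => ρ • x = x)).symm
  have hk : Fintype.card ↥T = k := by
    have h1 : Fintype.card ↥T * r = k * r := by omega
    exact Nat.eq_of_mul_eq_mul_right hr.pos h1
  let e : ↥T ≃ Fin k := Fintype.equivFinOfCardEq hk
  refine ⟨(e.permCongrHom.toMonoidHom).comp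
    (MulAction.toPermHom ↥(Subgroup.centralizer ({ρ} : Set G)) ↥T), ?_⟩
  intro c hc x hx
  have h1 : MulAction.toPermHom ↥(Subgroup.centralizer ({ρ} : Set G)) ↥T c = 1 := by
    have h2 : e.permCongrHom (MulAction.toPermHom ↥(Subgroup.centralizer ({ρ} : Set G)) ↥T c) =
        e.permCongrHom 1 := by
      rw [map_one]
      exact hc
    exact e.permCongrHom.injective h2
  -- `c` fixes the orbit of `x`
  have h3 : c • (⟨orbit (Subgroup.zpowers ρ) x, x, hx, rfl⟩ : ↥T) =
      ⟨orbit (Subgroup.zpowers ρ) x, x, hx, rfl⟩ := by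
    have h4 := congrArg (fun σ : Equiv.Perm ↥T => σ ⟨orbit (Subgroup.zpowers ρ) x, x, hx, rfl⟩) h1
    exact h4
  have h5 : c • orbit (Subgroup.zpowers ρ) x = orbit (Subgroup.zpowers ρ) x :=
    congrArg Subtype.val h3
  have h6 : (c : G) • x ∈ orbit (Subgroup.zpowers ρ) x := by
    rw [← h5]
    exact ⟨x, MulAction.mem_orbit_self x, rfl⟩
  obtain ⟨z, hz⟩ := h6
  have hz' : (z : G) • x = (c : G) • x := hz
  have hcz : Commute (z : G) (c : G) := ORB_comm_z ρ c z z.2
  have hpow : ∀ j : ℕ, ((c : G) ^ j) • x = ((z : G) ^ j) • x := by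
    intro j
    induction j with
    | zero => simp
    | succ j ih =>
      rw [pow_succ, ← smul_smul, ← hz', smul_smul, ← (hcz.pow_right j).eq, ← smul_smul, ih,
        smul_smul, ← pow_succ']
  rw [hpow r]
  obtain ⟨n, hn⟩ := Subgroup.mem_zpowers_iff.mp z.2
  rw [← hn, ← zpow_natCast, ← zpow_mul, mul_comm, zpow_mul, zpow_natCast, hρ, one_zpow, one_smul]

end Cfsg.Agent.Helper70.N4
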