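import Mathlib

/-!
# S3614 (helper58), piece (WITT): Witt's lemma, transitivity-free form
-/

set_option autoImplicit false

namespace Cfsg.Agent.Helper70.N4

open MulAction
open scoped Pointwise

/-- two `r`-subgroups of `K`, of maximal order among the `r`-subgroups of `K`, are conjugate
in `K` -/
theorem exists_conj_of_max {G : Type*} [Group G] [Finite G] {r : ℕ} [Fact r.Prime]
    (K U W : Subgroup G) (hU : IsPGroup r U) (hW : IsPGroup r W) (hUK : U ≤ K) (hWK : W ≤ K)
    (hmax : ∀ V : Subgroup G, IsPGroup r V → V ≤ K → Nat.card V ≤ Nat.card U)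
    (hcard : Nat.card W = Nat.card U) :
    ∃ h ∈ K, ∀ w ∈ W, h * w * h⁻¹ ∈ U := by
  have key : ∀ V : Subgroup G, IsPGroup r V → V ≤ K → Nat.card V = Nat.card U →
      ∃ Q : Sylow r K, (Q : Subgroup K) = V.subgroupOf K := by
    intro V hV hVK hVc
    obtain ⟨Q, hQ⟩ := (hV.comap_subtype (K := K)).exists_le_sylow
    refine ⟨Q, ?_⟩
    symm
    have hQ' : V.subgroupOf K ≤ (Q : Subgroup K) := hQ
    apply Subgroup.eq_of_le_of_card_ge hQ'
    have h1 : Nat.card (((Q : Subgroup K)).map K.subtype) = Nat.card (Q : Subgroup K) :=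
      Subgroup.card_subtype K (Q : Subgroup K)
    have h2 := hmax ((Q : Subgroup K).map K.subtype) (Q.2.map _) (Subgroup.map_subtype_le _)
    have h3 : Nat.card (V.subgroupOf K) = Nat.card V :=
      Nat.card_congr (Subgroup.subgroupOfEquivOfLe hVK).toEquiv
    omega
  obtain ⟨Q1, hQ1⟩ := key U hU hUK rfl
  obtain ⟨Q2, hQ2⟩ := key W hW hWK hcard
  obtain ⟨h, hh⟩ := MulAction.exists_smul_eq K Q2 Q1
  refine ⟨h, h.2, ?_⟩
  intro w hw
  have h1 : (⟨w, hWK hw⟩ : K) ∈ (Q2 : Subgroup K) := by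
    rw [hQ2]
    exact Subgroup.mem_subgroupOf.mpr hw
  have h2 : h * ⟨w, hWK hw⟩ * h⁻¹ ∈ ((h • Q2 : Sylow r K) : Subgroup K) := by
    rw [Sylow.smul_def, Sylow.pointwise_smul_def]
    exact Subgroup.smul_mem_pointwise_smul _ (MulAut.conj h) _ h1
  rw [hh, hQ1] at h2
  exact Subgroup.mem_subgroupOf.mp h2

/-- (WITT) Witt's lemma, transitivity-free form -/
theorem exists_mem_normalizer_smul_eq {G Ω : Type*} [Group G] [Finite G] [MulAction G Ω]
    {r : ℕ} [Fact r.Prime] (S : Set Ω) (U : Subgroup G) (hU : IsPGroup r U)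
    (hUS : U ≤ fixingSubgroup G S)
    (hmax : ∀ V : Subgroup G, IsPGroup r V → V ≤ fixingSubgroup G S → Nat.card V ≤ Nat.card U)
    (g : G) (hg : ∀ s ∈ S, ∀ u ∈ U, u • (g • s) = g • s) :
    ∃ n ∈ Subgroup.normalizer ((U : Subgroup G) : Set G), ∀ s ∈ S, n • s = g • s := by
  set K : Subgroup G := fixingSubgroup G S with hK
  set K' : Subgroup G := K.map (MulAut.conj g).toMonoidHom with hK'
  have hmemK' : ∀ x, x ∈ K' ↔ g⁻¹ * x * g ∈ K := by
    intro x
    rw [hK', Subgroup.mem_map]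
    constructor
    · rintro ⟨k, hk, rfl⟩
      have e : g⁻¹ * ((MulAut.conj g).toMonoidHom k) * g = k := by
        simp [MulAut.conj_apply, mul_assoc]
      rw [e]
      exact hk
    · intro hx
      exact ⟨g⁻¹ * x * g, hx, by simp [MulAut.conj_apply, mul_assoc]⟩
  have hKfix : ∀ x ∈ K', ∀ s ∈ S, x • (g • s) = g • s := by
    intro x hx s hs
    have h1 := (hmemK' x).mp hx
    have h2 : (g⁻¹ * x * g) • s = s := (mem_fixingSubgroup_iff G).mp h1 s hs
    rw [mul_smul, mul_smul] at h2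
    have h3 := congrArg (fun y => g • y) h2
    simpa using h3
  set W : Subgroup G := U.map (MulAut.conj g).toMonoidHom with hWdef
  have hUK' : U ≤ K' := by
    intro u hu
    rw [hmemK']
    apply (mem_fixingSubgroup_iff G).mpr
    intro s hs
    rw [mul_smul, mul_smul, hg s hs u hu, inv_smul_smul]
  have hWK' : W ≤ K' := Subgroup.map_mono hUS
  have hW : IsPGroup r W := hU.map _
  have hcardW : Nat.card W = Nat.card U :=
    Subgroup.card_map_of_injective (MulAut.conj g).injective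
  have hmax' : ∀ V : Subgroup G, IsPGroup r V → V ≤ K' → Nat.card V ≤ Nat.card U := by
    intro V hV hVK
    have h1 := hmax (V.map (MulAut.conj g⁻¹).toMonoidHom) (hV.map _) (by
      rintro _ ⟨v, hv, rfl⟩
      have h2 := (hmemK' v).mp (hVK hv)
      have e : (MulAut.conj g⁻¹).toMonoidHom v = g⁻¹ * v * g := by
        simp [MulAut.conj_apply]
      rw [e]
      exact h2)
    rwa [Subgroup.card_map_of_injective (MulAut.conj g⁻¹).injective] at h1
  obtain ⟨h, hhK, hh⟩ := exists_conj_of_max K' U W hU hW hUK' hWK' hmax' hcardW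
  refine ⟨h * g, ?_, ?_⟩
  · apply Subgroup.mem_normalizer_fintype
    intro u hu
    have h1 := hh (g * u * g⁻¹) (Subgroup.mem_map.mpr ⟨u, hu, by simp [MulAut.conj_apply]⟩)
    have e : h * g * u * (h * g)⁻¹ = h * (g * u * g⁻¹) * h⁻¹ := by group
    rw [e]
    exact h1
  · intro s hs
    rw [mul_smul, hKfix h hhK s hs]

end Cfsg.Agent.Helper70.N4
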