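import Cfsg.Agent.Helper6.SPweil1
import Cfsg.Agent.Helper70.SPWW3

/-!
# (W4) of helper6's S2347 Weil engine (#8107): existence of intertwiners (Skolem–Noether)
-/

set_option autoImplicit false

namespace Cfsg.Agent.Helper70.SPweil

open Matrix Module
open Cfsg.Agent.Helper6.SPweil
open Cfsg.Agent.Helper65.SPweil (heis_mul heis_zero)

variable {F : Type*} [Field F] [Fintype F] {n : ℕ}

/-- (W4) Skolem–Noether -/
theorem exists_intertwiner (h2 : (2 : F) ≠ 0) (ψ : AddChar F ℂ) (hψ : ψ ≠ 0)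
    (g : Matrix.symplecticGroup (Fin n) F) :
    ∃ T : ((Fin n → F) → ℂ) ≃ₗ[ℂ] ((Fin n → F) → ℂ), Intertwines ψ g T := by
  classical
  set b : Basis (Fin n ⊕ Fin n → F) ℂ (Module.End ℂ ((Fin n → F) → ℂ)) :=
    Basis.mk (linearIndependent_heis h2 ψ hψ) (span_heis h2 ψ hψ).ge with hb
  have hbv : ∀ v, b v = heis ψ v := fun v => by rw [hb, Basis.mk_apply]
  set G : Matrix (Fin n ⊕ Fin n) (Fin n ⊕ Fin n) F :=
    (g : Matrix (Fin n ⊕ Fin n) (Fin n ⊕ Fin n) F) with hG
  set G' : Matrix (Fin n ⊕ Fin n) (Fin n ⊕ Fin n) F :=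
    ((g⁻¹ : Matrix.symplecticGroup (Fin n) F) : Matrix (Fin n ⊕ Fin n) (Fin n ⊕ Fin n) F) with hG'
  have hGG' : G * G' = 1 := by
    have := congrArg (fun a : Matrix.symplecticGroup (Fin n) F =>
      (a : Matrix (Fin n ⊕ Fin n) (Fin n ⊕ Fin n) F)) (mul_inv_cancel g)
    exact this
  have hG'G : G' * G = 1 := by
    have := congrArg (fun a : Matrix.symplecticGroup (Fin n) F =>
      (a : Matrix (Fin n ⊕ Fin n) (Fin n ⊕ Fin n) F)) (inv_mul_cancel g)
    exact this
  let e : (Fin n ⊕ Fin n → F) ≃ (Fin n ⊕ Fin n → F) :=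
    { toFun := fun v => G *ᵥ v
      invFun := fun v => G' *ᵥ v
      left_inv := by
        intro v
        show G' *ᵥ (G *ᵥ v) = v
        rw [Matrix.mulVec_mulVec, hG'G, Matrix.one_mulVec]
      right_inv := by
        intro v
        show G *ᵥ (G' *ᵥ v) = v
        rw [Matrix.mulVec_mulVec, hGG', Matrix.one_mulVec] }
  set α : Module.End ℂ ((Fin n → F) → ℂ) ≃ₗ[ℂ] Module.End ℂ ((Fin n → F) → ℂ) :=
    b.equiv b e with hαdef
  have hα : ∀ v, α (heis ψ v) = heis ψ (G *ᵥ v) := by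
    intro v
    rw [← hbv, hαdef, Basis.equiv_apply, hbv]
    rfl
  have hpres : ∀ u v : Fin n ⊕ Fin n → F,
      Cfsg.sympForm n F (G *ᵥ u) (G *ᵥ v) = Cfsg.sympForm n F u v :=
    (Cfsg.Agent.Helper13.mem_symplecticGroup_iff_preserves G).mp g.2
  have hmul : ∀ A A' : Module.End ℂ ((Fin n → F) → ℂ), α (A * A') = α A * α A' := by
    have hbil : (LinearMap.mul ℂ (Module.End ℂ ((Fin n → F) → ℂ))).compr₂ α.toLinearMap =
        (LinearMap.mul ℂ (Module.End ℂ ((Fin n → F) → ℂ))).compl₁₂ α.toLinearMap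
          α.toLinearMap := by
      apply LinearMap.ext_basis b b
      intro v w
      rw [LinearMap.compr₂_apply, LinearMap.compl₁₂_apply, LinearMap.mul_apply',
        LinearMap.mul_apply', LinearEquiv.coe_coe, hbv, hbv, heis_mul h2, map_smul, hα, hα, hα,
        heis_mul h2, hpres, Matrix.mulVec_add]
    intro A A'
    have h1 := LinearMap.congr_fun (LinearMap.congr_fun hbil A) A'
    rw [LinearMap.compr₂_apply, LinearMap.compl₁₂_apply, LinearMap.mul_apply',
      LinearMap.mul_apply'] at h1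
    exact h1
  have hone : α 1 = 1 := by
    rw [← heis_zero (n := n) ψ, hα, Matrix.mulVec_zero]
  obtain ⟨T, hT⟩ := (AlgEquiv.ofLinearEquiv α hone hmul).eq_linearEquivConjAlgEquiv
  refine ⟨T, ?_⟩
  intro v f
  have h1 : α (heis ψ v) = T.toLinearMap ∘ₗ heis ψ v ∘ₗ T.symm.toLinearMap := by
    have h0 := congrArg (fun φ : Module.End ℂ ((Fin n → F) → ℂ) ≃ₐ[ℂ]
      Module.End ℂ ((Fin n → F) → ℂ) => φ (heis ψ v)) hT
    exact h0
  rw [hα] at h1
  have h3 := LinearMap.congr_fun h1 (T f)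
  rw [LinearMap.comp_apply, LinearMap.comp_apply, LinearEquiv.coe_coe, LinearEquiv.coe_coe,
    LinearEquiv.symm_apply_apply] at h3
  exact h3.symm

end Cfsg.Agent.Helper70.SPweil
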