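import Cfsg.Agent.Helper16.DT.Defs
import Cfsg.Agent.Helper30.DT_TEI

/-!
# DT farm (helper16), piece (E4), part a: elementary lemmas

* lists of positive naturals: `Σ x² ≤ (Σ x)²`, with equality only for lists of length at most one;
* the lifted trace function `brauerFull` is a class function, and its value at `1` is the degree;
* in a group of order prime to `p` every element is `p`-regular.
-/

set_option autoImplicit false
set_option linter.unusedSectionVars false
set_option linter.unusedVariables false

namespace Cfsg.Agent.Helper70.DT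

open Cfsg Cfsg.Agent.Helper16 Cfsg.Agent.Helper16.DT Polynomial Matrix

universe u v w

/-! ### lists of naturals -/

theorem E4_list_sq_le (l : List ℕ) : (l.map (fun x => x ^ 2)).sum ≤ l.sum ^ 2 := by
  induction l with
  | nil => simp
  | cons a t ih =>
    rw [List.map_cons, List.sum_cons, List.sum_cons]
    nlinarith [Nat.zero_le (a * t.sum)]

theorem E4_list_length_le_one (l : List ℕ) (hpos : ∀ x ∈ l, 1 ≤ x)
    (h : l.sum ^ 2 ≤ (l.map (fun x => x ^ 2)).sum) : l.length ≤ 1 := by
  cases l with
  | nil => simp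
  | cons a t =>
    rw [List.map_cons, List.sum_cons, List.sum_cons] at h
    have ha : 1 ≤ a := hpos a List.mem_cons_self
    have h1 := E4_list_sq_le t
    have e : (a + t.sum) ^ 2 = a ^ 2 + 2 * (a * t.sum) + t.sum ^ 2 := by ring
    rw [e] at h
    have h2 : a * t.sum = 0 := Nat.le_antisymm (by linarith) (Nat.zero_le _)
    have h3 : t.sum = 0 := by
      rcases Nat.mul_eq_zero.mp h2 with h | h
      · omega
      · exact h
    cases t with
    | nil => simp
    | cons b t' =>
      exfalso
      have hb : 1 ≤ b := hpos b (List.mem_cons_of_mem _ List.mem_cons_self)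
      rw [List.sum_cons] at h3
      omega

theorem E4_sum_toFinset_le {α : Type*} [DecidableEq α] (l : List α) (g : α → ℕ) :
    ∑ a ∈ l.toFinset, g a ≤ (l.map g).sum := by
  rw [Finset.sum_list_map_count]
  refine Finset.sum_le_sum (fun a ha => ?_)
  have : 1 ≤ l.count a := List.one_le_count_iff.mpr (List.mem_toFinset.mp ha)
  rw [smul_eq_mul]
  nlinarith [Nat.zero_le (g a)]

theorem E4_list_sum_apply {α : Type*} (l : List (α → ℂ)) (a : α) :
    l.sum a = (l.map (fun φ => φ a)).sum := by
  induction l with
  | nil => simp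
  | cons x t ih => rw [List.sum_cons, Pi.add_apply, ih, List.map_cons, List.sum_cons]

/-! ### `p`-regular elements -/

theorem E4_isPRegular_of_not_dvd {p : ℕ} {Q : Type u} [Group Q] [Finite Q]
    (hQ : ¬ p ∣ Nat.card Q) (g : Q) : IsPRegular p g := by
  intro h
  exact hQ (h.trans (orderOf_dvd_natCard g))

theorem E4_isPRegular_one {p : ℕ} [Fact p.Prime] {Q : Type u} [Group Q] : IsPRegular p (1 : Q) := by
  intro h
  rw [orderOf_one] at h
  exact (Fact.out : p.Prime).one_lt.ne' (Nat.dvd_one.mp h)

theorem E4_pRegularPart_of_all {p : ℕ} {Q : Type u} [Group Q] (h : ∀ g : Q, IsPRegular p g)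
    (f : Q → ℂ) : pRegularPart p f = f := by
  funext g
  unfold pRegularPart
  rw [if_pos (h g)]

theorem E4_pRegularPart_one {p : ℕ} [Fact p.Prime] {Q : Type u} [Group Q] (f : Q → ℂ) :
    pRegularPart p f 1 = f 1 := by
  unfold pRegularPart
  rw [if_pos E4_isPRegular_one]

/-! ### `brauerFull` -/

section Res

variable {p : ℕ} [Fact p.Prime] {M : Ideal AlgInt} [M.IsMaximal] {G : Type u} [Group G]

theorem E4_teich_one (hpM : (p : AlgInt) ∈ M) : teich p M (1 : AlgInt ⧸ M) = 1 := by
  have h := Cfsg.Agent.Helper30.DT.teich_mk_root (p := p) (M := M) hpM (x := 1)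
    ⟨1, fun h => (Fact.out : p.Prime).one_lt.ne' (Nat.dvd_one.mp h), by simp⟩
  simpa using h

/-- the value of `brauerFull` at `1` is the degree -/
theorem E4_brauerFull_one (hpM : (p : AlgInt) ∈ M) {ι : Type w} [Fintype ι] [DecidableEq ι]
    (ρ : G →* Matrix ι ι (AlgInt ⧸ M)) : brauerFull p M ρ 1 = (Fintype.card ι : ℂ) := by
  unfold brauerFull bfull
  rw [map_one, Matrix.charpoly_one, Polynomial.roots_pow, ← Polynomial.C_1,
    Polynomial.roots_X_sub_C, Multiset.map_nsmul, Multiset.map_singleton, Multiset.sum_nsmul,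
    Multiset.sum_singleton, E4_teich_one hpM, nsmul_eq_mul, mul_one]

/-- `brauerFull` is a class function -/
theorem E4_brauerFull_conj {ι : Type w} [Fintype ι] [DecidableEq ι]
    (ρ : G →* Matrix ι ι (AlgInt ⧸ M)) (g h : G) :
    brauerFull p M ρ (h * g * h⁻¹) = brauerFull p M ρ g := by
  unfold brauerFull bfull
  have hu' : ρ h⁻¹ * ρ h = 1 := by rw [← map_mul, inv_mul_cancel, map_one]
  have : (ρ (h * g * h⁻¹)).charpoly = (ρ g).charpoly := by
    rw [map_mul, map_mul, Matrix.charpoly_mul_comm, ← Matrix.mul_assoc, hu', Matrix.one_mul]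
  rw [this]

end Res

end Cfsg.Agent.Helper70.DT
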