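import Cfsg.Agent.Helper70.PCount5

set_option autoImplicit false
set_option linter.unusedSectionVars false

open scoped Classical

namespace Cfsg.Agent.Helper70.PCount

theorem sum_modEq {ι : Type*} (s : Finset ι) (f g : ι → ℕ) (m : ℕ)
    (h : ∀ i ∈ s, f i ≡ g i [MOD m]) : ∑ i ∈ s, f i ≡ ∑ i ∈ s, g i [MOD m] := by
  rw [← ZMod.natCast_eq_natCast_iff]
  push_cast
  exact Finset.sum_congr rfl (fun i hi => (ZMod.natCast_eq_natCast_iff _ _ _).mpr (h i hi))

/-- **Kulakoff's theorem**: in a noncyclic `p`-group (`p` odd) of order `p ^ n`, the number of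
subgroups of order `p ^ a`, `1 ≤ a ≤ n - 1`, is `≡ 1 + p mod p²`. -/
theorem kulakoff.{u} {p : ℕ} [hp : Fact p.Prime] (hp2 : p ≠ 2) :
    ∀ (n : ℕ) (Q : Type u) [Group Q] [Finite Q], Nat.card Q = p ^ n → ¬ IsCyclic Q →
      ∀ a : ℕ, 1 ≤ a → a + 1 ≤ n →
        (subsOfCard (p ^ a) (⊤ : Subgroup Q)).card ≡ 1 + p [MOD p ^ 2] := by
  intro n
  induction n using Nat.strong_induction_on with
  | _ n ih =>
  intro Q _ _ hn hnc a ha han
  have hp1 : 1 < p := hp.out.one_lt
  have hQ : IsPGroup p Q := IsPGroup.of_card hn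
  have hg1 := card_gam1_modEq hQ hnc
  rcases Nat.eq_or_lt_of_le han with hcase | hcase
  · -- a = n - 1
    have : subsOfCard (p ^ a) (⊤ : Subgroup Q) = gam1 Q p := by
      ext H
      rw [mem_subsOfCard, mem_gam1]
      have h1 := Subgroup.card_mul_index H
      rw [hn, ← hcase, pow_succ] at h1
      constructor
      · rintro ⟨h, -⟩
        rw [h] at h1
        exact Nat.eq_of_mul_eq_mul_left (pow_pos hp.out.pos _) h1
      · intro h
        rw [h] at h1
        exact ⟨Nat.eq_of_mul_eq_mul_right hp.out.pos h1, le_top⟩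
    rw [this]
    exact hg1
  · -- a ≤ n - 2
    have hne : p ^ a ≠ Nat.card Q := by
      rw [hn]
      intro h
      have := Nat.pow_right_injective hp1 h
      omega
    have henum := enumeration hQ (p ^ a) hne
    -- the gam2 part
    have hT : p * ∑ T ∈ gam2 Q p, (subsOfCard (p ^ a) T).card ≡ p [MOD p ^ 2] := by
      have h1 : ∑ T ∈ gam2 Q p, (subsOfCard (p ^ a) T).card ≡ ∑ _T ∈ gam2 Q p, 1 [MOD p] := by
        apply sum_modEq
        intro T hT
        rw [mem_gam2_iff hQ] at hT
        apply card_subsOfCard_modEq_one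
        have h2 := Subgroup.card_mul_index T
        rw [hT.2, hn] at h2
        have h3 : p ^ n = p ^ (n - 2) * p ^ 2 := by rw [← pow_add]; congr 1; omega
        rw [h3] at h2
        rw [Nat.eq_of_mul_eq_mul_right (pow_pos hp.out.pos _) h2]
        exact pow_dvd_pow p (by omega)
      rw [Finset.sum_const, smul_eq_mul, mul_one] at h1
      have h2 := h1.trans (card_gam2_modEq_one hQ hnc)
      have h3 := Nat.ModEq.mul_left' p h2
      rw [mul_one, ← sq] at h3
      exact h3
    -- the gam1 part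
    have hMcard : ∀ M ∈ gam1 Q p, Nat.card M = p ^ (n - 1) := by
      intro M hM
      rw [mem_gam1] at hM
      exact (card_eq_of_index_eq hn M hM).1
    have hcyc : ∀ M ∈ gam1 Q p, IsCyclic M → (subsOfCard (p ^ a) M).card = 1 := by
      intro M hM hc
      rw [card_subsOfCard_eq]
      apply card_subsOfCard_of_isCyclic
      rw [hMcard M hM]
      exact pow_dvd_pow p (by omega)
    have hncyc : ∀ M ∈ gam1 Q p, ¬ IsCyclic M →
        (subsOfCard (p ^ a) M).card ≡ 1 + p [MOD p ^ 2] := by
      intro M hM hc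
      rw [card_subsOfCard_eq]
      exact ih (n - 1) (by omega) M (hMcard M hM) hc a ha (by omega)
    have hM : ∑ M ∈ gam1 Q p, (subsOfCard (p ^ a) M).card ≡ 1 + p + p [MOD p ^ 2] := by
      by_cases hex : ∃ C ∈ gam1 Q p, IsCyclic C
      · obtain ⟨C, hC, hCc⟩ := hex
        rw [mem_gam1] at hC
        obtain ⟨Ω, hΩi, hΩnc, hΩ⟩ :=
          exists_unique_noncyclic_max hp2 hQ hnc n hn (by omega) C hCc hC
        have hΩmem : Ω ∈ gam1 Q p := mem_gam1.mpr hΩi
        rw [← Finset.add_sum_erase _ _ hΩmem]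
        have h1 : ∑ M ∈ (gam1 Q p).erase Ω, (subsOfCard (p ^ a) M).card =
            ∑ _M ∈ (gam1 Q p).erase Ω, 1 := by
          apply Finset.sum_congr rfl
          intro M hM
          rw [Finset.mem_erase] at hM
          exact hcyc M hM.2 (hΩ M (mem_gam1.mp hM.2) hM.1)
        rw [h1, Finset.sum_const, smul_eq_mul, mul_one, Finset.card_erase_of_mem hΩmem]
        have h2 : (gam1 Q p).card - 1 ≡ p [MOD p ^ 2] := by
          have hpos : 1 ≤ (gam1 Q p).card := Finset.card_pos.mpr ⟨Ω, hΩmem⟩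
          have h3 : (gam1 Q p).card - 1 + 1 ≡ p + 1 [MOD p ^ 2] := by
            rw [Nat.sub_add_cancel hpos, add_comm p 1]
            exact hg1
          exact Nat.ModEq.add_right_cancel' 1 h3
        exact Nat.ModEq.add (hncyc Ω hΩmem hΩnc) h2
      · push Not at hex
        have h1 : ∑ M ∈ gam1 Q p, (subsOfCard (p ^ a) M).card ≡
            ∑ _M ∈ gam1 Q p, (1 + p) [MOD p ^ 2] :=
          sum_modEq _ _ _ _ (fun M hM => hncyc M hM (hex M hM))
        rw [Finset.sum_const, smul_eq_mul] at h1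
        have h2 : (gam1 Q p).card * (1 + p) ≡ (1 + p) * (1 + p) [MOD p ^ 2] :=
          Nat.ModEq.mul_right _ hg1
        have h3 : (1 + p) * (1 + p) ≡ 1 + p + p [MOD p ^ 2] := by
          have : (1 + p) * (1 + p) = 1 + p + p + p ^ 2 := by ring
          rw [this]
          conv_rhs => rw [← add_zero (1 + p + p)]
          exact Nat.ModEq.add_left _ ((Nat.modEq_zero_iff_dvd).mpr dvd_rfl)
        exact h1.trans (h2.trans h3)
    -- combine
    have h4 : (subsOfCard (p ^ a) (⊤ : Subgroup Q)).card + p ≡ 1 + p + p [MOD p ^ 2] :=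
      ((Nat.ModEq.add_left _ hT).symm.trans henum.symm).trans hM
    exact Nat.ModEq.add_right_cancel' p h4

end Cfsg.Agent.Helper70.PCount
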