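import Mathlib

/-!
# A transvection-type automorphism of a group

`g ↦ g * u ^ n * c ^ (n.choose 2)`, where `n = λ(g)` for a homomorphism `λ : G → ZMod p`
with `g⁻¹ u g = u c ^ λ(g)`, `c` central.
-/

namespace Cfsg.Agent.Helper70.AO

variable {G : Type*} [Group G]

theorem add_choose_two (a b : ℕ) : (a + b).choose 2 = a.choose 2 + b.choose 2 + a * b := by
  induction b with
  | zero => simp
  | succ b ih =>
    have h1 : (a + (b + 1)).choose 2 = (a + b).choose 1 + (a + b).choose 2 := by
      rw [← add_assoc, Nat.choose_succ_succ' (a + b) 1]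
    have h2 : (b + 1).choose 2 = b.choose 1 + b.choose 2 := by
      rw [Nat.choose_succ_succ' b 1]
    rw [h1, h2, ih, Nat.choose_one_right, Nat.choose_one_right]
    ring

/-- `W u c n = u ^ n * c ^ (n.choose 2)`. -/
def W (u c : G) (n : ℕ) : G := u ^ n * c ^ (n.choose 2)

theorem W_add {u c : G} (hc : c ∈ Subgroup.center G) (a b : ℕ) :
    W u c a * W u c b * c ^ (a * b) = W u c (a + b) := by
  have hcomm : ∀ g : G, g * c = c * g := fun g => Subgroup.mem_center_iff.mp hc g
  have hcp : ∀ (k : ℕ) (g : G), g * c ^ k = c ^ k * g := by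
    intro k g
    exact ((Commute.pow_right (show Commute g c from hcomm g) k)).eq
  unfold W
  rw [add_choose_two, pow_add, pow_add, pow_add]
  calc u ^ a * c ^ a.choose 2 * (u ^ b * c ^ b.choose 2) * c ^ (a * b)
      = u ^ a * (c ^ a.choose 2 * u ^ b) * c ^ b.choose 2 * c ^ (a * b) := by group
    _ = u ^ a * (u ^ b * c ^ a.choose 2) * c ^ b.choose 2 * c ^ (a * b) := by
        rw [← hcp (a.choose 2) (u ^ b)]
    _ = u ^ a * u ^ b * (c ^ a.choose 2 * c ^ b.choose 2 * c ^ (a * b)) := by group

theorem W_conj {u c : G} (hc : c ∈ Subgroup.center G) (g : G) (n : ℕ)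
    (hconj : g⁻¹ * u * g = u * c ^ n) (a : ℕ) :
    g⁻¹ * W u c a * g = W u c a * c ^ (a * n) := by
  have hcomm : ∀ g : G, g * c = c * g := fun g => Subgroup.mem_center_iff.mp hc g
  have hcp : ∀ (k : ℕ) (g : G), g * c ^ k = c ^ k * g := by
    intro k g
    exact ((Commute.pow_right (show Commute g c from hcomm g) k)).eq
  have h1 : g⁻¹ * u ^ a * g = u ^ a * c ^ (a * n) := by
    have : g⁻¹ * u ^ a * g = (g⁻¹ * u * g) ^ a := by
      induction a with
      | zero => simp
      | succ a ih => rw [pow_succ, pow_succ, ← ih]; group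
    rw [this, hconj]
    have hcm : Commute u (c ^ n) := (hcp n u)
    rw [hcm.mul_pow, ← pow_mul, mul_comm n a]
  unfold W
  calc g⁻¹ * (u ^ a * c ^ a.choose 2) * g
      = g⁻¹ * u ^ a * (c ^ a.choose 2 * g) := by group
    _ = g⁻¹ * u ^ a * (g * c ^ a.choose 2) := by rw [← hcp (a.choose 2) g]
    _ = (g⁻¹ * u ^ a * g) * c ^ a.choose 2 := by group
    _ = u ^ a * c ^ (a * n) * c ^ a.choose 2 := by rw [h1]
    _ = u ^ a * (c ^ (a * n) * c ^ a.choose 2) := by group
    _ = u ^ a * (c ^ a.choose 2 * c ^ (a * n)) := by rw [← pow_add, ← pow_add, add_comm]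
    _ = u ^ a * c ^ a.choose 2 * c ^ (a * n) := by group

theorem W_add_period {u c : G} (hc : c ∈ Subgroup.center G) (p : ℕ) (hcp : c ^ p = 1)
    (hW : W u c p = 1) (a : ℕ) : W u c (a + p) = W u c a := by
  rw [← W_add hc, hW, mul_one, pow_mul', hcp, one_pow, mul_one]

theorem W_mod {u c : G} (hc : c ∈ Subgroup.center G) (p : ℕ) (hcp : c ^ p = 1)
    (hW : W u c p = 1) (a : ℕ) : W u c (a % p) = W u c a := by
  have key : ∀ k r : ℕ, W u c (r + k * p) = W u c r := by
    intro k r
    induction k with
    | zero => simp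
    | succ k ih =>
      rw [Nat.succ_mul, ← add_assoc, W_add_period hc p hcp hW, ih]
  conv_rhs => rw [← Nat.mod_add_div a p, mul_comm p (a / p)]
  rw [key]

/-- The transvection-type automorphism. -/
theorem exists_transvection (p : ℕ) [Fact p.Prime] (u c : G) (hc : c ∈ Subgroup.center G)
    (hcp : c ^ p = 1) (lam : G →* Multiplicative (ZMod p))
    (hconj : ∀ g : G, g⁻¹ * u * g = u * c ^ (Multiplicative.toAdd (lam g)).val)
    (hu : lam u = 1) (hlc : lam c = 1) (hW : u ^ p * c ^ (p.choose 2) = 1) :
    ∃ σ : MulAut G, ∀ g : G, σ g = g * (u ^ (Multiplicative.toAdd (lam g)).val *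
      c ^ ((Multiplicative.toAdd (lam g)).val.choose 2)) := by
  have hpp : p.Prime := Fact.out
  have : NeZero p := ⟨hpp.ne_zero⟩
  set n : G → ℕ := fun g => (Multiplicative.toAdd (lam g)).val with hn
  have hW' : W u c p = 1 := hW
  have hn_mul : ∀ g h : G, n (g * h) = (n g + n h) % p := by
    intro g h
    simp only [hn, map_mul, toAdd_mul]
    exact ZMod.val_add _ _
  have hlamW : ∀ a : ℕ, lam (W u c a) = 1 := by
    intro a
    unfold W
    rw [map_mul, map_pow, map_pow, hu, hlc, one_pow, one_pow, one_mul]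
  have hnW : ∀ (g : G) (a : ℕ), n (g * W u c a) = n g := by
    intro g a
    simp only [hn, map_mul, hlamW, mul_one]
  have hnW' : ∀ (g : G) (a : ℕ), n (g * (W u c a)⁻¹) = n g := by
    intro g a
    simp only [hn, map_mul, map_inv, hlamW, inv_one, mul_one]
  have hmul : ∀ g h : G, (g * h) * W u c (n (g * h)) = (g * W u c (n g)) * (h * W u c (n h)) := by
    intro g h
    rw [hn_mul, W_mod hc p hcp hW', ← W_add hc]
    have := W_conj hc h (n h) (hconj h) (n g)
    calc g * h * (W u c (n g) * W u c (n h) * c ^ (n g * n h))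
        = g * h * ((W u c (n g) * c ^ (n g * n h)) * W u c (n h)) := by
          have hcomm : ∀ x : G, x * c = c * x := fun x => Subgroup.mem_center_iff.mp hc x
          have hcp' : ∀ (k : ℕ) (x : G), x * c ^ k = c ^ k * x := by
            intro k x
            exact ((Commute.pow_right (show Commute x c from hcomm x) k)).eq
          have e : W u c (n h) * c ^ (n g * n h) = c ^ (n g * n h) * W u c (n h) := hcp' _ _
          rw [mul_assoc (W u c (n g)) (W u c (n h)), e]
          simp only [mul_assoc]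
      _ = g * h * ((h⁻¹ * W u c (n g) * h) * W u c (n h)) := by rw [this]
      _ = g * W u c (n g) * (h * W u c (n h)) := by group
  refine ⟨{ toFun := fun g => g * W u c (n g)
            invFun := fun g => g * (W u c (n g))⁻¹
            left_inv := ?_
            right_inv := ?_
            map_mul' := hmul }, ?_⟩
  · intro g
    simp only [hnW, mul_inv_cancel_right]
  · intro g
    simp only [hnW', inv_mul_cancel_right]
  · intro g
    rfl

end Cfsg.Agent.Helper70.AO
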