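import Mathlib

/-!
# Weighted orbit counting
-/

namespace Cfsg.Agent.Helper70.AO

open MulAction

/-- If every orbit carries total weight at least `N`, then `N * #orbits ≤ total weight`. -/
theorem weighted_orbit_count {Γ X : Type*} [Group Γ] [MulAction Γ X] [Fintype X]
    (wt : X → ℕ) (N : ℕ)
    (h : ∀ x : X, ∃ S : Finset X, (∀ y ∈ S, y ∈ orbit Γ x) ∧ N ≤ ∑ y ∈ S, wt y) :
    N * Nat.card (orbitRel.Quotient Γ X) ≤ ∑ x, wt x := by
  classical
  haveI : Fintype (orbitRel.Quotient Γ X) := Fintype.ofFinite _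
  rw [Nat.card_eq_fintype_card, ← Finset.card_univ, mul_comm, ← smul_eq_mul, ← Finset.sum_const]
  calc ∑ _ω : orbitRel.Quotient Γ X, N
      ≤ ∑ ω : orbitRel.Quotient Γ X,
          ∑ x ∈ Finset.univ.filter (fun x : X => (Quotient.mk'' x : orbitRel.Quotient Γ X) = ω),
            wt x := by
        apply Finset.sum_le_sum
        intro ω _
        obtain ⟨x0, rfl⟩ := Quotient.exists_rep ω
        obtain ⟨S, hS, hN⟩ := h x0
        refine le_trans hN (Finset.sum_le_sum_of_subset ?_)
        intro y hy
        simp only [Finset.mem_filter, Finset.mem_univ, true_and]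
        exact Quotient.sound' ((orbitRel_apply).mpr (hS y hy))
    _ = ∑ x, wt x := Finset.sum_fiberwise _ _ _

end Cfsg.Agent.Helper70.AO
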