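import Mathlib

set_option autoImplicit false

namespace Cfsg.Agent.Helper70

/-- The number of conjugates of `x` is the index of the centralizer of `x`. -/
theorem card_conj_eq_index_centralizer {G : Type*} [Group G] (x : G) :
    Nat.card {y : G // IsConj x y} = (Subgroup.centralizer ({x} : Set G)).index := by
  have h1 : (Subgroup.centralizer ({x} : Set G)).index
      = (MulAction.stabilizer (ConjAct G) x).index := by
    have := Subgroup.index_comap_of_surjective (MulAction.stabilizer (ConjAct G) x)
      (f := (ConjAct.toConjAct (G := G)).toMonoidHom) (ConjAct.toConjAct (G := G)).surjective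
    rw [Subgroup.centralizer_eq_comap_stabilizer]
    exact this
  rw [h1, MulAction.index_stabilizer, ← Nat.card_coe_set_eq]
  apply Nat.card_congr
  refine Equiv.subtypeEquivRight ?_
  intro y
  rw [ConjAct.mem_orbit_conjAct, isConj_comm]

/-- If the centralizer of `x` contains a Sylow `p`-subgroup then `p` does not divide the number of conjugates of `x`. -/
theorem not_dvd_card_conj_of_sylow_le {G : Type*} [Group G] [Finite G] {p : ℕ} [Fact p.Prime] (x : G)
    (P : Sylow p G) (hP : (P : Subgroup G) ≤ Subgroup.centralizer ({x} : Set G)) :
    ¬ p ∣ Nat.card {y : G // IsConj x y} := by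
  rw [card_conj_eq_index_centralizer]
  intro h
  exact P.not_dvd_index (h.trans (Subgroup.index_dvd_of_le hP))

end Cfsg.Agent.Helper70
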