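-- helper70: piece (AL2) `alpha_root` of helper77's farm #13307 (S3888, Blackburn).
import Mathlib
import Cfsg.Agent.Helper77.Blk.Defs
import Cfsg.Agent.S0644
import Cfsg.Agent.S4210

set_option autoImplicit false

universe u

namespace Cfsg.Agent.Helper70.Blk

open Subgroup Cfsg.Agent.Helper77.Blk

/-- `℧₁(C)` (inside `G`) is the image of `℧₁(↥C)` -/
theorem AL2_powerClosure_le {G : Type*} [Group G] (p n : ℕ) (C : Subgroup G) :
    Cfsg.powerClosure p n C ≤ (Cfsg.powerClosure p n (⊤ : Subgroup ↥C)).map C.subtype := by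
  unfold Cfsg.powerClosure
  rw [Subgroup.closure_le]
  rintro y ⟨x, hx, rfl⟩
  refine ⟨⟨x, hx⟩ ^ (p ^ n), Subgroup.subset_closure ⟨⟨x, hx⟩, Subgroup.mem_top _, rfl⟩, ?_⟩
  simp

section alpha
variable {G : Type u} [Group G] [Finite G] {p : ℕ} [hp : Fact p.Prime]

/-- (AL2) -/
theorem alpha_root (hp2 : p ≠ 2) (hG : IsPGroup p G) (E : Subgroup G) [E.Normal]
    (hEcard : Nat.card E = p ^ 2) (hEexp : ∀ e ∈ E, e ^ p = 1)
    (hCE : ∀ c ∈ centralizer (E : Set G), c ^ p = 1 → c ∈ E)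
    (hAG : PropAG.{u} p) (hH : PropH2.{u} p) (hR : PropR.{u} p)
    (b : G) (hbp : b ^ p ∈ Cfsg.powerClosure p 1 (centralizer (E : Set G))) :
    ∃ u ∈ centralizer (E : Set G), u ^ p = b ^ p ∧ (b⁻¹ * u * b) * u⁻¹ ∈ E := by
  set C : Subgroup G := centralizer (E : Set G) with hC
  have hCn : C.Normal := Subgroup.normal_centralizer
  have hPC : IsPGroup p ↥C := hG.to_subgroup C
  -- `↥C` is `p`-central
  have hcentral : PCentral p ↥C := by
    intro c hc
    have hcE : (c : G) ∈ E := hCE c.1 c.2 (by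
      have := congrArg Subtype.val hc
      simpa using this)
    rw [Subgroup.mem_center_iff]
    intro g
    apply Subtype.ext
    have hg : (g : G) ∈ centralizer (E : Set G) := g.2
    rw [Subgroup.mem_centralizer_iff] at hg
    have := hg c.1 hcE
    simpa using this.symm
  -- `|C : ℧₁(C)| ≤ p^2`
  set E' : Subgroup ↥C := E.subgroupOf C with hE'
  have hE'all : ∀ c : ↥C, c ^ p = 1 → c ∈ E' := by
    intro c hc
    rw [hE', Subgroup.mem_subgroupOf]
    exact hCE c.1 c.2 (by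
      have := congrArg Subtype.val hc
      simpa using this)
  have hidx := hAG ↥C hPC hcentral E' hE'all
  have hE'card : Nat.card E' ≤ p ^ 2 := by
    rw [← hEcard]
    let f : E' → E := fun x => ⟨x.1.1, Subgroup.mem_subgroupOf.1 x.2⟩
    have hf : Function.Injective f := by
      intro x y hxy
      apply Subtype.ext
      apply Subtype.ext
      have h := congrArg Subtype.val hxy
      exact h
    exact Nat.card_le_card_of_injective f hf
  have hmc : Cfsg.IsMetacyclic ↥C := hH ↥C hPC (hidx.trans hE'card)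
  have hreg : Cfsg.IsRegularPGroup p ↥C := hR ↥C hPC hmc
  -- `b^p` is a `p`-th power in `C`
  obtain ⟨w, hw, hwb⟩ := AL2_powerClosure_le p 1 C hbp
  have hset := (Cfsg.Agent.S0644.result hreg (⊤ : Subgroup ↥C) 1).1
  have hw' : w ∈ {y : ↥C | ∃ x ∈ (⊤ : Subgroup ↥C), y = x ^ (p ^ 1)} := by
    rw [hset]; exact hw
  obtain ⟨u', -, hu'⟩ := hw'
  rw [pow_one] at hu'
  have hup : (u' : G) ^ p = b ^ p := by
    rw [← hwb, hu']
    simp
  refine ⟨u'.1, u'.2, hup, ?_⟩
  -- the conjugate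
  have haC : b⁻¹ * u'.1 * b ∈ C := by
    have := hCn.conj_mem u'.1 u'.2 b⁻¹
    simpa using this
  set a' : ↥C := ⟨b⁻¹ * u'.1 * b, haC⟩ with ha'
  have hap : a' ^ p ^ 1 = u' ^ p ^ 1 := by
    rw [pow_one]
    apply Subtype.ext
    have h1 : (b⁻¹ * (u' : G) * b) ^ p = b⁻¹ * (u' : G) ^ p * b := by
      have := conj_pow (a := b⁻¹) (b := (u' : G)) (i := p)
      simpa using this
    have h2 : ((a' ^ p : ↥C) : G) = (b⁻¹ * (u' : G) * b) ^ p := by simp [ha']
    rw [h2, h1, hup]
    have h3 : ((u' ^ p : ↥C) : G) = b ^ p := by rw [← hup]; simp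
    rw [h3]
    group
  have h4 := (Cfsg.Agent.S4210.result hreg a' u' 1).1 hap
  rw [pow_one] at h4
  have h5 : ((b⁻¹ * (u' : G) * b) * (u' : G)⁻¹) ^ p = 1 := by
    have := congrArg Subtype.val h4
    simpa [ha'] using this
  exact hCE _ (C.mul_mem haC (C.inv_mem u'.2)) h5

end alpha

end Cfsg.Agent.Helper70.Blk
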