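-- helper70: piece (R) `propR` of helper77's farm #13307 (S3888, Blackburn).
import Mathlib
import Cfsg.Agent.Helper77.Blk.Defs
import Cfsg.Agent.S0643
import Cfsg.Agent.Helper65.Metacyclic3
import Cfsg.Agent.Helper67.ClassTwo
import Cfsg.Agent.Helper76.PGroup

set_option autoImplicit false

universe u

namespace Cfsg.Agent.Helper70.Blk

open Subgroup Cfsg.Agent.Helper77.Blk
open scoped commutatorElement

/-- In a finite `p`-group (`p` odd) with cyclic commutator subgroup:
`(ab)^p = a^p b^p c^p` with `c` in the commutator subgroup. -/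
theorem R_core {G : Type*} [Group G] [Finite G] {p : ℕ} [hp : Fact p.Prime] (hp2 : p ≠ 2)
    (hG : IsPGroup p G) (hcyc : IsCyclic ↥(commutator G)) (a b : G) :
    ∃ c ∈ commutator G, (a * b) ^ p = a ^ p * b ^ p * c ^ p := by
  -- a generator of the commutator subgroup
  obtain ⟨⟨d, hdD⟩, hgen⟩ := hcyc.exists_generator
  have hd : ∀ x ∈ commutator G, ∃ k : ℤ, d ^ k = x := by
    intro x hx
    obtain ⟨k, hk⟩ := Subgroup.mem_zpowers_iff.1 (hgen ⟨x, hx⟩)
    refine ⟨k, ?_⟩
    have := congrArg Subtype.val hk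
    simpa using this
  have hpow : ∀ k : ℤ, (d ^ k) ^ p = (d ^ p) ^ k := by
    intro k
    rw [← zpow_natCast, ← zpow_mul, mul_comm, zpow_mul, zpow_natCast]
  -- the subgroup of `p`-th powers
  set K : Subgroup G := Subgroup.zpowers (d ^ p) with hK
  haveI hKn : K.Normal := by
    refine ⟨fun x hx g => ?_⟩
    obtain ⟨m, rfl⟩ := Subgroup.mem_zpowers_iff.1 hx
    have hcn : g * d * g⁻¹ ∈ commutator G :=
      (inferInstance : (commutator G).Normal).conj_mem d hdD g
    obtain ⟨k, hk⟩ := hd _ hcn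
    have e : g * (d ^ p) ^ m * g⁻¹ = (d ^ p) ^ (k * m) := by
      have h1 : g * (d ^ p) ^ m * g⁻¹ = ((g * d * g⁻¹) ^ p) ^ m := by
        have := map_zpow (MulAut.conj g) (d ^ p) m
        rw [map_pow] at this
        simpa [MulAut.conj_apply] using this
      rw [h1, ← hk, hpow, zpow_mul]
    rw [e]
    exact Subgroup.zpow_mem_zpowers _ _
  let π : G →* G ⧸ K := QuotientGroup.mk' K
  have hπd : (π d) ^ p = 1 := by
    rw [← map_pow]
    exact (QuotientGroup.eq_one_iff _).2 (Subgroup.mem_zpowers _)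
  have hQ : IsPGroup p (G ⧸ K) := hG.to_quotient K
  -- `π d` is central
  have hcent : π d ∈ Subgroup.center (G ⧸ K) := by
    have hDeq : commutator G = Subgroup.zpowers d := by
      apply le_antisymm
      · intro x hx
        obtain ⟨k, hk⟩ := hd x hx
        exact Subgroup.mem_zpowers_iff.2 ⟨k, hk⟩
      · rw [Subgroup.zpowers_le]; exact hdD
    set Dbar : Subgroup (G ⧸ K) := (commutator G).map π with hDbar
    haveI : Dbar.Normal :=
      Subgroup.Normal.map inferInstance π (QuotientGroup.mk'_surjective K)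
    have hDz : Dbar = Subgroup.zpowers (π d) := by
      rw [hDbar, hDeq, MonoidHom.map_zpowers]
    have hord : orderOf (π d) ∣ p := orderOf_dvd_of_pow_eq_one hπd
    rcases (Nat.dvd_prime hp.out).1 hord with h1 | h1
    · rw [orderOf_eq_one_iff] at h1
      rw [h1]; exact Subgroup.one_mem _
    · have hcard : Nat.card Dbar = p := by
        rw [hDz, Nat.card_zpowers, h1]
      have := Cfsg.Agent.Helper76.normal_le_center_of_card_prime hQ Dbar hcard
      apply this
      rw [hDz]; exact Subgroup.mem_zpowers _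
  -- the commutator of the images
  have hcomm : ⁅b, a⁆ ∈ commutator G := by
    rw [_root_.commutator_def]
    exact Subgroup.commutator_mem_commutator (Subgroup.mem_top b) (Subgroup.mem_top a)
  obtain ⟨k, hk⟩ := hd _ hcomm
  set z : G ⧸ K := π ⁅b, a⁆ with hz
  have hzk : z = (π d) ^ k := by rw [hz, ← hk, map_zpow]
  have hzc : z ∈ Subgroup.center (G ⧸ K) := by
    rw [hzk]; exact Subgroup.zpow_mem _ hcent k
  have hzp : z ^ p = 1 := by
    rw [hzk, ← zpow_natCast, ← zpow_mul, mul_comm, zpow_mul, zpow_natCast, hπd, one_zpow]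
  have hrel : π b * π a = z * (π a * π b) := by
    rw [hz, ← map_mul, ← map_mul, ← map_mul]
    congr 1
    rw [commutatorElement_def]
    group
  have hformula := Cfsg.Agent.Helper67.mul_pow_of_commutator_commute hrel
    ((Subgroup.mem_center_iff.1 hzc (π a)).symm) ((Subgroup.mem_center_iff.1 hzc (π b)).symm) p
  have hp3 : 2 < p := by
    have := hp.out.two_le
    omega
  have hdvd : p ∣ p.choose 2 := hp.out.dvd_choose_self (by norm_num) hp3
  obtain ⟨m, hm⟩ := hdvd
  have hz1 : z ^ (p.choose 2) = 1 := by rw [hm, pow_mul, hzp, one_pow]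
  rw [hz1, one_mul, ← map_mul, ← map_pow, ← map_pow, ← map_pow, ← map_mul] at hformula
  have hmem : (a ^ p * b ^ p)⁻¹ * (a * b) ^ p ∈ K := by
    have := (QuotientGroup.eq (s := K)).1 hformula.symm
    exact this
  obtain ⟨n, hn⟩ := Subgroup.mem_zpowers_iff.1 hmem
  refine ⟨d ^ n, Subgroup.zpow_mem _ hdD n, ?_⟩
  rw [hpow, hn]
  group

variable {p : ℕ} [hp : Fact p.Prime]

/-- (R) a metacyclic `p`-group, `p` odd, is regular. -/
theorem propR (hp2 : p ≠ 2) : PropR.{u} p := by
  intro P _ _ hP hmc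
  refine (Cfsg.Agent.S0643.result hP).2 ?_
  intro a b
  set H : Subgroup P := Subgroup.closure ({a, b} : Set P) with hH
  have haH : a ∈ H := Subgroup.subset_closure (by simp)
  have hbH : b ∈ H := Subgroup.subset_closure (by simp)
  obtain ⟨N, hN, hcN, hcQ⟩ := Cfsg.Agent.Helper65.isMetacyclic_subgroup hmc H
  haveI := hN
  haveI := hcN
  letI : CommGroup (↥H ⧸ N) := hcQ.commGroup
  have hle : commutator ↥H ≤ N := by
    have := Abelianization.commutator_subset_ker (QuotientGroup.mk' N)
    rwa [QuotientGroup.ker_mk'] at this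
  have hcyc : IsCyclic ↥(commutator ↥H) := Subgroup.isCyclic_of_le hle
  obtain ⟨c, hc, hab⟩ := R_core hp2 (hP.to_subgroup H) hcyc ⟨a, haH⟩ ⟨b, hbH⟩
  refine ⟨c.1, ?_, ?_⟩
  · rw [← Subgroup.map_subtype_commutator]
    exact Subgroup.mem_map_of_mem H.subtype hc
  · have := congrArg Subtype.val hab
    simpa using this

end Cfsg.Agent.Helper70.Blk
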