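import Cfsg.Agent.Helper88.FusionCentric

/-!
# Piece (J1) for S5293 (helper70 for helper86): strongly closed subgroups are fully centralized.
-/

set_option autoImplicit false

namespace Cfsg.Agent.Helper70

open Cfsg Cfsg.FusionSystem Cfsg.Agent.Helper87

variable {Ω : Type*} [Group Ω] {S : Subgroup Ω}

theorem isFullyCentralized_of_stronglyClosed [Finite S] (F : FusionSystem S) {T : Subgroup Ω}
    (hT : F.StronglyClosed T) : F.IsFullyCentralized T := by
  refine ⟨hT.1, ?_⟩
  rintro Q ⟨φ, hφ, rfl⟩
  have hle : φ.range ≤ T := by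
    rintro _ ⟨x, rfl⟩
    exact hT.2 T le_rfl φ hφ x
  have hinj := F.injective_of_mem hφ
  haveI : Finite T := Finite.of_injective (Subgroup.inclusion hT.1) (Subgroup.inclusion_injective hT.1)
  have hcard : Nat.card φ.range = Nat.card T :=
    (Nat.card_congr (MonoidHom.ofInjective hinj).toEquiv).symm
  have heq : φ.range = T := Subgroup.eq_of_le_of_card_ge hle (by rw [hcard])
  rw [heq]

end Cfsg.Agent.Helper70
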