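import Cfsg.Agent.Helper88.FusionCentric
import Cfsg.Agent.Helper80.CEW34

/-!
# Piece (J4) for S5293 (helper70 for helper86): commutators with `O^p(Aut_D(P))`.
-/

set_option autoImplicit false

namespace Cfsg.Agent.Helper70

open Cfsg Cfsg.FusionSystem Cfsg.Agent.Helper87

variable {Ω : Type*} [Group Ω] {S : Subgroup Ω}

/-- the automorphisms `α` in a subgroup `A ≤ Aut(P)` with `x⁻¹ α(x) ∈ C` for all `x` form a subgroup. -/
def commSub (C : Subgroup Ω) (P : Subgroup Ω) (A : Subgroup (MulAut P)) : Subgroup A where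
  carrier := {α | ∀ x : P, (x : Ω)⁻¹ * (((α : MulAut P) x : P) : Ω) ∈ C}
  one_mem' := by
    intro x
    simp
  mul_mem' := by
    intro a b ha hb x
    have h1 := hb x
    have h2 := ha ((b : MulAut P) x)
    have : (x : Ω)⁻¹ * ((((a * b : A) : MulAut P) x : P) : Ω)
        = ((x : Ω)⁻¹ * (((b : MulAut P) x : P) : Ω)) *
          ((((b : MulAut P) x : P) : Ω)⁻¹ * (((a : MulAut P) ((b : MulAut P) x) : P) : Ω)) := by
      simp [MulAut.mul_apply]
    rw [this]
    exact mul_mem h1 h2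
  inv_mem' := by
    intro a ha x
    have h1 := ha ((a : MulAut P)⁻¹ x)
    have : (x : Ω)⁻¹ * ((((a⁻¹ : A) : MulAut P) x : P) : Ω)
        = ((((a : MulAut P)⁻¹ x : P) : Ω)⁻¹ *
            (((a : MulAut P) ((a : MulAut P)⁻¹ x) : P) : Ω))⁻¹ := by
      simp
    rw [this]
    exact inv_mem h1

theorem mem_commSub {C : Subgroup Ω} {P : Subgroup Ω} {A : Subgroup (MulAut P)} {α : A} :
    α ∈ commSub C P A ↔ ∀ x : P, (x : Ω)⁻¹ * (((α : MulAut P) x : P) : Ω) ∈ C := Iff.rfl

theorem comm_mem_of_mem_pResidual (p : ℕ) (D : FusionSystem S) (C : Subgroup Ω) (P : Subgroup Ω)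
    [Finite P]
    (h : ∀ ψ ∈ D.autGroup P, ∀ q k : ℕ, q.Prime → q ≠ p → orderOf ψ = q ^ k →
      ∀ x : P, (x : Ω)⁻¹ * ((ψ x : P) : Ω) ∈ C)
    (α : D.autGroup P) (hα : α ∈ pResidual p (D.autGroup P)) (x : P) :
    (x : Ω)⁻¹ * (((α : MulAut P) x : P) : Ω) ∈ C := by
  haveI : Finite (MulAut P) := inferInstance
  have hle : pResidual p (D.autGroup P) ≤ commSub C P (D.autGroup P) := by
    unfold pResidual
    rw [Subgroup.closure_le]
    intro g hg
    have hg' := Cfsg.Agent.Helper80.mem_closure_primePow p g hg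
    have hle2 : Subgroup.closure {h : D.autGroup P | ∃ q k : ℕ, q.Prime ∧ q ≠ p ∧ orderOf h = q ^ k}
        ≤ commSub C P (D.autGroup P) := by
      rw [Subgroup.closure_le]
      rintro ψ ⟨q, k, hq, hqp, hord⟩
      intro y
      exact h (ψ : MulAut P) ψ.2 q k hq hqp (by rw [Subgroup.orderOf_coe]; exact hord) y
    exact hle2 hg'
  exact hle hα x

end Cfsg.Agent.Helper70
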