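import Mathlib

set_option autoImplicit false

namespace Cfsg.Agent.Helper70

variable {X : Type*} [Group X]

/-- `|C| = |C : C ∩ Y| * |C ∩ Y|`. -/
theorem card_eq_relIndex_mul_card_inf (C Y : Subgroup X) :
    Nat.card C = Y.relIndex C * Nat.card (C ⊓ Y : Subgroup X) := by
  have h1 : Nat.card (Y.subgroupOf C) = Nat.card (C ⊓ Y : Subgroup X) := by
    rw [← Subgroup.inf_subgroupOf_right, inf_comm]
    exact Nat.card_congr (Subgroup.subgroupOfEquivOfLe (inf_le_left : C ⊓ Y ≤ C)).toEquiv
  rw [← h1, Subgroup.relIndex, Subgroup.index_mul_card]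

theorem card_le_index_mul_card_inf [Finite X] (C Y : Subgroup X) :
    Nat.card C ≤ Y.index * Nat.card (C ⊓ Y : Subgroup X) := by
  rw [card_eq_relIndex_mul_card_inf C Y]
  apply Nat.mul_le_mul_right
  have := Subgroup.relIndex_le_of_le_right (H := Y) (K := C) (L := ⊤) le_top
    (by rw [Subgroup.relIndex_top_right]; exact Y.index_ne_zero_of_finite)
  rwa [Subgroup.relIndex_top_right] at this

theorem card_lt_index_mul_card_inf [Finite X] (C Y : Subgroup X) (g : X)
    (hg : ∀ c ∈ C, c⁻¹ * g ∉ Y) :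
    Nat.card C < Y.index * Nat.card (C ⊓ Y : Subgroup X) := by
  rw [card_eq_relIndex_mul_card_inf C Y]
  apply Nat.mul_lt_mul_of_pos_right _ Nat.card_pos
  -- the natural map C ⧸ (Y ∩ C) → X ⧸ Y is injective but misses the coset of g
  let ψ : C ⧸ Y.subgroupOf C → X ⧸ Y :=
    Quotient.map' (fun c : C => (c : X)) (fun a b => by
      simp_rw [QuotientGroup.leftRel_eq]
      exact id)
  have hinj : Function.Injective ψ := by
    refine Quotient.ind₂' ?_
    intro a b h
    simpa only [ψ, Quotient.map'_mk'', QuotientGroup.eq] using! h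
  have hnot : (QuotientGroup.mk g : X ⧸ Y) ∉ Set.range ψ := by
    rintro ⟨q, hq⟩
    induction q using Quotient.inductionOn' with
    | h c =>
      have : (QuotientGroup.mk (c : X) : X ⧸ Y) = QuotientGroup.mk g := hq
      rw [QuotientGroup.eq] at this
      exact hg c c.2 this
  haveI : Fintype (C ⧸ Y.subgroupOf C) := Fintype.ofFinite _
  haveI : Fintype (X ⧸ Y) := Fintype.ofFinite _
  have := Fintype.card_lt_of_injective_of_notMem ψ hinj hnot
  rw [Subgroup.relIndex, Subgroup.index, Subgroup.index, Nat.card_eq_fintype_card, Nat.card_eq_fintype_card]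
  exact this

/-- number of commuting pairs in `A × B` -/
noncomputable def commPairs (A B : Set X) : ℕ :=
  Nat.card {p : X × X // p.1 ∈ A ∧ p.2 ∈ B ∧ Commute p.1 p.2}

theorem commPairs_univ :
    commPairs (Set.univ : Set X) Set.univ = Nat.card (ConjClasses X) * Nat.card X := by
  rw [← card_comm_eq_card_conjClasses_mul_card]
  apply Nat.card_congr
  exact Equiv.subtypeEquivRight (by simp)

theorem commPairs_subgroup (Y : Subgroup X) :
    commPairs (Y : Set X) (Y : Set X) = Nat.card (ConjClasses Y) * Nat.card Y := by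
  rw [← card_comm_eq_card_conjClasses_mul_card]
  apply Nat.card_congr
  exact
    { toFun := fun p => ⟨(⟨p.1.1, p.2.1⟩, ⟨p.1.2, p.2.2.1⟩), Subtype.ext p.2.2.2⟩
      invFun := fun p => ⟨(p.1.1.1, p.1.2.1), p.1.1.2, p.1.2.2, congrArg Subtype.val p.2⟩
      left_inv := fun p => rfl
      right_inv := fun p => rfl }

theorem commPairs_comm (A B : Set X) : commPairs A B = commPairs B A := by
  apply Nat.card_congr
  exact
    { toFun := fun p => ⟨(p.1.2, p.1.1), p.2.2.1, p.2.1, p.2.2.2.symm⟩
      invFun := fun p => ⟨(p.1.2, p.1.1), p.2.2.1, p.2.1, p.2.2.2.symm⟩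
      left_inv := fun p => rfl
      right_inv := fun p => rfl }

open Classical in
theorem commPairs_eq_sum [Fintype X] (A : Set X) (B : Subgroup X) :
    commPairs A (B : Set X) =
      ∑ a : X, if a ∈ A then Nat.card (Subgroup.centralizer ({a} : Set X) ⊓ B : Subgroup X) else 0 := by
  unfold commPairs
  rw [Nat.card_congr (Equiv.subtypeProdEquivSigmaSubtype
    (fun a b : X => a ∈ A ∧ b ∈ (B : Set X) ∧ Commute a b)), Nat.card_sigma]
  apply Finset.sum_congr rfl
  intro a _
  split_ifs with ha
  · apply Nat.card_congr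
    refine Equiv.subtypeEquivRight ?_
    intro b
    rw [Subgroup.mem_inf, Subgroup.mem_centralizer_singleton_iff]
    simp only [ha, true_and, SetLike.mem_coe]
    constructor
    · rintro ⟨h1, h2⟩
      exact ⟨h2.eq.symm, h1⟩
    · rintro ⟨h1, h2⟩
      exact ⟨h2, h1.symm⟩
  · haveI : IsEmpty {b : X // a ∈ A ∧ b ∈ (B : Set X) ∧ Commute a b} := ⟨fun b => ha b.2.1⟩
    exact Nat.card_of_isEmpty

theorem commPairs_le_index_mul [Finite X] (A : Set X) (B Y : Subgroup X) :
    commPairs A (B : Set X) ≤ Y.index * commPairs A ((B ⊓ Y : Subgroup X) : Set X) := by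
  classical
  haveI : Fintype X := Fintype.ofFinite X
  rw [commPairs_eq_sum, commPairs_eq_sum, Finset.mul_sum]
  apply Finset.sum_le_sum
  intro a _
  split_ifs with ha
  · rw [← inf_assoc]
    exact card_le_index_mul_card_inf _ Y
  · simp

theorem commPairs_lt_index_mul [Finite X] (A : Set X) (B Y : Subgroup X) (a g : X) (ha : a ∈ A)
    (hg : ∀ c ∈ Subgroup.centralizer ({a} : Set X) ⊓ B, c⁻¹ * g ∉ Y) :
    commPairs A (B : Set X) < Y.index * commPairs A ((B ⊓ Y : Subgroup X) : Set X) := by
  classical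
  haveI : Fintype X := Fintype.ofFinite X
  rw [commPairs_eq_sum, commPairs_eq_sum, Finset.mul_sum]
  apply Finset.sum_lt_sum
  · intro a _
    split_ifs with ha
    · rw [← inf_assoc]
      exact card_le_index_mul_card_inf _ Y
    · simp
  · refine ⟨a, Finset.mem_univ a, ?_⟩
    rw [if_pos ha, if_pos ha, ← inf_assoc]
    exact card_lt_index_mul_card_inf _ Y g hg

end Cfsg.Agent.Helper70
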