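import Cfsg.Agent.Helper16.DT.Defs
import Cfsg.Agent.Helper74.CharCount
import Cfsg.Agent.Helper70.DT_E4a
import Cfsg.Agent.Helper70.DT_WA1
import Cfsg.Agent.Helper10.DT_WA2
import Cfsg.Agent.Helper10.DT_BCH
import Cfsg.Agent.Helper24.DT_AC

/-!
# DT farm (helper16), piece (E4), core: in a group of order prime to `p` every irreducible Brauer
character is an irreducible character (counting argument), with (DEC), (IBI), (INJ) as hypotheses.
-/

set_option autoImplicit false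
set_option linter.unusedSectionVars false
set_option linter.unusedVariables false

namespace Cfsg.Agent.Helper70.DT

open Cfsg Cfsg.Agent.Helper16 Cfsg.Agent.Helper16.DT Polynomial Matrix

universe u v w

section Core

variable {p : ℕ} [Fact p.Prime] {M : Ideal AlgInt} [M.IsMaximal]

/-- the degree of a member of `IBr` -/
theorem E4_IBr_degree (hpM : (p : AlgInt) ∈ M) {Q : Type u} [Group Q] {ψ : Q → ℂ}
    (hψ : ψ ∈ IBr p M Q) : 1 ≤ charDegree ψ ∧ ψ 1 = (charDegree ψ : ℂ) := by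
  obtain ⟨n, ρ, hρ, rfl⟩ := hψ
  have h1 : brauerChar p M ρ 1 = (n : ℂ) := by
    unfold brauerChar
    rw [E4_pRegularPart_one, E4_brauerFull_one hpM, Fintype.card_fin]
  have h2 : charDegree (brauerChar p M ρ) = n := by
    unfold charDegree
    rw [h1]
    simp
  obtain ⟨⟨i⟩, -⟩ := hρ
  refine ⟨?_, ?_⟩
  · rw [h2]
    exact Nat.lt_of_le_of_lt (Nat.zero_le _) i.2
  · rw [h1, h2]

/-- members of `IBr` are class functions when all elements are `p`-regular -/
theorem E4_IBr_classFunction {Q : Type u} [Group Q] (hreg : ∀ g : Q, IsPRegular p g) {ψ : Q → ℂ}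
    (hψ : ψ ∈ IBr p M Q) : IsClassFunction Q ψ := by
  obtain ⟨n, ρ, hρ, rfl⟩ := hψ
  intro g h
  unfold brauerChar
  rw [E4_pRegularPart_of_all hreg]
  exact E4_brauerFull_conj ρ g h

/-- (Claim C) every member of `IBr` occurs in the decomposition of some irreducible character -/
theorem E4_occurs {Q : Type u} [Group Q] [Fintype Q] (hreg : ∀ g : Q, IsPRegular p g)
    (l : IrrCharacter Q → List (Q → ℂ)) (hl : ∀ χ, ∀ φ ∈ l χ, φ ∈ IBr p M Q)
    (hsum : ∀ χ : IrrCharacter Q, (χ : Q → ℂ) = (l χ).sum)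
    (hIBI : LinearIndependent ℂ (fun φ : IBr p M Q => (φ : Q → ℂ)))
    {ψ : Q → ℂ} (hψ : ψ ∈ IBr p M Q) : ∃ χ, ψ ∈ l χ := by
  classical
  letI : Fintype (IrrCharacter Q) := Cfsg.Agent.Helper74.irrFintype Q
  by_contra hcon
  push Not at hcon
  have hcf : IsClassFunction Q ψ := E4_IBr_classFunction hreg hψ
  have hexp := Cfsg.Agent.Helper74.classFunction_eq_sum_irr hcf
  have hmem : ψ ∈ Submodule.span ℂ
      ((fun φ : IBr p M Q => (φ : Q → ℂ)) '' {y | y ≠ ⟨ψ, hψ⟩}) := by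
    have hmem' : (∑ χ : IrrCharacter Q, classInner ψ (χ : Q → ℂ) • (χ : Q → ℂ)) ∈ Submodule.span ℂ
        ((fun φ : IBr p M Q => (φ : Q → ℂ)) '' {y | y ≠ ⟨ψ, hψ⟩}) := ?_
    · rw [← hexp] at hmem'
      exact hmem'
    refine Submodule.sum_mem _ (fun χ _ => Submodule.smul_mem _ _ ?_)
    rw [hsum χ]
    refine list_sum_mem (fun φ' hφ' => Submodule.subset_span ?_)
    refine ⟨⟨φ', hl χ φ' hφ'⟩, ?_, rfl⟩
    intro heq
    apply hcon χ
    have : φ' = ψ := congrArg Subtype.val heq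
    rw [← this]
    exact hφ'
  exact hIBI.notMem_span_image (s := {y | y ≠ ⟨ψ, hψ⟩}) (x := ⟨ψ, hψ⟩) (by simp) hmem

/-- (Claim A) the sum of the squares of the degrees of the members of `IBr` is at least `|Q|` -/
theorem E4_sum_sq_ge (hpM : (p : AlgInt) ∈ M) {Q : Type u} [Group Q] [Fintype Q]
    (hQ : ¬ p ∣ Nat.card Q)
    (hINJ : ∀ {m n : ℕ} (ρ : Q →* Matrix (Fin m) (Fin m) (AlgInt ⧸ M))
      (σ : Q →* Matrix (Fin n) (Fin n) (AlgInt ⧸ M)), IsIrredMat ρ → IsIrredMat σ →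
      brauerChar p M ρ = brauerChar p M σ → MatEquiv ρ σ)
    (S : Finset (Q → ℂ)) (hS : ∀ ψ, ψ ∈ S ↔ ψ ∈ IBr p M Q) :
    Fintype.card Q ≤ ∑ ψ ∈ S, charDegree ψ ^ 2 := by
  classical
  haveI : IsAlgClosed (AlgInt ⧸ M) := Cfsg.Agent.Helper24.DT.isAlgClosed_res M
  haveI : CharP (AlgInt ⧸ M) p := Cfsg.Agent.Helper24.DT.charP_res M hpM
  have hG : ((Fintype.card Q : ℕ) : AlgInt ⧸ M) ≠ 0 := by
    rw [Ne, CharP.cast_eq_zero_iff (AlgInt ⧸ M) p, ← Nat.card_eq_fintype_card]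
    exact hQ
  obtain ⟨r, d, σ, hd, hbij⟩ := wedderburn_group (K := AlgInt ⧸ M) (G := Q) hG
  obtain ⟨hsq, hne⟩ := Cfsg.Agent.Helper10.DT.wedderburn_consequences d σ hd hbij
  have hirr : ∀ i, IsIrredMat (σ i) := by
    intro i
    haveI : Nonempty (Fin (d i)) := ⟨⟨0, hd i⟩⟩
    have hs : ∀ A : Matrix (Fin (d i)) (Fin (d i)) (AlgInt ⧸ M),
        ∃ x : Q → AlgInt ⧸ M, gaAct (σ i) x = A := by
      intro A
      obtain ⟨x, hx, -⟩ := hbij (fun k => if h : k = i then h ▸ A else 0)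
      refine ⟨x, ?_⟩
      rw [hx i, dif_pos rfl]
    have h1 := Cfsg.Agent.Helper10.DT.isIrredMat_map_of_surjective (L := AlgInt ⧸ M) (σ i) hs
    have e : ((algebraMap (AlgInt ⧸ M) (AlgInt ⧸ M)).mapMatrix :
        Matrix (Fin (d i)) (Fin (d i)) (AlgInt ⧸ M) →+* Matrix (Fin (d i)) (Fin (d i)) (AlgInt ⧸ M)
        ).toMonoidHom.comp (σ i) = σ i := by
      ext g a b
      rfl
    rwa [e] at h1
  let φ : Fin r → (Q → ℂ) := fun i => brauerChar p M (σ i)
  have hφS : ∀ i, φ i ∈ S := fun i => (hS _).mpr ⟨d i, σ i, hirr i, rfl⟩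
  have hφinj : Function.Injective φ := by
    intro i j hij
    by_contra hne'
    exact hne i j hne' (hINJ (σ i) (σ j) (hirr i) (hirr j) hij)
  have hdeg : ∀ i, charDegree (φ i) = d i := by
    intro i
    have h1 : φ i 1 = (d i : ℂ) := by
      show brauerChar p M (σ i) 1 = _
      unfold brauerChar
      rw [E4_pRegularPart_one, E4_brauerFull_one hpM, Fintype.card_fin]
    unfold charDegree
    rw [h1]
    simp
  calc Fintype.card Q = ∑ i, d i ^ 2 := hsq.symm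
    _ = ∑ i, charDegree (φ i) ^ 2 := by simp only [hdeg]
    _ = ∑ ψ ∈ Finset.univ.image φ, charDegree ψ ^ 2 := by
        rw [Finset.sum_image (fun a _ b _ h => hφinj h)]
    _ ≤ ∑ ψ ∈ S, charDegree ψ ^ 2 := by
        apply Finset.sum_le_sum_of_subset
        intro ψ hψ
        obtain ⟨i, -, rfl⟩ := Finset.mem_image.mp hψ
        exact hφS i

/-- (E4) core: in a group of order prime to `p` every irreducible Brauer character is an irreducible
character. -/
theorem E4_irr (hpM : (p : AlgInt) ∈ M) {Q : Type u} [Group Q] [Fintype Q]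
    (hQ : ¬ p ∣ Nat.card Q)
    (hDEC : ∀ χ : IrrCharacter Q, ∃ l : List (Q → ℂ), (∀ φ ∈ l, φ ∈ IBr p M Q) ∧
      (χ : Q → ℂ) = l.sum)
    (hIBI : LinearIndependent ℂ (fun φ : IBr p M Q => (φ : Q → ℂ)))
    (hINJ : ∀ {m n : ℕ} (ρ : Q →* Matrix (Fin m) (Fin m) (AlgInt ⧸ M))
      (σ : Q →* Matrix (Fin n) (Fin n) (AlgInt ⧸ M)), IsIrredMat ρ → IsIrredMat σ →
      brauerChar p M ρ = brauerChar p M σ → MatEquiv ρ σ)
    {ψ : Q → ℂ} (hψ : ψ ∈ IBr p M Q) : IsIrrCharacter Q ψ := by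
  classical
  letI : Fintype (IrrCharacter Q) := Cfsg.Agent.Helper74.irrFintype Q
  have hreg : ∀ g : Q, IsPRegular p g := E4_isPRegular_of_not_dvd hQ
  have hSfin : (IBr p M Q).Finite := hIBI.setFinite
  let S : Finset (Q → ℂ) := hSfin.toFinset
  have hS : ∀ ψ, ψ ∈ S ↔ ψ ∈ IBr p M Q := fun ψ => Set.Finite.mem_toFinset hSfin
  choose l hl hsum using hDEC
  let f : (Q → ℂ) → ℕ := charDegree
  -- the degrees
  have hN : ∀ χ : IrrCharacter Q, (χ : Q → ℂ) 1 = (((l χ).map f).sum : ℂ) := by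
    intro χ
    rw [hsum χ, E4_list_sum_apply, Nat.cast_list_sum, List.map_map]
    congr 1
    apply List.map_congr_left
    intro φ hφ
    exact (E4_IBr_degree hpM (hl χ φ hφ)).2
  have hT1 : ∑ χ : IrrCharacter Q, ((l χ).map f).sum ^ 2 = Fintype.card Q := by
    have h := Cfsg.Agent.Helper74.sum_irr_degree_sq (G := Q)
    have : ((∑ χ : IrrCharacter Q, ((l χ).map f).sum ^ 2 : ℕ) : ℂ) = (Fintype.card Q : ℂ) := by
      rw [Nat.cast_sum, ← Nat.card_eq_fintype_card, ← h]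
      refine Finset.sum_congr rfl (fun χ _ => ?_)
      rw [Nat.cast_pow, ← hN χ, pow_two]
    exact_mod_cast this
  -- T2 ≥ T3
  have hT23 : ∑ ψ ∈ S, f ψ ^ 2 ≤
      ∑ χ : IrrCharacter Q, ((l χ).map (fun φ => f φ ^ 2)).sum := by
    calc ∑ ψ ∈ S, f ψ ^ 2
        ≤ ∑ ψ ∈ S, ∑ χ : IrrCharacter Q, (if ψ ∈ l χ then f ψ ^ 2 else 0) := by
          refine Finset.sum_le_sum (fun ψ hψ => ?_)
          obtain ⟨χ, hχ⟩ := E4_occurs hreg l hl hsum hIBI ((hS ψ).mp hψ)
          calc f ψ ^ 2 = (if ψ ∈ l χ then f ψ ^ 2 else 0) := by rw [if_pos hχ]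
            _ ≤ _ := Finset.single_le_sum (f := fun χ => if ψ ∈ l χ then f ψ ^ 2 else 0)
                (fun _ _ => Nat.zero_le _) (Finset.mem_univ χ)
      _ = ∑ χ : IrrCharacter Q, ∑ ψ ∈ S, (if ψ ∈ l χ then f ψ ^ 2 else 0) := Finset.sum_comm
      _ ≤ ∑ χ : IrrCharacter Q, ((l χ).map (fun φ => f φ ^ 2)).sum := by
          refine Finset.sum_le_sum (fun χ _ => ?_)
          rw [← Finset.sum_filter]
          calc ∑ ψ ∈ S.filter (fun ψ => ψ ∈ l χ), f ψ ^ 2
              ≤ ∑ ψ ∈ (l χ).toFinset, f ψ ^ 2 := by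
                apply Finset.sum_le_sum_of_subset
                intro ψ hψ
                rw [Finset.mem_filter] at hψ
                exact List.mem_toFinset.mpr hψ.2
            _ ≤ _ := E4_sum_toFinset_le (l χ) (fun φ => f φ ^ 2)
  -- T3 ≥ |Q|
  have hT3 : Fintype.card Q ≤ ∑ ψ ∈ S, f ψ ^ 2 := E4_sum_sq_ge hpM hQ hINJ S hS
  -- termwise
  have hmm : ∀ χ : IrrCharacter Q, ((l χ).map f).map (fun x => x ^ 2)
      = (l χ).map (fun φ => f φ ^ 2) := by
    intro χ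
    rw [List.map_map]
    rfl
  have hterm : ∀ χ : IrrCharacter Q,
      ((l χ).map (fun φ => f φ ^ 2)).sum ≤ ((l χ).map f).sum ^ 2 := by
    intro χ
    have := E4_list_sq_le ((l χ).map f)
    rwa [hmm] at this
  have heq : ∑ χ : IrrCharacter Q, ((l χ).map (fun φ => f φ ^ 2)).sum
      = ∑ χ : IrrCharacter Q, ((l χ).map f).sum ^ 2 := by
    apply le_antisymm (Finset.sum_le_sum (fun χ _ => hterm χ))
    rw [hT1]
    exact hT3.trans hT23
  have hterm_eq := (Finset.sum_eq_sum_iff_of_le (fun χ _ => hterm χ)).mp heq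
  -- lengths
  have hlen : ∀ χ : IrrCharacter Q, (l χ).length ≤ 1 := by
    intro χ
    have h1 := hterm_eq χ (Finset.mem_univ χ)
    have h2 := E4_list_length_le_one ((l χ).map f)
      (by
        intro x hx
        obtain ⟨φ, hφ, rfl⟩ := List.mem_map.mp hx
        exact (E4_IBr_degree hpM (hl χ φ hφ)).1)
      (by
        rw [hmm]
        exact h1.ge)
    rwa [List.length_map] at h2
  -- conclusion
  obtain ⟨χ, hχ⟩ := E4_occurs hreg l hl hsum hIBI hψ
  have hlχ : l χ = [ψ] := by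
    have h3 := hlen χ
    match h : l χ with
    | [] => rw [h] at hχ; simp at hχ
    | [a] =>
      rw [h] at hχ
      rw [List.mem_singleton] at hχ
      rw [hχ]
    | a :: b :: t =>
      rw [h] at h3
      simp at h3
  have h2 : (χ : Q → ℂ) = ψ := by
    rw [hsum χ, hlχ]
    simp
  rw [← h2]
  exact χ.2

end Core

end Cfsg.Agent.Helper70.DT
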