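import Cfsg.Agent.Helper16.DT.Defs
import Cfsg.Agent.Helper70.DT_E4Core
import Cfsg.Agent.Helper24.DT_JH2
import Cfsg.Agent.Helper10.DT_ADD

/-!
# DT farm (helper16), piece (E4) from (DEC), (IBI), (INJ) as hypotheses: for a group of order prime to
`p`, the lifted trace function of a matrix representation over the residue field is an ordinary
character.
-/

set_option autoImplicit false
set_option linter.unusedSectionVars false
set_option linter.unusedVariables false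

namespace Cfsg.Agent.Helper70.DT

open Cfsg Cfsg.Agent.Helper16 Cfsg.Agent.Helper16.DT Polynomial Matrix

universe u v w

section Decomp

variable {p : ℕ} [Fact p.Prime] {M : Ideal AlgInt} [M.IsMaximal]

theorem E4_isCharacter_list_sum {Q : Type u} [Group Q] (l : List (Q → ℂ))
    (h : ∀ φ ∈ l, IsCharacter Q φ) : IsCharacter Q l.sum := by
  induction l with
  | nil => exact Cfsg.Agent.Helper74.isCharacter_zero
  | cons a t ih =>
    rw [List.sum_cons]
    exact Cfsg.Agent.Helper74.isCharacter_add (h a List.mem_cons_self)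
      (ih (fun φ hφ => h φ (List.mem_cons_of_mem _ hφ)))

/-- (E4) from (DEC), (IBI), (INJ) for the group `Q`. -/
theorem E4_of (hpM : (p : AlgInt) ∈ M) {Q : Type u} [Group Q] [Fintype Q]
    (hQ : ¬ p ∣ Nat.card Q)
    (hDEC : ∀ χ : IrrCharacter Q, ∃ l : List (Q → ℂ),
      (∀ φ ∈ l, φ ∈ IBrIn p M (blockOf M (χ : Q → ℂ))) ∧ pRegularPart p (χ : Q → ℂ) = l.sum)
    (hIBI : LinearIndependent ℂ (fun φ : IBr p M Q => (φ : Q → ℂ)))
    (hINJ : ∀ {m n : ℕ} (ρ : Q →* Matrix (Fin m) (Fin m) (AlgInt ⧸ M))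
      (σ : Q →* Matrix (Fin n) (Fin n) (AlgInt ⧸ M)), IsIrredMat ρ → IsIrredMat σ →
      brauerChar p M ρ = brauerChar p M σ → MatEquiv ρ σ)
    {n : ℕ} (τ : Q →* Matrix (Fin n) (Fin n) (AlgInt ⧸ M)) :
    IsCharacter Q (brauerFull p M τ) := by
  have hreg : ∀ g : Q, IsPRegular p g := E4_isPRegular_of_not_dvd hQ
  have hDEC' : ∀ χ : IrrCharacter Q, ∃ l : List (Q → ℂ), (∀ φ ∈ l, φ ∈ IBr p M Q) ∧
      (χ : Q → ℂ) = l.sum := by
    intro χ
    obtain ⟨l, hl, hs⟩ := hDEC χ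
    refine ⟨l, ?_, ?_⟩
    · intro φ hφ
      obtain ⟨m, ρ, hρ, hφρ, -⟩ := hl φ hφ
      exact ⟨m, ρ, hρ, hφρ⟩
    · rw [← hs, E4_pRegularPart_of_all hreg]
  obtain ⟨lst, hirr, hcp, -⟩ := Cfsg.Agent.Helper24.DT.exists_compSeries τ
  rw [Cfsg.Agent.Helper10.DT.brauerFull_compSeries τ lst hcp]
  apply E4_isCharacter_list_sum
  intro φ hφ
  obtain ⟨s, hs, rfl⟩ := List.mem_map.mp hφ
  have hmem : brauerFull p M s.2 ∈ IBr p M Q := by
    refine ⟨s.1, s.2, hirr s hs, ?_⟩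
    unfold brauerChar
    rw [E4_pRegularPart_of_all hreg]
  exact Cfsg.Agent.Helper74.isCharacter_of_isIrr (E4_irr hpM hQ hDEC' hIBI hINJ hmem)

end Decomp

end Cfsg.Agent.Helper70.DT
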