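import Cfsg.Agent.Helper40.E6Tor.Defs2

/-!
# E6Tor farm (helper40, S2373), piece (TAU27): the torus elements of the `27`-dimensional model as
words of root elements
-/

set_option autoImplicit false
set_option linter.unusedVariables false

namespace Cfsg.Agent.Helper70.E6Tor

open Cfsg Cfsg.Lie Cfsg.Agent.Helper18 Cfsg.Agent.Helper19.Cox Cfsg.Agent.Helper19.Poinc
  Cfsg.Agent.Helper80.Tor Cfsg.Agent.Helper36.TorD Cfsg.Agent.Helper83.E6C Cfsg.Agent.Helper40.E6Tor
open Polynomial

theorem TAU27_word27_append {L : Type*} [Field L] (w₁ w₂ : List (ℕ × L)) :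
    word27 L (w₁ ++ w₂) = word27 L w₁ * word27 L w₂ := by
  unfold word27
  rw [List.map_append, List.prod_append]

theorem TAU27_word27_nil {L : Type*} [Field L] : word27 L [] = 1 := rfl

/-- no weight is both `upper` for a simple root and for its negative -/
theorem TAU27_upper_excl : ∀ i : Fin 6, ∀ a : I27,
    ¬ (upper (chevE6.simple i.val) a = true ∧ upper (chevE6.neg (chevE6.simple i.val)) a = true) := by
  decide

theorem TAU27_simple_lt : ∀ i : Fin 6, chevE6.simple i.val < 72 := by decide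

theorem TAU27_hdiag {L : Type*} [Field L] (i : Fin 6) (t : Lˣ) (a : I27) :
    hdiag L (chevE6.simple i.val) (t : L) a = ((t ^ wt27 a i.val : Lˣ) : L) := by
  unfold hdiag wt27
  have hex := TAU27_upper_excl i a
  by_cases h1 : upper (chevE6.simple i.val) a = true
  · have h2 : ¬ upper (chevE6.neg (chevE6.simple i.val)) a = true := fun h2 => hex ⟨h1, h2⟩
    rw [if_pos h1, if_neg h2, if_pos h1, zpow_one]
    ring
  · by_cases h2 : upper (chevE6.neg (chevE6.simple i.val)) a = true
    · rw [if_neg h1, if_pos h2, if_neg h1, if_pos h2, zpow_neg, zpow_one, Units.val_inv_eq_inv_val]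
      ring
    · rw [if_neg h1, if_neg h2, if_neg h1, if_neg h2, zpow_zero, Units.val_one]
      ring

/-- (TAU27) the torus elements as words, `27`-dimensional model (`word27_hWord`, `hdiag`) -/
theorem word27_hWordAll {L : Type*} [Field L] (c : Fin 6 → Lˣ) :
    word27 L (hWordAll c) = tauT L c := by
  have hrange : List.range 6 = [0, 1, 2, 3, 4, 5] := rfl
  have hext : ∀ i : Fin 6, extendUnits 6 c i.val = ((c i : Lˣ) : L) := by
    intro i
    unfold extendUnits
    rw [dif_pos i.2]
  have hw : ∀ i : Fin 6, ((word27 L (chevE6.hWord (chevE6.simple i.val) (extendUnits 6 c i.val)) : GL I27 L) :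
      Matrix I27 I27 L) = Matrix.diagonal fun a => ((c i ^ wt27 a i.val : Lˣ) : L) := by
    intro i
    rw [hext i, word27_hWord L _ (TAU27_simple_lt i) _ (Units.ne_zero _)]
    congr 1
    funext a
    exact TAU27_hdiag i (c i) a
  unfold hWordAll
  rw [hrange]
  simp only [List.flatMap_cons, List.flatMap_nil, List.append_nil, TAU27_word27_append]
  apply Units.ext
  rw [tauT_val]
  simp only [Units.val_mul]
  have h0 : ((word27 L (chevE6.hWord (chevE6.simple 0) (extendUnits 6 c 0)) : GL I27 L) :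
      Matrix I27 I27 L) = Matrix.diagonal fun a => ((c 0 ^ wt27 a 0 : Lˣ) : L) := hw 0
  have h1 : ((word27 L (chevE6.hWord (chevE6.simple 1) (extendUnits 6 c 1)) : GL I27 L) :
      Matrix I27 I27 L) = Matrix.diagonal fun a => ((c 1 ^ wt27 a 1 : Lˣ) : L) := hw 1
  have h2 : ((word27 L (chevE6.hWord (chevE6.simple 2) (extendUnits 6 c 2)) : GL I27 L) :
      Matrix I27 I27 L) = Matrix.diagonal fun a => ((c 2 ^ wt27 a 2 : Lˣ) : L) := hw 2
  have h3 : ((word27 L (chevE6.hWord (chevE6.simple 3) (extendUnits 6 c 3)) : GL I27 L) :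
      Matrix I27 I27 L) = Matrix.diagonal fun a => ((c 3 ^ wt27 a 3 : Lˣ) : L) := hw 3
  have h4 : ((word27 L (chevE6.hWord (chevE6.simple 4) (extendUnits 6 c 4)) : GL I27 L) :
      Matrix I27 I27 L) = Matrix.diagonal fun a => ((c 4 ^ wt27 a 4 : Lˣ) : L) := hw 4
  have h5 : ((word27 L (chevE6.hWord (chevE6.simple 5) (extendUnits 6 c 5)) : GL I27 L) :
      Matrix I27 I27 L) = Matrix.diagonal fun a => ((c 5 ^ wt27 a 5 : Lˣ) : L) := hw 5
  rw [h0, h1, h2, h3, h4, h5]
  simp only [Matrix.diagonal_mul_diagonal]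
  congr 1
  funext a
  show _ = ((∏ i : Fin 6, c i ^ wt27 a i.val : Lˣ) : L)
  rw [Fin.prod_univ_six]
  simp only [Units.val_mul, mul_assoc]
  rfl

end Cfsg.Agent.Helper70.E6Tor
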