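import Cfsg.Agent.Helper40.E6Tor.Defs
import Cfsg.Agent.Helper46.E6Tor_WCHK
import Cfsg.Agent.Helper46.E6Tor_WROWS
import Cfsg.Agent.Helper55.E6Tor_WMUL
import Cfsg.Agent.Helper55.E6Tor_WLEAF
import Cfsg.Agent.Helper64.E6Tor_WCONJ
import Cfsg.Agent.Helper49.E6Tor_WENUM0
import Cfsg.Agent.Helper49.E6Tor_WENUM1
import Cfsg.Agent.Helper49.E6Tor_WENUM2
import Cfsg.Agent.Helper49.E6Tor_WENUM3
import Cfsg.Agent.Helper49.E6Tor_WENUM4

/-!
# E6Tor farm (helper40, S2373), piece (WKEY): the alternatives `WeylAlt` hold for every element of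
`W(E₆)` (glue of Part W: WCONJ + WROWS + WENUM0-4 + WCHK + WLEAF + WMUL, and a private copy of WINV)
-/

set_option autoImplicit false
set_option linter.unusedVariables false

namespace Cfsg.Agent.Helper70.E6Tor

open Cfsg Cfsg.Lie Cfsg.Agent.Helper18 Cfsg.Agent.Helper19.Cox Cfsg.Agent.Helper19.Poinc
  Cfsg.Agent.Helper80.Tor Cfsg.Agent.Helper36.TorD Cfsg.Agent.Helper40.E6Tor
open Polynomial

section Conj

variable {n : Type*} [Fintype n] [DecidableEq n]

theorem WKEY_conj_pow (M U V : Matrix n n ℤ) (hUV : U * V = 1) (k : ℕ) :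
    (V * M * U) ^ k * V = V * M ^ k := by
  induction k with
  | zero => rw [pow_zero, pow_zero, one_mul, mul_one]
  | succ k ih =>
    rw [pow_succ', mul_assoc, ih, pow_succ']
    calc V * M * U * (V * M ^ k) = V * M * (U * V) * M ^ k := by simp only [mul_assoc]
      _ = V * (M * M ^ k) := by rw [hUV, mul_one, mul_assoc]

/-- a polynomial identity for `V M U` gives the same identity for `M`; here in the form needed:
`X ↦ V * X * U` is injective, additive, multiplicative on powers -/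
theorem WKEY_conj_pow' (M U V : Matrix n n ℤ) (hUV : U * V = 1) (k : ℕ) :
    (V * M * U) ^ k = V * M ^ k * U ∨ k = 0 := by
  rcases Nat.eq_zero_or_pos k with h | h
  · exact Or.inr h
  · left
    obtain ⟨j, rfl⟩ : ∃ j, k = j + 1 := ⟨k - 1, by omega⟩
    rw [pow_succ, ← mul_assoc, ← mul_assoc, WKEY_conj_pow M U V hUV j, pow_succ, mul_assoc V]

theorem WKEY_conj_inj (U V : Matrix n n ℤ) (hUV : U * V = 1) (X : Matrix n n ℤ)
    (h : V * X * U = 0) : X = 0 := by
  have : U * (V * X * U) * V = X := by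
    calc U * (V * X * U) * V = (U * V) * X * (U * V) := by simp only [mul_assoc]
      _ = X := by rw [hUV, one_mul, mul_one]
  rw [← this, h, mul_zero, zero_mul]

/-- (WINV), private copy: `WeylAlt` is invariant under conjugation -/
theorem WKEY_weylAlt_conj (M U V : Matrix n n ℤ)
    (hUV : U * V = 1) (hVU : V * U = 1) (h : WeylAlt (V * M * U)) : WeylAlt M := by
  have hp : ∀ k : ℕ, 0 < k → (V * M * U) ^ k = V * M ^ k * U := by
    intro k hk
    rcases WKEY_conj_pow' M U V hUV k with h | h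
    · exact h
    · omega
  have hone : (1 : Matrix n n ℤ) = V * 1 * U := by rw [mul_one, hVU]
  have hpow1 : ∀ k : ℕ, 0 < k → (V * M * U) ^ k = 1 → M ^ k = 1 := by
    intro k hk h1
    rw [hp k hk] at h1
    have h2 : V * (M ^ k - 1) * U = 0 := by
      rw [mul_sub, sub_mul, h1, mul_one, hVU, sub_self]
    exact sub_eq_zero.mp (WKEY_conj_inj U V hUV _ h2)
  rcases h with h | h | h | h | ⟨h1, h2, h3⟩
  · exact Or.inl (hpow1 8 (by norm_num) h)
  · exact Or.inr (Or.inl (hpow1 9 (by norm_num) h))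
  · exact Or.inr (Or.inr (Or.inl (hpow1 10 (by norm_num) h)))
  · refine Or.inr (Or.inr (Or.inr (Or.inl ?_)))
    apply WKEY_conj_inj U V hUV
    rw [hp 10 (by norm_num), hp 6 (by norm_num), hp 4 (by norm_num)] at h
    rw [← h]
    conv_rhs => rw [hone]
    simp only [mul_add, mul_sub, add_mul, sub_mul]
  · refine Or.inr (Or.inr (Or.inr (Or.inr ⟨?_, ?_, ?_⟩)))
    · apply WKEY_conj_inj U V hUV
      rw [hp 6 (by norm_num), hp 5 (by norm_num), hp 3 (by norm_num)] at h1
      rw [← h1]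
      conv_rhs => rw [hone]
      simp only [mul_add, mul_sub, add_mul, sub_mul]
    · intro h0
      apply h2
      rw [hp 4 (by norm_num), hp 2 (by norm_num)]
      have : V * (M ^ 4 - M ^ 2 + 1) * U = 0 := by rw [h0, mul_zero, zero_mul]
      rw [← this]
      conv_lhs => rw [hone]
      simp only [mul_add, mul_sub, add_mul, sub_mul]
    · intro h0
      apply h3
      rw [hp 2 (by norm_num)]
      have : V * (M ^ 2 + M + 1) * U = 0 := by rw [h0, mul_zero, zero_mul]
      rw [← this]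
      conv_lhs => rw [hone]
      simp only [mul_add, mul_sub, add_mul, sub_mul]

end Conj

/-- the alternatives for a `6 × 6` matrix with the rows of an element of `W(E₆)` and first row a
representative -/
theorem WKEY_of_rows (M : Matrix (Fin 6) (Fin 6) ℤ)
    (hrows : (∀ r ∈ ofMat M, r ∈ roots6) ∧ gramOK (ofMat M) = true ∧ mod3OK (ofMat M) = true)
    (hrep : (ofMat M).getD 0 [] ∈ reps) : WeylAlt M := by
  obtain ⟨hr, hg, hm⟩ := hrows
  have heq := Cfsg.Agent.Helper55.E6Tor.ofMat_eq M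
  obtain ⟨hWF, hto⟩ := Cfsg.Agent.Helper55.E6Tor.toMat_ofMat M
  rw [heq] at hr hg hm hrep
  have hb1 : List.ofFn (M 0) ∈ reps := by simpa using hrep
  have hchk : chk (List.ofFn (M 0)) = true := by
    unfold reps at hb1
    simp only [List.mem_cons, List.not_mem_nil, or_false] at hb1
    rcases hb1 with h | h | h | h | h <;> rw [h]
    · exact Cfsg.Agent.Helper49.E6Tor.chk_rep0
    · exact Cfsg.Agent.Helper49.E6Tor.chk_rep1
    · exact Cfsg.Agent.Helper49.E6Tor.chk_rep2
    · exact Cfsg.Agent.Helper49.E6Tor.chk_rep3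
    · exact Cfsg.Agent.Helper49.E6Tor.chk_rep4
  have hleaf := Cfsg.Agent.Helper46.E6Tor.chk_sound _ (List.ofFn (M 1)) (List.ofFn (M 2))
    (List.ofFn (M 3)) (List.ofFn (M 4)) (List.ofFn (M 5)) hchk
    (hr _ (by simp)) (hr _ (by simp)) (hr _ (by simp)) (hr _ (by simp)) (hr _ (by simp)) hg hm
  rw [← heq] at hleaf
  have h := Cfsg.Agent.Helper55.E6Tor.leafOK_sound (ofMat M) hWF hleaf
  rwa [hto] at h

/-- (WKEY) the alternatives hold for every element of `W(E₆)` -/
theorem weylAlt_wordM (w : List ℕ) : WeylAlt (wordM chevE6 w) := by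
  obtain ⟨u, h1, h2, h3⟩ := Cfsg.Agent.Helper64.E6Tor.exists_conj w
  have hrows := Cfsg.Agent.Helper46.E6Tor.rows_wordM (u.reverse ++ w ++ u)
  have hM' : WeylAlt (Cfsg.Agent.Helper64.E6Tor.W6w (u.reverse ++ w ++ u)) :=
    WKEY_of_rows _ hrows h3
  rw [Cfsg.Agent.Helper64.E6Tor.W6w_append, Cfsg.Agent.Helper64.E6Tor.W6w_append] at hM'
  exact WKEY_weylAlt_conj (Cfsg.Agent.Helper64.E6Tor.W6w w) (Cfsg.Agent.Helper64.E6Tor.W6w u)
    (Cfsg.Agent.Helper64.E6Tor.W6w u.reverse) h2 h1 hM'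

end Cfsg.Agent.Helper70.E6Tor
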