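import Cfsg.Agent.Helper40.E6Tor.Defs2
import Cfsg.Agent.Helper48.TorD_RHOGP
import Cfsg.Agent.Helper70.E6Tor_WKEY

/-!
# E6Tor farm (helper40, S2373), piece (WRHO): every element of `W6` is a word in the fundamental
reflections, and the alternatives `WeylAlt` hold for its matrix
-/

set_option autoImplicit false
set_option linter.unusedVariables false

namespace Cfsg.Agent.Helper70.E6Tor

open Cfsg Cfsg.Lie Cfsg.Agent.Helper18 Cfsg.Agent.Helper19.Cox Cfsg.Agent.Helper19.Poinc
  Cfsg.Agent.Helper80.Tor Cfsg.Agent.Helper36.TorD Cfsg.Agent.Helper83.E6C Cfsg.Agent.Helper40.E6Tor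
open Polynomial

theorem WRHO_gp_map (ω : List (Fin chevE6.rank)) :
    gp certE6.M (ω.map Fin.val) = certE6.M.toCoxeterSystem.wordProd ω := by
  induction ω with
  | nil => rw [List.map_nil, gp_nil, CoxeterSystem.wordProd_nil]
  | cons i ω ih =>
    rw [List.map_cons, gp_cons, ih, CoxeterSystem.wordProd_cons, sg_of_lt _ i.2]

/-- (WRHO) every element of `W6` is a word, and the alternatives hold for its matrix -/
theorem exists_word_rhoM (s : W6) : ∃ w : List ℕ, (∀ i ∈ w, i < 6) ∧ s = gp certE6.M w ∧ rhoM s = wordM chevE6 w := by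
  obtain ⟨ω, hω⟩ := certE6.M.toCoxeterSystem.wordProd_surjective s
  have hw : ∀ i ∈ ω.map Fin.val, i < chevE6.rank := by
    intro i hi
    obtain ⟨j, -, rfl⟩ := List.mem_map.mp hi
    exact j.2
  have hs : s = gp certE6.M (ω.map Fin.val) := by rw [WRHO_gp_map, hω]
  refine ⟨ω.map Fin.val, hw, hs, ?_⟩
  have h := Cfsg.Agent.Helper48.TorD.rhoHom_gp chevE6 (by simp) certE6 refSq_E6 liftable_E6
    (ω.map Fin.val) hw
  rw [← hs] at h
  exact h

/-- (WRHO) -/
theorem weylAlt_rhoM (s : W6) : WeylAlt (rhoM s) := by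
  obtain ⟨w, -, -, h⟩ := exists_word_rhoM s
  rw [h]
  exact weylAlt_wordM w

end Cfsg.Agent.Helper70.E6Tor
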