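import Mathlib

set_option autoImplicit false

namespace Cfsg.Agent.Helper70

/-- In a `ZMod p`-module the span of a set is its additive closure. -/
theorem span_eq_top_iff_closure_eq_top {p : ℕ} {V : Type*} [AddCommGroup V] [Module (ZMod p) V] (s : Set V) :
    Submodule.span (ZMod p) s = ⊤ ↔ AddSubgroup.closure s = ⊤ := by
  constructor
  · intro h
    rw [eq_top_iff]
    intro x _
    have h1 : Submodule.span (ZMod p) s ≤ AddSubgroup.toZModSubmodule p (AddSubgroup.closure s) := by
      rw [Submodule.span_le]
      intro y hy
      exact AddSubgroup.subset_closure hy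
    have : x ∈ Submodule.span (ZMod p) s := by rw [h]; trivial
    exact h1 this
  · intro h
    rw [eq_top_iff]
    intro x _
    have h1 : AddSubgroup.closure s ≤ (Submodule.span (ZMod p) s).toAddSubgroup := by
      rw [AddSubgroup.closure_le]
      intro y hy
      exact Submodule.subset_span hy
    have : x ∈ AddSubgroup.closure s := by rw [h]; trivial
    exact h1 this

/-- The number of generating `r`-tuples of an elementary abelian group of order `p ^ r` (additive version). -/
theorem card_generating_tuples_add {p : ℕ} [Fact p.Prime] {V : Type*} [AddCommGroup V] [Finite V]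
    [Module (ZMod p) V] (r : ℕ) (hV : Nat.card V = p ^ r) :
    Nat.card {s : Fin r → V // AddSubgroup.closure (Set.range s) = ⊤} = ∏ i : Fin r, (p ^ r - p ^ (i : ℕ)) := by
  have hp : p.Prime := Fact.out
  haveI : Fintype V := Fintype.ofFinite V
  have hfr : Module.finrank (ZMod p) V = r := by
    have h1 := Module.card_eq_pow_finrank (K := ZMod p) (V := V)
    rw [ZMod.card, ← Nat.card_eq_fintype_card, hV] at h1
    exact (Nat.pow_right_injective hp.two_le h1).symm
  have h2 := card_linearIndependent (K := ZMod p) (V := V) (k := r) (le_of_eq hfr.symm)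
  rw [ZMod.card, hfr] at h2
  rw [← h2]
  apply Nat.card_congr
  refine Equiv.subtypeEquivRight ?_
  intro s
  rw [← span_eq_top_iff_closure_eq_top (p := p)]
  constructor
  · intro h
    exact linearIndependent_of_top_le_span_of_card_eq_finrank (le_of_eq h.symm)
      (by rw [Fintype.card_fin, hfr])
  · intro h
    exact h.span_eq_top_of_card_eq_finrank' (by rw [Fintype.card_fin, hfr])

/-- The number of generating `r`-tuples of an elementary abelian group of order `p ^ r`. -/
theorem card_generating_tuples {p : ℕ} [Fact p.Prime] {V : Type*} [Group V] [Finite V]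
    (hcomm : ∀ a b : V, a * b = b * a) (hexp : ∀ a : V, a ^ p = 1) (r : ℕ) (hV : Nat.card V = p ^ r) :
    Nat.card {h : Fin r → V // Subgroup.closure (Set.range h) = ⊤} = ∏ i : Fin r, (p ^ r - p ^ (i : ℕ)) := by
  letI : CommGroup V := { (inferInstance : Group V) with mul_comm := hcomm }
  letI : Module (ZMod p) (Additive V) := AddCommGroup.zmodModule (n := p) (by
    intro x
    exact congrArg Additive.ofMul (hexp x.toMul))
  have h1 := card_generating_tuples_add (p := p) (V := Additive V) r (by
    rw [← hV]; exact Nat.card_congr Additive.toMul)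
  rw [← h1]
  apply Nat.card_congr
  refine Equiv.subtypeEquiv (Equiv.piCongrRight (fun _ => Additive.ofMul)) ?_
  intro h
  have e : Set.range ((Equiv.piCongrRight (fun _ : Fin r => (Additive.ofMul : V ≃ Additive V))) h) =
      Additive.toMul ⁻¹' (Set.range h) := by
    ext x
    constructor
    · rintro ⟨i, rfl⟩
      exact ⟨i, rfl⟩
    · rintro ⟨i, hi⟩
      exact ⟨i, by show Additive.ofMul (h i) = x; rw [hi]; rfl⟩
  rw [e, ← Subgroup.toAddSubgroup_closure]
  constructor
  · intro hh
    rw [hh]; rfl
  · intro hh
    have := congrArg (Subgroup.toAddSubgroup.symm) hh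
    simpa using this

end Cfsg.Agent.Helper70
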