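import Mathlib
import Cfsg.Prelude.Def_Solvable
import Cfsg.Prelude.Def_CaseTheorems

/-!
# S4385 GD farm (helper42), piece (OC2): the odd core of a finite 2-group is trivial
-/

set_option autoImplicit false

universe u

namespace Cfsg.Agent.Helper70.GD

open Pointwise Cfsg

/-- (OC2) -/
theorem oddCore_eq_bot_of_isPGroup {A : Type*} [Group A] [Finite A] (h : IsPGroup 2 A) :
    Cfsg.oddCore A = ⊥ := by
  rw [eq_bot_iff]
  show Cfsg.pPrimeCore 2 A ≤ ⊥
  unfold Cfsg.pPrimeCore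
  apply sSup_le
  rintro N ⟨-, hN⟩
  haveI : Fact (Nat.Prime 2) := ⟨Nat.prime_two⟩
  have hNp : IsPGroup 2 N := h.to_subgroup N
  obtain ⟨k, hk⟩ := IsPGroup.iff_card.mp hNp
  rw [hk] at hN
  have hk0 : k = 0 := by
    by_contra hne
    have h2 : 2 ∣ 2 ^ k := dvd_pow_self 2 hne
    have := Nat.Coprime.eq_one_of_dvd hN.symm h2
    omega
  rw [hk0, pow_zero] at hk
  rw [Subgroup.card_eq_one] at hk
  rw [hk]

end Cfsg.Agent.Helper70.GD
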