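import Mathlib
import Cfsg.Agent.Helper1.HKK.GroupDefs
import Cfsg.Agent.Helper70.Commutator

/-!
# Group-theoretic core of the associated Lie ring (helper70, for (LG) of helper1's S3779 project)

For an arbitrary group `G` and `Gam G n = γ_n(G)` (`Gam G 0 = Gam G 1 = ⊤`):
* `gam_commutator_le : ⁅Gam G i, Gam G j⁆ ≤ Gam G (i + j)`;
* bilinearity and well-definedness of the commutator modulo `Gam G (i + j + 1)`;
* the Jacobi identity modulo `Gam G (i + j + k + 1)` (from Hall–Witt).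

`pr M : G →* G ⧸ Gam G M` is the projection; the congruences are stated as equalities of images
under `pr M`, for any `M ≤ i + j + 1` (resp. `M ≤ i + j + k + 1`), and as memberships.
-/

set_option autoImplicit false
open Cfsg.Agent.Helper1.HKK
open scoped commutatorElement

namespace Cfsg.Agent.Helper70.HKKLGGrp

variable {G : Type*} [Group G]

theorem lcs_commutator_le (i j : ℕ) :
    ⁅(⊤ : Subgroup G).lowerCentralSeries i, (⊤ : Subgroup G).lowerCentralSeries j⁆ ≤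
      (⊤ : Subgroup G).lowerCentralSeries (i + j + 1) := by
  induction j generalizing i with
  | zero => exact le_of_eq (Subgroup.lowerCentralSeries_succ _ i).symm
  | succ j ih =>
    rw [Subgroup.lowerCentralSeries_succ, Subgroup.commutator_comm]
    apply Cfsg.Agent.Helper70.three_subgroups_mod
    · rw [Subgroup.commutator_comm ⊤, ← Subgroup.lowerCentralSeries_succ]
      have h := ih (i + 1)
      have e : i + 1 + j + 1 = i + (j + 1) + 1 := by ring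
      rw [e] at h
      exact h
    · refine le_trans (Subgroup.commutator_mono (ih i) le_rfl) ?_
      rw [← Subgroup.lowerCentralSeries_succ]
      have e : i + j + 1 + 1 = i + (j + 1) + 1 := by ring
      rw [e]

instance gam_normal (n : ℕ) : (Gam G n).Normal := by
  unfold Gam; infer_instance

theorem gam_anti {m n : ℕ} (h : m ≤ n) : Gam G n ≤ Gam G m :=
  Subgroup.lowerCentralSeries_antitone _ (Nat.sub_le_sub_right h 1)

theorem gam_commutator_le (i j : ℕ) : ⁅Gam G i, Gam G j⁆ ≤ Gam G (i + j) := by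
  rcases Nat.eq_zero_or_pos i with rfl | hi
  · rw [zero_add]
    exact Subgroup.commutator_le_right _ _
  rcases Nat.eq_zero_or_pos j with rfl | hj
  · rw [add_zero]
    exact Subgroup.commutator_le_left _ _
  have h := lcs_commutator_le (G := G) (i - 1) (j - 1)
  have he : i - 1 + (j - 1) + 1 = i + j - 1 := by omega
  rw [he] at h
  exact h

theorem comm_mem_gam {i j : ℕ} {x y : G} (hx : x ∈ Gam G i) (hy : y ∈ Gam G j) :
    ⁅x, y⁆ ∈ Gam G (i + j) :=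
  gam_commutator_le i j (Subgroup.commutator_mem_commutator hx hy)

/-- The projection onto `G ⧸ γ_M`. -/
abbrev pr (M : ℕ) : G →* G ⧸ Gam G M := QuotientGroup.mk' (Gam G M)

theorem pr_eq_one_iff {M : ℕ} {x : G} : pr M x = 1 ↔ x ∈ Gam G M :=
  QuotientGroup.eq_one_iff x

theorem pr_eq_one_of_mem {m M : ℕ} (h : M ≤ m) {x : G} (hx : x ∈ Gam G m) : pr M x = 1 :=
  pr_eq_one_iff.mpr (gam_anti h hx)

theorem pr_eq_iff {M : ℕ} {x y : G} : pr M x = pr M y ↔ x⁻¹ * y ∈ Gam G M :=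
  QuotientGroup.eq

theorem pr_commute {i j M : ℕ} (h : M ≤ i + j) {x y : G} (hx : x ∈ Gam G i) (hy : y ∈ Gam G j) :
    Commute (pr M x) (pr M y) := by
  rw [← commutatorElement_eq_one_iff_commute, ← map_commutatorElement]
  exact pr_eq_one_of_mem h (comm_mem_gam hx hy)

theorem pr_comm_swap {M : ℕ} (x y : G) : pr M ⁅x, y⁆ = (pr M ⁅y, x⁆)⁻¹ := by
  rw [← map_inv, commutatorElement_inv]

theorem pr_comm_mul_left {i j M : ℕ} (hM : M ≤ i + j + 1) (hi : 1 ≤ i) {x x' y : G}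
    (hx : x ∈ Gam G i) (hx' : x' ∈ Gam G i) (hy : y ∈ Gam G j) :
    pr M ⁅x * x', y⁆ = pr M ⁅x, y⁆ * pr M ⁅x', y⁆ := by
  have hid : ⁅x * x', y⁆ = x * ⁅x', y⁆ * x⁻¹ * ⁅x, y⁆ := by
    simp only [commutatorElement_def]; group
  have h1 : Commute (pr M x) (pr M ⁅x', y⁆) :=
    pr_commute (by omega) hx (comm_mem_gam hx' hy)
  have h2 : Commute (pr M ⁅x', y⁆) (pr M ⁅x, y⁆) :=
    pr_commute (by omega) (comm_mem_gam hx' hy) (comm_mem_gam hx hy)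
  rw [hid, map_mul, map_mul, map_mul, map_inv, h1.eq, mul_inv_cancel_right, h2.eq]

theorem pr_comm_inv_left {i j M : ℕ} (hM : M ≤ i + j + 1) (hi : 1 ≤ i) {x y : G}
    (hx : x ∈ Gam G i) (hy : y ∈ Gam G j) :
    pr M ⁅x⁻¹, y⁆ = (pr M ⁅x, y⁆)⁻¹ := by
  have h := pr_comm_mul_left hM hi hx (inv_mem hx) hy
  rw [mul_inv_cancel, commutatorElement_one_left, map_one] at h
  exact eq_inv_of_mul_eq_one_right h.symm

theorem pr_comm_mul_right {i j M : ℕ} (hM : M ≤ i + j + 1) (hj : 1 ≤ j) {x y y' : G}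
    (hx : x ∈ Gam G i) (hy : y ∈ Gam G j) (hy' : y' ∈ Gam G j) :
    pr M ⁅x, y * y'⁆ = pr M ⁅x, y⁆ * pr M ⁅x, y'⁆ := by
  have h2 : Commute (pr M ⁅x, y'⁆) (pr M ⁅x, y⁆) :=
    pr_commute (by omega) (comm_mem_gam hx hy') (comm_mem_gam hx hy)
  rw [pr_comm_swap x (y * y'), pr_comm_mul_left (i := j) (j := i) (by omega) hj hy hy' hx,
    mul_inv_rev, ← pr_comm_swap, ← pr_comm_swap, h2.eq]

theorem pr_comm_inv_right {i j M : ℕ} (hM : M ≤ i + j + 1) (hj : 1 ≤ j) {x y : G}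
    (hx : x ∈ Gam G i) (hy : y ∈ Gam G j) :
    pr M ⁅x, y⁻¹⁆ = (pr M ⁅x, y⁆)⁻¹ := by
  have h := pr_comm_mul_right hM hj hx hy (inv_mem hy)
  rw [mul_inv_cancel, commutatorElement_one_right, map_one] at h
  exact eq_inv_of_mul_eq_one_right h.symm

theorem pr_comm_congr_left {i j M : ℕ} (hM : M ≤ i + j + 1) (hi : 1 ≤ i) {x x' y : G}
    (hx : x ∈ Gam G i) (h : x⁻¹ * x' ∈ Gam G (i + 1)) (hy : y ∈ Gam G j) :
    pr M ⁅x, y⁆ = pr M ⁅x', y⁆ := by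
  have ht : x⁻¹ * x' ∈ Gam G i := gam_anti (Nat.le_succ i) h
  have hx' : x' = x * (x⁻¹ * x') := by group
  have h1 : pr M ⁅x⁻¹ * x', y⁆ = 1 :=
    pr_eq_one_of_mem (by omega) (comm_mem_gam h hy)
  rw [hx', pr_comm_mul_left hM hi hx ht hy, h1, mul_one]

theorem pr_comm_congr_right {i j M : ℕ} (hM : M ≤ i + j + 1) (hj : 1 ≤ j) {x y y' : G}
    (hx : x ∈ Gam G i) (hy : y ∈ Gam G j) (h : y⁻¹ * y' ∈ Gam G (j + 1)) :
    pr M ⁅x, y⁆ = pr M ⁅x, y'⁆ := by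
  rw [pr_comm_swap x y, pr_comm_swap x y',
    pr_comm_congr_left (i := j) (j := i) (by omega) hj hy h hx]

/-- A Hall–Witt identity for the convention `⁅a, b⁆ = a * b * a⁻¹ * b⁻¹`. -/
theorem hall_witt (x y z : G) :
    y * ⁅⁅y⁻¹, x⁆, z⁆ * y⁻¹ * (z * ⁅⁅z⁻¹, y⁆, x⁆ * z⁻¹) * (x * ⁅⁅x⁻¹, z⁆, y⁆ * x⁻¹) = 1 := by
  simp only [commutatorElement_def]; group

theorem pr_conj_triple {i j k M : ℕ} (hM : M ≤ i + j + k + 1) (hi : 1 ≤ i) (hj : 1 ≤ j)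
    {x y z : G} (hx : x ∈ Gam G i) (hy : y ∈ Gam G j) (hz : z ∈ Gam G k) :
    pr M (y * ⁅⁅y⁻¹, x⁆, z⁆ * y⁻¹) = pr M ⁅⁅x, y⁆, z⁆ := by
  have h1 : Commute (pr M y) (pr M ⁅⁅y⁻¹, x⁆, z⁆) :=
    pr_commute (i := j) (j := j + i + k) (by omega) hy
      (comm_mem_gam (comm_mem_gam (inv_mem hy) hx) hz)
  rw [map_mul, map_mul, map_inv, h1.eq, mul_inv_cancel_right]
  have hu : ⁅y⁻¹, x⁆ ∈ Gam G (i + j) := by
    rw [Nat.add_comm]; exact comm_mem_gam (inv_mem hy) hx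
  have h2 : pr (i + j + 1) ⁅y⁻¹, x⁆ = pr (i + j + 1) ⁅x, y⁆ := by
    rw [pr_comm_inv_left (i := j) (j := i) (by omega) hj hy hx, ← pr_comm_swap]
  exact pr_comm_congr_left (i := i + j) (j := k) hM (by omega) hu (pr_eq_iff.mp h2) hz

/-- **Jacobi identity** modulo `γ_{i+j+k+1}`. -/
theorem pr_jacobi {i j k M : ℕ} (hM : M ≤ i + j + k + 1) (hi : 1 ≤ i) (hj : 1 ≤ j) (hk : 1 ≤ k)
    {x y z : G} (hx : x ∈ Gam G i) (hy : y ∈ Gam G j) (hz : z ∈ Gam G k) :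
    pr M ⁅⁅x, y⁆, z⁆ * pr M ⁅⁅y, z⁆, x⁆ * pr M ⁅⁅z, x⁆, y⁆ = 1 := by
  have h := congrArg (pr (G := G) M) (hall_witt x y z)
  rw [map_mul, map_mul, map_one, pr_conj_triple hM hi hj hx hy hz,
    pr_conj_triple (i := j) (j := k) (k := i) (by omega) hj hk hy hz hx,
    pr_conj_triple (i := k) (j := i) (k := j) (by omega) hk hi hz hx hy] at h
  exact h

/-! ### Membership forms -/

theorem comm_mul_left_mem {i j : ℕ} (hi : 1 ≤ i) {x x' y : G}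
    (hx : x ∈ Gam G i) (hx' : x' ∈ Gam G i) (hy : y ∈ Gam G j) :
    ⁅x * x', y⁆ * (⁅x, y⁆ * ⁅x', y⁆)⁻¹ ∈ Gam G (i + j + 1) := by
  rw [← pr_eq_one_iff, map_mul, map_inv, map_mul, pr_comm_mul_left le_rfl hi hx hx' hy,
    mul_inv_cancel]

theorem comm_mul_right_mem {i j : ℕ} (hj : 1 ≤ j) {x y y' : G}
    (hx : x ∈ Gam G i) (hy : y ∈ Gam G j) (hy' : y' ∈ Gam G j) :
    ⁅x, y * y'⁆ * (⁅x, y⁆ * ⁅x, y'⁆)⁻¹ ∈ Gam G (i + j + 1) := by
  rw [← pr_eq_one_iff, map_mul, map_inv, map_mul, pr_comm_mul_right le_rfl hj hx hy hy',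
    mul_inv_cancel]

theorem comm_congr_left_mem {i j : ℕ} (hi : 1 ≤ i) {x x' y : G}
    (hx : x ∈ Gam G i) (h : x⁻¹ * x' ∈ Gam G (i + 1)) (hy : y ∈ Gam G j) :
    ⁅x, y⁆⁻¹ * ⁅x', y⁆ ∈ Gam G (i + j + 1) :=
  pr_eq_iff.mp (pr_comm_congr_left le_rfl hi hx h hy)

theorem comm_congr_right_mem {i j : ℕ} (hj : 1 ≤ j) {x y y' : G}
    (hx : x ∈ Gam G i) (hy : y ∈ Gam G j) (h : y⁻¹ * y' ∈ Gam G (j + 1)) :
    ⁅x, y⁆⁻¹ * ⁅x, y'⁆ ∈ Gam G (i + j + 1) :=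
  pr_eq_iff.mp (pr_comm_congr_right le_rfl hj hx hy h)

theorem jacobi_mem {i j k : ℕ} (hi : 1 ≤ i) (hj : 1 ≤ j) (hk : 1 ≤ k)
    {x y z : G} (hx : x ∈ Gam G i) (hy : y ∈ Gam G j) (hz : z ∈ Gam G k) :
    ⁅⁅x, y⁆, z⁆ * ⁅⁅y, z⁆, x⁆ * ⁅⁅z, x⁆, y⁆ ∈ Gam G (i + j + k + 1) := by
  rw [← pr_eq_one_iff, map_mul, map_mul]
  exact pr_jacobi le_rfl hi hj hk hx hy hz

end Cfsg.Agent.Helper70.HKKLGGrp
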