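import Mathlib
import Cfsg.Prelude.Def_Classical
import Cfsg.Agent.Helper99.Is8.Defs

/-!
# S3590 piece (BIG) of helper99's market #12233

`H = V^κ ⋊ Ω⁻_8(F)` with `κ = Fin (M + 1)` has more than `M` elements.
-/

set_option autoImplicit false
set_option linter.unusedSectionVars false
set_option linter.unusedVariables false

universe u

namespace Cfsg.Agent.Helper70.Is8

open Matrix Cfsg.Agent.Helper99.Is8

variable {F : Type u} [Field F] [Fintype F]

/-- (BIG) `H` is large. -/
theorem hm_card_gt (a b : F) (M : ℕ) : M < Nat.card (Hm F a b (Fin (M + 1))) := by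
  classical
  have h1 : Nat.card (Hm F a b (Fin (M + 1))) =
      Nat.card (Matrix I8 (Fin (M + 1)) F) *
        Nat.card ↥(Cfsg.Omega F (Cfsg.quadFormMinus 3 F a b)) := by
    rw [Nat.card_congr Aff.equivProd, Nat.card_prod]
  have : Finite ↥(Cfsg.Omega F (Cfsg.quadFormMinus 3 F a b)) := inferInstance
  have h2 : 0 < Nat.card ↥(Cfsg.Omega F (Cfsg.quadFormMinus 3 F a b)) := Nat.card_pos
  have h3 : Nat.card (Matrix I8 (Fin (M + 1)) F) = Fintype.card F ^ (8 * (M + 1)) := by
    rw [Nat.card_eq_fintype_card]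
    change Fintype.card (I8 → Fin (M + 1) → F) = _
    have h8 : Fintype.card I8 = 8 := by
      simp [I8]
    rw [Fintype.card_fun, Fintype.card_fun, Fintype.card_fin, h8, ← pow_mul, mul_comm]
  have hF : 2 ≤ Fintype.card F := Fintype.one_lt_card
  have h4 : M < Fintype.card F ^ (8 * (M + 1)) := by
    calc M < 2 ^ M := Nat.lt_two_pow_self
      _ ≤ 2 ^ (8 * (M + 1)) := Nat.pow_le_pow_right (by norm_num) (by omega)
      _ ≤ Fintype.card F ^ (8 * (M + 1)) := Nat.pow_le_pow_left hF _
  rw [h1, h3]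
  calc M < Fintype.card F ^ (8 * (M + 1)) := h4
    _ = Fintype.card F ^ (8 * (M + 1)) * 1 := (mul_one _).symm
    _ ≤ _ := Nat.mul_le_mul_left _ h2

end Cfsg.Agent.Helper70.Is8
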