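import Mathlib

/-!
# S3590 piece (T0) of helper99's market #12233

A finite group has a copy in `Type` (on a one-field wrapper of `Fin n`) with the same element orders.
-/

set_option autoImplicit false

universe u

namespace Cfsg.Agent.Helper70.Is8

/-- a wrapper of `Fin n` without algebraic instances -/
structure T0Copy (n : ℕ) : Type where
  /-- the underlying index -/
  val : Fin n

/-- the wrapper is equivalent to `Fin n` -/
def T0Copy.equivFin (n : ℕ) : T0Copy n ≃ Fin n where
  toFun x := x.val
  invFun i := ⟨i⟩
  left_inv _ := rfl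
  right_inv _ := rfl

instance T0Copy.instFintype (n : ℕ) : Fintype (T0Copy n) := Fintype.ofEquiv (Fin n) (T0Copy.equivFin n).symm

theorem T0Copy.card (n : ℕ) : Fintype.card (T0Copy n) = n := by
  rw [Fintype.card_congr (T0Copy.equivFin n), Fintype.card_fin]

/-- (T0) a finite group has a copy in `Type` with the same element orders. -/
theorem exists_type0 (G : Type u) [Group G] [Finite G] :
    ∃ (H : Type) (_ : Group H) (_ : Fintype H), Fintype.card H = Nat.card G ∧
      Set.range (orderOf : H → ℕ) = Set.range (orderOf : G → ℕ) := by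
  let e : T0Copy (Nat.card G) ≃ G := (T0Copy.equivFin (Nat.card G)).trans (Finite.equivFin G).symm
  letI grp : Group (T0Copy (Nat.card G)) := e.group
  let me : T0Copy (Nat.card G) ≃* G := e.mulEquiv
  refine ⟨T0Copy (Nat.card G), grp, inferInstance, T0Copy.card _, ?_⟩
  ext k
  constructor
  · rintro ⟨x, rfl⟩
    exact ⟨me x, MulEquiv.orderOf_eq me x⟩
  · rintro ⟨y, rfl⟩
    exact ⟨me.symm y, by rw [← MulEquiv.orderOf_eq me, MulEquiv.apply_symm_apply]⟩

end Cfsg.Agent.Helper70.Is8
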