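import Mathlib

set_option autoImplicit false

namespace Cfsg.Agent.Helper70

/-- directly indecomposable (possibly trivial) group -/
def Indec (H : Type*) [Group H] : Prop :=
  ∀ A B : Subgroup H, A.Normal → B.Normal → A ⊓ B = ⊥ → A ⊔ B = ⊤ → A = ⊥ ∨ B = ⊥

/-- normal endomorphism: commutes with all inner automorphisms -/
def NormalEnd {H : Type*} [Group H] (f : H →* H) : Prop :=
  ∀ a x, f (a * x * a⁻¹) = a * f x * a⁻¹

/-- iterate of an endomorphism, as a monoid hom -/
def iterHom {H : Type*} [Group H] (f : H →* H) : ℕ → (H →* H)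
  | 0 => MonoidHom.id H
  | (k + 1) => (iterHom f k).comp f

theorem iterHom_add {H : Type*} [Group H] (f : H →* H) (a b : ℕ) (x : H) :
    iterHom f (a + b) x = iterHom f a (iterHom f b x) := by
  induction b generalizing x with
  | zero => rfl
  | succ b ih =>
    show iterHom f (a + b) (f x) = iterHom f a (iterHom f b (f x))
    exact ih (f x)

theorem NormalEnd.comp {H : Type*} [Group H] {f g : H →* H} (hf : NormalEnd f) (hg : NormalEnd g) :
    NormalEnd (f.comp g) := by
  intro a x
  simp only [MonoidHom.comp_apply]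
  rw [hg, hf]

theorem NormalEnd.iterHom {H : Type*} [Group H] {f : H →* H} (hf : NormalEnd f) (k : ℕ) :
    NormalEnd (iterHom f k) := by
  induction k with
  | zero => intro a x; rfl
  | succ k ih => exact NormalEnd.comp ih hf

theorem NormalEnd.range_normal {H : Type*} [Group H] {f : H →* H} (hf : NormalEnd f) :
    f.range.Normal := by
  constructor
  rintro _ ⟨y, rfl⟩ a
  exact ⟨a * y * a⁻¹, hf a y⟩

/-- Fitting decomposition for an endomorphism with `range (g ∘ g) = range g`. -/
theorem fitting_aux {H : Type*} [Group H] [Finite H] (g : H →* H)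
    (hgg : ∀ x, ∃ y, g (g y) = g x) :
    g.ker ⊓ g.range = ⊥ ∧ g.ker ⊔ g.range = ⊤ := by
  constructor
  · -- g restricted to range g is surjective onto range g hence injective
    have hsurj : Function.Surjective (fun x : g.range => (⟨g x.1, ⟨x.1, rfl⟩⟩ : g.range)) := by
      rintro ⟨_, ⟨x, rfl⟩⟩
      obtain ⟨y, hy⟩ := hgg x
      exact ⟨⟨g y, ⟨y, rfl⟩⟩, Subtype.ext hy⟩
    have hinj := Finite.injective_iff_surjective.mpr hsurj
    rw [eq_bot_iff]
    intro x hx
    obtain ⟨hx1, hx2⟩ := Subgroup.mem_inf.mp hx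
    rw [MonoidHom.mem_ker] at hx1
    have := @hinj ⟨x, hx2⟩ ⟨1, one_mem _⟩ (Subtype.ext (by simp [hx1]))
    simpa using congrArg Subtype.val this
  · rw [eq_top_iff]
    intro x _
    obtain ⟨y, hy⟩ := hgg x
    have : x = (x * (g y)⁻¹) * g y := by group
    rw [this]
    refine Subgroup.mul_mem_sup ?_ ⟨y, rfl⟩
    rw [MonoidHom.mem_ker, map_mul, map_inv, hy, mul_inv_cancel]

theorem fitting {H : Type*} [Group H] [Finite H] (f : H →* H) (hf : NormalEnd f) (hH : Indec H) :
    Function.Injective f ∨ ∃ k : ℕ, ∀ x, iterHom f k x = 1 := by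
  classical
  -- choose k minimizing card of range f^k
  let c : ℕ → ℕ := fun k => Nat.card (iterHom f k).range
  obtain ⟨_, ⟨k, rfl⟩, hmin⟩ := Nat.lt_wfRel.wf.has_min (Set.range c) ⟨_, ⟨0, rfl⟩⟩
  have hle : ∀ a b : ℕ, (iterHom f (a + b)).range ≤ (iterHom f a).range := by
    intro a b x hx
    obtain ⟨y, rfl⟩ := hx
    exact ⟨iterHom f b y, (iterHom_add f a b y).symm⟩
  let g : H →* H := iterHom f (k + 1)
  have hg : NormalEnd g := NormalEnd.iterHom hf (k + 1)
  have h1 : (iterHom f (k + ((k + 1) + 1))).range = (iterHom f k).range := by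
    apply Subgroup.eq_of_le_of_card_ge (hle k _)
    have := hmin (c (k + ((k + 1) + 1))) ⟨_, rfl⟩
    exact not_lt.mp this
  have h2 : (iterHom f ((k + 1) + (k + 1))).range = g.range := by
    apply le_antisymm (hle (k+1) (k+1))
    have : (k + 1) + (k + 1) = k + ((k + 1) + 1) := by ring
    rw [this, h1]
    exact hle k 1
  have hgg : ∀ x, ∃ y, g (g y) = g x := by
    intro x
    have : g x ∈ (iterHom f ((k + 1) + (k + 1))).range := by
      rw [h2]; exact ⟨x, rfl⟩
    obtain ⟨y, hy⟩ := this
    exact ⟨y, (iterHom_add f (k + 1) (k + 1) y).symm.trans hy⟩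
  obtain ⟨hinf, hsup⟩ := fitting_aux g hgg
  rcases hH g.ker g.range inferInstance hg.range_normal hinf hsup with h | h
  · left
    rw [injective_iff_map_eq_one]
    intro x hx
    have : x ∈ g.ker := by
      rw [MonoidHom.mem_ker]
      show iterHom f k (f x) = 1
      rw [hx, map_one]
    rw [h] at this
    exact this
  · right
    refine ⟨k + 1, fun x => ?_⟩
    have : g x ∈ g.range := ⟨x, rfl⟩
    rw [h] at this
    exact this


theorem iterHom_fixed {H : Type*} [Group H] (f : H →* H) (x : H) (hx : f x = x) (k : ℕ) :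
    iterHom f k x = x := by
  induction k with
  | zero => rfl
  | succ k ih =>
    show iterHom f k (f x) = x
    rw [hx, ih]

/-- If `φ · ψ = χ` pointwise with `χ` a normal automorphism and `φ, ψ` normal endomorphisms of an
indecomposable finite group, then `φ` or `ψ` is bijective. -/
theorem dichotomy {H : Type*} [Group H] [Finite H] (hH : Indec H) (φ ψ χ : H →* H)
    (hψ : NormalEnd ψ) (hχ : NormalEnd χ) (hχb : Function.Bijective χ)
    (hsum : ∀ x, φ x * ψ x = χ x) : Function.Bijective φ ∨ Function.Bijective ψ := by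
  by_cases hφi : Function.Injective φ
  · left; exact Finite.injective_iff_bijective.mp hφi
  right
  rw [injective_iff_map_eq_one] at hφi
  push Not at hφi
  obtain ⟨x, hx1, hxne⟩ := hφi
  have hψx : ψ x = χ x := by rw [← hsum x, hx1, one_mul]
  let E : H ≃* H := MulEquiv.ofBijective χ hχb
  have hE : ∀ y, χ (E.symm y) = y := fun y => E.apply_symm_apply y
  have hE' : ∀ y, E.symm (χ y) = y := fun y => E.symm_apply_apply y
  let θ : H →* H := E.symm.toMonoidHom.comp ψ
  have hθ : NormalEnd θ := by
    intro a y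
    show E.symm (ψ (a * y * a⁻¹)) = a * E.symm (ψ y) * a⁻¹
    apply hχb.1
    rw [hE, hψ, hχ, hE]
  have hθx : θ x = x := by
    show E.symm (ψ x) = x
    rw [hψx, hE']
  rcases fitting θ hθ hH with h | ⟨k, hk⟩
  · apply Finite.injective_iff_bijective.mp
    intro a b hab
    apply h
    show E.symm (ψ a) = E.symm (ψ b)
    rw [hab]
  · exfalso
    apply hxne
    rw [← iterHom_fixed θ x hθx k, hk]


set_option linter.unusedSectionVars false

namespace KRS

variable {H : Type*} {X : Type*} {ι : Type*} {B : ι → Type*} [Group H] [Group X]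
  [∀ j, Group (B j)] [DecidableEq ι]

/-- inclusion of the first factor -/
def iH (e : H × X ≃* ((j : ι) → B j)) : H →* ((j : ι) → B j) :=
  e.toMonoidHom.comp (MonoidHom.inl H X)

/-- projection onto the first factor -/
def pH (e : H × X ≃* ((j : ι) → B j)) : ((j : ι) → B j) →* H :=
  (MonoidHom.fst H X).comp e.symm.toMonoidHom

/-- projection of a product onto the coordinates in `S` -/
def rho (S : Finset ι) : ((j : ι) → B j) →* ((j : ι) → B j) where
  toFun f j := if j ∈ S then f j else 1
  map_one' := by funext j; simp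
  map_mul' f g := by funext j; by_cases h : j ∈ S <;> simp [h]

/-- the normal endomorphism of `H` attached to a set of coordinates -/
def Phi (e : H × X ≃* ((j : ι) → B j)) (S : Finset ι) : H →* H :=
  (pH e).comp ((rho S).comp (iH e))

theorem pH_iH (e : H × X ≃* ((j : ι) → B j)) (h : H) : pH e (iH e h) = h := by
  simp [pH, iH]

theorem conj_iH (e : H × X ≃* ((j : ι) → B j)) (g : (j : ι) → B j) (h : H) :
    g * iH e h * g⁻¹ = iH e (pH e g * h * (pH e g)⁻¹) := by
  apply e.symm.injective
  simp only [iH, pH, MonoidHom.comp_apply, MulEquiv.coe_toMonoidHom, map_mul, map_inv,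
    MulEquiv.symm_apply_apply, MonoidHom.inl_apply, MonoidHom.coe_fst]
  ext <;> simp

theorem rho_conj (S : Finset ι) (g x : (j : ι) → B j) :
    rho S (g * x * g⁻¹) = g * rho S x * g⁻¹ := by
  funext j
  by_cases h : j ∈ S <;> simp [rho, h]

theorem Phi_normal (e : H × X ≃* ((j : ι) → B j)) (S : Finset ι) : NormalEnd (Phi e S) := by
  intro a h
  show pH e (rho S (iH e (a * h * a⁻¹))) = a * pH e (rho S (iH e h)) * a⁻¹
  have h1 : iH e (a * h * a⁻¹) = iH e a * iH e h * (iH e a)⁻¹ := by
    rw [map_mul, map_mul, map_inv]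
  rw [h1, rho_conj, map_mul, map_mul, map_inv, pH_iH]

theorem rho_insert (S : Finset ι) (j : ι) (hj : j ∉ S) (g : (j : ι) → B j) :
    rho (insert j S) g = rho {j} g * rho S g := by
  funext k
  by_cases hk : k = j
  · subst hk; simp [rho, hj]
  · by_cases hkS : k ∈ S <;> simp [rho, hk, hkS]

theorem Phi_insert (e : H × X ≃* ((j : ι) → B j)) (S : Finset ι) (j : ι) (hj : j ∉ S) (x : H) :
    Phi e {j} x * Phi e S x = Phi e (insert j S) x := by
  show pH e (rho {j} (iH e x)) * pH e (rho S (iH e x)) = pH e (rho (insert j S) (iH e x))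
  rw [rho_insert S j hj, map_mul]

theorem Phi_empty (e : H × X ≃* ((j : ι) → B j)) (x : H) : Phi e ∅ x = 1 := by
  show pH e (rho ∅ (iH e x)) = 1
  have : rho (B := B) ∅ (iH e x) = 1 := by funext k; simp [rho]
  rw [this, map_one]

theorem Phi_univ [Fintype ι] (e : H × X ≃* ((j : ι) → B j)) (x : H) : Phi e Finset.univ x = x := by
  show pH e (rho Finset.univ (iH e x)) = x
  have : rho (B := B) Finset.univ (iH e x) = iH e x := by funext k; simp [rho]
  rw [this, pH_iH]

theorem exists_bijective [Fintype ι] [Finite H] [Nontrivial H] (hH : Indec H)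
    (e : H × X ≃* ((j : ι) → B j)) : ∃ j, Function.Bijective (Phi e {j}) := by
  by_contra hcon
  push Not at hcon
  have key : ∀ S : Finset ι, ¬ Function.Bijective (Phi e S) := by
    intro S
    induction S using Finset.induction_on with
    | empty =>
      intro hb
      obtain ⟨x, hx⟩ := exists_ne (1 : H)
      apply hx
      apply hb.1
      rw [Phi_empty, Phi_empty]
    | insert j S hj ih =>
      intro hb
      rcases dichotomy hH (Phi e {j}) (Phi e S) (Phi e (insert j S)) (Phi_normal e S)
        (Phi_normal e _) hb (Phi_insert e S j hj) with h | h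
      · exact hcon j h
      · exact ih h
  apply key Finset.univ
  have : (Phi e Finset.univ : H → H) = id := funext (Phi_univ e)
  rw [this]
  exact Function.bijective_id


theorem rho_singleton (j : ι) (g : (j : ι) → B j) : rho {j} g = Pi.mulSingle j (g j) := by
  funext k
  by_cases hk : k = j
  · subst hk; simp [rho]
  · simp [rho, hk]

theorem rho_mul_compl (j : ι) (g : (j : ι) → B j) [Fintype ι] :
    rho {j} g * rho ({j}ᶜ) g = g := by
  funext k
  by_cases hk : k = j
  · subst hk; simp [rho]
  · simp [rho, hk]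

/-- the exchange theorem: an indecomposable direct factor of a product of indecomposables is
isomorphic to one of the factors, with isomorphic complements. -/
theorem exchange [Fintype ι] [Finite H] [Finite X] [∀ j, Finite (B j)] [Nontrivial H]
    (hH : Indec H) (hB : ∀ j, Indec (B j))
    (e : H × X ≃* ((j : ι) → B j)) :
    ∃ j, Nonempty (H ≃* B j) ∧ Nonempty (X ≃* (Pi.evalMonoidHom B j).ker) := by
  obtain ⟨j, hj⟩ := exists_bijective hH e
  refine ⟨j, ?_⟩
  let α : H →* B j := (Pi.evalMonoidHom B j).comp (iH e)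
  let β : B j →* H := (pH e).comp (MonoidHom.mulSingle B j)
  have hβα : ∀ h, β (α h) = Phi e {j} h := by
    intro h
    show pH e (Pi.mulSingle j (iH e h j)) = pH e (rho {j} (iH e h))
    rw [rho_singleton]
  -- range α is normal
  have hnorm : α.range.Normal := by
    constructor
    rintro _ ⟨h, rfl⟩ b
    refine ⟨β b * h * (β b)⁻¹, ?_⟩
    show (iH e (pH e (Pi.mulSingle j b) * h * (pH e (Pi.mulSingle j b))⁻¹)) j = b * (iH e h) j * b⁻¹
    rw [← conj_iH]
    simp
  have hinf : α.range ⊓ β.ker = ⊥ := by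
    rw [eq_bot_iff]
    rintro _ ⟨⟨h, rfl⟩, hk⟩
    have hk' : β (α h) = 1 := hk
    rw [hβα] at hk'
    have : h = 1 := hj.1 (by rw [hk', map_one])
    rw [this, map_one]
    exact Subgroup.mem_bot.mpr rfl
  have hsup : α.range ⊔ β.ker = ⊤ := by
    rw [eq_top_iff]
    intro b _
    obtain ⟨h, hh⟩ := hj.2 (β b)
    have : b = α h * ((α h)⁻¹ * b) := by group
    rw [this]
    refine Subgroup.mul_mem_sup ⟨h, rfl⟩ ?_
    rw [MonoidHom.mem_ker, map_mul, map_inv, hβα, hh, inv_mul_cancel]
  have hker : β.ker = ⊥ := by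
    rcases hB j α.range β.ker hnorm inferInstance hinf hsup with h | h
    · exfalso
      obtain ⟨x, hx⟩ := exists_ne (1 : H)
      apply hx
      apply hj.1
      rw [← hβα, ← hβα]
      have h1 : α x ∈ α.range := ⟨x, rfl⟩
      have h2 : α 1 ∈ α.range := ⟨1, rfl⟩
      rw [h, Subgroup.mem_bot] at h1 h2
      rw [h1, h2]
    · exact h
  have hβinj : Function.Injective β := (MonoidHom.ker_eq_bot_iff β).mp hker
  have hβsurj : Function.Surjective β := by
    intro y
    obtain ⟨h, hh⟩ := hj.2 y
    exact ⟨α h, by rw [hβα, hh]⟩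
  let Eβ : B j ≃* H := MulEquiv.ofBijective β ⟨hβinj, hβsurj⟩
  refine ⟨⟨Eβ.symm⟩, ?_⟩
  -- the complement
  let iX : X →* ((j : ι) → B j) := e.toMonoidHom.comp (MonoidHom.inr H X)
  let θ : X →* (Pi.evalMonoidHom B j).ker :=
    ((rho ({j}ᶜ)).comp iX).codRestrict _ (by
      intro x
      rw [MonoidHom.mem_ker]
      show (rho ({j}ᶜ) (iX x)) j = 1
      simp [rho])
  have hθinj : Function.Injective θ := by
    rw [injective_iff_map_eq_one]
    intro x hx
    have hx' : rho ({j}ᶜ) (iX x) = 1 := congrArg Subtype.val hx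
    have h1 : iX x = Pi.mulSingle j (iX x j) := by
      conv_lhs => rw [← rho_mul_compl j (iX x), hx', mul_one, rho_singleton]
    have h2 : pH e (iX x) = 1 := by
      simp [pH, iX]
    have h3 : β (iX x j) = 1 := by
      show pH e (Pi.mulSingle j (iX x j)) = 1
      rw [← h1, h2]
    have h4 : iX x j = 1 := hβinj (by rw [h3, map_one])
    rw [h4, Pi.mulSingle_one] at h1
    have h5 : e (1, x) = 1 := h1
    have h6 : ((1 : H), x) = 1 := e.injective (by rw [h5, map_one])
    exact congrArg Prod.snd h6
  have hcard : Nat.card (Pi.evalMonoidHom B j).ker ≤ Nat.card X := by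
    have c1 : Nat.card H * Nat.card X = Nat.card ((j : ι) → B j) := by
      rw [← Nat.card_prod]; exact Nat.card_congr e.toEquiv
    have c2 : Nat.card (Pi.evalMonoidHom B j).ker * Nat.card (B j) = Nat.card ((j : ι) → B j) := by
      rw [← Subgroup.card_mul_index (Pi.evalMonoidHom B j).ker, Subgroup.index_ker]
      congr 1
      have : (Pi.evalMonoidHom B j).range = ⊤ := by
        rw [MonoidHom.range_eq_top]
        intro b
        exact ⟨Pi.mulSingle j b, by simp⟩
      rw [this]
      exact (Nat.card_congr Subgroup.topEquiv.toEquiv).symm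
    have c3 : Nat.card (B j) = Nat.card H := Nat.card_congr Eβ.toEquiv
    rw [c3, ← c1, mul_comm] at c2
    have hpos : 0 < Nat.card H := Nat.card_pos
    exact le_of_eq (Nat.eq_of_mul_eq_mul_left hpos c2)
  exact ⟨MulEquiv.ofBijective θ (hθinj.bijective_of_nat_card_le hcard)⟩

end KRS

/-- splitting off the first coordinate of a product over `Fin (m+1)` -/
def consMulEquiv {m : ℕ} (A : Fin (m + 1) → Type*) [∀ i, Group (A i)] :
    A 0 × ((i : Fin m) → A i.succ) ≃* ((i : Fin (m + 1)) → A i) where
  toFun p := Fin.cons p.1 p.2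
  invFun f := (f 0, fun i => f i.succ)
  left_inv p := by simp
  right_inv f := by
    funext i
    refine Fin.cases ?_ (fun i => ?_) i <;> simp
  map_mul' p q := by
    funext i
    refine Fin.cases ?_ (fun i => ?_) i <;> simp

/-- the kernel of evaluation at `j` is the product of the other coordinates -/
def kerEvalEquiv {n : ℕ} (B : Fin (n + 1) → Type*) [∀ j, Group (B j)] (j : Fin (n + 1)) :
    (Pi.evalMonoidHom B j).ker ≃* ((k : Fin n) → B (j.succAbove k)) where
  toFun f k := f.1 (j.succAbove k)
  invFun g := ⟨j.insertNth 1 g, by simp [MonoidHom.mem_ker]⟩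
  left_inv f := by
    apply Subtype.ext
    funext k
    have hf : f.1 j = 1 := f.2
    refine Fin.succAboveCases j ?_ (fun k => ?_) k
    · simp [hf]
    · simp
  right_inv g := by
    funext k
    simp
  map_mul' f g := rfl

theorem krull_remak_schmidt_aux.{u, v} : ∀ (m : ℕ) {n : ℕ} {A : Fin m → Type u} {B : Fin n → Type v}
    [∀ i, Group (A i)] [∀ j, Group (B j)] [∀ i, Finite (A i)] [∀ j, Finite (B j)]
    (_ : ∀ i, Nontrivial (A i) ∧ Indec (A i)) (_ : ∀ j, Nontrivial (B j) ∧ Indec (B j))
    (_ : ((i : Fin m) → A i) ≃* ((j : Fin n) → B j)),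
    ∃ σ : Fin m ≃ Fin n, ∀ i, Nonempty (A i ≃* B (σ i)) := by
  intro m
  induction m with
  | zero =>
    intro n A B _ _ _ _ hA hB e
    have hn : n = 0 := by
      by_contra hn
      have hpos : 0 < n := Nat.pos_of_ne_zero hn
      let j₀ : Fin n := ⟨0, hpos⟩
      have := (hB j₀).1
      obtain ⟨b, hb⟩ := exists_ne (1 : B j₀)
      apply hb
      have h1 : e.symm (Pi.mulSingle j₀ b) = e.symm 1 := Subsingleton.elim _ _
      have h2 := e.symm.injective h1
      have := congrFun h2 j₀
      simpa using this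
    subst hn
    exact ⟨Equiv.refl _, fun i => i.elim0⟩
  | succ m ih =>
    intro n A B _ _ _ _ hA hB e
    have := (hA 0).1
    obtain ⟨j, ⟨e1⟩, ⟨e2⟩⟩ := KRS.exchange (H := A 0) (X := (i : Fin m) → A i.succ)
      (hA 0).2 (fun j => (hB j).2) ((consMulEquiv A).trans e)
    obtain ⟨n', rfl⟩ : ∃ n', n = n' + 1 := ⟨n - 1, by have := j.2; omega⟩
    obtain ⟨σ', hσ'⟩ := ih (A := fun i => A i.succ) (B := fun k => B (j.succAbove k))
      (fun i => hA i.succ) (fun k => hB (j.succAbove k)) (e2.trans (kerEvalEquiv B j))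
    let σ : Fin (m + 1) ≃ Fin (n' + 1) :=
      (finSuccEquiv' 0).trans ((Equiv.optionCongr σ').trans (finSuccEquiv' j).symm)
    refine ⟨σ, fun i => ?_⟩
    refine Fin.cases ?_ (fun i => ?_) i
    · have : σ 0 = j := by simp [σ]
      rw [this]
      exact ⟨e1⟩
    · have h0 : (finSuccEquiv' (0 : Fin (m + 1))) i.succ = some i := by
        rw [finSuccEquiv'_zero]; simp
      have : σ i.succ = j.succAbove (σ' i) := by simp [σ, h0]
      rw [this]
      exact hσ' i

end Cfsg.Agent.Helper70
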