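import Mathlib
import Cfsg.Agent.Helper65.BrandtR1

/-!
# (K-R1) Külshammer's lemma for helper78 (S4648), part a: two-sided subspaces, generation lemma

A split local symmetric algebra whose centre has dimension at most `4` is commutative.  This file:
two-sided `k`-subspaces and their powers, and the generation lemma (0) of #6959.
-/

set_option autoImplicit false
set_option linter.unusedSectionVars false
set_option linter.unusedVariables false

namespace Cfsg.Agent.Helper70.KuelR1

open Module Cfsg.Agent.Helper78.Brandt Cfsg.Agent.Helper65.BrandtR1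

variable {k : Type*} [Field k] {A : Type*} [Ring A] [Algebra k A]

/-- two-sided `k`-subspaces of an algebra -/
def IsTS (M : Submodule k A) : Prop := ∀ a x : A, x ∈ M → a * x ∈ M ∧ x * a ∈ M

theorem IsTS.mul {M N : Submodule k A} (hM : IsTS M) (hN : IsTS N) : IsTS (M * N) := by
  intro a x hx
  refine Submodule.mul_induction_on hx ?_ ?_
  · intro m hm n hn
    refine ⟨?_, ?_⟩
    · rw [← mul_assoc]
      exact Submodule.mul_mem_mul (hM a m hm).1 hn
    · rw [mul_assoc]
      exact Submodule.mul_mem_mul hm (hN a n hn).2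
  · intro u v hu hv
    refine ⟨?_, ?_⟩
    · rw [mul_add]
      exact add_mem hu.1 hv.1
    · rw [add_mul]
      exact add_mem hu.2 hv.2

theorem IsTS.pow {M : Submodule k A} (hM : IsTS M) (i : ℕ) : IsTS (M ^ (i + 1)) := by
  induction i with
  | zero => rw [zero_add, Submodule.pow_one]; exact hM
  | succ i ih => rw [Submodule.pow_succ]; exact ih.mul hM

theorem IsTS.mul_le_right {M : Submodule k A} (hM : IsTS M) (N : Submodule k A) : M * N ≤ M := by
  rw [Submodule.mul_le]
  intro m hm n _
  exact (hM n m hm).2

theorem IsTS.mul_le_left {M : Submodule k A} (hM : IsTS M) (N : Submodule k A) : N * M ≤ M := by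
  rw [Submodule.mul_le]
  intro n _ m hm
  exact (hM n m hm).1

/-- powers of a two-sided subspace decrease -/
theorem IsTS.pow_le {M : Submodule k A} (hM : IsTS M) {i j : ℕ} (hi : 1 ≤ i) (hij : i ≤ j) :
    M ^ j ≤ M ^ i := by
  obtain ⟨t, rfl⟩ := Nat.exists_eq_add_of_le hij
  obtain ⟨i', rfl⟩ := Nat.exists_eq_add_of_le hi
  rcases Nat.eq_zero_or_pos t with rfl | ht
  · exact le_rfl
  · rw [Submodule.pow_add _ (by omega : t ≠ 0)]
    have := hM.pow i'
    rw [add_comm i' 1] at this
    exact this.mul_le_right _

theorem IsTS.pow_le_self {M : Submodule k A} (hM : IsTS M) {j : ℕ} (hj : 1 ≤ j) : M ^ j ≤ M := by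
  have := hM.pow_le (le_refl 1) hj
  rwa [Submodule.pow_one] at this

theorem pow_mul_self (M : Submodule k A) (i : ℕ) : M ^ i * M = M ^ (i + 1) :=
  (Submodule.pow_succ (M := M) (n := i)).symm

theorem self_mul_pow (M : Submodule k A) (i : ℕ) : M * M ^ i = M ^ (i + 1) := by
  rcases Nat.eq_zero_or_pos i with rfl | hi
  · rw [Submodule.pow_zero, mul_one, zero_add, Submodule.pow_one]
  · exact (Submodule.pow_succ' (M := M) (by omega : i ≠ 0)).symm

theorem pow_mul_pow (M : Submodule k A) (i j : ℕ) : M ^ i * M ^ j = M ^ (i + j) := by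
  rcases Nat.eq_zero_or_pos j with rfl | hj
  · rw [Submodule.pow_zero, mul_one, add_zero]
  · exact (Submodule.pow_add (M := M) (by omega : j ≠ 0)).symm

/-- the subspace of a two-sided ideal -/
theorem isTS_restrictScalars (J : Ideal A) [J.IsTwoSided] : IsTS (J.restrictScalars k) := by
  intro a x hx
  rw [Submodule.restrictScalars_mem] at hx ⊢
  rw [Submodule.restrictScalars_mem]
  exact ⟨J.mul_mem_left a hx, J.mul_mem_right a hx⟩

theorem restrictScalars_pow_le (J : Ideal A) (n : ℕ) (hn : n ≠ 0) :
    (J.restrictScalars k) ^ n ≤ (J ^ n).restrictScalars k := by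
  induction n with
  | zero => exact absurd rfl hn
  | succ n ih =>
    rcases Nat.eq_zero_or_pos n with rfl | hn'
    · rw [zero_add, Submodule.pow_one, Submodule.pow_one]
    · rw [Submodule.pow_succ, Submodule.mul_le]
      intro m hm x hx
      have h1 := ih (by omega) hm
      rw [Submodule.restrictScalars_mem] at h1 hx ⊢
      rw [Submodule.pow_succ]
      exact Submodule.mul_mem_mul h1 hx

theorem restrictScalars_pow_eq_bot (J : Ideal A) (hJ : ∃ N : ℕ, J ^ N = ⊥) :
    ∃ N : ℕ, (J.restrictScalars k) ^ (N + 1) = ⊥ := by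
  obtain ⟨N, hN⟩ := hJ
  refine ⟨N, ?_⟩
  rw [eq_bot_iff]
  refine (restrictScalars_pow_le J (N + 1) (by omega)).trans ?_
  intro x hx
  rw [Submodule.restrictScalars_mem, Submodule.pow_succ] at hx
  rw [hN] at hx
  have : x ∈ (⊥ : Ideal A) := by
    refine Submodule.mul_induction_on hx ?_ ?_
    · intro m hm n _
      rw [Submodule.mem_bot] at hm
      rw [hm, zero_mul]
      exact Submodule.zero_mem _
    · intro u v hu hv
      exact add_mem hu hv
  rw [Submodule.mem_bot] at this ⊢
  exact this

/-- decomposition of commutators in a local algebra -/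
theorem comm_eq_of_loc {M : Submodule k A} (hloc : ∀ a : A, ∃ c : k, a - algebraMap k A c ∈ M)
    (a b : A) : ∃ j ∈ M, ∃ j' ∈ M, a * b - b * a = j * j' - j' * j := by
  obtain ⟨α, hα⟩ := hloc a
  obtain ⟨β, hβ⟩ := hloc b
  refine ⟨_, hα, _, hβ, ?_⟩
  have h1 : ∀ z : A, algebraMap k A α * z = z * algebraMap k A α := fun z => Algebra.commutes α z
  have h2 : ∀ z : A, algebraMap k A β * z = z * algebraMap k A β := fun z => Algebra.commutes β z
  simp only [sub_mul, mul_sub]
  rw [h1 b, h2 a, h1 (algebraMap k A β)]
  abel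

/-- (0) the generation lemma: if `M` is generated modulo `M ^ 2` by a central element and one more
element then `A` is commutative -/
theorem comm_of_gen {M : Submodule k A} (hM : IsTS M) (hnil : ∃ N : ℕ, M ^ (N + 1) = ⊥)
    (hloc : ∀ a : A, ∃ c : k, a - algebraMap k A c ∈ M) {z y : A} (hz : ∀ a : A, z * a = a * z)
    (hgen : M ≤ Submodule.span k {z, y} ⊔ M ^ 2) : ∀ a b : A, a * b = b * a := by
  have hcomm : ∀ u ∈ ({z, y} : Set A), ∀ v ∈ ({z, y} : Set A), u * v = v * u := by
    intro u hu v hv
    rcases hu with rfl | hu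
    · exact hz v
    · rw [Set.mem_singleton_iff] at hu
      rcases hv with rfl | hv
      · exact (hz u).symm
      · rw [Set.mem_singleton_iff] at hv
        rw [hu, hv]
  set S : Subalgebra k A := Algebra.adjoin k {z, y} with hS
  have hSc : ∀ u ∈ S, ∀ v ∈ S, u * v = v * u := by
    intro u hu v hv
    have h1 : ({z, y} : Set A) ⊆ Subalgebra.centralizer k ({z, y} : Set A) := by
      intro w hw
      rw [SetLike.mem_coe, Subalgebra.mem_centralizer_iff]
      intro g hg
      exact hcomm g hg w hw
    have h2 : S ≤ Subalgebra.centralizer k ({z, y} : Set A) := Algebra.adjoin_le h1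
    have h3 : ({z, y} : Set A) ⊆ Subalgebra.centralizer k (S : Set A) := by
      intro w hw
      rw [SetLike.mem_coe, Subalgebra.mem_centralizer_iff]
      intro g hg
      have := h2 hg
      rw [Subalgebra.mem_centralizer_iff] at this
      exact (this w hw).symm
    have h4 : S ≤ Subalgebra.centralizer k (S : Set A) := Algebra.adjoin_le h3
    have := h4 hv
    rw [Subalgebra.mem_centralizer_iff] at this
    exact this u hu
  have hspanS : Submodule.span k {z, y} ≤ Subalgebra.toSubmodule S := by
    rw [Submodule.span_le]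
    intro w hw
    exact Algebra.subset_adjoin hw
  -- the induction
  have key : ∀ i : ℕ, M ≤ (Subalgebra.toSubmodule S ⊓ M) ⊔ M ^ (i + 1) := by
    intro i
    induction i with
    | zero => rw [zero_add, Submodule.pow_one]; exact le_sup_right
    | succ i ih =>
      have hsq : M ^ 2 ≤ Subalgebra.toSubmodule S ⊔ M ^ (i + 1 + 1) := by
        have h0 : M ^ 2 = M * M := by rw [← pow_mul_self, Submodule.pow_one]
        rw [h0]
        refine (mul_le_mul' ih ih).trans ?_
        rw [Submodule.sup_mul, Submodule.mul_sup, Submodule.mul_sup]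
        refine sup_le (sup_le ?_ ?_) (sup_le ?_ ?_)
        · refine le_trans ?_ le_sup_left
          rw [Submodule.mul_le]
          intro m hm n hn
          exact S.mul_mem hm.1 hn.1
        · refine le_trans ?_ le_sup_right
          refine (mul_le_mul' (inf_le_right : _ ≤ M) le_rfl).trans ?_
          rw [self_mul_pow]
        · refine le_trans ?_ le_sup_right
          refine (mul_le_mul' le_rfl (inf_le_right : _ ≤ M)).trans ?_
          rw [pow_mul_self]
        · refine le_trans ?_ le_sup_right
          refine (mul_le_mul' le_rfl (hM.pow_le_self (by omega : 1 ≤ i + 1))).trans ?_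
          rw [pow_mul_self]
      intro j hj
      obtain ⟨u, hu, t, ht, hut⟩ := Submodule.mem_sup.mp (hgen hj)
      obtain ⟨s', hs', t', ht', hst⟩ := Submodule.mem_sup.mp (hsq ht)
      refine Submodule.mem_sup.mpr ⟨u + s', ⟨add_mem (hspanS hu) hs', ?_⟩, t', ht', ?_⟩
      · have : u + s' = j - t' := by rw [← hut, ← hst]; abel
        rw [this]
        exact sub_mem hj (hM.pow_le_self (by omega) ht')
      · rw [← hut, ← hst]; abel
  obtain ⟨N, hN⟩ := hnil
  have hMS : M ≤ Subalgebra.toSubmodule S := by
    have := key N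
    rw [hN, sup_bot_eq] at this
    exact this.trans inf_le_left
  have hall : ∀ a : A, a ∈ S := by
    intro a
    obtain ⟨c, hc⟩ := hloc a
    have h1 : a = algebraMap k A c + (a - algebraMap k A c) := by abel
    rw [h1]
    exact S.add_mem (S.algebraMap_mem c) (hMS hc)
  intro a b
  exact hSc a (hall a) b (hall b)

end Cfsg.Agent.Helper70.KuelR1
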