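import Mathlib
import Cfsg.Agent.Helper65.BrandtR1
import Cfsg.Agent.Helper70.KuelR1a

/-!
# (K-R1) Külshammer's lemma for helper78 (S4648)

A split local symmetric algebra whose centre has dimension at most `4` is commutative
(`comm_of_local_symm_of_center_le_four`, exact signature of #6959).  Proof as in #6959.
-/

set_option autoImplicit false
set_option linter.unusedSectionVars false
set_option linter.unusedVariables false

namespace Cfsg.Agent.Helper70.KuelR1

open Module Cfsg.Agent.Helper78.Brandt Cfsg.Agent.Helper65.BrandtR1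

variable {k : Type*} [Field k] {A : Type*} [Ring A] [Algebra k A]

theorem sq_eq (M : Submodule k A) : M ^ 2 = M * M := by
  rw [← pow_mul_self, Submodule.pow_one]

/-- (1) commutators lie in `M ^ 2` -/
theorem commSpan_le_sq {M : Submodule k A} (hloc : ∀ a : A, ∃ c : k, a - algebraMap k A c ∈ M) :
    commSpan k A ≤ M ^ 2 := by
  unfold commSpan
  rw [Submodule.span_le]
  rintro _ ⟨a, b, rfl⟩
  obtain ⟨j, hj, j', hj', he⟩ := comm_eq_of_loc hloc a b
  rw [SetLike.mem_coe, he, sq_eq]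
  exact sub_mem (Submodule.mul_mem_mul hj hj') (Submodule.mul_mem_mul hj' hj)

/-- (2) a nonzero two-sided subspace is not killed by a symmetrizing form -/
theorem exists_lam_ne_zero {lam : A →ₗ[k] k} (h : IsSymmForm k lam) {I : Submodule k A}
    (hI : IsTS I) (hne : I ≠ ⊥) : ∃ s ∈ I, lam s ≠ 0 := by
  by_contra hcon
  push Not at hcon
  apply hne
  rw [eq_bot_iff]
  intro a ha
  rw [Submodule.mem_bot]
  exact h.nondeg a (fun b => hcon _ (hI b a ha).2)

theorem commSpan_le_ker {lam : A →ₗ[k] k} (h : IsSymmForm k lam) :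
    commSpan k A ≤ LinearMap.ker lam := by
  unfold commSpan
  rw [Submodule.span_le]
  rintro _ ⟨a, b, rfl⟩
  rw [SetLike.mem_coe, LinearMap.mem_ker, map_sub, h.comm a b, sub_self]

theorem exists_one_gen [FiniteDimensional k A] {N M : Submodule k A} (hNM : N ≤ M)
    (hfr : finrank k ↥M ≤ finrank k ↥N + 1) : ∃ x ∈ M, M ≤ Submodule.span k {x} ⊔ N := by
  by_cases hEq : M ≤ N
  · exact ⟨0, M.zero_mem, hEq.trans le_sup_right⟩
  · obtain ⟨x, hxM, hxN⟩ := SetLike.not_le_iff_exists.mp hEq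
    refine ⟨x, hxM, ?_⟩
    have hlt : N < Submodule.span k {x} ⊔ N := by
      refine lt_of_le_of_ne le_sup_right ?_
      intro heq
      apply hxN
      rw [heq]
      exact (le_sup_left : Submodule.span k {x} ≤ Submodule.span k {x} ⊔ N)
        (Submodule.mem_span_singleton_self x)
    have h1 := Submodule.finrank_lt_finrank_of_lt hlt
    have hle : Submodule.span k {x} ⊔ N ≤ M :=
      sup_le ((Submodule.span_singleton_le_iff_mem x M).mpr hxM) hNM
    have := Submodule.eq_of_le_of_finrank_le hle (by omega)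
    rw [this]

theorem exists_two_gen [FiniteDimensional k A] {N M : Submodule k A} (hNM : N ≤ M)
    (hfr : finrank k ↥M ≤ finrank k ↥N + 2) :
    ∃ x ∈ M, ∃ y ∈ M, M ≤ Submodule.span k {x, y} ⊔ N := by
  by_cases hEq : M ≤ N
  · exact ⟨0, M.zero_mem, 0, M.zero_mem, hEq.trans le_sup_right⟩
  · obtain ⟨x, hxM, hxN⟩ := SetLike.not_le_iff_exists.mp hEq
    have hlt : N < Submodule.span k {x} ⊔ N := by
      refine lt_of_le_of_ne le_sup_right ?_
      intro heq
      apply hxN
      rw [heq]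
      exact (le_sup_left : Submodule.span k {x} ≤ Submodule.span k {x} ⊔ N)
        (Submodule.mem_span_singleton_self x)
    have h1 := Submodule.finrank_lt_finrank_of_lt hlt
    have hle : Submodule.span k {x} ⊔ N ≤ M :=
      sup_le ((Submodule.span_singleton_le_iff_mem x M).mpr hxM) hNM
    obtain ⟨y, hyM, hy⟩ := exists_one_gen hle (by omega)
    refine ⟨x, hxM, y, hyM, hy.trans ?_⟩
    rw [← sup_assoc]
    refine sup_le_sup_right ?_ N
    rw [Submodule.span_insert, sup_comm]

/-- (4) commutators modulo `M ^ 3` -/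
theorem commSpan_le_span_c {M : Submodule k A} (hM : IsTS M)
    (hloc : ∀ a : A, ∃ c : k, a - algebraMap k A c ∈ M) {x y : A} (hx : x ∈ M) (hy : y ∈ M)
    (hgen : M ≤ Submodule.span k {x, y} ⊔ M ^ 2) :
    commSpan k A ≤ Submodule.span k {x * y - y * x} ⊔ M ^ 3 := by
  unfold commSpan
  rw [Submodule.span_le]
  rintro _ ⟨a, b, rfl⟩
  obtain ⟨j, hj, j', hj', he⟩ := comm_eq_of_loc hloc a b
  rw [SetLike.mem_coe, he]
  obtain ⟨u, hu, r, hr, rfl⟩ := Submodule.mem_sup.mp (hgen hj)
  obtain ⟨u', hu', r', hr', rfl⟩ := Submodule.mem_sup.mp (hgen hj')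
  have hspM : Submodule.span k {x, y} ≤ M := by
    rw [Submodule.span_le]
    intro w hw
    rcases hw with rfl | hw
    · exact hx
    · rw [Set.mem_singleton_iff] at hw
      rw [hw]; exact hy
  have huM : u ∈ M := hspM hu
  have hu'M : u' ∈ M := hspM hu'
  obtain ⟨α₁, α₂, rfl⟩ := Submodule.mem_span_pair.mp hu
  obtain ⟨β₁, β₂, rfl⟩ := Submodule.mem_span_pair.mp hu'
  have h3a : M ^ 3 = M * M ^ 2 := (self_mul_pow M 2).symm
  have h3b : M ^ 3 = M ^ 2 * M := (pow_mul_self M 2).symm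
  have h4 : M ^ 2 * M ^ 2 ≤ M ^ 3 := by
    rw [h3b]
    exact mul_le_mul' le_rfl (hM.pow_le_self (by norm_num))
  have e0 : (α₁ • x + α₂ • y + r) * (β₁ • x + β₂ • y + r') -
      (β₁ • x + β₂ • y + r') * (α₁ • x + α₂ • y + r) =
      ((α₁ • x + α₂ • y) * (β₁ • x + β₂ • y) - (β₁ • x + β₂ • y) * (α₁ • x + α₂ • y)) +
      (((α₁ • x + α₂ • y) * r' - r' * (α₁ • x + α₂ • y)) +
        (r * (β₁ • x + β₂ • y) - (β₁ • x + β₂ • y) * r) + (r * r' - r' * r)) := by
    simp only [add_mul, mul_add]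
    abel
  have e1 : (α₁ • x + α₂ • y) * (β₁ • x + β₂ • y) - (β₁ • x + β₂ • y) * (α₁ • x + α₂ • y) =
      (α₁ * β₂ - α₂ * β₁) • (x * y - y * x) := by
    simp only [add_mul, mul_add, smul_mul_assoc, mul_smul_comm]
    module
  rw [e0, e1]
  refine Submodule.add_mem_sup (Submodule.smul_mem _ _ (Submodule.mem_span_singleton_self _)) ?_
  refine add_mem (add_mem (sub_mem ?_ ?_) (sub_mem ?_ ?_)) (sub_mem ?_ ?_)
  · rw [h3a]; exact Submodule.mul_mem_mul huM hr'
  · rw [h3b]; exact Submodule.mul_mem_mul hr' huM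
  · rw [h3b]; exact Submodule.mul_mem_mul hr hu'M
  · rw [h3a]; exact Submodule.mul_mem_mul hu'M hr
  · exact h4 (Submodule.mul_mem_mul hr hr')
  · exact h4 (Submodule.mul_mem_mul hr' hr)

/-- (5) Nakayama, right multiples of `c` -/
theorem sq_le_range_mulLeft {M : Submodule k A} (hM : IsTS M) (hnil : ∃ N : ℕ, M ^ (N + 1) = ⊥)
    {c : A} (hc : M ^ 2 ≤ Submodule.span k {c} ⊔ M ^ 3) :
    M ^ 2 ≤ LinearMap.range (LinearMap.mulLeft k c) := by
  set R := LinearMap.range (LinearMap.mulLeft k c) with hR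
  have hcR : Submodule.span k {c} ≤ R := by
    rw [Submodule.span_singleton_le_iff_mem]
    exact ⟨1, by rw [LinearMap.mulLeft_apply, mul_one]⟩
  have hRM : R * M ≤ R := by
    rw [Submodule.mul_le]
    rintro _ ⟨a, rfl⟩ m _
    exact ⟨a * m, by rw [LinearMap.mulLeft_apply, LinearMap.mulLeft_apply, mul_assoc]⟩
  have key : ∀ i : ℕ, M ^ 2 ≤ R ⊔ M ^ (i + 2) := by
    intro i
    induction i with
    | zero => exact le_sup_right
    | succ i ih =>
      have h3 : M ^ 3 ≤ R ⊔ M ^ (i + 1 + 2) := by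
        have : M ^ 3 = M ^ 2 * M := (pow_mul_self M 2).symm
        rw [this]
        refine (mul_le_mul' ih le_rfl).trans ?_
        rw [Submodule.sup_mul]
        refine sup_le (hRM.trans le_sup_left) (le_trans ?_ le_sup_right)
        rw [pow_mul_self]
      exact hc.trans (sup_le (hcR.trans le_sup_left) h3)
  obtain ⟨N, hN⟩ := hnil
  have hbot : M ^ (N + 2) = ⊥ := by
    rw [eq_bot_iff, ← hN]
    exact hM.pow_le (by omega) (by omega)
  have := key N
  rwa [hbot, sup_bot_eq] at this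

/-- (5) Nakayama, left multiples of `c` -/
theorem sq_le_range_mulRight {M : Submodule k A} (hM : IsTS M) (hnil : ∃ N : ℕ, M ^ (N + 1) = ⊥)
    {c : A} (hc : M ^ 2 ≤ Submodule.span k {c} ⊔ M ^ 3) :
    M ^ 2 ≤ LinearMap.range (LinearMap.mulRight k c) := by
  set R := LinearMap.range (LinearMap.mulRight k c) with hR
  have hcR : Submodule.span k {c} ≤ R := by
    rw [Submodule.span_singleton_le_iff_mem]
    exact ⟨1, by rw [LinearMap.mulRight_apply, one_mul]⟩
  have hRM : M * R ≤ R := by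
    rw [Submodule.mul_le]
    rintro m _ _ ⟨a, rfl⟩
    exact ⟨m * a, by rw [LinearMap.mulRight_apply, LinearMap.mulRight_apply, mul_assoc]⟩
  have key : ∀ i : ℕ, M ^ 2 ≤ R ⊔ M ^ (i + 2) := by
    intro i
    induction i with
    | zero => exact le_sup_right
    | succ i ih =>
      have h3 : M ^ 3 ≤ R ⊔ M ^ (i + 1 + 2) := by
        have : M ^ 3 = M * M ^ 2 := (self_mul_pow M 2).symm
        rw [this]
        refine (mul_le_mul' le_rfl ih).trans ?_
        rw [Submodule.mul_sup]
        refine sup_le (hRM.trans le_sup_left) (le_trans ?_ le_sup_right)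
        rw [self_mul_pow]
      exact hc.trans (sup_le (hcR.trans le_sup_left) h3)
  obtain ⟨N, hN⟩ := hnil
  have hbot : M ^ (N + 2) = ⊥ := by
    rw [eq_bot_iff, ← hN]
    exact hM.pow_le (by omega) (by omega)
  have := key N
  rwa [hbot, sup_bot_eq] at this

/-- CASE A: if `lam` kills `M ^ 3` then `A` is commutative -/
theorem commSpan_eq_bot_of_cube {lam : A →ₗ[k] k} (h : IsSymmForm k lam) {M : Submodule k A}
    (hM : IsTS M) (hloc : ∀ a : A, ∃ c : k, a - algebraMap k A c ∈ M)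
    (h3 : M ^ 3 ≤ LinearMap.ker lam) : commSpan k A = ⊥ := by
  have h3bot : M ^ 3 = ⊥ := by
    by_contra hne
    obtain ⟨s, hs, hls⟩ := exists_lam_ne_zero h (hM.pow 2) hne
    exact hls (LinearMap.mem_ker.mp (h3 hs))
  rw [eq_bot_iff]
  intro s hs
  rw [Submodule.mem_bot]
  have hs2 : s ∈ M ^ 2 := commSpan_le_sq hloc hs
  have hs0 : lam s = 0 := LinearMap.mem_ker.mp (commSpan_le_ker h hs)
  apply h.nondeg s
  intro b
  obtain ⟨β, hβ⟩ := hloc b
  have hb : b = algebraMap k A β + (b - algebraMap k A β) := by abel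
  have h1 : s * (b - algebraMap k A β) = 0 := by
    have : s * (b - algebraMap k A β) ∈ M ^ 3 := by
      rw [← pow_mul_self M 2]
      exact Submodule.mul_mem_mul hs2 hβ
    rwa [h3bot, Submodule.mem_bot] at this
  rw [hb, mul_add, h1, add_zero, ← Algebra.commutes, ← Algebra.smul_def, map_smul, hs0,
    smul_zero]

/-- CASE B: `M ^ 2` is generated by the commutator `c = [x, y]` modulo `M ^ 3` -/
theorem comm_of_caseB {lam : A →ₗ[k] k} (h : IsSymmForm k lam) {M : Submodule k A}
    (hM : IsTS M) (hnil : ∃ N : ℕ, M ^ (N + 1) = ⊥)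
    (hloc : ∀ a : A, ∃ c : k, a - algebraMap k A c ∈ M) {x y : A} (hx : x ∈ M) (hy : y ∈ M)
    (hgen : M ≤ Submodule.span k {x, y} ⊔ M ^ 2)
    (hB : M ^ 2 ≤ Submodule.span k {x * y - y * x} ⊔ M ^ 3) : ∀ a b : A, a * b = b * a := by
  by_contra hnc
  set c := x * y - y * x with hc
  have hcA := sq_le_range_mulLeft hM hnil hB
  have hAc := sq_le_range_mulRight hM hnil hB
  have hK2 : commSpan k A ≤ M ^ 2 := commSpan_le_sq hloc
  -- (6)
  have hcent : ∀ a : A, a * c = 0 → ∀ b : A, b * a = a * b := by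
    intro a hac
    have hmem : a ∈ Subalgebra.toSubmodule (Subalgebra.center k A) := by
      rw [center_eq_orthogonal h, LinearMap.BilinForm.mem_orthogonal_iff]
      intro n hn
      rw [formOf_apply]
      obtain ⟨b, hb⟩ := hcA (hK2 hn)
      rw [LinearMap.mulLeft_apply] at hb
      rw [← hb, h.comm, ← mul_assoc, hac, zero_mul, map_zero]
    rw [Subalgebra.mem_toSubmodule, Subalgebra.mem_center_iff] at hmem
    exact hmem
  have h4 : M ^ 4 = M ^ 2 * M ^ 2 := (pow_mul_pow M 2 2).symm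
  have h4a : M ^ 4 = M * M ^ 3 := (self_mul_pow M 3).symm
  have h4b : M ^ 4 = M ^ 3 * M := (pow_mul_self M 3).symm
  -- (7)
  have hxc : x * c ∉ M ^ 4 := by
    intro hmem
    have hle : M ^ 2 * M ^ 2 ≤ Submodule.map (LinearMap.mulRight k c) (M ^ 2) := by
      rw [Submodule.mul_le]
      intro m hm n hn
      obtain ⟨a, ha⟩ := hAc hn
      rw [LinearMap.mulRight_apply] at ha
      refine ⟨m * a, ?_, ?_⟩
      · have := ((hM.pow 1) a m hm).2
        exact this
      · rw [LinearMap.mulRight_apply, ← ha, mul_assoc]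
    rw [h4] at hmem
    obtain ⟨b, hb, hbc⟩ := hle hmem
    rw [LinearMap.mulRight_apply] at hbc
    have h0 : (x - b) * c = 0 := by rw [sub_mul, hbc, sub_self]
    have hz := hcent (x - b) h0
    apply hnc
    refine comm_of_gen hM hnil hloc (z := x - b) (y := y) (fun a => (hz a).symm) ?_
    intro j hj
    obtain ⟨u, hu, r, hr, rfl⟩ := Submodule.mem_sup.mp (hgen hj)
    obtain ⟨α, β, rfl⟩ := Submodule.mem_span_pair.mp hu
    refine Submodule.mem_sup.mpr ⟨α • (x - b) + β • y,
      Submodule.mem_span_pair.mpr ⟨α, β, rfl⟩, α • b + r,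
      add_mem (Submodule.smul_mem _ _ hb) hr, ?_⟩
    rw [smul_sub]
    abel
  -- (8)
  have hxx : x * x ∈ M ^ 2 := by rw [sq_eq]; exact Submodule.mul_mem_mul hx hx
  have hxy : x * y ∈ M ^ 2 := by rw [sq_eq]; exact Submodule.mul_mem_mul hx hy
  obtain ⟨u₁, hu₁, r₁, hr₁, hxx'⟩ := Submodule.mem_sup.mp (hB hxx)
  obtain ⟨u₂, hu₂, r₂, hr₂, hxy'⟩ := Submodule.mem_sup.mp (hB hxy)
  obtain ⟨α, rfl⟩ := Submodule.mem_span_singleton.mp hu₁
  obtain ⟨β, rfl⟩ := Submodule.mem_span_singleton.mp hu₂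
  have hyx' : y * x = β • c + r₂ - c := by rw [hxy', hc]; abel
  set π := (M ^ 4).mkQ with hπdef
  have hπ : ∀ v ∈ M ^ 4, π v = 0 := by
    intro v hv
    rw [hπdef, Submodule.mkQ_apply, Submodule.Quotient.mk_eq_zero]
    exact hv
  have m1 : ∀ r ∈ M ^ 3, π (x * r) = 0 := fun r hr => hπ _ (by
    rw [h4a]; exact Submodule.mul_mem_mul hx hr)
  have m2 : ∀ r ∈ M ^ 3, π (r * x) = 0 := fun r hr => hπ _ (by
    rw [h4b]; exact Submodule.mul_mem_mul hr hx)
  have m3 : ∀ r ∈ M ^ 3, π (r * y) = 0 := fun r hr => hπ _ (by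
    rw [h4b]; exact Submodule.mul_mem_mul hr hy)
  have E1 : (α • c + r₁) * x = x * (α • c + r₁) := by rw [hxx']; exact mul_assoc x x x
  have E2 : (α • c + r₁) * y = x * (β • c + r₂) := by rw [hxx', hxy']; exact mul_assoc x x y
  have E3 : (β • c + r₂) * x = x * (β • c + r₂ - c) := by
    have h0 : x * y - c = y * x := by rw [hc]; abel
    rw [hxy', h0]; exact mul_assoc x y x
  have E1' := congrArg π E1
  have E2' := congrArg π E2
  have E3' := congrArg π E3
  simp only [add_mul, mul_add, mul_sub, smul_mul_assoc, mul_smul_comm, map_add, map_sub,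
    map_smul] at E1' E2' E3'
  rw [m2 r₁ hr₁, m1 r₁ hr₁, add_zero, add_zero] at E1'
  rw [m3 r₁ hr₁, m1 r₂ hr₂, add_zero, add_zero] at E2'
  rw [m2 r₂ hr₂, m1 r₂ hr₂, add_zero, add_zero] at E3'
  -- E1' : α • π (c * x) = α • π (x * c)
  -- E2' : α • π (c * y) = β • π (x * c)
  -- E3' : β • π (c * x) = β • π (x * c) - π (x * c)
  have hX : π (x * c) = 0 := by
    by_cases hα : α = 0
    · rw [hα, zero_smul] at E2'
      rcases smul_eq_zero.mp E2'.symm with hβ | hX
      · rw [hβ, zero_smul, zero_smul, zero_sub] at E3'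
        exact neg_eq_zero.mp E3'.symm
      · exact hX
    · have hYX : π (c * x) = π (x * c) := smul_right_injective _ hα E1'
      rw [hYX] at E3'
      have := E3'.symm
      rwa [sub_eq_self] at this
  apply hxc
  rw [hπdef, Submodule.mkQ_apply, Submodule.Quotient.mk_eq_zero] at hX
  exact hX

/-- Külshammer's lemma for a two-sided nilpotent subspace `M` with `A = k + M` -/
theorem comm_of_local' [FiniteDimensional k A] (lam : A →ₗ[k] k) (h : IsSymmForm k lam)
    {M : Submodule k A} (hM : IsTS M) (hnil : ∃ N : ℕ, M ^ (N + 1) = ⊥)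
    (hloc : ∀ a : A, ∃ c : k, a - algebraMap k A c ∈ M)
    (hZ : finrank k (Subalgebra.center k A) ≤ 4) : ∀ a b : A, a * b = b * a := by
  by_contra hnc
  push Not at hnc
  obtain ⟨a0, b0, hab0⟩ := hnc
  have hKne : commSpan k A ≠ ⊥ := by
    intro hK
    have := sub_mem_commSpan (k := k) a0 b0
    rw [hK, Submodule.mem_bot, sub_eq_zero] at this
    exact hab0 this
  have hK2 : commSpan k A ≤ M ^ 2 := commSpan_le_sq hloc
  have hKker : commSpan k A ≤ LinearMap.ker lam := commSpan_le_ker h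
  have hsq_ne : M ^ 2 ≠ ⊥ := fun h0 => hKne (eq_bot_iff.mpr (h0 ▸ hK2))
  obtain ⟨s, hs, hls⟩ := exists_lam_ne_zero h (hM.pow 1) hsq_ne
  have hKL : commSpan k A ≤ M ^ 2 ⊓ LinearMap.ker lam := le_inf hK2 hKker
  have hLlt : M ^ 2 ⊓ LinearMap.ker lam < M ^ 2 := by
    refine lt_of_le_of_ne inf_le_left ?_
    intro heq
    have : s ∈ M ^ 2 ⊓ LinearMap.ker lam := by rw [heq]; exact hs
    exact hls (LinearMap.mem_ker.mp this.2)
  have f5 := Submodule.finrank_lt_finrank_of_lt hLlt
  have f1 := finrank_center_add_finrank_commSpan lam h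
  have hMtop : M ≠ ⊤ := by
    intro htop
    obtain ⟨N, hN⟩ := hnil
    have h1 : (1 : A) ∈ M ^ (N + 1) := by
      have := Submodule.pow_mem_pow M (x := 1) (by rw [htop]; exact Submodule.mem_top) (N + 1)
      rwa [one_pow] at this
    rw [hN, Submodule.mem_bot] at h1
    apply hab0
    rw [← mul_one (a0 * b0), ← mul_one (b0 * a0), h1, mul_zero, mul_zero]
  have f3 := Submodule.finrank_lt hMtop
  have f6 : M ^ 2 ≤ M := hM.pow_le_self (by norm_num)
  have f6' := Submodule.finrank_mono f6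
  have f4 := Submodule.finrank_mono hKL
  by_cases hd : finrank k ↥M ≤ finrank k ↥(M ^ 2) + 1
  · obtain ⟨x, hxM, hx⟩ := exists_one_gen f6 hd
    refine hab0 (comm_of_gen hM hnil hloc (z := 0) (y := x)
      (fun a => by rw [zero_mul, mul_zero]) ?_ a0 b0)
    refine hx.trans (sup_le_sup_right (Submodule.span_mono ?_) _)
    intro w hw
    exact Set.mem_insert_of_mem _ hw
  · push Not at hd
    obtain ⟨x, hxM, y, hyM, hgen⟩ := exists_two_gen f6 (by omega)
    have hK4 := commSpan_le_span_c hM hloc hxM hyM hgen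
    have hcM2 : x * y - y * x ∈ M ^ 2 := by
      rw [sq_eq]
      exact sub_mem (Submodule.mul_mem_mul hxM hyM) (Submodule.mul_mem_mul hyM hxM)
    have hPle : Submodule.span k {x * y - y * x} ⊔ M ^ 3 ≤ M ^ 2 :=
      sup_le ((Submodule.span_singleton_le_iff_mem _ _).mpr hcM2)
        (hM.pow_le (by norm_num) (by norm_num))
    by_cases hPK : Submodule.span k {x * y - y * x} ⊔ M ^ 3 ≤ commSpan k A
    · have h3 : M ^ 3 ≤ LinearMap.ker lam := (le_sup_right.trans hPK).trans hKker
      exact hKne (commSpan_eq_bot_of_cube h hM hloc h3)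
    · have hlt : commSpan k A < Submodule.span k {x * y - y * x} ⊔ M ^ 3 :=
        lt_of_le_not_ge hK4 hPK
      have f7 := Submodule.finrank_lt_finrank_of_lt hlt
      have hPeq : Submodule.span k {x * y - y * x} ⊔ M ^ 3 = M ^ 2 :=
        Submodule.eq_of_le_of_finrank_le hPle (by omega)
      exact hab0 (comm_of_caseB h hM hnil hloc hxM hyM hgen hPeq.ge a0 b0)

/-- **(K-R1) Külshammer's lemma**: a split local symmetric algebra whose centre has dimension at
most `4` is commutative. -/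
theorem comm_of_local_symm_of_center_le_four [FiniteDimensional k A] (lam : A →ₗ[k] k)
    (h : IsSymmForm k lam) (J : Ideal A) [J.IsTwoSided] (hJ : ∃ N : ℕ, J ^ N = ⊥)
    (hloc : ∀ a : A, ∃ c : k, a - algebraMap k A c ∈ J)
    (hZ : finrank k (Subalgebra.center k A) ≤ 4) : ∀ a b : A, a * b = b * a :=
  comm_of_local' lam h (M := J.restrictScalars k) (isTS_restrictScalars J)
    (restrictScalars_pow_eq_bot J hJ)
    (fun a => by
      obtain ⟨c, hc⟩ := hloc a
      exact ⟨c, (Submodule.restrictScalars_mem k J _).mpr hc⟩) hZ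

end Cfsg.Agent.Helper70.KuelR1
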