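import Cfsg.Agent.Helper70.PCount10

set_option autoImplicit false
set_option linter.unusedSectionVars false

open scoped Classical

namespace Cfsg.Agent.Helper70.PCount

section cyc
variable {Q : Type*} [Group Q] [Finite Q]

/-- the cyclic subgroups of order `n` inside `X` -/
noncomputable def cycOfCard (n : ℕ) (X : Subgroup Q) : Finset (Subgroup Q) :=
  (subsOfCard n X).filter (fun H : Subgroup Q => IsCyclic H)

theorem mem_cycOfCard {n : ℕ} {X H : Subgroup Q} :
    H ∈ cycOfCard n X ↔ Nat.card H = n ∧ H ≤ X ∧ IsCyclic H := by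
  rw [cycOfCard, Finset.mem_filter, mem_subsOfCard, and_assoc]

theorem cycOfCard_eq_filter (n : ℕ) (X : Subgroup Q) :
    cycOfCard n X = (cycOfCard n ⊤).filter (fun H => H ≤ X) := by
  ext H
  simp only [mem_cycOfCard, Finset.mem_filter, le_top, true_and]
  tauto

/-- transport to the subgroup viewed as a group -/
theorem card_cycOfCard_eq (M : Subgroup Q) (m : ℕ) :
    (cycOfCard m M).card = (cycOfCard m (⊤ : Subgroup M)).card := by
  apply Finset.card_bij' (fun (H : Subgroup Q) _ => H.subgroupOf M)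
    (fun (H' : Subgroup M) _ => H'.map M.subtype)
  · intro H hH
    rw [mem_cycOfCard] at hH ⊢
    obtain ⟨h1, h2, h3⟩ := hH
    refine ⟨?_, le_top, ?_⟩
    · rw [Nat.card_congr (Subgroup.subgroupOfEquivOfLe h2).toEquiv]; exact h1
    · haveI : IsCyclic H := h3
      exact isCyclic_of_surjective (Subgroup.subgroupOfEquivOfLe h2).symm
        (Subgroup.subgroupOfEquivOfLe h2).symm.surjective
  · intro H' hH'
    rw [mem_cycOfCard] at hH' ⊢
    obtain ⟨h1, -, h3⟩ := hH'
    refine ⟨by rw [Subgroup.card_subtype]; exact h1, Subgroup.map_subtype_le H', ?_⟩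
    haveI : IsCyclic H' := h3
    exact isCyclic_of_surjective (H'.equivMapOfInjective M.subtype M.subtype_injective)
      (H'.equivMapOfInjective M.subtype M.subtype_injective).surjective
  · intro H hH
    rw [mem_cycOfCard] at hH
    exact Subgroup.map_subgroupOf_eq_of_le hH.2.1
  · intro H' _
    exact Subgroup.comap_map_eq_self_of_injective M.subtype_injective H'

variable {p : ℕ} [hp : Fact p.Prime]

/-- enumeration modulo `p` for cyclic subgroups of a given order in a noncyclic `p`-group -/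
theorem enumeration_cyc (hQ : IsPGroup p Q) (hnc : ¬ IsCyclic Q) (n : ℕ) :
    ∑ M ∈ gam1 Q p, (cycOfCard n M).card ≡ (cycOfCard n (⊤ : Subgroup Q)).card [MOD p] := by
  set S := cycOfCard n (⊤ : Subgroup Q) with hS
  have hproper : ∀ H ∈ S, H ≠ ⊤ := by
    intro H hH
    rw [hS, mem_cycOfCard] at hH
    rintro rfl
    apply hnc
    haveI : IsCyclic (⊤ : Subgroup Q) := hH.2.2
    exact isCyclic_of_surjective (Subgroup.topEquiv : (⊤ : Subgroup Q) ≃* Q)
      Subgroup.topEquiv.surjective
  have e1 : ∑ M ∈ gam1 Q p, (cycOfCard n M).card =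
      ∑ H ∈ S, ((gam1 Q p).filter (fun M => H ≤ M)).card := by
    have := Finset.sum_card_bipartiteAbove_eq_sum_card_bipartiteBelow (s := gam1 Q p) (t := S)
      (fun (M : Subgroup Q) (H : Subgroup Q) => H ≤ M)
    simp only [Finset.bipartiteAbove, Finset.bipartiteBelow] at this
    rw [← this]
    exact Finset.sum_congr rfl (fun M _ => by rw [cycOfCard_eq_filter])
  rw [e1]
  have e3 : S.card = ∑ _H ∈ S, 1 := by simp
  rw [e3]
  apply sum_modEq
  intro H hH
  rw [card_filter_gam1]
  exact card_index_eq_ge_modEq_one hQ H (hproper H hH)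

/-- in a cyclic group, the cyclic subgroups of order `p ^ a` number exactly one -/
theorem card_cycOfCard_of_isCyclic [IsCyclic Q] (a : ℕ) (h : p ^ a ∣ Nat.card Q) :
    (cycOfCard (p ^ a) (⊤ : Subgroup Q)).card = 1 := by
  have : cycOfCard (p ^ a) (⊤ : Subgroup Q) = subsOfCard (p ^ a) (⊤ : Subgroup Q) := by
    rw [cycOfCard]
    apply Finset.filter_true_of_mem
    intro H _
    infer_instance
  rw [this]
  exact card_subsOfCard_of_isCyclic a h

end cyc

/-- **Miller's theorem**: in a noncyclic `p`-group (`p` odd) the number of cyclic subgroups of order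
`p ^ s`, `s ≥ 2`, is divisible by `p`. -/
theorem miller.{u} {p : ℕ} [hp : Fact p.Prime] (hp2 : p ≠ 2) :
    ∀ (n : ℕ) (Q : Type u) [Group Q] [Finite Q], Nat.card Q = p ^ n → ¬ IsCyclic Q →
      ∀ s : ℕ, 2 ≤ s → p ∣ (cycOfCard (p ^ s) (⊤ : Subgroup Q)).card := by
  intro n
  induction n using Nat.strong_induction_on with
  | _ n ih =>
  intro Q _ _ hn hnc s hs
  have hp1 : 1 < p := hp.out.one_lt
  have hQ : IsPGroup p Q := IsPGroup.of_card hn
  by_cases hsn : n ≤ s
  · -- no such subgroups
    have : cycOfCard (p ^ s) (⊤ : Subgroup Q) = ∅ := by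
      rw [Finset.eq_empty_iff_forall_notMem]
      intro H hH
      rw [mem_cycOfCard] at hH
      obtain ⟨h1, -, h3⟩ := hH
      have h4 : Nat.card H ≤ Nat.card Q := Subgroup.card_le_card_group H
      rw [h1, hn] at h4
      have h5 : s ≤ n := (Nat.pow_le_pow_iff_right hp1).mp h4
      have h6 : s = n := le_antisymm h5 hsn
      have h7 : H = ⊤ := by
        apply Subgroup.eq_top_of_card_eq
        rw [h1, hn, h6]
      apply hnc
      rw [h7] at h3
      haveI : IsCyclic (⊤ : Subgroup Q) := h3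
      exact isCyclic_of_surjective (Subgroup.topEquiv : (⊤ : Subgroup Q) ≃* Q)
        Subgroup.topEquiv.surjective
    rw [this, Finset.card_empty]
    exact dvd_zero p
  · push Not at hsn
    have henum := enumeration_cyc hQ hnc (p ^ s)
    rw [← Nat.modEq_zero_iff_dvd]
    refine henum.symm.trans ?_
    have hg1 := card_gam1_modEq hQ hnc
    have hMcard : ∀ M ∈ gam1 Q p, Nat.card M = p ^ (n - 1) := by
      intro M hM
      rw [mem_gam1] at hM
      exact (card_eq_of_index_eq hn M hM).1
    have hcyc : ∀ M ∈ gam1 Q p, IsCyclic M → (cycOfCard (p ^ s) M).card = 1 := by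
      intro M hM hc
      rw [card_cycOfCard_eq]
      apply card_cycOfCard_of_isCyclic
      rw [hMcard M hM]
      exact pow_dvd_pow p (by omega)
    have hncyc : ∀ M ∈ gam1 Q p, ¬ IsCyclic M → (cycOfCard (p ^ s) M).card ≡ 0 [MOD p] := by
      intro M hM hc
      rw [card_cycOfCard_eq, Nat.modEq_zero_iff_dvd]
      exact ih (n - 1) (by omega) M (hMcard M hM) hc s hs
    by_cases hex : ∃ C ∈ gam1 Q p, IsCyclic C
    · obtain ⟨C, hC, hCc⟩ := hex
      rw [mem_gam1] at hC
      obtain ⟨Ω, hΩi, hΩnc, hΩ⟩ :=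
        exists_unique_noncyclic_max hp2 hQ hnc n hn (by omega) C hCc hC
      have hΩmem : Ω ∈ gam1 Q p := mem_gam1.mpr hΩi
      rw [← Finset.add_sum_erase _ _ hΩmem]
      have h1 : ∑ M ∈ (gam1 Q p).erase Ω, (cycOfCard (p ^ s) M).card =
          ∑ _M ∈ (gam1 Q p).erase Ω, 1 := by
        apply Finset.sum_congr rfl
        intro M hM
        rw [Finset.mem_erase] at hM
        exact hcyc M hM.2 (hΩ M (mem_gam1.mp hM.2) hM.1)
      rw [h1, Finset.sum_const, smul_eq_mul, mul_one, Finset.card_erase_of_mem hΩmem]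
      have h2 : (gam1 Q p).card - 1 ≡ 0 [MOD p] := by
        have hpos : 1 ≤ (gam1 Q p).card := Finset.card_pos.mpr ⟨Ω, hΩmem⟩
        have hg1' : (gam1 Q p).card ≡ 1 + p [MOD p] :=
          hg1.of_dvd (dvd_pow_self p (by norm_num))
        have h3 : (gam1 Q p).card - 1 + 1 ≡ 0 + 1 [MOD p] := by
          rw [Nat.sub_add_cancel hpos, zero_add]
          refine hg1'.trans ?_
          conv_rhs => rw [← add_zero 1]
          exact Nat.ModEq.add_left _ ((Nat.modEq_zero_iff_dvd).mpr dvd_rfl)
        exact Nat.ModEq.add_right_cancel' 1 h3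
      have := Nat.ModEq.add (hncyc Ω hΩmem hΩnc) h2
      simpa using this
    · push Not at hex
      have h1 : ∑ M ∈ gam1 Q p, (cycOfCard (p ^ s) M).card ≡ ∑ _M ∈ gam1 Q p, 0 [MOD p] :=
        sum_modEq _ _ _ _ (fun M hM => hncyc M hM (hex M hM))
      simpa using h1

end Cfsg.Agent.Helper70.PCount
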