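import Cfsg.Agent.Helper70.Miller1

set_option autoImplicit false
set_option linter.unusedSectionVars false

open scoped Classical Pointwise

namespace Cfsg.Agent.Helper70.PCount

section lift
variable {G : Type*} [Group G] [Finite G] {p : ℕ} [hp : Fact p.Prime]

attribute [local instance] conjAction

theorem isCyclic_conj_smul (g : G) (H : Subgroup G) (hH : IsCyclic H) :
    IsCyclic (MulAut.conj g • H : Subgroup G) := by
  haveI := hH
  exact isCyclic_of_surjective (Subgroup.equivSMul (MulAut.conj g) H)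
    (Subgroup.equivSMul (MulAut.conj g) H).surjective

/-- **Miller's theorem for arbitrary finite groups**: if the Sylow `p`-subgroups (`p` odd) are not
cyclic, the number of cyclic subgroups of order `p ^ s`, `s ≥ 2`, is divisible by `p`. -/
theorem miller_sylow (hp2 : p ≠ 2) (P : Sylow p G) (hP : ¬ IsCyclic (P : Subgroup G)) (s : ℕ)
    (hs : 2 ≤ s) : p ∣ (cycOfCard (p ^ s) (⊤ : Subgroup G)).card := by
  let R : Subgroup G := (P : Subgroup G)
  have hRp : IsPGroup p R := P.isPGroup'
  have hgP : ∀ g : R, g • (P : Subgroup G) = P := fun g =>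
    conj_smul_eq_of_le_normalizer (R := R) (K := (P : Subgroup G)) Subgroup.le_normalizer g
  set T := cycOfCard (p ^ s) (⊤ : Subgroup G) with hT
  set TP := cycOfCard (p ^ s) (P : Subgroup G) with hTP
  have hinvT : ∀ g : R, ∀ H ∈ T, g • H ∈ T := by
    intro g H hH
    rw [hT, mem_cycOfCard] at hH ⊢
    refine ⟨by rw [conj_smul_def, card_conj_smul]; exact hH.1, le_top, ?_⟩
    rw [conj_smul_def]
    exact isCyclic_conj_smul _ H hH.2.2
  have hinvTP : ∀ g : R, ∀ H ∈ TP, g • H ∈ TP := by
    intro g H hH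
    rw [hTP, mem_cycOfCard] at hH ⊢
    refine ⟨by rw [conj_smul_def, card_conj_smul]; exact hH.1, ?_, ?_⟩
    · rw [← hgP g, conj_smul_def, conj_smul_def]
      exact Subgroup.pointwise_smul_le_pointwise_smul_iff.mpr hH.2.1
    · rw [conj_smul_def]
      exact isCyclic_conj_smul _ H hH.2.2
  have h1 := card_modEq_card_fixed hRp T hinvT
  have h2 := card_modEq_card_fixed hRp TP hinvTP
  have hfix : T.filter (fun H => ∀ g : R, g • H = H) = TP.filter (fun H => ∀ g : R, g • H = H) := by
    ext H
    rw [Finset.mem_filter, Finset.mem_filter, hT, hTP, mem_cycOfCard, mem_cycOfCard]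
    constructor
    · rintro ⟨⟨hc, -, hcyc⟩, hfixed⟩
      refine ⟨⟨hc, ?_, hcyc⟩, hfixed⟩
      have hPN : R ≤ Subgroup.normalizer (H : Set G) := (forall_smul_eq_iff' R H).mp hfixed
      have hHp : IsPGroup p H := IsPGroup.of_card hc
      have h3 : IsPGroup p (H ⊔ (P : Subgroup G) : Subgroup G) :=
        IsPGroup.to_sup_of_normal_left' hHp P.isPGroup' hPN
      have h4 := P.is_maximal' h3 le_sup_right
      have : H ≤ H ⊔ (P : Subgroup G) := le_sup_left
      rw [h4] at this
      exact this
    · rintro ⟨⟨hc, -, hcyc⟩, hfixed⟩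
      exact ⟨⟨hc, le_top, hcyc⟩, hfixed⟩
  rw [hfix] at h1
  have h3 : T.card ≡ TP.card [MOD p] := h1.trans h2.symm
  rw [← Nat.modEq_zero_iff_dvd]
  refine h3.trans ?_
  rw [Nat.modEq_zero_iff_dvd, hTP, card_cycOfCard_eq]
  obtain ⟨n, hn⟩ := IsPGroup.iff_card.mp hRp
  exact miller hp2 n (P : Subgroup G) hn hP s hs

end lift

end Cfsg.Agent.Helper70.PCount
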