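import Cfsg.Agent.Helper70.Miller2

set_option autoImplicit false
set_option linter.unusedSectionVars false

open scoped Classical

namespace Cfsg.Agent.Helper70.PCount

section elts
variable {G : Type*} [Group G] [Finite G]

/-- the elements of `X` of order `d` -/
noncomputable def eltsOfOrder (d : ℕ) (X : Subgroup G) : Finset G :=
  (Set.toFinite {x : G | orderOf x = d ∧ x ∈ X}).toFinset

theorem mem_eltsOfOrder {d : ℕ} {X : Subgroup G} {x : G} :
    x ∈ eltsOfOrder d X ↔ orderOf x = d ∧ x ∈ X := by
  simp [eltsOfOrder]

/-- the elements of order `d` of `X` are the generators of the cyclic subgroups of order `d`. -/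
theorem card_eltsOfOrder (d : ℕ) (X : Subgroup G) :
    (eltsOfOrder d X).card = Nat.totient d * (cycOfCard d X).card := by
  have hmaps : ∀ x ∈ eltsOfOrder d X, Subgroup.zpowers x ∈ cycOfCard d X := by
    intro x hx
    rw [mem_eltsOfOrder] at hx
    rw [mem_cycOfCard]
    refine ⟨by rw [Nat.card_zpowers]; exact hx.1, ?_, inferInstance⟩
    rw [Subgroup.zpowers_le]
    exact hx.2
  have hfib : ∀ C ∈ cycOfCard d X,
      ((eltsOfOrder d X).filter (fun x => Subgroup.zpowers x = C)).card = Nat.totient d := by
    intro C hC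
    rw [mem_cycOfCard] at hC
    obtain ⟨hcard, hCX, hcyc⟩ := hC
    haveI := hcyc
    have : Fintype C := Fintype.ofFinite C
    have h1 : (Finset.univ.filter (fun a : C => orderOf a = d)).card = Nat.totient d := by
      apply IsCyclic.card_orderOf_eq_totient
      rw [← Nat.card_eq_fintype_card, hcard]
    rw [← h1]
    symm
    apply Finset.card_bij (fun (a : C) _ => (a : G))
    · intro a ha
      rw [Finset.mem_filter] at ha
      rw [Finset.mem_filter, mem_eltsOfOrder, Subgroup.orderOf_coe]
      refine ⟨⟨ha.2, hCX a.2⟩, ?_⟩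
      apply Subgroup.eq_of_le_of_card_ge
      · rw [Subgroup.zpowers_le]; exact a.2
      · rw [Nat.card_zpowers, Subgroup.orderOf_coe, ha.2, hcard]
    · intro a _ b _ hab
      exact Subtype.ext hab
    · intro x hx
      rw [Finset.mem_filter, mem_eltsOfOrder] at hx
      have hxC : x ∈ C := by
        rw [← hx.2]
        exact Subgroup.mem_zpowers x
      refine ⟨⟨x, hxC⟩, ?_, rfl⟩
      rw [Finset.mem_filter]
      refine ⟨Finset.mem_univ _, ?_⟩
      rw [Subgroup.orderOf_mk]
      exact hx.1.1
  rw [Finset.card_eq_sum_card_fiberwise hmaps, Finset.sum_congr rfl hfib, Finset.sum_const,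
    smul_eq_mul, mul_comm]

end elts

end Cfsg.Agent.Helper70.PCount
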