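import Cfsg.Agent.Helper70.Miller3

set_option autoImplicit false
set_option linter.unusedSectionVars false

open scoped Classical

namespace Cfsg.Agent.Helper70.PCount

section split
variable {G : Type*} [Group G]

/-- an exponent which is `1` modulo `a` and `0` modulo `b` -/
theorem exists_crt_exponent (a b : ℕ) (hab : Nat.Coprime a b) (ha : 1 < a) :
    ∃ k : ℕ, k % a = 1 ∧ b ∣ k := by
  obtain ⟨b', -, hb'⟩ := Nat.exists_mul_mod_eq_one_of_coprime (k := a) (n := b) hab.symm ha
  exact ⟨b * b', hb', dvd_mul_right b b'⟩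

/-- the `a`-part of an element of order `a * b` (with `a, b` coprime) -/
theorem split_of_orderOf (a b k : ℕ) (hab : Nat.Coprime a b) (ha : 0 < a) (hb : 0 < b)
    (hk1 : k % a = 1) (hk2 : b ∣ k) (g : G) (hg : orderOf g = a * b) :
    orderOf (g ^ k) = a ∧ orderOf (g * (g ^ k)⁻¹) = b := by
  have hcomm : Commute (g ^ k) (g * (g ^ k)⁻¹) :=
    ((Commute.refl g).pow_left k).mul_right (((Commute.refl g).pow_left k).pow_right k).inv_right
  have hx : (g ^ k) ^ a = 1 := by
    obtain ⟨c, rfl⟩ := hk2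
    rw [← pow_mul, mul_comm b c, mul_assoc, mul_comm b a, mul_comm c, pow_mul, ← hg,
      pow_orderOf_eq_one, one_pow]
  have hk0 : 1 ≤ k := by
    rcases Nat.eq_zero_or_pos k with h | h
    · rw [h] at hk1; simp at hk1
    · exact h
  have hy : (g * (g ^ k)⁻¹) ^ b = 1 := by
    have hc : Commute g (g ^ k)⁻¹ := ((Commute.refl g).pow_right k).inv_right
    rw [hc.mul_pow, inv_pow, ← pow_mul, mul_inv_eq_one]
    -- g ^ b = g ^ (k * b)
    have hdiv : a ∣ k - 1 := (Nat.modEq_iff_dvd' hk0).mp (by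
      unfold Nat.ModEq
      rw [hk1]
      rcases Nat.lt_or_ge 1 a with h | h
      · exact Nat.mod_eq_of_lt h
      · have : a = 1 := by omega
        subst this
        rw [Nat.mod_one] at hk1
        omega)
    obtain ⟨c, hc'⟩ := hdiv
    have : k * b = b + (a * b) * c := by
      have : k = 1 + a * c := by omega
      rw [this]; ring
    rw [this, pow_add, pow_mul, ← hg, pow_orderOf_eq_one, one_pow, mul_one]
  have hxo : orderOf (g ^ k) ∣ a := orderOf_dvd_of_pow_eq_one hx
  have hyo : orderOf (g * (g ^ k)⁻¹) ∣ b := orderOf_dvd_of_pow_eq_one hy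
  have hcop : Nat.Coprime (orderOf (g ^ k)) (orderOf (g * (g ^ k)⁻¹)) :=
    Nat.Coprime.of_dvd hxo hyo hab
  have hprod := hcomm.orderOf_mul_eq_mul_orderOf_of_coprime hcop
  have e : g ^ k * (g * (g ^ k)⁻¹) = g := by
    rw [← mul_assoc, ← pow_succ, pow_succ', mul_assoc, mul_inv_cancel, mul_one]
  rw [e, hg] at hprod
  have h1 : orderOf (g ^ k) ≤ a := Nat.le_of_dvd ha hxo
  have h2 : orderOf (g * (g ^ k)⁻¹) ≤ b := Nat.le_of_dvd hb hyo
  constructor
  · by_contra hne
    have hlt : orderOf (g ^ k) < a := lt_of_le_of_ne h1 hne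
    have : orderOf (g ^ k) * orderOf (g * (g ^ k)⁻¹) < a * b :=
      Nat.mul_lt_mul_of_lt_of_le hlt h2 hb
    omega
  · by_contra hne
    have hlt : orderOf (g * (g ^ k)⁻¹) < b := lt_of_le_of_ne h2 hne
    have : orderOf (g ^ k) * orderOf (g * (g ^ k)⁻¹) < a * b :=
      Nat.mul_lt_mul_of_le_of_lt h1 hlt ha
    omega

/-- recover the `a`-part of a commuting product -/
theorem mul_pow_eq_left (a b k : ℕ) (hk1 : k % a = 1) (hk2 : b ∣ k) (x y : G)
    (hx : orderOf x = a) (hy : orderOf y = b) (hxy : Commute x y) : (x * y) ^ k = x := by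
  rw [hxy.mul_pow]
  have h1 : y ^ k = 1 := by
    rw [← hy] at hk2
    exact orderOf_dvd_iff_pow_eq_one.mp hk2
  have h2 : x ^ k = x := by
    rw [← pow_mod_orderOf, hx, hk1, pow_one]
  rw [h1, h2, mul_one]

end split

end Cfsg.Agent.Helper70.PCount
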