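import Cfsg.Agent.Helper70.Miller4

set_option autoImplicit false
set_option linter.unusedSectionVars false

open scoped Classical

namespace Cfsg.Agent.Helper70.PCount

section pairs
variable {G : Type*} [Group G] [Finite G]

theorem mem_centralizer_singleton {x y : G} :
    x ∈ Subgroup.centralizer ({y} : Set G) ↔ Commute x y := by
  rw [Subgroup.mem_centralizer_iff]
  constructor
  · intro h
    exact (h y rfl).symm
  · intro h z hz
    rw [Set.mem_singleton_iff] at hz
    subst hz
    exact h.symm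

/-- the elements of order `a * b` (`a, b` coprime) are counted by their `b`-parts -/
theorem card_eltsOfOrder_mul (a b : ℕ) (hab : Nat.Coprime a b) (ha : 1 < a) (hb : 0 < b) :
    (eltsOfOrder (a * b) (⊤ : Subgroup G)).card =
      ∑ y ∈ eltsOfOrder b (⊤ : Subgroup G),
        (eltsOfOrder a (Subgroup.centralizer ({y} : Set G))).card := by
  obtain ⟨k, hk1, hk2⟩ := exists_crt_exponent a b hab ha
  set PF : Finset (G × G) :=
    ((eltsOfOrder a (⊤ : Subgroup G)) ×ˢ (eltsOfOrder b (⊤ : Subgroup G))).filter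
      (fun q => Commute q.1 q.2) with hPF
  have hmemPF : ∀ q : G × G, q ∈ PF ↔ orderOf q.1 = a ∧ orderOf q.2 = b ∧ Commute q.1 q.2 := by
    intro q
    rw [hPF, Finset.mem_filter, Finset.mem_product, mem_eltsOfOrder, mem_eltsOfOrder]
    simp only [Subgroup.mem_top, and_true]
    tauto
  have step1 : (eltsOfOrder (a * b) (⊤ : Subgroup G)).card = PF.card := by
    symm
    apply Finset.card_bij (fun (q : G × G) _ => q.1 * q.2)
    · intro q hq
      rw [hmemPF] at hq
      obtain ⟨h1, h2, h3⟩ := hq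
      rw [mem_eltsOfOrder]
      refine ⟨?_, Subgroup.mem_top _⟩
      rw [h3.orderOf_mul_eq_mul_orderOf_of_coprime (by rw [h1, h2]; exact hab), h1, h2]
    · intro q hq q' hq' heq
      rw [hmemPF] at hq hq'
      have e1 := mul_pow_eq_left a b k hk1 hk2 q.1 q.2 hq.1 hq.2.1 hq.2.2
      have e2 := mul_pow_eq_left a b k hk1 hk2 q'.1 q'.2 hq'.1 hq'.2.1 hq'.2.2
      have heq' : q.1 * q.2 = q'.1 * q'.2 := heq
      have h1 : q.1 = q'.1 := by rw [← e1, ← e2, heq']
      have h2 : q.2 = q'.2 := by
        rw [h1] at heq'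
        exact mul_left_cancel heq'
      exact Prod.ext h1 h2
    · intro g hg
      rw [mem_eltsOfOrder] at hg
      obtain ⟨h1, h2⟩ := split_of_orderOf a b k hab (by omega) hb hk1 hk2 g hg.1
      refine ⟨(g ^ k, g * (g ^ k)⁻¹), ?_, ?_⟩
      · rw [hmemPF]
        refine ⟨h1, h2, ?_⟩
        exact ((Commute.refl g).pow_left k).mul_right
          (((Commute.refl g).pow_left k).pow_right k).inv_right
      · show g ^ k * (g * (g ^ k)⁻¹) = g
        rw [← mul_assoc, ← pow_succ, pow_succ', mul_assoc, mul_inv_cancel, mul_one]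
  have hmaps : ∀ q ∈ PF, q.2 ∈ eltsOfOrder b (⊤ : Subgroup G) := by
    intro q hq
    rw [hmemPF] at hq
    rw [mem_eltsOfOrder]
    exact ⟨hq.2.1, Subgroup.mem_top _⟩
  rw [step1, Finset.card_eq_sum_card_fiberwise hmaps]
  apply Finset.sum_congr rfl
  intro y hy
  rw [mem_eltsOfOrder] at hy
  apply Finset.card_bij (fun (q : G × G) _ => q.1)
  · intro q hq
    rw [Finset.mem_filter, hmemPF] at hq
    rw [mem_eltsOfOrder, mem_centralizer_singleton, ← hq.2]
    exact ⟨hq.1.1, hq.1.2.2⟩
  · intro q hq q' hq' heq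
    rw [Finset.mem_filter] at hq hq'
    exact Prod.ext heq (hq.2.trans hq'.2.symm)
  · intro x hx
    rw [mem_eltsOfOrder, mem_centralizer_singleton] at hx
    refine ⟨(x, y), ?_, rfl⟩
    rw [Finset.mem_filter, hmemPF]
    exact ⟨⟨hx.1, hy.1, hx.2⟩, rfl⟩

theorem orderOf_conj_mul (g x : G) : orderOf (g * x * g⁻¹) = orderOf x := by
  rw [← MulAut.conj_apply, MulEquiv.orderOf_eq]

/-- conjugation invariance -/
theorem card_eltsOfOrder_centralizer_conj (d : ℕ) (g y : G) :
    (eltsOfOrder d (Subgroup.centralizer ({g * y * g⁻¹} : Set G))).card =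
      (eltsOfOrder d (Subgroup.centralizer ({y} : Set G))).card := by
  apply Finset.card_bij (fun (x : G) _ => g⁻¹ * x * g)
  · intro x hx
    rw [mem_eltsOfOrder, mem_centralizer_singleton] at hx ⊢
    refine ⟨?_, ?_⟩
    · have := orderOf_conj_mul (g⁻¹) x
      rw [inv_inv] at this
      rw [this]; exact hx.1
    · have h := hx.2
      unfold Commute SemiconjBy at h ⊢
      have : g⁻¹ * (x * (g * y * g⁻¹)) * g = g⁻¹ * (g * y * g⁻¹ * x) * g := by rw [h]
      simp only [mul_assoc, inv_mul_cancel_left] at this ⊢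
      simpa [mul_assoc] using this
  · intro x _ x' _ heq
    have h1 : g⁻¹ * x * g = g⁻¹ * x' * g := heq
    exact mul_left_cancel (mul_right_cancel h1)
  · intro x hx
    rw [mem_eltsOfOrder, mem_centralizer_singleton] at hx
    refine ⟨g * x * g⁻¹, ?_, by group⟩
    rw [mem_eltsOfOrder, mem_centralizer_singleton]
    refine ⟨by rw [orderOf_conj_mul]; exact hx.1, ?_⟩
    have h := hx.2
    unfold Commute SemiconjBy at h ⊢
    calc g * x * g⁻¹ * (g * y * g⁻¹) = g * (x * y) * g⁻¹ := by group
      _ = g * (y * x) * g⁻¹ := by rw [h]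
      _ = g * y * g⁻¹ * (g * x * g⁻¹) := by group

end pairs

end Cfsg.Agent.Helper70.PCount
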