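import Mathlib
import Cfsg.Agent.Helper99.O9.Defs

set_option autoImplicit false
set_option linter.unusedSectionVars false
set_option linter.unusedVariables false

/-!
# S2517 piece (SIMG) for helper99: `-1 ∈ Ω` is invariant under isometry of pairs
-/

namespace Cfsg.Agent.Helper70.O9

open Matrix QuadraticMap Cfsg.Agent.Helper44 Cfsg.Agent.Helper44.QType Cfsg.Agent.Helper99.O9

universe u

variable {F : Type u} [Field F] [Fintype F]

/-- the matrix of a transported isometry -/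
theorem SIMG_isoTransport_coe {ι₁ ι₂ : Type} [Fintype ι₁] [DecidableEq ι₁] [Fintype ι₂]
    [DecidableEq ι₂] (Q₁ : (ι₁ → F) → F) (Q₂ : (ι₂ → F) → F)
    (C : (ι₁ → F) ≃ₗ[F] (ι₂ → F)) (hC : ∀ w, Q₂ (C w) = Q₁ w) (g : ↥(Cfsg.isometryGroup F Q₁)) :
    (((isoTransport Q₁ Q₂ C hC g : ↥(Cfsg.isometryGroup F Q₂)) : GL ι₂ F) : Matrix ι₂ ι₂ F)
      = conjMatAlgEquiv C ((g : GL ι₁ F) : Matrix ι₁ ι₁ F) := rfl

/-- `isoTransport` maps `Ω` into `Ω` -/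
theorem SIMG_isoTransport_mem_Omega {ι₁ ι₂ : Type} [Fintype ι₁] [DecidableEq ι₁] [Fintype ι₂]
    [DecidableEq ι₂] (Q₁ : (ι₁ → F) → F) (Q₂ : (ι₂ → F) → F)
    (C : (ι₁ → F) ≃ₗ[F] (ι₂ → F)) (hC : ∀ w, Q₂ (C w) = Q₁ w) (g : ↥(Cfsg.isometryGroup F Q₁))
    (hg : g ∈ Cfsg.Omega F Q₁) : isoTransport Q₁ Q₂ C hC g ∈ Cfsg.Omega F Q₂ := by
  have h1 : (Cfsg.Omega F Q₁).map (isoTransport Q₁ Q₂ C hC) ≤ Cfsg.Omega F Q₂ := by
    show (commutator _).map _ ≤ commutator _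
    rw [commutator_def, commutator_def, Subgroup.map_commutator]
    exact Subgroup.commutator_mono le_top le_top
  exact h1 (Subgroup.mem_map_of_mem _ hg)

/-- (SIMG) `-1 ∈ Ω` is invariant -/
theorem sim_negOm {P P' : OPair F} (h : P.Sim P') (hP : P.NegOm) : P'.NegOm := by
  rw [OPair.sim_def] at h
  obtain ⟨C, hC, hg⟩ := h
  rw [OPair.negOm_def] at hP ⊢
  obtain ⟨z, hz, hz1⟩ := hP
  refine ⟨isoTransport ⇑P.Q ⇑P'.Q C hC z, SIMG_isoTransport_mem_Omega _ _ C hC z hz, ?_⟩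
  rw [SIMG_isoTransport_coe, hz1, map_neg, map_one]

end Cfsg.Agent.Helper70.O9
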