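import Mathlib
import Cfsg.Agent.Helper99.O9.Defs
import Cfsg.Agent.Helper44.StdNondeg
import Cfsg.Agent.Helper44.QTypeAniso
import Cfsg.Agent.Helper44.OrthRealizeC
import Cfsg.Agent.Helper70.O9SIMG

set_option autoImplicit false
set_option linter.unusedSectionVars false
set_option linter.unusedVariables false

/-!
# S2517 piece (NEG8P) for helper99: `-1 ∈ Ω` for a non-degenerate form of dimension 8 and plus type
-/

namespace Cfsg.Agent.Helper70.O9

open Matrix QuadraticMap Cfsg.Agent.Helper44 Cfsg.Agent.Helper44.QType Cfsg.Agent.Helper99.O9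

universe u

variable {F : Type u} [Field F] [Fintype F]

/-- transport of `-1 ∈ Ω` along a linear isometry -/
theorem NEG8P_transport {ι₁ ι₂ : Type} [Fintype ι₁] [DecidableEq ι₁] [Fintype ι₂] [DecidableEq ι₂]
    (Q₁ : (ι₁ → F) → F) (Q₂ : (ι₂ → F) → F)
    (C : (ι₁ → F) ≃ₗ[F] (ι₂ → F)) (hC : ∀ w, Q₂ (C w) = Q₁ w)
    (h : ∃ z : ↥(Cfsg.isometryGroup F Q₁), z ∈ Cfsg.Omega F Q₁ ∧
      ((z : GL ι₁ F) : Matrix ι₁ ι₁ F) = -1) :
    ∃ z : ↥(Cfsg.isometryGroup F Q₂), z ∈ Cfsg.Omega F Q₂ ∧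
      ((z : GL ι₂ F) : Matrix ι₂ ι₂ F) = -1 := by
  obtain ⟨z, hz, hz1⟩ := h
  refine ⟨isoTransport Q₁ Q₂ C hC z, SIMG_isoTransport_mem_Omega _ _ C hC z hz, ?_⟩
  rw [SIMG_isoTransport_coe, hz1, map_neg, map_one]

/-- (NEG8P) route: `exists_isometry_of_hasType` to the standard form, `exists_neg_one_mem_Omega_plus_iff`, (SIMG) -/
theorem negOm_plus8 (hF : Odd (Fintype.card F)) {P : OPair F} (hP : P.ND) (ht : P.Typ 4 1) :
    P.NegOm := by
  rw [OPair.negOm_def]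
  rw [OPair.typ_def] at ht
  obtain ⟨hdim, htyp⟩ := ht
  rw [OPair.nd_def] at hP
  have hV : Module.finrank F (P.ι → F) = 2 * 4 := by
    rw [Module.finrank_pi, ← OPair.dim_def, hdim]
  have hV' : Module.finrank F (Fin 4 ⊕ Fin 4 → F) = 2 * 4 := by
    rw [Module.finrank_pi]
    rfl
  obtain ⟨C, hC⟩ := exists_isometry_of_hasType (plusForm 4 F) P.Q hV' hV
    ((nondeg_iff _).mp (nondegenerate_plusForm 4)) hP (hasType_plus 4) htyp
  -- `q ^ 4 % 4 = 1` for odd `q`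
  have h5 : Fintype.card F ^ 4 % 4 = 1 := by
    obtain ⟨k, hk⟩ := hF
    rw [hk]
    have : (2 * k + 1) ^ 4 = 4 * (4 * k ^ 4 + 8 * k ^ 3 + 6 * k ^ 2 + 2 * k) + 1 := by ring
    rw [this]
    omega
  have h4 := (exists_neg_one_mem_Omega_plus_iff (F := F) rfl hF 4).mpr h5
  exact NEG8P_transport (quadFormPlus 4 F) (⇑P.Q) C hC h4

end Cfsg.Agent.Helper70.O9
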