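import Mathlib
import Cfsg.Agent.Helper99.O9.Defs
import Cfsg.Agent.Helper44.StdNondeg
import Cfsg.Agent.Helper44.OrthBasis
import Cfsg.Agent.Helper44.OrthRealizeC

set_option autoImplicit false
set_option linter.unusedSectionVars false
set_option linter.unusedVariables false

/-!
# S2517 piece (NEGSUM) for helper99: `-1 ∈ Ω(Q₁ ⊕ Q₂)` iff (`-1 ∈ Ω(Q₁)` iff `-1 ∈ Ω(Q₂)`), even dimensions
-/

namespace Cfsg.Agent.Helper70.O9

open Matrix QuadraticMap Cfsg.Agent.Helper44 Cfsg.Agent.Helper44.QType Cfsg.Agent.Helper99.O9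

universe u

variable {F : Type u} [Field F] [Fintype F]

/-- `-1 ∈ Ω` iff the Gram determinant is a square, for pairs -/
theorem NEGSUM_negOm_iff (hF : Odd (Fintype.card F)) {P : OPair F} (hP : P.ND) (he : Even P.dim) :
    P.NegOm ↔ IsSquare (LinearMap.BilinForm.toMatrix' (QuadraticMap.polarBilin P.Q)).det := by
  have h2 : (2 : F) ≠ 0 := two_ne_zero_of_odd_card rfl hF
  rw [OPair.negOm_def]
  rw [OPair.nd_def] at hP
  have he' : Even (Module.finrank F (P.ι → F)) := by
    rw [Module.finrank_pi, ← OPair.dim_def]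
    exact he
  exact exists_neg_one_mem_Omega_iff P.Q h2 he' ((nondeg_iff _).mpr hP)

/-- the Gram determinant of a non-degenerate pair is not zero -/
theorem NEGSUM_det_ne_zero {P : OPair F} (hP : P.ND) :
    (LinearMap.BilinForm.toMatrix' (QuadraticMap.polarBilin P.Q)).det ≠ 0 := by
  rw [OPair.nd_def] at hP
  have h1 : (QuadraticMap.polarBilin P.Q).Nondegenerate := (nondeg_iff _).mpr hP
  have h2 := (LinearMap.BilinForm.nondegenerate_toMatrix'_iff (B := QuadraticMap.polarBilin P.Q)).mpr h1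
  exact (Matrix.nondegenerate_iff_det_ne_zero).mp h2

/-- the Gram matrix of an orthogonal sum is block diagonal -/
theorem NEGSUM_gram {ι₁ ι₂ : Type} [Fintype ι₁] [DecidableEq ι₁] [Fintype ι₂] [DecidableEq ι₂]
    (Q₁ : QuadraticForm F (ι₁ → F)) (Q₂ : QuadraticForm F (ι₂ → F)) :
    LinearMap.BilinForm.toMatrix' (QuadraticMap.polarBilin (orthSumForm Q₁ Q₂))
      = Matrix.fromBlocks (LinearMap.BilinForm.toMatrix' (QuadraticMap.polarBilin Q₁)) 0 0
          (LinearMap.BilinForm.toMatrix' (QuadraticMap.polarBilin Q₂)) := by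
  have el : ∀ a : ι₁, (Pi.single (Sum.inl a) (1 : F) : ι₁ ⊕ ι₂ → F) ∘ Sum.inl = Pi.single a 1 := by
    intro a
    funext i
    by_cases h : i = a
    · subst h; simp
    · simp [h]
  have el' : ∀ a : ι₁, (Pi.single (Sum.inl a) (1 : F) : ι₁ ⊕ ι₂ → F) ∘ Sum.inr = 0 := by
    intro a
    funext i
    simp
  have er : ∀ a : ι₂, (Pi.single (Sum.inr a) (1 : F) : ι₁ ⊕ ι₂ → F) ∘ Sum.inr = Pi.single a 1 := by
    intro a
    funext i
    by_cases h : i = a
    · subst h; simp
    · simp [h]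
  have er' : ∀ a : ι₂, (Pi.single (Sum.inr a) (1 : F) : ι₁ ⊕ ι₂ → F) ∘ Sum.inl = 0 := by
    intro a
    funext i
    simp
  ext i j
  rw [LinearMap.BilinForm.toMatrix'_apply, QuadraticMap.polarBilin_apply_apply, polar_orthSumForm]
  rcases i with i | i <;> rcases j with j | j
  · rw [Matrix.fromBlocks_apply₁₁, LinearMap.BilinForm.toMatrix'_apply,
      QuadraticMap.polarBilin_apply_apply, el, el, el', el', polar_zero_left, add_zero]
  · rw [Matrix.fromBlocks_apply₁₂, el, er', el', er, polar_zero_right, polar_zero_left, add_zero,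
      Matrix.zero_apply]
  · rw [Matrix.fromBlocks_apply₂₁, er', el, er, el', polar_zero_right, polar_zero_left, add_zero,
      Matrix.zero_apply]
  · rw [Matrix.fromBlocks_apply₂₂, LinearMap.BilinForm.toMatrix'_apply,
      QuadraticMap.polarBilin_apply_apply, er, er, er', er', polar_zero_left, zero_add]

/-- squares and products in a finite field of odd order -/
theorem NEGSUM_isSquare_mul (hF : Odd (Fintype.card F)) {a b : F} (ha : a ≠ 0) (hb : b ≠ 0) :
    IsSquare (a * b) ↔ (IsSquare a ↔ IsSquare b) := by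
  classical
  have hch : ringChar F ≠ 2 := by
    intro h
    rw [FiniteField.even_card_iff_char_two] at h
    obtain ⟨k, hk⟩ := hF
    omega
  rw [← quadraticChar_one_iff_isSquare (mul_ne_zero ha hb), ← quadraticChar_one_iff_isSquare ha,
    ← quadraticChar_one_iff_isSquare hb, map_mul]
  rcases quadraticChar_dichotomy ha with h1 | h1 <;> rcases quadraticChar_dichotomy hb with h2 | h2 <;>
    rw [h1, h2] <;> norm_num

/-- the form of an orthogonal sum -/
theorem NEGSUM_sum_Q (P₁ P₂ : OPair F) : (P₁.sum P₂).Q = orthSumForm P₁.Q P₂.Q := by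
  unfold OPair.sum; rfl

/-- (NEGSUM) route: `exists_neg_one_mem_Omega_iff` of helper44's `OrthBasis` (`-1 ∈ Ω ↔` the Gram determinant is a square), the Gram
matrix of an orthogonal sum is block diagonal -/
theorem negOm_sum_iff (hF : Odd (Fintype.card F)) {P₁ P₂ : OPair F} (h₁ : P₁.ND) (h₂ : P₂.ND)
    (e₁ : Even P₁.dim) (e₂ : Even P₂.dim) : (P₁.sum P₂).NegOm ↔ (P₁.NegOm ↔ P₂.NegOm) := by
  have hnd : (P₁.sum P₂).ND := by
    rw [OPair.nd_def] at h₁ h₂ ⊢
    have := nondegenerate_orthSumForm P₁.Q P₂.Q ((nondeg_iff _).mpr h₁) ((nondeg_iff _).mpr h₂)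
    exact (nondeg_iff _).mp this
  have hdim : (P₁.sum P₂).dim = P₁.dim + P₂.dim := by
    rw [OPair.dim_def, OPair.dim_def, OPair.dim_def]
    exact Fintype.card_sum
  have he : Even (P₁.sum P₂).dim := by
    rw [hdim]
    exact e₁.add e₂
  rw [NEGSUM_negOm_iff hF hnd he, NEGSUM_negOm_iff hF h₁ e₁, NEGSUM_negOm_iff hF h₂ e₂]
  have hdet : (LinearMap.BilinForm.toMatrix' (QuadraticMap.polarBilin (P₁.sum P₂).Q)).det
      = (LinearMap.BilinForm.toMatrix' (QuadraticMap.polarBilin P₁.Q)).det *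
          (LinearMap.BilinForm.toMatrix' (QuadraticMap.polarBilin P₂.Q)).det := by
    have := congrArg Matrix.det (NEGSUM_gram P₁.Q P₂.Q)
    rw [Matrix.det_fromBlocks_zero₁₂] at this
    exact this
  rw [hdet]
  exact NEGSUM_isSquare_mul hF (NEGSUM_det_ne_zero h₁) (NEGSUM_det_ne_zero h₂)

end Cfsg.Agent.Helper70.O9
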