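import Mathlib
import Cfsg.Agent.Helper99.O9.Defs

set_option autoImplicit false
set_option linter.unusedSectionVars false
set_option linter.unusedVariables false

/-!
# S2517 piece (SIMO) for helper99: isometric pairs have the same order
-/

namespace Cfsg.Agent.Helper70.O9

open Matrix QuadraticMap Cfsg.Agent.Helper44 Cfsg.Agent.Helper44.QType Cfsg.Agent.Helper99.O9

universe u

variable {F : Type u} [Field F] [Fintype F]

/-- `isoTransport` is injective -/
theorem isoTransport_injective {ι₁ ι₂ : Type} [Fintype ι₁] [DecidableEq ι₁] [Fintype ι₂]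
    [DecidableEq ι₂] (Q₁ : (ι₁ → F) → F) (Q₂ : (ι₂ → F) → F)
    (C : (ι₁ → F) ≃ₗ[F] (ι₂ → F)) (hC : ∀ w, Q₂ (C w) = Q₁ w) :
    Function.Injective (isoTransport Q₁ Q₂ C hC) := by
  intro g g' h
  have h1 : ((isoTransport Q₁ Q₂ C hC g).1 : Matrix ι₂ ι₂ F)
      = ((isoTransport Q₁ Q₂ C hC g').1 : Matrix ι₂ ι₂ F) := by rw [h]
  have h2 : conjMatAlgEquiv C ((g.1 : GL ι₁ F) : Matrix ι₁ ι₁ F)
      = conjMatAlgEquiv C ((g'.1 : GL ι₁ F) : Matrix ι₁ ι₁ F) := h1
  have h3 := (conjMatAlgEquiv C).injective h2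
  exact Subtype.ext (Units.ext h3)

/-- (SIMO) -/
theorem sim_ord {P P' : OPair F} (h : P.Sim P') : P.ord = P'.ord := by
  rw [OPair.sim_def] at h
  obtain ⟨C, hC, hg⟩ := h
  rw [OPair.ord_def, OPair.ord_def, ← hg]
  exact (orderOf_injective _ (isoTransport_injective _ _ C hC) P.g).symm

end Cfsg.Agent.Helper70.O9
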