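import Mathlib
import Cfsg.Agent.Helper99.O9.Defs
import Cfsg.Agent.Helper70.O9SIMO

set_option autoImplicit false
set_option linter.unusedSectionVars false
set_option linter.unusedVariables false

/-!
# S2517 piece (SIMA) for helper99: a non-zero norm matrix is invariant under isometry of pairs
-/

namespace Cfsg.Agent.Helper70.O9

open Matrix QuadraticMap Cfsg.Agent.Helper44 Cfsg.Agent.Helper44.QType Cfsg.Agent.Helper99.O9

universe u

variable {F : Type u} [Field F] [Fintype F]

/-- an isometry of pairs conjugates the matrices (explicit form) -/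
theorem SIMA_conj_M {P P' : OPair F} (C : (P.ι → F) ≃ₗ[F] (P'.ι → F))
    (hC : ∀ w, P'.Q (C w) = P.Q w) (hg : isoTransport ⇑P.Q ⇑P'.Q C hC P.g = P'.g) :
    conjMatAlgEquiv C P.M = P'.M := by
  rw [OPair.M_def, OPair.M_def, ← hg]
  rfl

/-- (SIMA) route: (SIMM), (SIMO) -/
theorem sim_aff {P P' : OPair F} (h : P.Sim P') (hP : P.Aff) : P'.Aff := by
  have hord := sim_ord h
  rw [OPair.sim_def] at h
  obtain ⟨C, hC, hg⟩ := h
  have hM := SIMA_conj_M C hC hg
  rw [OPair.aff_def] at hP ⊢
  have hn : conjMatAlgEquiv C P.nrm = P'.nrm := by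
    rw [OPair.nrm_def, OPair.nrm_def, map_sum, hord]
    refine Finset.sum_congr rfl (fun i _ => ?_)
    rw [map_pow, hM]
  intro h0
  apply hP
  have : conjMatAlgEquiv C P.nrm = conjMatAlgEquiv C 0 := by rw [hn, h0, map_zero]
  exact (conjMatAlgEquiv C).injective this

end Cfsg.Agent.Helper70.O9
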