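import Mathlib
import Cfsg.Agent.Helper66.Wielandt
import Cfsg.Agent.Helper11.CountPrime
import Cfsg.Agent.Helper52.CyclicMax

set_option autoImplicit false

namespace Cfsg.Agent.Helper70.PCount

section basic
variable {Q : Type*} [Group Q] [Finite Q] {p : ℕ} [hp : Fact p.Prime]

theorem card_of_index_eq (hQ : IsPGroup p Q) (M : Subgroup Q) (h : M.index = p) :
    ∃ n, Nat.card Q = p ^ (n + 1) ∧ Nat.card M = p ^ n := by
  obtain ⟨n, hn⟩ := IsPGroup.iff_card.mp hQ
  have h1 := Subgroup.card_mul_index M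
  rw [h, hn] at h1
  cases n with
  | zero =>
    exfalso
    rw [pow_zero] at h1
    have := Nat.eq_one_of_mul_eq_one_left h1
    exact hp.out.one_lt.ne' this
  | succ n =>
    refine ⟨n, hn, ?_⟩
    rw [pow_succ] at h1
    exact Nat.eq_of_mul_eq_mul_right hp.out.pos h1

theorem normal_of_index_eq (hQ : IsPGroup p Q) (M : Subgroup Q) (h : M.index = p) : M.Normal := by
  obtain ⟨n, hn, _⟩ := card_of_index_eq hQ M h
  apply Subgroup.normal_of_index_eq_minFac_card
  rw [h, hn, Nat.Prime.pow_minFac hp.out (by omega)]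

theorem exists_index_eq_ge (hQ : IsPGroup p Q) (K : Subgroup Q) (hK : K ≠ ⊤) :
    ∃ M : Subgroup Q, M.index = p ∧ K ≤ M := by
  obtain ⟨n, hn⟩ := IsPGroup.iff_card.mp hQ
  obtain ⟨k, hk⟩ := IsPGroup.iff_card.mp (hQ.to_subgroup K)
  have hlt : k < n := by
    have h1 : Nat.card K < Nat.card Q := by
      rcases lt_or_eq_of_le (Subgroup.card_le_card_group K) with h | h
      · exact h
      · exact absurd (Subgroup.card_eq_iff_eq_top K |>.mp h) hK
    rw [hn, hk] at h1
    exact (Nat.pow_lt_pow_iff_right hp.out.one_lt).mp h1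
  obtain ⟨M, hM, hKM⟩ := Sylow.exists_subgroup_card_pow_prime_le p
    (show p ^ (n - 1) ∣ Nat.card Q by rw [hn]; exact pow_dvd_pow p (by omega)) K hk (by omega)
  refine ⟨M, ?_, hKM⟩
  have h1 := Subgroup.card_mul_index M
  rw [hM, hn] at h1
  have h2 : p ^ n = p ^ (n - 1) * p := by rw [← pow_succ]; congr 1; omega
  rw [h2] at h1
  exact Nat.eq_of_mul_eq_mul_left (pow_pos hp.out.pos _) h1

theorem eq_top_of_lt_of_index_eq (M K : Subgroup Q) (h : M.index = p) (hMK : M < K) : K = ⊤ := by
  have h1 := Subgroup.relIndex_mul_index hMK.le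
  rw [h] at h1
  have h2 : K.index ∣ p := Dvd.intro_left _ h1
  rcases (Nat.dvd_prime hp.out).mp h2 with h3 | h3
  · exact Subgroup.index_eq_one.mp h3
  · exfalso
    rw [h3] at h1
    have h4 : M.relIndex K = 1 := by
      have : M.relIndex K * p = 1 * p := by rw [h1, one_mul]
      exact Nat.eq_of_mul_eq_mul_right hp.out.pos this
    have h5 : K ≤ M := Subgroup.relIndex_eq_one.mp h4
    exact absurd (le_antisymm hMK.le h5) hMK.ne

theorem eq_of_le_of_index_eq (M M' : Subgroup Q) (h : M.index = p) (h' : M'.index = p)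
    (hle : M ≤ M') : M = M' := by
  by_contra hne
  have := eq_top_of_lt_of_index_eq M M' h (lt_of_le_of_ne hle hne)
  rw [this, Subgroup.index_top] at h'
  exact hp.out.one_lt.ne h'

theorem index_inf_of_ne (hQ : IsPGroup p Q) (M M' : Subgroup Q) (h : M.index = p) (h' : M'.index = p)
    (hne : M ≠ M') : (M ⊓ M').index = p ^ 2 := by
  have hn : M.Normal := normal_of_index_eq hQ M h
  have hsup : M' ⊔ M = ⊤ := by
    apply eq_top_of_lt_of_index_eq M _ h
    refine lt_of_le_of_ne le_sup_right ?_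
    intro heq
    have : M' ≤ M := by rw [heq]; exact le_sup_left
    exact hne (eq_of_le_of_index_eq M' M h' h this).symm
  have h1 : M.relIndex M' = p := by
    rw [← Subgroup.relIndex_sup_right, hsup, Subgroup.relIndex_top_right, h]
  have h2 := Subgroup.relIndex_mul_index (show M ⊓ M' ≤ M' from inf_le_right)
  rw [Subgroup.inf_relIndex_right, h1, h'] at h2
  rw [← h2, sq]

end basic

end Cfsg.Agent.Helper70.PCount
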