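import Cfsg.Agent.Helper70.PCount9

set_option autoImplicit false
set_option linter.unusedSectionVars false

open scoped Classical Pointwise

namespace Cfsg.Agent.Helper70.PCount

section HallRed
variable {G : Type*} [Group G] [Finite G] {p : ℕ} [hp : Fact p.Prime]

attribute [local instance] conjAction

/-- Hall's reduction: the number of subgroups of order `p ^ a` of `G` is congruent mod `p²` to the number
of those inside a fixed Sylow `p`-subgroup, provided `p ^ (a+1)` divides `|G|`. -/
theorem hall_reduction (P : Sylow p G) (n a : ℕ) (hP : Nat.card P = p ^ n) (han : a + 1 ≤ n) :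
    (subsOfCard (p ^ a) (⊤ : Subgroup G)).card ≡ (subsOfCard (p ^ a) (P : Subgroup G)).card
      [MOD p ^ 2] := by
  set X := subsOfCard (p ^ a) (⊤ : Subgroup G) with hX
  have hsplit := Finset.card_filter_add_card_filter_not (s := X) (fun H : Subgroup G => H ≤ P)
  rw [hX, ← subsOfCard_eq_filter, ← hX] at hsplit
  set X' := X.filter (fun H : Subgroup G => ¬ H ≤ P) with hX'
  let R : Subgroup G := (P : Subgroup G)
  have hRp : IsPGroup p R := P.isPGroup'
  have hgP : ∀ g : R, g • (P : Subgroup G) = P := fun g =>
    conj_smul_eq_of_le_normalizer (R := R) (K := (P : Subgroup G)) Subgroup.le_normalizer g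
  have hinv : ∀ g : R, ∀ H ∈ X', g • H ∈ X' := by
    intro g H hH
    rw [hX', Finset.mem_filter, hX, mem_subsOfCard] at hH ⊢
    refine ⟨⟨by rw [conj_smul_def, card_conj_smul]; exact hH.1.1, le_top⟩, ?_⟩
    intro hle
    apply hH.2
    rw [← hgP g, conj_smul_def, conj_smul_def] at hle
    exact Subgroup.pointwise_smul_le_pointwise_smul_iff.mp hle
  have hnofix : ∀ H ∈ X', ∃ g : R, g • H ≠ H := by
    intro H hH
    rw [hX', Finset.mem_filter, hX, mem_subsOfCard] at hH
    by_contra hcon
    push Not at hcon
    have hPN : R ≤ Subgroup.normalizer (H : Set G) := (forall_smul_eq_iff' R H).mp hcon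
    have hHp : IsPGroup p H := IsPGroup.of_card hH.1.1
    have h1 : IsPGroup p (H ⊔ (P : Subgroup G) : Subgroup G) :=
      IsPGroup.to_sup_of_normal_left' hHp P.isPGroup' hPN
    have h2 := P.is_maximal' h1 le_sup_right
    apply hH.2
    have : H ≤ H ⊔ (P : Subgroup G) := le_sup_left
    rw [h2] at this
    exact this
  have hmain := card_modEq_sum_fixed hRp X' hinv hnofix
  have hzero : ∀ M ∈ gam1 R p, p ^ 2 ∣ (X'.filter (fun H => ∀ g ∈ M, g • H = H)).card := by
    intro M hM
    rw [mem_gam1] at hM
    set K := M.map R.subtype with hK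
    have hKP : K ≤ P := Subgroup.map_subtype_le M
    have hRcard : Nat.card R = p ^ n := hP
    obtain ⟨hMc, hn1⟩ := card_eq_of_index_eq hRcard M hM
    have hKc : Nat.card K = p ^ (n - 1) := by rw [hK, Subgroup.card_subtype]; exact hMc
    have hMn : M.Normal := normal_of_index_eq hRp M hM
    have hPK : (P : Subgroup G) ≤ Subgroup.normalizer (K : Set G) := by
      rw [← Subgroup.normal_subgroupOf_iff_le_normalizer hKP]
      have : K.subgroupOf R = M := by
        rw [hK]
        exact Subgroup.comap_map_eq_self_of_injective R.subtype_injective M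
      show (K.subgroupOf R).Normal
      rw [this]
      exact hMn
    have hfilter : X'.filter (fun H => ∀ g ∈ M, g • H = H) =
        (subsOfCard (p ^ a) (⊤ : Subgroup G)).filter
          (fun H : Subgroup G => ¬ H ≤ P ∧ K ≤ Subgroup.normalizer (H : Set G)) := by
      ext H
      rw [hX', Finset.mem_filter, Finset.mem_filter, Finset.mem_filter, forall_smul_eq_iff]
      tauto
    rw [hfilter]
    exact sq_dvd_card_W P n a hP han K hKP hPK hKc
  have hsum : p ^ 2 ∣ ∑ M ∈ gam1 R p, (X'.filter (fun H => ∀ g ∈ M, g • H = H)).card :=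
    Finset.dvd_sum hzero
  have hX'0 : X'.card ≡ 0 [MOD p ^ 2] := hmain.trans ((Nat.modEq_zero_iff_dvd).mpr hsum)
  rw [← hsplit]
  conv_rhs => rw [← add_zero (Finset.card _)]
  exact Nat.ModEq.add_left _ hX'0

/-- the number of subgroups of order `p ^ a` is `≡ 1` or `≡ 1 + p` mod `p²` when `p ^ (a+1) ∣ |G|`. -/
theorem count_mod_sq (a : ℕ) (hdvd : p ^ (a + 1) ∣ Nat.card G) :
    (subsOfCard (p ^ a) (⊤ : Subgroup G)).card ≡ 1 [MOD p ^ 2] ∨
      (subsOfCard (p ^ a) (⊤ : Subgroup G)).card ≡ 1 + p [MOD p ^ 2] := by
  by_cases hp2 : p = 2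
  · subst hp2
    have hdvd' : 2 ^ a ∣ Nat.card (⊤ : Subgroup G) := by
      rw [Subgroup.card_top]
      exact (pow_dvd_pow 2 (by omega)).trans hdvd
    have h1 := card_subsOfCard_modEq_one (p := 2) (⊤ : Subgroup G) a hdvd'
    unfold Nat.ModEq at h1 ⊢
    omega
  · obtain ⟨P⟩ : Nonempty (Sylow p G) := inferInstance
    obtain ⟨n, hP⟩ := IsPGroup.iff_card.mp P.isPGroup'
    have han : a + 1 ≤ n := by
      obtain ⟨K, hK⟩ := Sylow.exists_subgroup_card_pow_prime p hdvd
      have h1 := card_le_of_isPGroup P K (IsPGroup.of_card hK)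
      rw [hK, hP] at h1
      exact (Nat.pow_le_pow_iff_right hp.out.one_lt).mp h1
    have hred := hall_reduction P n a hP han
    rw [card_subsOfCard_eq (P : Subgroup G)] at hred
    by_cases ha : a = 0
    · left
      subst ha
      have : (subsOfCard (p ^ 0) (⊤ : Subgroup G)).card = 1 := by
        rw [Finset.card_eq_one]
        refine ⟨⊥, ?_⟩
        ext H
        rw [mem_subsOfCard, Finset.mem_singleton, pow_zero, Subgroup.card_eq_one]
        simp
      rw [this]
    · by_cases hc : IsCyclic (P : Subgroup G)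
      · left
        have hdiv : p ^ a ∣ Nat.card (P : Subgroup G) := by
          rw [hP]; exact pow_dvd_pow p (by omega)
        have := card_subsOfCard_of_isCyclic (Q := (P : Subgroup G)) (p := p) a hdiv
        rw [this] at hred
        exact hred
      · right
        exact hred.trans (kulakoff hp2 n (P : Subgroup G) hP hc a (by omega) han)

end HallRed

end Cfsg.Agent.Helper70.PCount
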