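import Cfsg.Agent.Helper70.PCount1

set_option autoImplicit false

namespace Cfsg.Agent.Helper70.PCount

section count1
variable {Q : Type*} [Group Q]

/-- subgroups of index `d` containing the normal subgroup `N` correspond to subgroups of index `d`
of the quotient. -/
def indexEquiv (N : Subgroup Q) [N.Normal] (d : ℕ) :
    {M : Subgroup Q // M.index = d ∧ N ≤ M} ≃ {M' : Subgroup (Q ⧸ N) // M'.index = d} where
  toFun M := ⟨M.1.map (QuotientGroup.mk' N), by
    rw [← Subgroup.index_comap_of_surjective _ (QuotientGroup.mk'_surjective N),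
      Subgroup.comap_map_eq, QuotientGroup.ker_mk', sup_of_le_left M.2.2]
    exact M.2.1⟩
  invFun M' := ⟨M'.1.comap (QuotientGroup.mk' N), by
    rw [Subgroup.index_comap_of_surjective _ (QuotientGroup.mk'_surjective N)]
    exact M'.2, by
    intro x hx
    rw [Subgroup.mem_comap]
    have h1 : (QuotientGroup.mk' N) x = 1 := by
      rw [QuotientGroup.mk'_apply, QuotientGroup.eq_one_iff]; exact hx
    rw [h1]; exact one_mem _⟩
  left_inv M := by
    apply Subtype.ext
    show (M.1.map (QuotientGroup.mk' N)).comap (QuotientGroup.mk' N) = M.1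
    rw [Subgroup.comap_map_eq, QuotientGroup.ker_mk', sup_of_le_left M.2.2]
  right_inv M' := by
    apply Subtype.ext
    show (M'.1.comap (QuotientGroup.mk' N)).map (QuotientGroup.mk' N) = M'.1
    exact Subgroup.map_comap_eq_self_of_surjective (QuotientGroup.mk'_surjective N) _

variable [Finite Q] {p : ℕ} [hp : Fact p.Prime]

/-- in a nontrivial finite `p`-group the number of subgroups of index `p` is `≡ 1 mod p`. -/
theorem card_index_eq_modEq_one (hQ : IsPGroup p Q) [Nontrivial Q] :
    Nat.card {M : Subgroup Q // M.index = p} ≡ 1 [MOD p] := by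
  classical
  have : Fintype Q := Fintype.ofFinite Q
  obtain ⟨n, hn⟩ := IsPGroup.iff_card.mp hQ
  have hn0 : n ≠ 0 := by
    rintro rfl
    rw [pow_zero] at hn
    have : 1 < Nat.card Q := Finite.one_lt_card
    omega
  have key := Helper66.card_subgroups_modEq_one (G := Q) p (n - 1)
    (by rw [← Nat.card_eq_fintype_card, hn]; exact pow_dvd_pow p (by omega))
  have heq : ∀ M : Subgroup Q, M.index = p ↔ Nat.card M = p ^ (n - 1) := by
    intro M
    have h1 := Subgroup.card_mul_index M
    rw [hn] at h1
    have h2 : p ^ n = p ^ (n - 1) * p := by rw [← pow_succ]; congr 1; omega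
    constructor
    · intro h
      rw [h, h2] at h1
      exact Nat.eq_of_mul_eq_mul_right hp.out.pos h1
    · intro h
      rw [h, h2] at h1
      exact Nat.eq_of_mul_eq_mul_left (pow_pos hp.out.pos _) h1
  rw [Nat.card_congr (Equiv.subtypeEquivRight heq)]
  exact key

/-- the number of index-`p` subgroups containing a proper subgroup `K` is `≡ 1 mod p`. -/
theorem card_index_eq_ge_modEq_one (hQ : IsPGroup p Q) (K : Subgroup Q) (hK : K ≠ ⊤) :
    Nat.card {M : Subgroup Q // M.index = p ∧ K ≤ M} ≡ 1 [MOD p] := by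
  classical
  obtain ⟨M₀, hM₀, hKM₀⟩ := exists_index_eq_ge hQ K hK
  have hM₀n := normal_of_index_eq hQ M₀ hM₀
  set N := Subgroup.normalClosure (K : Set Q) with hN
  have hNM₀ : N ≤ M₀ := Subgroup.normalClosure_le_normal hKM₀
  have hNtop : N ≠ ⊤ := by
    intro h
    rw [h, top_le_iff] at hNM₀
    rw [hNM₀, Subgroup.index_top] at hM₀
    exact hp.out.one_lt.ne hM₀
  have hnt : Nontrivial (Q ⧸ N) := by
    rw [← Finite.one_lt_card_iff_nontrivial, ← Subgroup.index_eq_card]
    have h1 : N.index ≠ 1 := fun h => hNtop (Subgroup.index_eq_one.mp h)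
    have h2 : N.index ≠ 0 := Subgroup.index_ne_zero_of_finite
    omega
  have hQN : IsPGroup p (Q ⧸ N) := hQ.to_quotient N
  have key := card_index_eq_modEq_one hQN
  have heq : ∀ M : Subgroup Q, (M.index = p ∧ K ≤ M) ↔ (M.index = p ∧ N ≤ M) := by
    intro M
    constructor
    · rintro ⟨h1, h2⟩
      have := normal_of_index_eq hQ M h1
      exact ⟨h1, Subgroup.normalClosure_le_normal h2⟩
    · rintro ⟨h1, h2⟩
      exact ⟨h1, le_trans Subgroup.le_normalClosure h2⟩
  rw [Nat.card_congr (Equiv.subtypeEquivRight heq), Nat.card_congr (indexEquiv N p)]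
  exact key

/-- the index-`p` subgroups containing the intersection of two distinct ones number `p + 1`. -/
theorem card_index_eq_ge_inf (hQ : IsPGroup p Q) (M M' : Subgroup Q) (h : M.index = p)
    (h' : M'.index = p) (hne : M ≠ M') :
    Nat.card {M'' : Subgroup Q // M''.index = p ∧ M ⊓ M' ≤ M''} = p + 1 := by
  classical
  have hn := normal_of_index_eq hQ M h
  have hn' := normal_of_index_eq hQ M' h'
  set T := M ⊓ M' with hT
  have hTn : T.Normal := Subgroup.normal_inf_normal M M'
  have hTi : T.index = p ^ 2 := index_inf_of_ne hQ M M' h h' hne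
  have hcard : Nat.card (Q ⧸ T) = p ^ 2 := by rw [← Subgroup.index_eq_card, hTi]
  have hexp : ∀ y : Q ⧸ T, y ^ p = 1 := by
    intro y
    obtain ⟨x, rfl⟩ := QuotientGroup.mk_surjective y
    rw [← QuotientGroup.mk_pow, QuotientGroup.eq_one_iff, hT, Subgroup.mem_inf]
    constructor
    · have := Subgroup.pow_index_mem M x; rwa [h] at this
    · have := Subgroup.pow_index_mem M' x; rwa [h'] at this
  have hnc : ¬ IsCyclic (Q ⧸ T) := by
    intro hc
    obtain ⟨g, hg⟩ := hc.exists_generator
    have h1 : orderOf g = Nat.card (Q ⧸ T) := orderOf_eq_card_of_forall_mem_zpowers hg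
    have h2 : orderOf g ∣ p := orderOf_dvd_of_pow_eq_one (hexp g)
    rw [h1, hcard] at h2
    have h3 := Nat.le_of_dvd hp.out.pos h2
    have h4 : p < p ^ 2 := by
      rw [sq]; exact lt_mul_of_one_lt_left hp.out.pos hp.out.one_lt
    omega
  have key := Helper11.card_subgroups_prime_of_sq hcard hnc
  have heq : ∀ M' : Subgroup (Q ⧸ T), M'.index = p ↔ Nat.card M' = p := by
    intro M'
    have h1 := Subgroup.card_mul_index M'
    rw [hcard, sq] at h1
    constructor
    · intro h
      rw [h] at h1
      exact Nat.eq_of_mul_eq_mul_right hp.out.pos h1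
    · intro h
      rw [h] at h1
      exact Nat.eq_of_mul_eq_mul_left hp.out.pos h1
  rw [Nat.card_congr (indexEquiv T p), Nat.card_congr (Equiv.subtypeEquivRight heq)]
  exact key

end count1

end Cfsg.Agent.Helper70.PCount
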