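import Cfsg.Agent.Helper70.PCount2

set_option autoImplicit false

open scoped Classical

namespace Cfsg.Agent.Helper70.PCount

section enum
variable (Q : Type*) [Group Q] [Finite Q] (p : ℕ)

/-- the subgroups of index `p` -/
noncomputable def gam1 : Finset (Subgroup Q) :=
  (Set.toFinite {M : Subgroup Q | M.index = p}).toFinset

/-- the intersections of two distinct subgroups of index `p` -/
noncomputable def gam2 : Finset (Subgroup Q) :=
  (Set.toFinite {T : Subgroup Q | ∃ M M' : Subgroup Q, M.index = p ∧ M'.index = p ∧ M ≠ M' ∧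
    T = M ⊓ M'}).toFinset

variable {Q}

/-- the subgroups of order `n` inside `X` -/
noncomputable def subsOfCard (n : ℕ) (X : Subgroup Q) : Finset (Subgroup Q) :=
  (Set.toFinite {H : Subgroup Q | Nat.card H = n ∧ H ≤ X}).toFinset

variable {p}

theorem mem_gam1 {M : Subgroup Q} : M ∈ gam1 Q p ↔ M.index = p := by
  simp [gam1]

theorem mem_gam2 {T : Subgroup Q} : T ∈ gam2 Q p ↔
    ∃ M M' : Subgroup Q, M.index = p ∧ M'.index = p ∧ M ≠ M' ∧ T = M ⊓ M' := by
  simp [gam2]

theorem mem_subsOfCard {n : ℕ} {X H : Subgroup Q} : H ∈ subsOfCard n X ↔ Nat.card H = n ∧ H ≤ X := by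
  simp [subsOfCard]

theorem subsOfCard_eq_filter (n : ℕ) (X : Subgroup Q) :
    subsOfCard n X = (subsOfCard n ⊤).filter (fun H => H ≤ X) := by
  ext H
  simp [mem_subsOfCard]

theorem card_toFinset_eq {α : Type*} (P : α → Prop) (h : {x | P x}.Finite) :
    h.toFinset.card = Nat.card {x : α // P x} := by
  rw [← Set.ncard_eq_toFinset_card _ h, ← Nat.card_coe_set_eq]
  rfl

theorem card_subsOfCard_top (n : ℕ) :
    (subsOfCard n (⊤ : Subgroup Q)).card = Nat.card {H : Subgroup Q // Nat.card H = n} := by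
  unfold subsOfCard
  rw [card_toFinset_eq]
  exact Nat.card_congr (Equiv.subtypeEquivRight (fun H => by simp))

theorem card_subsOfCard (n : ℕ) (X : Subgroup Q) :
    (subsOfCard n X).card = Nat.card {H : Subgroup Q // Nat.card H = n ∧ H ≤ X} := by
  unfold subsOfCard
  rw [card_toFinset_eq]

theorem card_gam1 : (gam1 Q p).card = Nat.card {M : Subgroup Q // M.index = p} := by
  unfold gam1
  rw [card_toFinset_eq]

theorem card_filter_gam1 (K : Subgroup Q) :
    ((gam1 Q p).filter (fun M => K ≤ M)).card = Nat.card {M : Subgroup Q // M.index = p ∧ K ≤ M} := by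
  have : (gam1 Q p).filter (fun M => K ≤ M) =
      (Set.toFinite {M : Subgroup Q | M.index = p ∧ K ≤ M}).toFinset := by
    ext M
    simp [mem_gam1]
  rw [this, card_toFinset_eq]


variable [hp : Fact p.Prime]

/-- double counting pairs of distinct index-`p` subgroups above `H` -/
theorem pairs_count (hQ : IsPGroup p Q) (H : Subgroup Q) :
    p * (p + 1) * ((gam2 Q p).filter (fun T => H ≤ T)).card =
      ((gam1 Q p).filter (fun M => H ≤ M)).card * ((gam1 Q p).filter (fun M => H ≤ M)).card -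
        ((gam1 Q p).filter (fun M => H ≤ M)).card := by
  set A := (gam1 Q p).filter (fun M => H ≤ M) with hA
  set B := (gam2 Q p).filter (fun T => H ≤ T) with hB
  let f : Subgroup Q × Subgroup Q → Subgroup Q := fun x => x.1 ⊓ x.2
  have hmaps : ∀ x ∈ A.offDiag, f x ∈ B := by
    intro x hx
    rw [Finset.mem_offDiag] at hx
    obtain ⟨h1, h2, h3⟩ := hx
    rw [hA, Finset.mem_filter, mem_gam1] at h1 h2
    rw [hB, Finset.mem_filter, mem_gam2]
    exact ⟨⟨x.1, x.2, h1.1, h2.1, h3, rfl⟩, le_inf h1.2 h2.2⟩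
  have hfib : ∀ T ∈ B, (A.offDiag.filter (fun x => f x = T)).card = p * (p + 1) := by
    intro T hT
    rw [hB, Finset.mem_filter, mem_gam2] at hT
    obtain ⟨⟨M, M', hM, hM', hne, hTeq⟩, hHT⟩ := hT
    have hTi : T.index = p ^ 2 := by rw [hTeq]; exact index_inf_of_ne hQ M M' hM hM' hne
    set S := (gam1 Q p).filter (fun M'' => T ≤ M'') with hS
    have hScard : S.card = p + 1 := by
      rw [hS, card_filter_gam1, hTeq]
      exact card_index_eq_ge_inf hQ M M' hM hM' hne
    have heq : A.offDiag.filter (fun x => f x = T) = S.offDiag := by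
      ext x
      rw [Finset.mem_filter, Finset.mem_offDiag, Finset.mem_offDiag, hA, hS, Finset.mem_filter,
        Finset.mem_filter, Finset.mem_filter, Finset.mem_filter, mem_gam1, mem_gam1]
      constructor
      · rintro ⟨⟨⟨h1, _⟩, ⟨h2, _⟩, h3⟩, h4⟩
        have h4' : x.1 ⊓ x.2 = T := h4
        exact ⟨⟨h1, h4' ▸ inf_le_left⟩, ⟨h2, h4' ▸ inf_le_right⟩, h3⟩
      · rintro ⟨⟨h1, h1'⟩, ⟨h2, h2'⟩, h3⟩
        refine ⟨⟨⟨h1, hHT.trans h1'⟩, ⟨h2, hHT.trans h2'⟩, h3⟩, ?_⟩
        show x.1 ⊓ x.2 = T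
        have hle : T ≤ x.1 ⊓ x.2 := le_inf h1' h2'
        have hi : (x.1 ⊓ x.2).index = p ^ 2 := index_inf_of_ne hQ x.1 x.2 h1 h2 h3
        symm
        apply Subgroup.eq_of_le_of_card_ge hle
        have e1 := Subgroup.card_mul_index T
        have e2 := Subgroup.card_mul_index (x.1 ⊓ x.2)
        rw [hTi] at e1
        rw [hi, ← e1] at e2
        exact le_of_eq (Nat.eq_of_mul_eq_mul_right (pow_pos hp.out.pos 2) e2)
    rw [heq, Finset.offDiag_card, hScard]
    have : (p + 1) * (p + 1) - (p + 1) = p * (p + 1) := by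
      have : (p + 1) * (p + 1) = p * (p + 1) + (p + 1) := by ring
      omega
    exact this
  have h1 := Finset.card_eq_sum_card_fiberwise hmaps
  rw [Finset.sum_congr rfl hfib, Finset.sum_const, smul_eq_mul, Finset.offDiag_card] at h1
  rw [h1, mul_comm]

theorem pointwise_modEq (hQ : IsPGroup p Q) (H : Subgroup Q) (hH : H ≠ ⊤) :
    ((gam1 Q p).filter (fun M => H ≤ M)).card ≡
      1 + p * ((gam2 Q p).filter (fun T => H ≤ T)).card [MOD p ^ 2] := by
  have h1 : ((gam1 Q p).filter (fun M => H ≤ M)).card ≡ 1 [MOD p] := by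
    rw [card_filter_gam1]
    exact card_index_eq_ge_modEq_one hQ H hH
  have h2 := pairs_count hQ H
  set a := ((gam1 Q p).filter (fun M => H ≤ M)).card with ha
  set b := ((gam2 Q p).filter (fun T => H ≤ T)).card with hb
  have hp1 : 1 < p := hp.out.one_lt
  have hapos : 1 ≤ a := by
    rcases Nat.eq_zero_or_pos a with h0 | h0
    · exfalso
      rw [h0] at h1
      have := h1.symm.dvd
      simp only [Nat.cast_zero, Nat.cast_one, zero_sub] at this
      have h3 : (p : ℤ) ∣ 1 := by simpa using this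
      have h4 : p ∣ 1 := by exact_mod_cast h3
      have := Nat.le_of_dvd one_pos h4
      omega
    · exact h0
  obtain ⟨u, hu⟩ : ∃ u, a = 1 + p * u := by
    have h3 : p ∣ a - 1 := (Nat.modEq_iff_dvd' hapos).mp h1.symm
    obtain ⟨u, hu⟩ := h3
    exact ⟨u, by omega⟩
  have h3 : (1 + p * u) * u = (p + 1) * b := by
    have h4 : p * ((p + 1) * b) = p * ((1 + p * u) * u) := by
      have : a * a - a = (1 + p * u) * (p * u) := by
        rw [hu]
        have : (1 + p * u) * (1 + p * u) = (1 + p * u) * (p * u) + (1 + p * u) := by ring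
        omega
      rw [this] at h2
      rw [← mul_assoc, h2]; ring
    exact (Nat.eq_of_mul_eq_mul_left hp.out.pos h4).symm
  have h5 : u ≡ b [MOD p] := by
    have e1 : (1 + p * u) * u = u + p * (u * u) := by ring
    have e2 : (p + 1) * b = b + p * b := by ring
    rw [e1, e2] at h3
    have e3 : u + p * (u * u) ≡ u [MOD p] := by
      conv_rhs => rw [← add_zero u]
      exact Nat.ModEq.add_left _ ((Nat.modEq_zero_iff_dvd).mpr (dvd_mul_right _ _))
    have e4 : b + p * b ≡ b [MOD p] := by
      conv_rhs => rw [← add_zero b]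
      exact Nat.ModEq.add_left _ ((Nat.modEq_zero_iff_dvd).mpr (dvd_mul_right _ _))
    exact e3.symm.trans (h3 ▸ e4)
  rw [hu, sq]
  exact Nat.ModEq.add_left _ (Nat.ModEq.mul_left' p h5)

/-- **Hall's enumeration principle modulo `p²`** for subgroups of a given order `n < |Q|`. -/
theorem enumeration (hQ : IsPGroup p Q) (n : ℕ) (hn : n ≠ Nat.card Q) :
    ∑ M ∈ gam1 Q p, (subsOfCard n M).card ≡
      (subsOfCard n (⊤ : Subgroup Q)).card + p * ∑ T ∈ gam2 Q p, (subsOfCard n T).card
      [MOD p ^ 2] := by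
  set S := subsOfCard n (⊤ : Subgroup Q) with hS
  have hproper : ∀ H ∈ S, H ≠ ⊤ := by
    intro H hH
    rw [hS, mem_subsOfCard] at hH
    rintro rfl
    exact hn (hH.1 ▸ Subgroup.card_top)
  have e1 : ∑ M ∈ gam1 Q p, (subsOfCard n M).card =
      ∑ H ∈ S, ((gam1 Q p).filter (fun M => H ≤ M)).card := by
    have := Finset.sum_card_bipartiteAbove_eq_sum_card_bipartiteBelow (s := gam1 Q p) (t := S)
      (fun (M : Subgroup Q) (H : Subgroup Q) => H ≤ M)
    simp only [Finset.bipartiteAbove, Finset.bipartiteBelow] at this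
    rw [← this]
    exact Finset.sum_congr rfl (fun M _ => by rw [subsOfCard_eq_filter])
  have e2 : ∑ T ∈ gam2 Q p, (subsOfCard n T).card =
      ∑ H ∈ S, ((gam2 Q p).filter (fun T => H ≤ T)).card := by
    have := Finset.sum_card_bipartiteAbove_eq_sum_card_bipartiteBelow (s := gam2 Q p) (t := S)
      (fun (M : Subgroup Q) (H : Subgroup Q) => H ≤ M)
    simp only [Finset.bipartiteAbove, Finset.bipartiteBelow] at this
    rw [← this]
    exact Finset.sum_congr rfl (fun M _ => by rw [subsOfCard_eq_filter])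
  rw [e1, e2, Finset.mul_sum]
  have e3 : S.card = ∑ _H ∈ S, 1 := by simp
  rw [e3, ← Finset.sum_add_distrib]
  rw [← ZMod.natCast_eq_natCast_iff]
  push_cast
  apply Finset.sum_congr rfl
  intro H hH
  have := (ZMod.natCast_eq_natCast_iff _ _ _).mpr (pointwise_modEq hQ H (hproper H hH))
  push_cast at this
  exact this

end enum

end Cfsg.Agent.Helper70.PCount
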