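import Cfsg.Agent.Helper70.PCount3

set_option autoImplicit false
set_option linter.unusedSectionVars false

open scoped Classical

namespace Cfsg.Agent.Helper70.PCount

section frat
variable {Q : Type*} [Group Q] [Finite Q] {p : ℕ} [hp : Fact p.Prime]

/-- in a finite `p`-group the number of subgroups of index `p ^ k` is `≡ 1 mod p`. -/
theorem card_index_pow_modEq_one (hQ : IsPGroup p Q) (k : ℕ) (hk : p ^ k ∣ Nat.card Q) :
    Nat.card {M : Subgroup Q // M.index = p ^ k} ≡ 1 [MOD p] := by
  have : Fintype Q := Fintype.ofFinite Q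
  obtain ⟨n, hn⟩ := IsPGroup.iff_card.mp hQ
  have hkn : k ≤ n := by
    rw [hn] at hk
    exact (Nat.pow_dvd_pow_iff_le_right hp.out.one_lt).mp hk
  have key := Helper66.card_subgroups_modEq_one (G := Q) p (n - k)
    (by rw [← Nat.card_eq_fintype_card, hn]; exact pow_dvd_pow p (by omega))
  have heq : ∀ M : Subgroup Q, M.index = p ^ k ↔ Nat.card M = p ^ (n - k) := by
    intro M
    have h1 := Subgroup.card_mul_index M
    rw [hn] at h1
    have h2 : p ^ n = p ^ (n - k) * p ^ k := by rw [← pow_add]; congr 1; omega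
    constructor
    · intro h
      rw [h, h2] at h1
      exact Nat.eq_of_mul_eq_mul_right (pow_pos hp.out.pos _) h1
    · intro h
      rw [h, h2] at h1
      exact Nat.eq_of_mul_eq_mul_left (pow_pos hp.out.pos _) h1
  rw [Nat.card_congr (Equiv.subtypeEquivRight heq)]
  exact key

variable (Q p) in
/-- the intersection of all subgroups of index `p` (the Frattini subgroup of a `p`-group) -/
noncomputable def phi : Subgroup Q := ⨅ M : {M : Subgroup Q // M.index = p}, M.1

theorem phi_le {M : Subgroup Q} (h : M.index = p) : phi Q p ≤ M :=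
  iInf_le (fun M : {M : Subgroup Q // M.index = p} => M.1) ⟨M, h⟩

theorem phi_normal (hQ : IsPGroup p Q) : (phi Q p).Normal :=
  Subgroup.normal_iInf_normal (fun M => normal_of_index_eq hQ M.1 M.2)

theorem commutator_le_of_index_eq (hQ : IsPGroup p Q) (M : Subgroup Q) (h : M.index = p) :
    commutator Q ≤ M := by
  have hn := normal_of_index_eq hQ M h
  rw [← Subgroup.Normal.quotient_commutative_iff_commutator_le]
  have hc : Nat.card (Q ⧸ M) = p := by rw [← Subgroup.index_eq_card, h]
  have : IsCyclic (Q ⧸ M) := isCyclic_of_prime_card hc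
  exact ⟨⟨fun a b => IsCyclic.commGroup.mul_comm a b⟩⟩

theorem commutator_le_phi (hQ : IsPGroup p Q) : commutator Q ≤ phi Q p :=
  le_iInf (fun M => commutator_le_of_index_eq hQ M.1 M.2)

theorem pow_mem_phi (hQ : IsPGroup p Q) (x : Q) : x ^ p ∈ phi Q p := by
  unfold phi
  rw [Subgroup.mem_iInf]
  intro M
  have hn := normal_of_index_eq hQ M.1 M.2
  have := Subgroup.pow_index_mem M.1 x
  rwa [M.2] at this

theorem normal_of_commutator_le (T : Subgroup Q) (h : commutator Q ≤ T) : T.Normal := by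
  constructor
  intro x hx g
  have h1 : g * x * g⁻¹ * x⁻¹ ∈ commutator Q := by
    rw [commutator_eq_closure]
    exact Subgroup.subset_closure ⟨g, x, rfl⟩
  have h2 : g * x * g⁻¹ = (g * x * g⁻¹ * x⁻¹) * x := by group
  rw [h2]
  exact T.mul_mem (h h1) hx

/-- a subgroup `T` of index `p²` with `Q / T` of exponent `p` lies in exactly `p + 1` subgroups of
index `p`. -/
theorem card_index_eq_ge_of_sq (T : Subgroup Q) [T.Normal] (hTi : T.index = p ^ 2)
    (hexp' : ∀ x : Q, x ^ p ∈ T) :
    Nat.card {M'' : Subgroup Q // M''.index = p ∧ T ≤ M''} = p + 1 := by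
  have hcard : Nat.card (Q ⧸ T) = p ^ 2 := by rw [← Subgroup.index_eq_card, hTi]
  have hexp : ∀ y : Q ⧸ T, y ^ p = 1 := by
    intro y
    obtain ⟨x, rfl⟩ := QuotientGroup.mk_surjective y
    rw [← QuotientGroup.mk_pow, QuotientGroup.eq_one_iff]
    exact hexp' x
  have hnc : ¬ IsCyclic (Q ⧸ T) := by
    intro hc
    obtain ⟨g, hg⟩ := hc.exists_generator
    have h1 : orderOf g = Nat.card (Q ⧸ T) := orderOf_eq_card_of_forall_mem_zpowers hg
    have h2 : orderOf g ∣ p := orderOf_dvd_of_pow_eq_one (hexp g)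
    rw [h1, hcard] at h2
    have h3 := Nat.le_of_dvd hp.out.pos h2
    have h4 : p < p ^ 2 := by
      rw [sq]; exact lt_mul_of_one_lt_left hp.out.pos hp.out.one_lt
    omega
  have key := Helper11.card_subgroups_prime_of_sq hcard hnc
  have heq : ∀ M' : Subgroup (Q ⧸ T), M'.index = p ↔ Nat.card M' = p := by
    intro M'
    have h1 := Subgroup.card_mul_index M'
    rw [hcard, sq] at h1
    constructor
    · intro h
      rw [h] at h1
      exact Nat.eq_of_mul_eq_mul_right hp.out.pos h1
    · intro h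
      rw [h] at h1
      exact Nat.eq_of_mul_eq_mul_left hp.out.pos h1
  rw [Nat.card_congr (indexEquiv T p), Nat.card_congr (Equiv.subtypeEquivRight heq)]
  exact key

theorem mem_gam2_iff (hQ : IsPGroup p Q) (T : Subgroup Q) :
    T ∈ gam2 Q p ↔ phi Q p ≤ T ∧ T.index = p ^ 2 := by
  rw [mem_gam2]
  constructor
  · rintro ⟨M, M', h, h', hne, rfl⟩
    exact ⟨le_inf (phi_le h) (phi_le h'), index_inf_of_ne hQ M M' h h' hne⟩
  · rintro ⟨hle, hi⟩
    have hTn : T.Normal := normal_of_commutator_le T ((commutator_le_phi hQ).trans hle)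
    have hc := card_index_eq_ge_of_sq T hi (fun x => hle (pow_mem_phi hQ x))
    have hfin : Finite {M'' : Subgroup Q // M''.index = p ∧ T ≤ M''} := inferInstance
    have hnt : Nontrivial {M'' : Subgroup Q // M''.index = p ∧ T ≤ M''} := by
      rw [← Finite.one_lt_card_iff_nontrivial, hc]
      have := hp.out.pos
      omega
    obtain ⟨M, M', hne⟩ := hnt
    refine ⟨M.1, M'.1, M.2.1, M'.2.1, fun h => hne (Subtype.ext h), ?_⟩
    have hle2 : T ≤ M.1 ⊓ M'.1 := le_inf M.2.2 M'.2.2
    have hi2 : (M.1 ⊓ M'.1).index = p ^ 2 :=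
      index_inf_of_ne hQ M.1 M'.1 M.2.1 M'.2.1 (fun h => hne (Subtype.ext h))
    apply Subgroup.eq_of_le_of_card_ge hle2
    have e1 := Subgroup.card_mul_index T
    have e2 := Subgroup.card_mul_index (M.1 ⊓ M'.1)
    rw [hi] at e1
    rw [hi2, ← e1] at e2
    exact le_of_eq (Nat.eq_of_mul_eq_mul_right (pow_pos hp.out.pos 2) e2)

/-- a finite `p`-group with at most one subgroup of index `p` is cyclic -/
theorem isCyclic_of_gam1_subsingleton (hQ : IsPGroup p Q)
    (h : ∀ M M' : Subgroup Q, M.index = p → M'.index = p → M = M') : IsCyclic Q := by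
  by_cases hnt : Nontrivial Q
  · obtain ⟨M₀, hM₀, -⟩ := exists_index_eq_ge hQ (⊥ : Subgroup Q) bot_ne_top
    have hM₀top : M₀ ≠ ⊤ := by
      intro h1
      rw [h1, Subgroup.index_top] at hM₀
      exact hp.out.one_lt.ne hM₀
    obtain ⟨x, -, hx⟩ := SetLike.exists_of_lt (lt_top_iff_ne_top.mpr hM₀top)
    have htop : Subgroup.zpowers x = ⊤ := by
      by_contra hne
      obtain ⟨M, hM, hxM⟩ := exists_index_eq_ge hQ _ hne
      have := h M M₀ hM hM₀
      rw [this] at hxM
      exact hx (hxM (Subgroup.mem_zpowers x))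
    exact ⟨⟨x, fun y => by
      have : y ∈ Subgroup.zpowers x := by rw [htop]; exact Subgroup.mem_top y
      exact this⟩⟩
  · rw [not_nontrivial_iff_subsingleton] at hnt
    infer_instance

theorem card_gam2_modEq_one (hQ : IsPGroup p Q) (hnc : ¬ IsCyclic Q) :
    (gam2 Q p).card ≡ 1 [MOD p] := by
  have hΦn := phi_normal hQ (Q := Q)
  -- two distinct maximal subgroups
  have h2 : ∃ M M' : Subgroup Q, M.index = p ∧ M'.index = p ∧ M ≠ M' := by
    by_contra hcon
    push Not at hcon
    exact hnc (isCyclic_of_gam1_subsingleton hQ (fun M M' h h' => hcon M M' h h'))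
  obtain ⟨M, M', hM, hM', hne⟩ := h2
  have hdvd : p ^ 2 ∣ Nat.card (Q ⧸ phi Q p) := by
    rw [← Subgroup.index_eq_card, ← index_inf_of_ne hQ M M' hM hM' hne]
    exact Subgroup.index_dvd_of_le (le_inf (phi_le hM) (phi_le hM'))
  have key := card_index_pow_modEq_one (hQ.to_quotient (phi Q p)) 2 hdvd
  have e1 : (gam2 Q p).card = Nat.card {T : Subgroup Q // T.index = p ^ 2 ∧ phi Q p ≤ T} := by
    have : gam2 Q p = (Set.toFinite {T : Subgroup Q | T.index = p ^ 2 ∧ phi Q p ≤ T}).toFinset := by
      ext T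
      rw [mem_gam2_iff hQ]
      simp [and_comm]
    rw [this, card_toFinset_eq]
  rw [e1, Nat.card_congr (indexEquiv (phi Q p) (p ^ 2))]
  exact key

theorem card_gam1_modEq (hQ : IsPGroup p Q) (hnc : ¬ IsCyclic Q) :
    (gam1 Q p).card ≡ 1 + p [MOD p ^ 2] := by
  have hnt : Nontrivial Q := by
    by_contra h
    rw [not_nontrivial_iff_subsingleton] at h
    exact hnc inferInstance
  have h1 := pointwise_modEq hQ (⊥ : Subgroup Q) bot_ne_top
  simp only [bot_le, Finset.filter_true] at h1
  have h2 := card_gam2_modEq_one hQ hnc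
  have h3 : 1 + p * (gam2 Q p).card ≡ 1 + p * 1 [MOD p ^ 2] := by
    rw [sq]
    exact Nat.ModEq.add_left _ (Nat.ModEq.mul_left' p h2)
  rw [mul_one] at h3
  exact h1.trans h3

end frat

end Cfsg.Agent.Helper70.PCount
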