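import Cfsg.Agent.Helper70.PCount4

set_option autoImplicit false
set_option linter.unusedSectionVars false

open scoped Classical

namespace Cfsg.Agent.Helper70.PCount

section transport
variable {Q : Type*} [Group Q]

/-- subgroups of `Q` of order `m` inside `M` correspond to subgroups of order `m` of `↥M` -/
def subEquiv (M : Subgroup Q) (m : ℕ) :
    {H : Subgroup Q // Nat.card H = m ∧ H ≤ M} ≃ {H' : Subgroup M // Nat.card H' = m} where
  toFun H := ⟨H.1.subgroupOf M, by
    have h1 : Nat.card ((H.1.subgroupOf M).map M.subtype) = Nat.card (H.1.subgroupOf M) :=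
      Subgroup.card_subtype M _
    rw [← h1, Subgroup.map_subgroupOf_eq_of_le H.2.2]
    exact H.2.1⟩
  invFun H' := ⟨H'.1.map M.subtype, by rw [Subgroup.card_subtype]; exact H'.2,
    Subgroup.map_subtype_le H'.1⟩
  left_inv H := Subtype.ext (Subgroup.map_subgroupOf_eq_of_le H.2.2)
  right_inv H' := Subtype.ext (Subgroup.comap_map_eq_self_of_injective M.subtype_injective H'.1)

variable [Finite Q]

theorem card_subsOfCard_eq (M : Subgroup Q) (m : ℕ) :
    (subsOfCard m M).card = (subsOfCard m (⊤ : Subgroup M)).card := by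
  rw [card_subsOfCard, card_subsOfCard_top]
  exact Nat.card_congr (subEquiv M m)

variable {p : ℕ} [hp : Fact p.Prime]

/-- Frobenius' count inside a subgroup -/
theorem card_subsOfCard_modEq_one (M : Subgroup Q) (a : ℕ) (h : p ^ a ∣ Nat.card M) :
    (subsOfCard (p ^ a) M).card ≡ 1 [MOD p] := by
  rw [card_subsOfCard_eq, card_subsOfCard_top]
  have : Fintype M := Fintype.ofFinite M
  exact Helper66.card_subgroups_modEq_one (G := M) p a (by rwa [← Nat.card_eq_fintype_card])

/-- a cyclic group of order `p ^ n` has exactly one subgroup of order `p ^ a` for `a ≤ n` -/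
theorem card_subsOfCard_of_isCyclic [IsCyclic Q] (a : ℕ) (h : p ^ a ∣ Nat.card Q) :
    (subsOfCard (p ^ a) (⊤ : Subgroup Q)).card = 1 := by
  rw [Finset.card_eq_one]
  obtain ⟨H, hH⟩ := Sylow.exists_subgroup_card_pow_prime p h
  refine ⟨H, ?_⟩
  ext K
  rw [Finset.mem_singleton, mem_subsOfCard]
  constructor
  · rintro ⟨hK, -⟩
    -- both are the set of solutions of x ^ (p^a) = 1
    have : Fintype Q := Fintype.ofFinite Q
    have hsol : ∀ L : Subgroup Q, Nat.card L = p ^ a →
        (L : Set Q) = {x : Q | x ^ (p ^ a) = 1} := by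
      intro L hL
      have hsub : (L : Set Q) ⊆ {x : Q | x ^ (p ^ a) = 1} := by
        intro x hx
        have : (⟨x, hx⟩ : L) ^ (p ^ a) = 1 := by rw [← hL]; exact pow_card_eq_one'
        exact congrArg Subtype.val this
      have hfin : ({x : Q | x ^ (p ^ a) = 1} : Set Q).Finite := Set.toFinite _
      apply Set.eq_of_subset_of_ncard_le hsub _ hfin
      have h1 : ({x : Q | x ^ (p ^ a) = 1} : Set Q).ncard ≤ p ^ a := by
        have := IsCyclic.card_pow_eq_one_le (α := Q) (pow_pos hp.out.pos a)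
        rw [Set.ncard_eq_toFinset_card']
        convert this using 2
        ext x
        simp
      have h2 : (L : Set Q).ncard = p ^ a := by
        rw [← Nat.card_coe_set_eq]; exact hL
      omega
    exact SetLike.coe_injective ((hsol K hK).trans (hsol H hH).symm)
  · rintro rfl
    exact ⟨hH, le_top⟩

end transport

section cyclicmax
variable {Q : Type*} [Group Q] [Finite Q] {p : ℕ} [hp : Fact p.Prime]

theorem card_eq_of_index_eq {n : ℕ} (hn : Nat.card Q = p ^ n) (M : Subgroup Q) (h : M.index = p) :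
    Nat.card M = p ^ (n - 1) ∧ 1 ≤ n := by
  have h1 := Subgroup.card_mul_index M
  rw [h, hn] at h1
  cases n with
  | zero =>
    exfalso
    rw [pow_zero] at h1
    exact hp.out.one_lt.ne' (Nat.eq_one_of_mul_eq_one_left h1)
  | succ n =>
    refine ⟨?_, by omega⟩
    rw [pow_succ] at h1
    simpa using Nat.eq_of_mul_eq_mul_right hp.out.pos h1

/-- In a noncyclic `p`-group (`p` odd) of order `≥ p³` with a cyclic subgroup of index `p`, exactly one
subgroup of index `p` is not cyclic. -/
theorem exists_unique_noncyclic_max (hp2 : p ≠ 2) (hQ : IsPGroup p Q) (hnc : ¬ IsCyclic Q) (n : ℕ)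
    (hn : Nat.card Q = p ^ n) (hn3 : 3 ≤ n) (C : Subgroup Q) (hC : IsCyclic C) (hCi : C.index = p) :
    ∃ Ω : Subgroup Q, Ω.index = p ∧ ¬ IsCyclic Ω ∧
      ∀ M : Subgroup Q, M.index = p → M ≠ Ω → IsCyclic M := by
  have hp1 : 1 < p := hp.out.one_lt
  have hmul := Helper52.mul_pow_prime_of_cyclic_index_prime hp2 hQ C hC hCi
  have hmulk : ∀ k : ℕ, ∀ x y : Q, (x * y) ^ (p ^ k) = x ^ (p ^ k) * y ^ (p ^ k) := by
    intro k
    induction k with
    | zero => intro x y; simp
    | succ k ih =>
      intro x y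
      rw [pow_succ, pow_mul, pow_mul, pow_mul, ih, hmul]
  let ψ : Q →* Q := MonoidHom.mk' (fun x => x ^ (p ^ (n - 2))) (hmulk (n - 2))
  have hψ : ∀ x, ψ x = x ^ (p ^ (n - 2)) := fun x => rfl
  -- exponent
  have hord : ∀ x : Q, ∃ j, j ≤ n - 1 ∧ orderOf x = p ^ j := by
    intro x
    have h1 : orderOf x ∣ p ^ n := hn ▸ orderOf_dvd_natCard x
    obtain ⟨j, hj, hjj⟩ := (Nat.dvd_prime_pow hp.out).mp h1
    refine ⟨j, ?_, hjj⟩
    by_contra hcon
    have : j = n := by omega
    apply hnc
    exact isCyclic_of_orderOf_eq_card x (by rw [hjj, this, hn])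
  have hexp : ∀ x : Q, x ^ (p ^ (n - 1)) = 1 := by
    intro x
    obtain ⟨j, hj, hjj⟩ := hord x
    apply orderOf_dvd_iff_pow_eq_one.mp
    rw [hjj]
    exact pow_dvd_pow p hj
  have hCn : C.Normal := normal_of_index_eq hQ C hCi
  have hxpC : ∀ x : Q, x ^ p ∈ C := by
    intro x
    have := Subgroup.pow_index_mem C x
    rwa [hCi] at this
  have hrangeC : ∀ x : Q, ψ x ∈ C := by
    intro x
    rw [hψ]
    have : n - 2 = (n - 3) + 1 := by omega
    rw [this, pow_succ', pow_mul]
    exact C.pow_mem (hxpC x) _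
  have hrangep : ∀ x : Q, (ψ x) ^ p = 1 := by
    intro x
    rw [hψ, ← pow_mul, ← pow_succ]
    have : n - 2 + 1 = n - 1 := by omega
    rw [this]
    exact hexp x
  -- card of range ≤ p
  have hle : Nat.card ψ.range ≤ p := by
    have : Fintype C := Fintype.ofFinite C
    let f : ψ.range → {y : C // y ^ p = 1} := fun z =>
      ⟨⟨z.1, by obtain ⟨x, hx⟩ := z.2; rw [← hx]; exact hrangeC x⟩, by
        obtain ⟨x, hx⟩ := z.2
        apply Subtype.ext
        show z.1 ^ p = 1
        rw [← hx]; exact hrangep x⟩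
    have hf : Function.Injective f := by
      intro z w hzw
      apply Subtype.ext
      exact congrArg (fun t : {y : C // y ^ p = 1} => (t.1 : Q)) hzw
    have h1 := Nat.card_le_card_of_injective f hf
    have h2 : Nat.card {y : C // y ^ p = 1} ≤ p := by
      rw [Nat.card_eq_fintype_card, Fintype.card_subtype]
      exact IsCyclic.card_pow_eq_one_le hp.out.pos
    omega
  -- range nontrivial
  obtain ⟨hCcard, -⟩ := card_eq_of_index_eq hn C hCi
  have hne : ψ.range ≠ ⊥ := by
    obtain ⟨c, hc⟩ := hC.exists_generator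
    have h1 : orderOf c = p ^ (n - 1) := by
      rw [orderOf_eq_card_of_forall_mem_zpowers hc, hCcard]
    have h2 : orderOf (c : Q) = p ^ (n - 1) := by rw [Subgroup.orderOf_coe, h1]
    intro hbot
    have h3 : ψ (c : Q) ∈ ψ.range := ⟨_, rfl⟩
    rw [hbot, Subgroup.mem_bot, hψ] at h3
    have h4 := orderOf_dvd_of_pow_eq_one h3
    rw [h2] at h4
    have h5 := (Nat.pow_dvd_pow_iff_le_right hp1).mp h4
    omega
  have hrcard : Nat.card ψ.range = p := by
    obtain ⟨j, hj⟩ := IsPGroup.iff_card.mp (hQ.to_subgroup ψ.range)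
    have hj1 : j ≠ 0 := by
      rintro rfl
      rw [pow_zero] at hj
      exact hne (Subgroup.card_eq_one.mp hj)
    have hj2 : j ≤ 1 := by
      by_contra hcon
      have : p ^ 2 ≤ p ^ j := Nat.pow_le_pow_right hp.out.pos (by omega)
      rw [← hj] at this
      have : p < p ^ 2 := by rw [sq]; exact lt_mul_of_one_lt_left hp.out.pos hp1
      omega
    have : j = 1 := by omega
    rw [hj, this, pow_one]
  refine ⟨ψ.ker, ?_, ?_, ?_⟩
  · rw [Subgroup.index_ker, hrcard]
  · have hΩi : ψ.ker.index = p := by rw [Subgroup.index_ker, hrcard]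
    obtain ⟨hΩcard, -⟩ := card_eq_of_index_eq hn ψ.ker hΩi
    intro hcyc
    obtain ⟨g, hg⟩ := hcyc.exists_generator
    have h1 : orderOf g = p ^ (n - 1) := by
      rw [orderOf_eq_card_of_forall_mem_zpowers hg, hΩcard]
    have h2 : orderOf (g : Q) = p ^ (n - 1) := by rw [Subgroup.orderOf_coe, h1]
    have h3 : ψ (g : Q) = 1 := g.2
    rw [hψ] at h3
    have h4 := orderOf_dvd_of_pow_eq_one h3
    rw [h2] at h4
    have h5 := (Nat.pow_dvd_pow_iff_le_right hp1).mp h4
    omega
  · intro M hM hMne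
    have hΩi : ψ.ker.index = p := by rw [Subgroup.index_ker, hrcard]
    have hnle : ¬ M ≤ ψ.ker := fun h => hMne (eq_of_le_of_index_eq M ψ.ker hM hΩi h)
    obtain ⟨x, hxM, hxΩ⟩ := SetLike.not_le_iff_exists.mp hnle
    have hx1 : x ^ (p ^ (n - 2)) ≠ 1 := fun h => hxΩ (by rw [MonoidHom.mem_ker, hψ]; exact h)
    obtain ⟨j, hj, hjj⟩ := hord x
    have hj' : j = n - 1 := by
      by_contra hcon
      apply hx1
      apply orderOf_dvd_iff_pow_eq_one.mp
      rw [hjj]
      exact pow_dvd_pow p (by omega)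
    obtain ⟨hMcard, -⟩ := card_eq_of_index_eq hn M hM
    apply isCyclic_of_orderOf_eq_card (⟨x, hxM⟩ : M)
    rw [Subgroup.orderOf_mk, hjj, hj', hMcard]

end cyclicmax

end Cfsg.Agent.Helper70.PCount
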