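import Cfsg.Agent.Helper70.PCount7

set_option autoImplicit false
set_option linter.unusedSectionVars false

open scoped Classical Pointwise

namespace Cfsg.Agent.Helper70.PCount

section conj
variable {G : Type*} [Group G]

/-- conjugation action of the subgroup `R` on the subgroups of `G` -/
@[reducible] def conjAction (R : Subgroup G) : MulAction R (Subgroup G) :=
  MulAction.compHom (Subgroup G) ((MulAut.conj : G →* MulAut G).comp R.subtype)

attribute [local instance] conjAction

theorem conj_smul_def (R : Subgroup G) (g : R) (H : Subgroup G) :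
    g • H = MulAut.conj (g : G) • H := rfl

theorem conj_smul_eq_self_iff (g : G) (H : Subgroup G) :
    MulAut.conj g • H = H ↔ g ∈ Subgroup.normalizer (H : Set G) := by
  rw [Subgroup.mem_normalizer_iff_map_conj_eq]
  rfl

theorem forall_smul_eq_iff (R : Subgroup G) (M : Subgroup R) (H : Subgroup G) :
    (∀ g ∈ M, g • H = H) ↔ M.map R.subtype ≤ Subgroup.normalizer (H : Set G) := by
  constructor
  · rintro h _ ⟨g, hg, rfl⟩
    exact (conj_smul_eq_self_iff _ H).mp (h g hg)
  · intro h g hg
    exact (conj_smul_eq_self_iff _ H).mpr (h ⟨g, hg, rfl⟩)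

theorem forall_smul_eq_iff' (R : Subgroup G) (H : Subgroup G) :
    (∀ g : R, g • H = H) ↔ R ≤ Subgroup.normalizer (H : Set G) := by
  constructor
  · intro h g hg
    exact (conj_smul_eq_self_iff _ H).mp (h ⟨g, hg⟩)
  · intro h g
    exact (conj_smul_eq_self_iff _ H).mpr (h g.2)

theorem card_conj_smul (g : G) (H : Subgroup G) :
    Nat.card (MulAut.conj g • H : Subgroup G) = Nat.card H :=
  Nat.card_congr (Subgroup.equivSMul (MulAut.conj g) H).symm.toEquiv

theorem conj_smul_eq_of_le_normalizer {R K : Subgroup G} (h : R ≤ Subgroup.normalizer (K : Set G))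
    (g : R) : g • K = K :=
  (conj_smul_eq_self_iff _ K).mpr (h g.2)

/-- if `g` normalizes `K` and `K` normalizes `H` then `K` normalizes `g H g⁻¹` -/
theorem le_normalizer_conj_smul {K H : Subgroup G} (g : G)
    (hg : g ∈ Subgroup.normalizer (K : Set G)) (h : K ≤ Subgroup.normalizer (H : Set G)) :
    K ≤ Subgroup.normalizer ((MulAut.conj g • H : Subgroup G) : Set G) := by
  intro k hk
  rw [← conj_smul_eq_self_iff]
  have h1 : g⁻¹ * k * g ∈ K := by
    have := (Subgroup.mem_normalizer_iff'.mp hg (g⁻¹ * k)).mpr (by simpa using hk)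
    simpa [mul_assoc] using this
  have h2 : MulAut.conj (g⁻¹ * k * g) • H = H := (conj_smul_eq_self_iff _ H).mpr (h h1)
  have h3 : k * g = g * (g⁻¹ * k * g) := by group
  rw [← mul_smul, ← map_mul, h3, map_mul, mul_smul, h2]

end conj

section F2
variable {G : Type*} [Group G] [Finite G] {p : ℕ} [hp : Fact p.Prime]

attribute [local instance] conjAction

/-- the number of subgroups of order `p ^ a` of `K` that are normalized by the `p`-group `R`
(which normalizes `K`) is `≡ 1 mod p`. -/
theorem card_normalized_modEq_one (R K : Subgroup G) (hR : IsPGroup p R)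
    (hnorm : R ≤ Subgroup.normalizer (K : Set G)) (a : ℕ) (hdiv : p ^ a ∣ Nat.card K) :
    ((subsOfCard (p ^ a) K).filter (fun H : Subgroup G => R ≤ Subgroup.normalizer (H : Set G))).card ≡ 1
      [MOD p] := by
  have hinv : ∀ g : R, ∀ H ∈ subsOfCard (p ^ a) K, g • H ∈ subsOfCard (p ^ a) K := by
    intro g H hH
    rw [mem_subsOfCard] at hH ⊢
    refine ⟨by rw [conj_smul_def, card_conj_smul]; exact hH.1, ?_⟩
    rw [← conj_smul_eq_of_le_normalizer hnorm g, conj_smul_def, conj_smul_def]
    exact Subgroup.pointwise_smul_le_pointwise_smul_iff.mpr hH.2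
  have h1 := card_modEq_card_fixed hR (subsOfCard (p ^ a) K) hinv
  have h2 : (subsOfCard (p ^ a) K).filter (fun H : Subgroup G => ∀ g : R, g • H = H) =
      (subsOfCard (p ^ a) K).filter (fun H : Subgroup G => R ≤ Subgroup.normalizer (H : Set G)) := by
    apply Finset.filter_congr
    intro H _
    exact forall_smul_eq_iff' R H
  rw [h2] at h1
  exact h1.symm.trans (card_subsOfCard_modEq_one K a hdiv)

end F2

end Cfsg.Agent.Helper70.PCount
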