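import Cfsg.Agent.Helper70.PCount8

set_option autoImplicit false
set_option linter.unusedSectionVars false

open scoped Classical Pointwise

namespace Cfsg.Agent.Helper70.PCount

section W
variable {G : Type*} [Group G] [Finite G] {p : ℕ} [hp : Fact p.Prime]

attribute [local instance] conjAction

theorem card_le_of_isPGroup (P : Sylow p G) (Q : Subgroup G) (hQ : IsPGroup p Q) :
    Nat.card Q ≤ Nat.card P := by
  obtain ⟨P', hQP'⟩ := hQ.exists_le_sylow
  have h1 : Nat.card Q ≤ Nat.card P' := Subgroup.card_le_of_le hQP'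
  rw [P'.card_eq_multiplicity] at h1
  rw [P.card_eq_multiplicity]
  exact h1

theorem pow_le_of_lt_of_isPGroup {K L : Subgroup G} (hL : IsPGroup p L) (hKL : K ≤ L) (hne : K ≠ L)
    {m : ℕ} (hK : Nat.card K = p ^ m) : p ^ (m + 1) ≤ Nat.card L := by
  obtain ⟨j, hj⟩ := IsPGroup.iff_card.mp hL
  have hlt : Nat.card K < Nat.card L := by
    by_contra hcon
    exact hne (Subgroup.eq_of_le_of_card_ge hKL (not_lt.mp hcon))
  rw [hK, hj] at hlt
  rw [hj]
  have := (Nat.pow_lt_pow_iff_right hp.out.one_lt).mp hlt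
  exact Nat.pow_le_pow_right hp.out.pos this

/-- structure of `Q = H ⊔ K` for `H` normalized by `K` (of index `p` in the Sylow subgroup `P`) but not
inside `P` -/
theorem sup_facts (P : Sylow p G) (n a : ℕ) (hP : Nat.card P = p ^ n) (hn : 1 ≤ n)
    (K : Subgroup G) (hKP : K ≤ P) (hK : Nat.card K = p ^ (n - 1))
    (H : Subgroup G) (hH : Nat.card H = p ^ a) (hHP : ¬ H ≤ P)
    (hKH : K ≤ Subgroup.normalizer (H : Set G)) :
    IsPGroup p (H ⊔ K : Subgroup G) ∧ Nat.card (H ⊔ K : Subgroup G) = p ^ n ∧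
      (H ⊔ K) ⊓ P = K ∧ ¬ (P : Subgroup G) ≤ Subgroup.normalizer ((H ⊔ K : Subgroup G) : Set G) ∧
      (H ⊔ K : Subgroup G) ≤ Subgroup.normalizer (K : Set G) := by
  have hHp : IsPGroup p H := IsPGroup.of_card hH
  have hKp : IsPGroup p K := P.isPGroup'.to_le hKP
  have hQp : IsPGroup p (H ⊔ K : Subgroup G) := IsPGroup.to_sup_of_normal_left' hHp hKp hKH
  have hKQ : K ≤ H ⊔ K := le_sup_right
  have hHQ : H ≤ H ⊔ K := le_sup_left
  have hne : K ≠ H ⊔ K := by
    intro h
    apply hHP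
    rw [← h] at hHQ
    exact hHQ.trans hKP
  have hn' : n - 1 + 1 = n := by omega
  have hQcard : Nat.card (H ⊔ K : Subgroup G) = p ^ n := by
    apply le_antisymm
    · rw [← hP]; exact card_le_of_isPGroup P _ hQp
    · have := pow_le_of_lt_of_isPGroup hQp hKQ hne hK
      rwa [hn'] at this
  have hQneP : H ⊔ K ≠ (P : Subgroup G) := by
    intro h
    apply hHP
    rw [← h]; exact hHQ
  refine ⟨hQp, hQcard, ?_, ?_, ?_⟩
  · symm
    by_contra hne2
    have hle : K ≤ (H ⊔ K) ⊓ P := le_inf hKQ hKP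
    have hIp : IsPGroup p ((H ⊔ K) ⊓ (P : Subgroup G) : Subgroup G) := P.isPGroup'.to_le inf_le_right
    have h1 := pow_le_of_lt_of_isPGroup hIp hle hne2 hK
    rw [hn', ← hP] at h1
    have h2 : (H ⊔ K) ⊓ (P : Subgroup G) = P := Subgroup.eq_of_le_of_card_ge inf_le_right h1
    have h3 : (P : Subgroup G) ≤ H ⊔ K := by rw [← h2]; exact inf_le_left
    apply hQneP
    symm
    apply Subgroup.eq_of_le_of_card_ge h3
    rw [hQcard, hP]
  · intro hPN
    have h1 : IsPGroup p ((H ⊔ K) ⊔ (P : Subgroup G) : Subgroup G) :=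
      IsPGroup.to_sup_of_normal_left' hQp P.isPGroup' hPN
    have h2 := P.is_maximal' h1 le_sup_right
    apply hHP
    have : H ≤ (H ⊔ K) ⊔ (P : Subgroup G) := hHQ.trans le_sup_left
    rw [h2] at this
    exact this
  · rw [← Subgroup.normal_subgroupOf_iff_le_normalizer hKQ]
    have hQp' : IsPGroup p (↥(H ⊔ K : Subgroup G)) := hQp
    apply normal_of_index_eq hQp'
    have h1 := Subgroup.card_mul_index (K.subgroupOf (H ⊔ K))
    rw [Nat.card_congr (Subgroup.subgroupOfEquivOfLe hKQ).toEquiv, hK, hQcard] at h1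
    have h2 : p ^ n = p ^ (n - 1) * p := by rw [← pow_succ, hn']
    rw [h2] at h1
    exact Nat.eq_of_mul_eq_mul_left (pow_pos hp.out.pos _) h1


/-- the fibre of `H ↦ H ⊔ K` has size divisible by `p` -/
theorem fiber_card_dvd (P : Sylow p G) (n a : ℕ) (hP : Nat.card P = p ^ n) (han : a + 1 ≤ n)
    (K : Subgroup G) (hKP : K ≤ P) (hK : Nat.card K = p ^ (n - 1))
    (H₀ : Subgroup G) (hH₀ : Nat.card H₀ = p ^ a) (hH₀P : ¬ H₀ ≤ P)
    (hKH₀ : K ≤ Subgroup.normalizer (H₀ : Set G)) :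
    p ∣ (((subsOfCard (p ^ a) (⊤ : Subgroup G)).filter
      (fun H : Subgroup G => ¬ H ≤ P ∧ K ≤ Subgroup.normalizer (H : Set G))).filter
        (fun H : Subgroup G => H ⊔ K = H₀ ⊔ K)).card := by
  obtain ⟨hQp, hQcard, hQP, -, hQK⟩ :=
    sup_facts P n a hP (by omega) K hKP hK H₀ hH₀ hH₀P hKH₀
  set Q := H₀ ⊔ K with hQ
  have hKQ : K ≤ Q := le_sup_right
  have hn' : n - 1 + 1 = n := by omega
  set A := (subsOfCard (p ^ a) Q).filter
    (fun H : Subgroup G => Q ≤ Subgroup.normalizer (H : Set G)) with hA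
  set B := (subsOfCard (p ^ a) K).filter
    (fun H : Subgroup G => Q ≤ Subgroup.normalizer (H : Set G)) with hB
  have hBA : B ⊆ A := by
    intro H hH
    rw [hB, Finset.mem_filter, mem_subsOfCard] at hH
    rw [hA, Finset.mem_filter, mem_subsOfCard]
    exact ⟨⟨hH.1.1, hH.1.2.trans hKQ⟩, hH.2⟩
  have hAc : A.card ≡ 1 [MOD p] :=
    card_normalized_modEq_one Q Q hQp Subgroup.le_normalizer a
      (by rw [hQcard]; exact pow_dvd_pow p (by omega))
  have hBc : B.card ≡ 1 [MOD p] :=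
    card_normalized_modEq_one Q K hQp hQK a (by rw [hK]; exact pow_dvd_pow p (by omega))
  have hfib : ((subsOfCard (p ^ a) (⊤ : Subgroup G)).filter
      (fun H : Subgroup G => ¬ H ≤ P ∧ K ≤ Subgroup.normalizer (H : Set G))).filter
        (fun H : Subgroup G => H ⊔ K = Q) = A \ B := by
    ext H
    rw [Finset.mem_filter, Finset.mem_filter, mem_subsOfCard, Finset.mem_sdiff, hA, hB,
      Finset.mem_filter, Finset.mem_filter, mem_subsOfCard, mem_subsOfCard]
    constructor
    · rintro ⟨⟨⟨hc, -⟩, hHP, hKH⟩, hHQ⟩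
      refine ⟨⟨⟨hc, hHQ ▸ le_sup_left⟩, ?_⟩, ?_⟩
      · rw [← hHQ]
        exact sup_le Subgroup.le_normalizer hKH
      · rintro ⟨⟨-, hHK⟩, -⟩
        exact hHP (hHK.trans hKP)
    · rintro ⟨⟨⟨hc, hHQ⟩, hQH⟩, hnB⟩
      have hHK : ¬ H ≤ K := fun h => hnB ⟨⟨hc, h⟩, hQH⟩
      have hHP : ¬ H ≤ P := by
        intro h
        apply hHK
        rw [← hQP]
        exact le_inf hHQ h
      refine ⟨⟨⟨hc, le_top⟩, hHP, hKQ.trans hQH⟩, ?_⟩
      have hle : H ⊔ K ≤ Q := sup_le hHQ hKQ
      apply Subgroup.eq_of_le_of_card_ge hle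
      have hne : K ≠ H ⊔ K := by
        intro h
        apply hHK
        rw [h]; exact le_sup_left
      have := pow_le_of_lt_of_isPGroup (hQp.to_le hle) le_sup_right hne hK
      rw [hn'] at this
      rw [hQcard]
      exact this
  rw [hfib, Finset.card_sdiff_of_subset hBA]
  exact (Nat.modEq_iff_dvd' (Finset.card_le_card hBA)).mp (hBc.trans hAc.symm)


theorem sq_dvd_card_W (P : Sylow p G) (n a : ℕ) (hP : Nat.card P = p ^ n) (han : a + 1 ≤ n)
    (K : Subgroup G) (hKP : K ≤ P) (hPK : (P : Subgroup G) ≤ Subgroup.normalizer (K : Set G))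
    (hK : Nat.card K = p ^ (n - 1)) :
    p ^ 2 ∣ ((subsOfCard (p ^ a) (⊤ : Subgroup G)).filter
      (fun H : Subgroup G => ¬ H ≤ P ∧ K ≤ Subgroup.normalizer (H : Set G))).card := by
  set W := (subsOfCard (p ^ a) (⊤ : Subgroup G)).filter
      (fun H : Subgroup G => ¬ H ≤ P ∧ K ≤ Subgroup.normalizer (H : Set G)) with hW
  let R : Subgroup G := (P : Subgroup G)
  let f : Subgroup G → Subgroup G := fun H => H ⊔ K
  have hmemW : ∀ H : Subgroup G, H ∈ W ↔
      Nat.card H = p ^ a ∧ ¬ H ≤ P ∧ K ≤ Subgroup.normalizer (H : Set G) := by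
    intro H
    rw [hW, Finset.mem_filter, mem_subsOfCard]
    simp
  have hgP : ∀ g : R, g • (P : Subgroup G) = P := fun g =>
    conj_smul_eq_of_le_normalizer (R := R) (K := (P : Subgroup G)) Subgroup.le_normalizer g
  have hgK : ∀ g : R, g • K = K := fun g => conj_smul_eq_of_le_normalizer (R := R) hPK g
  -- W is invariant
  have hWinv : ∀ g : R, ∀ H ∈ W, g • H ∈ W := by
    intro g H hH
    rw [hmemW] at hH ⊢
    refine ⟨by rw [conj_smul_def, card_conj_smul]; exact hH.1, ?_, ?_⟩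
    · intro hle
      apply hH.2.1
      rw [← hgP g, conj_smul_def, conj_smul_def] at hle
      exact Subgroup.pointwise_smul_le_pointwise_smul_iff.mp hle
    · rw [conj_smul_def]
      exact le_normalizer_conj_smul (g : G) (hPK g.2) hH.2.2
  -- f is equivariant
  have hfeq : ∀ (g : R) (H : Subgroup G), f (g • H) = g • f H := by
    intro g H
    show g • H ⊔ K = g • (H ⊔ K)
    conv_lhs => rw [← hgK g]
    rw [conj_smul_def, conj_smul_def, conj_smul_def, Subgroup.smul_sup]
  set S := W.image f with hS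
  have hSinv : ∀ g : R, ∀ Q ∈ S, g • Q ∈ S := by
    intro g Q hQ
    rw [hS, Finset.mem_image] at hQ ⊢
    obtain ⟨H, hH, rfl⟩ := hQ
    exact ⟨g • H, hWinv g H hH, hfeq g H⟩
  have hSnofix : ∀ Q ∈ S, ∃ g : R, g • Q ≠ Q := by
    intro Q hQ
    rw [hS, Finset.mem_image] at hQ
    obtain ⟨H, hH, rfl⟩ := hQ
    rw [hmemW] at hH
    obtain ⟨-, -, -, hnn, -⟩ := sup_facts P n a hP (by omega) K hKP hK H hH.1 hH.2.1 hH.2.2
    by_contra hcon
    push Not at hcon
    exact hnn ((forall_smul_eq_iff' R _).mp hcon)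
  -- fibre sizes
  have hfibdvd : ∀ Q ∈ S, p ∣ (W.filter (fun H => f H = Q)).card := by
    intro Q hQ
    rw [hS, Finset.mem_image] at hQ
    obtain ⟨H, hH, rfl⟩ := hQ
    rw [hmemW] at hH
    exact fiber_card_dvd P n a hP han K hKP hK H hH.1 hH.2.1 hH.2.2
  have hfibinv : ∀ (g : R) (Q : Subgroup G),
      (W.filter (fun H => f H = g • Q)).card = (W.filter (fun H => f H = Q)).card := by
    intro g Q
    have himg : (W.filter (fun H => f H = Q)).image (fun H => g • H) =
        W.filter (fun H => f H = g • Q) := by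
      ext H'
      rw [Finset.mem_image, Finset.mem_filter]
      constructor
      · rintro ⟨H, hH, rfl⟩
        rw [Finset.mem_filter] at hH
        exact ⟨hWinv g H hH.1, by rw [hfeq, hH.2]⟩
      · rintro ⟨hH', hfH'⟩
        refine ⟨g⁻¹ • H', ?_, smul_inv_smul g H'⟩
        rw [Finset.mem_filter]
        refine ⟨hWinv g⁻¹ H' hH', ?_⟩
        rw [hfeq, hfH', inv_smul_smul]
    rw [← himg]
    exact Finset.card_image_of_injective _ (MulAction.injective g)
  let w : Subgroup G → ℕ := fun Q => (W.filter (fun H => f H = Q)).card / p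
  have hw : ∀ g : R, ∀ Q ∈ S, w (g • Q) = w Q := by
    intro g Q _
    show (W.filter (fun H => f H = g • Q)).card / p = (W.filter (fun H => f H = Q)).card / p
    rw [hfibinv]
  have hRp : IsPGroup p R := P.isPGroup'
  have hsum := dvd_sum_of_invariant hRp S w hSinv hw hSnofix
  have hcard : W.card = p * ∑ Q ∈ S, w Q := by
    rw [Finset.card_eq_sum_card_image f W, Finset.mul_sum]
    apply Finset.sum_congr rfl
    intro Q hQ
    exact (Nat.mul_div_cancel' (hfibdvd Q hQ)).symm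
  rw [hcard, sq]
  exact Nat.mul_dvd_mul_left p hsum

end W

end Cfsg.Agent.Helper70.PCount
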