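import Cfsg.Agent.Helper82.PRB.Defs
import Cfsg.Agent.Helper16.DT.Defs
import Cfsg.Agent.Helper77.BlockRank

/-!
# PRB farm (helper82, S4712), piece (AUT): the irreducible Brauer characters of a block are transported
by automorphisms
-/

set_option autoImplicit false
set_option linter.unusedSectionVars false
set_option linter.unusedVariables false

namespace Cfsg.Agent.Helper70.PRB

open Cfsg Cfsg.Agent.Helper16 Cfsg.Agent.Helper16.DT Cfsg.Agent.Helper82.PRB
open scoped ComplexConjugate

universe u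

section Perm

variable {H : Type u} [Group H] [Fintype H] {M : Ideal AlgInt} {p : ℕ}

/-- composing an irreducible matrix representation with an automorphism -/
theorem AUT_isIrredMat {K : Type*} [Field K] {n : ℕ} (σ : H ≃* H)
    (ρ : H →* Matrix (Fin n) (Fin n) K) (hρ : IsIrredMat ρ) :
    IsIrredMat (ρ.comp σ.symm.toMonoidHom) := by
  obtain ⟨hne, hW⟩ := hρ
  refine ⟨hne, fun W hinv => hW W (fun g w hw => ?_)⟩
  have := hinv (σ g) w hw
  simpa using this

/-- the Brauer character of the composition -/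
theorem AUT_brauerChar [M.IsMaximal] {n : ℕ} (σ : H ≃* H)
    (ρ : H →* Matrix (Fin n) (Fin n) (AlgInt ⧸ M)) :
    brauerChar p M (ρ.comp σ.symm.toMonoidHom) = fun y => brauerChar p M ρ (σ.symm y) := by
  classical
  funext y
  have ho : orderOf (σ.symm y) = orderOf y := MulEquiv.orderOf_eq σ.symm y
  unfold brauerChar pRegularPart IsPRegular brauerFull
  rw [ho]
  rfl

/-- the class sums of the composition -/
theorem AUT_classSumMat {K : Type*} [Field K] {n : ℕ} (σ : H ≃* H)
    (ρ : H →* Matrix (Fin n) (Fin n) K) (x : H) :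
    classSumMat (ρ.comp σ.symm.toMonoidHom) x = classSumMat ρ (σ.symm x) := by
  classical
  unfold classSumMat
  refine Finset.sum_bij (fun y _ => σ.symm y) ?_ ?_ ?_ ?_
  · intro y hy
    rw [Finset.mem_filter] at hy ⊢
    refine ⟨Finset.mem_univ _, ?_⟩
    obtain ⟨c, hc⟩ := isConj_iff.mp hy.2
    exact isConj_iff.mpr ⟨σ.symm c, by rw [← hc]; simp⟩
  · intro y₁ _ y₂ _ h
    exact σ.symm.injective h
  · intro z hz
    rw [Finset.mem_filter] at hz
    refine ⟨σ z, ?_, by simp⟩
    rw [Finset.mem_filter]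
    refine ⟨Finset.mem_univ _, ?_⟩
    obtain ⟨c, hc⟩ := isConj_iff.mp hz.2
    exact isConj_iff.mpr ⟨σ c, by rw [← hc]; simp⟩
  · intro y _
    rfl

/-- (AUT) the irreducible Brauer characters of a block are transported by automorphisms. -/
theorem IBrIn_irrMap [Fact p.Prime] [M.IsMaximal] (σ : H ≃* H) (b : Set (IrrCharacter H))
    {φ : H → ℂ} (hφ : φ ∈ IBrIn p M b) :
    (fun y => φ (σ.symm y)) ∈ IBrIn p M (Helper78.irrMap σ '' b) := by
  obtain ⟨n, ρ, hρ, rfl, hcls⟩ := hφ
  refine ⟨n, ρ.comp σ.symm.toMonoidHom, AUT_isIrredMat σ ρ hρ, (AUT_brauerChar σ ρ).symm, ?_⟩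
  rintro ψ ⟨χ, hχ, rfl⟩ x
  rw [AUT_classSumMat, hcls χ hχ (σ.symm x)]
  have h1 : centralChar ((Helper78.irrMap σ χ : IrrCharacter H) : H → ℂ) x
      = centralChar (χ : H → ℂ) (σ.symm x) :=
    Helper78.centralChar_comp_symm σ (χ : H → ℂ) x
  rw [h1]

end Perm

end Cfsg.Agent.Helper70.PRB
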