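import Cfsg.Agent.Helper82.PRB.Defs
import Cfsg.Agent.Helper16.DT.Defs
import Cfsg.Agent.Helper77.BlockRank

/-!
# PRB farm (helper82, S4712), piece (NN), part a: block projections kill the other blocks; the
per-block count
-/

set_option autoImplicit false
set_option linter.unusedSectionVars false
set_option linter.unusedVariables false

namespace Cfsg.Agent.Helper70.PRB

open Cfsg Cfsg.Agent.Helper16 Cfsg.Agent.Helper16.DT Cfsg.Agent.Helper82.PRB
open scoped ComplexConjugate

universe u

section LinAlg

/-- linear independence of a set, over a finset enumerating it -/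
theorem NN_indep {V : Type*} [AddCommGroup V] [Module ℂ V] (S : Set V)
    (hli : LinearIndependent ℂ (fun φ : S => (φ : V))) (Sf : Finset V)
    (hSf : ∀ x, x ∈ Sf ↔ x ∈ S) (a : V → ℂ) (h : ∑ φ ∈ Sf, a φ • φ = 0) :
    ∀ φ ∈ Sf, a φ = 0 := by
  classical
  letI : Fintype S := Fintype.subtype Sf hSf
  rw [Finset.sum_subtype Sf hSf] at h
  have h1 := Fintype.linearIndependent_iff.mp hli (fun x => a x) h
  intro φ hφ
  exact h1 ⟨φ, (hSf φ).mp hφ⟩

end LinAlg

section Perm

variable {H : Type u} [Group H] [Fintype H] {M : Ideal AlgInt} {p : ℕ}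

/-- the restricted inner products may be replaced by the full ones (block orthogonality) -/
theorem NN_inner_reg (hM : IsPModular p M) {B : Set (IrrCharacter H)} (hB : IsPBlock M B)
    (ψ : IrrCharacter H) (x : H) (hx : ¬ p ∣ orderOf x) :
    ∑ χ ∈ (Set.toFinite B).toFinset,
        classInner (pRegularPart p (ψ : H → ℂ)) (pRegularPart p (χ : H → ℂ)) * (χ : H → ℂ) x =
      ∑ χ ∈ (Set.toFinite B).toFinset,
        classInner (ψ : H → ℂ) (χ : H → ℂ) * (χ : H → ℂ) x := by
  classical
  simp only [classInner, mul_assoc, Finset.sum_mul]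
  rw [← Finset.mul_sum, ← Finset.mul_sum]
  congr 1
  rw [Finset.sum_comm]
  conv_rhs => rw [Finset.sum_comm]
  refine Finset.sum_congr rfl (fun y _ => ?_)
  by_cases hy : p ∣ orderOf y
  · simp only [Helper77.pRegularPart_of_sing hy, zero_mul, Finset.sum_const_zero]
    have h2 := Helper77.weak_block_orthogonality' hM hB x y hx hy
    rw [finsum_mem_eq_finite_toFinset_sum _ (Set.toFinite B)] at h2
    symm
    calc ∑ χ ∈ (Set.toFinite B).toFinset,
        (ψ : H → ℂ) y * (conj ((χ : H → ℂ) y) * (χ : H → ℂ) x)
        = (ψ : H → ℂ) y * ∑ χ ∈ (Set.toFinite B).toFinset,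
          (χ : H → ℂ) x * conj ((χ : H → ℂ) y) := by
          rw [Finset.mul_sum]
          refine Finset.sum_congr rfl (fun χ _ => ?_)
          ring
      _ = 0 := by rw [h2, mul_zero]
  · simp only [Helper77.pRegularPart_of_reg hy]

/-- the block projection kills `ψ°` for `ψ` outside the block -/
theorem NN_kill (hM : IsPModular p M) {B : Set (IrrCharacter H)} (hB : IsPBlock M B)
    (ψ : IrrCharacter H) (hψ : ψ ∉ B) :
    Helper77.blockProj p B (pRegularPart p (ψ : H → ℂ)) = 0 := by
  classical
  funext x
  rw [Helper77.blockProj_apply, Finset.sum_apply]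
  simp only [Pi.smul_apply, smul_eq_mul, Pi.zero_apply]
  by_cases hx : p ∣ orderOf x
  · simp only [Helper77.pRegularPart_of_sing hx, mul_zero, Finset.sum_const_zero]
  · simp only [Helper77.pRegularPart_of_reg hx]
    rw [NN_inner_reg hM hB ψ x hx]
    refine Finset.sum_eq_zero (fun χ hχ => ?_)
    have hne : ψ ≠ χ := by
      rintro rfl
      exact hψ (by simpa using hχ)
    rw [Helper79.classInner_irr_ne hne, zero_mul]

/-- the block projection kills the span of another block -/
theorem NN_kill_span (hM : IsPModular p M) {B B' : Set (IrrCharacter H)} (hB : IsPBlock M B)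
    (hB' : IsPBlock M B') (hne : B ≠ B') {f : H → ℂ}
    (hf : f ∈ Submodule.span ℂ
      ((fun χ : IrrCharacter H => pRegularPart p (χ : H → ℂ)) '' B')) :
    Helper77.blockProj p B f = 0 := by
  induction hf using Submodule.span_induction with
  | mem f hf =>
    obtain ⟨ψ, hψ, rfl⟩ := hf
    exact NN_kill hM hB ψ
      (fun h => hne (Helper78.isPBlock_eq_of_mem_of_mem hM.2.1.isPrime hB hB' h hψ))
  | zero => exact map_zero _
  | add f g _ _ hf hg => rw [map_add, hf, hg, add_zero]
  | smul c f _ hf => rw [map_smul, hf, smul_zero]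

end Perm

end Cfsg.Agent.Helper70.PRB
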