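import Cfsg.Agent.Helper82.PRB.Defs
import Cfsg.Agent.Helper16.DT.Defs
import Cfsg.Agent.Helper77.BlockRank
import Cfsg.Agent.Helper70.PRB_NNa

/-!
# PRB farm (helper82, S4712), piece (NN), part b: the per-block count
-/

set_option autoImplicit false
set_option linter.unusedSectionVars false
set_option linter.unusedVariables false

namespace Cfsg.Agent.Helper70.PRB

open Cfsg Cfsg.Agent.Helper16 Cfsg.Agent.Helper16.DT Cfsg.Agent.Helper82.PRB
open scoped ComplexConjugate

universe u

section Perm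

variable {H : Type u} [Group H] [Fintype H] {M : Ideal AlgInt} {p : ℕ}

/-- the contribution of one block: a natural number -/
theorem NN_block (hM : IsPModular p M) (A : (H → ℂ) →ₗ[ℂ] (H → ℂ)) {b : Set (IrrCharacter H)}
    (hb : IsPBlock M b) (Sb : Finset (H → ℂ))
    (hli : ∀ a : (H → ℂ) → ℂ, ∑ φ ∈ Sb, a φ • φ = 0 → ∀ φ ∈ Sb, a φ = 0)
    (hspan : Submodule.span ℂ (Sb : Set (H → ℂ)) =
      Submodule.span ℂ ((fun χ : IrrCharacter H => pRegularPart p (χ : H → ℂ)) '' b))
    (hA : (∀ φ ∈ Sb, A φ ∈ Sb) ∨ (∀ φ ∈ Sb, Helper77.blockProj p b (A φ) = 0)) :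
    ∃ N : ℕ, ∑ χ ∈ (Set.toFinite b).toFinset,
      classInner (A (pRegularPart p (χ : H → ℂ))) (pRegularPart p (χ : H → ℂ)) = (N : ℂ) := by
  classical
  set I := (Set.toFinite b).toFinset with hI
  -- expansions in the basis
  have hexp' : ∀ χ : IrrCharacter H, ∃ d : (H → ℂ) → ℂ,
      χ ∈ I → ∑ φ ∈ Sb, d φ • φ = pRegularPart p (χ : H → ℂ) := by
    intro χ
    by_cases hχ : χ ∈ I
    · have hmem : pRegularPart p (χ : H → ℂ) ∈ Submodule.span ℂ (Sb : Set (H → ℂ)) := by
        rw [hspan]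
        exact Submodule.subset_span ⟨χ, by simpa [hI] using hχ, rfl⟩
      obtain ⟨d, -, hd⟩ := Submodule.mem_span_finset.mp hmem
      exact ⟨d, fun _ => hd⟩
    · exact ⟨0, fun h => absurd h hχ⟩
  choose d hd using hexp'
  -- the coefficient of `φ` in `P g`
  let c : (H → ℂ) → (H → ℂ) → ℂ := fun g φ =>
    ∑ χ ∈ I, classInner g (pRegularPart p (χ : H → ℂ)) * d χ φ
  have hP : ∀ g, Helper77.blockProj p b g = ∑ φ ∈ Sb, c g φ • φ := by
    intro g
    rw [Helper77.blockProj_apply]
    calc ∑ χ ∈ I, classInner g (pRegularPart p (χ : H → ℂ)) • pRegularPart p (χ : H → ℂ)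
        = ∑ χ ∈ I, ∑ φ ∈ Sb, (classInner g (pRegularPart p (χ : H → ℂ)) * d χ φ) • φ := by
          refine Finset.sum_congr rfl (fun χ hχ => ?_)
          have h1 : classInner g (pRegularPart p (χ : H → ℂ)) • pRegularPart p (χ : H → ℂ)
              = classInner g (pRegularPart p (χ : H → ℂ)) • ∑ φ ∈ Sb, d χ φ • φ := by
            rw [hd χ hχ]
          rw [h1, Finset.smul_sum]
          refine Finset.sum_congr rfl (fun φ _ => ?_)
          rw [smul_smul]
      _ = ∑ φ ∈ Sb, ∑ χ ∈ I, (classInner g (pRegularPart p (χ : H → ℂ)) * d χ φ) • φ :=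
          Finset.sum_comm
      _ = ∑ φ ∈ Sb, c g φ • φ := by
          refine Finset.sum_congr rfl (fun φ _ => ?_)
          rw [Finset.sum_smul]
  -- the sum in terms of the coefficients
  have hT : ∑ χ ∈ I, classInner (A (pRegularPart p (χ : H → ℂ))) (pRegularPart p (χ : H → ℂ))
      = ∑ φ ∈ Sb, c (A φ) φ := by
    calc ∑ χ ∈ I, classInner (A (pRegularPart p (χ : H → ℂ))) (pRegularPart p (χ : H → ℂ))
        = ∑ χ ∈ I, ∑ φ ∈ Sb, d χ φ * classInner (A φ) (pRegularPart p (χ : H → ℂ)) := by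
          refine Finset.sum_congr rfl (fun χ hχ => ?_)
          have h1 : A (pRegularPart p (χ : H → ℂ)) = ∑ φ ∈ Sb, d χ φ • A φ := by
            rw [← hd χ hχ, map_sum]
            refine Finset.sum_congr rfl (fun φ _ => ?_)
            rw [map_smul]
          rw [h1, ← Helper77.innerL_apply, map_sum]
          refine Finset.sum_congr rfl (fun φ _ => ?_)
          rw [map_smul, smul_eq_mul, Helper77.innerL_apply]
      _ = ∑ φ ∈ Sb, ∑ χ ∈ I, d χ φ * classInner (A φ) (pRegularPart p (χ : H → ℂ)) :=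
          Finset.sum_comm
      _ = ∑ φ ∈ Sb, c (A φ) φ := by
          refine Finset.sum_congr rfl (fun φ _ => ?_)
          refine Finset.sum_congr rfl (fun χ _ => ?_)
          rw [mul_comm]
  rcases hA with hA | hA
  · refine ⟨(Sb.filter (fun φ => A φ = φ)).card, ?_⟩
    rw [hT]
    have hc : ∀ φ ∈ Sb, c (A φ) φ = if A φ = φ then 1 else 0 := by
      intro φ hφ
      have hAφ : A φ ∈ Sb := hA φ hφ
      have hmem : A φ ∈ Submodule.span ℂ
          ((fun χ : IrrCharacter H => pRegularPart p (χ : H → ℂ)) '' b) := by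
        rw [← hspan]
        exact Submodule.subset_span hAφ
      have h1 : Helper77.blockProj p b (A φ) = A φ :=
        (Helper77.blockProj_isProj hM hb).map_id _ hmem
      rw [hP] at h1
      have h2 : A φ = ∑ φ'' ∈ Sb, (if φ'' = A φ then (1 : ℂ) else 0) • φ'' := by
        rw [Finset.sum_eq_single (A φ)]
        · rw [if_pos rfl, one_smul]
        · intro x _ hx
          rw [if_neg hx, zero_smul]
        · intro h
          exact absurd hAφ h
      have h3 : ∑ φ'' ∈ Sb, (c (A φ) φ'' - (if φ'' = A φ then 1 else 0)) • φ'' = 0 := by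
        simp only [sub_smul]
        rw [Finset.sum_sub_distrib, h1, ← h2, sub_self]
      have h4 := hli _ h3 φ hφ
      rw [sub_eq_zero] at h4
      rw [h4]
      by_cases h : A φ = φ
      · rw [if_pos h, if_pos h.symm]
      · rw [if_neg h, if_neg (fun h' => h h'.symm)]
    rw [Finset.sum_congr rfl hc, Finset.sum_ite, Finset.sum_const_zero, add_zero,
      Finset.sum_const, nsmul_eq_mul, mul_one]
  · refine ⟨0, ?_⟩
    rw [hT, Nat.cast_zero]
    refine Finset.sum_eq_zero (fun φ hφ => ?_)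
    have h1 := hA φ hφ
    rw [hP] at h1
    exact hli _ h1 φ hφ

end Perm

end Cfsg.Agent.Helper70.PRB
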