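import Cfsg.Agent.Helper82.PRB.Defs
import Cfsg.Agent.Helper16.DT.Defs
import Cfsg.Agent.Helper77.BlockRank
import Cfsg.Agent.Helper70.PRB_NNb

/-!
# PRB farm (helper82, S4712), piece (NN): Brauer's permutation lemma on the columns of one section
-/

set_option autoImplicit false
set_option linter.unusedSectionVars false
set_option linter.unusedVariables false

namespace Cfsg.Agent.Helper70.PRB

open Cfsg Cfsg.Agent.Helper16 Cfsg.Agent.Helper16.DT Cfsg.Agent.Helper82.PRB
open scoped ComplexConjugate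

universe u

section Perm

variable {H : Type u} [Group H] [Fintype H] {M : Ideal AlgInt} {p : ℕ}

/-- the sum over the `p`-regular elements as an inner product -/
theorem NN_sum_reg (σ : H ≃* H) (χ : IrrCharacter H) :
    ∑ y : H, (if ¬ p ∣ orderOf y then (χ : H → ℂ) (σ.symm y) * conj ((χ : H → ℂ) y) else 0) =
      (Nat.card H : ℂ) * classInner
        (LinearMap.funLeft ℂ ℂ σ.symm (pRegularPart p (χ : H → ℂ))) (pRegularPart p (χ : H → ℂ)) := by
  classical
  have hcard : (Nat.card H : ℂ) ≠ 0 := Helper79.card_ne_zero_complex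
  unfold classInner
  rw [← mul_assoc, mul_inv_cancel₀ hcard, one_mul]
  refine Finset.sum_congr rfl (fun y _ => ?_)
  rw [LinearMap.funLeft_apply]
  have ho : orderOf (σ.symm y) = orderOf y := MulEquiv.orderOf_eq σ.symm y
  by_cases hy : p ∣ orderOf y
  · rw [if_neg (not_not.mpr hy), Helper77.pRegularPart_of_sing hy, map_zero, mul_zero]
  · rw [if_pos hy, Helper77.pRegularPart_of_reg hy,
      Helper77.pRegularPart_of_reg (x := σ.symm y) (by rw [ho]; exact hy)]

open Classical in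
/-- (NN) Brauer's permutation lemma on the columns of one section, in abstract form. -/
theorem twisted_norm_nat [Fact p.Prime] (hM : IsPModular p M) (σ : H ≃* H)
    (𝔟 : Finset (Set (IrrCharacter H))) (h𝔟 : ∀ b ∈ 𝔟, IsPBlock M b)
    (S : Set (IrrCharacter H) → Set (H → ℂ))
    (hS1 : ∀ b ∈ 𝔟, LinearIndependent ℂ (fun φ : S b => (φ : H → ℂ)))
    (hS2 : ∀ b ∈ 𝔟, Submodule.span ℂ (S b) =
      Submodule.span ℂ ((fun χ : IrrCharacter H => pRegularPart p (χ : H → ℂ)) '' b))
    (hσ : ∀ b ∈ 𝔟, Helper78.irrMap σ '' b ∈ 𝔟 ∧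
      ∀ φ ∈ S b, (fun y => φ (σ.symm y)) ∈ S (Helper78.irrMap σ '' b)) :
    ∃ N : ℕ, ∑ y : H, (if ¬ p ∣ orderOf y then
      ∑ b ∈ 𝔟, ∑ χ : IrrCharacter H, (if χ ∈ b then (1 : ℂ) else 0) *
        ((χ : H → ℂ) (σ.symm y) * conj ((χ : H → ℂ) y)) else 0) = (Nat.card H : ℂ) * (N : ℂ) := by
  set A : (H → ℂ) →ₗ[ℂ] (H → ℂ) := LinearMap.funLeft ℂ ℂ σ.symm with hAdef
  have hAapp : ∀ φ : H → ℂ, A φ = fun y => φ (σ.symm y) := fun φ => rfl
  -- every block contributes a natural number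
  have hblock : ∀ b : Set (IrrCharacter H), ∃ N : ℕ, b ∈ 𝔟 →
      ∑ χ ∈ (Set.toFinite b).toFinset,
        classInner (A (pRegularPart p (χ : H → ℂ))) (pRegularPart p (χ : H → ℂ)) = (N : ℂ) := by
    intro b
    by_cases hb : b ∈ 𝔟
    swap
    · exact ⟨0, fun h => absurd h hb⟩
    have hfin : (S b).Finite := (hS1 b hb).setFinite
    have hSb : ∀ x, x ∈ hfin.toFinset ↔ x ∈ S b := fun x => hfin.mem_toFinset
    have hcoe : (hfin.toFinset : Set (H → ℂ)) = S b := hfin.coe_toFinset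
    obtain ⟨hb', hAS⟩ := hσ b hb
    have key := NN_block hM A (h𝔟 b hb) hfin.toFinset
      (NN_indep (S b) (hS1 b hb) hfin.toFinset hSb)
      (by rw [hcoe]; exact hS2 b hb)
      (by
        by_cases heq : Helper78.irrMap σ '' b = b
        · left
          intro φ hφ
          rw [hSb] at hφ ⊢
          have h1 := hAS φ hφ
          rw [heq] at h1
          rw [hAapp]
          exact h1
        · right
          intro φ hφ
          apply NN_kill_span hM (h𝔟 b hb) (h𝔟 _ hb') (Ne.symm heq)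
          rw [← hS2 _ hb', hAapp]
          exact Submodule.subset_span (hAS φ ((hSb φ).mp hφ)))
    obtain ⟨N, hN⟩ := key
    exact ⟨N, fun _ => hN⟩
  choose N hN using hblock
  refine ⟨∑ b ∈ 𝔟, N b, ?_⟩
  -- rearrange the left side
  have h1 : ∀ y : H, (if ¬ p ∣ orderOf y then
      ∑ b ∈ 𝔟, ∑ χ : IrrCharacter H, (if χ ∈ b then (1 : ℂ) else 0) *
        ((χ : H → ℂ) (σ.symm y) * conj ((χ : H → ℂ) y)) else 0) =
      ∑ b ∈ 𝔟, ∑ χ : IrrCharacter H, (if χ ∈ b then (1 : ℂ) else 0) *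
        (if ¬ p ∣ orderOf y then (χ : H → ℂ) (σ.symm y) * conj ((χ : H → ℂ) y) else 0) := by
    intro y
    by_cases hy : p ∣ orderOf y
    · rw [if_neg (not_not.mpr hy)]
      symm
      refine Finset.sum_eq_zero (fun b _ => Finset.sum_eq_zero (fun χ _ => ?_))
      rw [if_neg (not_not.mpr hy), mul_zero]
    · rw [if_pos hy]
      refine Finset.sum_congr rfl (fun b _ => Finset.sum_congr rfl (fun χ _ => ?_))
      rw [if_pos hy]
  rw [Finset.sum_congr rfl (fun y _ => h1 y), Finset.sum_comm, Nat.cast_sum, Finset.mul_sum]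
  refine Finset.sum_congr rfl (fun b hb => ?_)
  rw [Finset.sum_comm, ← hN b hb, Finset.mul_sum]
  have h2 : ∀ χ : IrrCharacter H, ∑ y : H, (if χ ∈ b then (1 : ℂ) else 0) *
        (if ¬ p ∣ orderOf y then (χ : H → ℂ) (σ.symm y) * conj ((χ : H → ℂ) y) else 0)
      = if χ ∈ b then (Nat.card H : ℂ) * classInner
          (A (pRegularPart p (χ : H → ℂ))) (pRegularPart p (χ : H → ℂ)) else 0 := by
    intro χ
    rw [← Finset.mul_sum, NN_sum_reg σ χ]
    by_cases hχ : χ ∈ b
    · rw [if_pos hχ, if_pos hχ, one_mul]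
    · rw [if_neg hχ, if_neg hχ, zero_mul]
  rw [Finset.sum_congr rfl (fun χ _ => h2 χ), ← Finset.sum_filter]
  refine Finset.sum_congr ?_ (fun χ _ => rfl)
  ext χ
  simp

end Perm

end Cfsg.Agent.Helper70.PRB
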