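import Mathlib

/-!
# Piece (ARB) of helper9's WANTED #5498 (S1158): the arithmetic of the two cyclic tori
-/

set_option autoImplicit false

namespace Cfsg.Agent.Helper70.ReeCount

/-- `7 n ≥ Gd` from `n * (a * e) = Gd * b`, `a = b + 1 ≥ 7`, `e ≤ 6`. -/
theorem seven_mul_ge (n Gd b e : ℕ) (hb : 6 ≤ b) (he : e ≤ 6)
    (h : n * ((b + 1) * e) = Gd * b) : Gd ≤ 7 * n := by
  by_contra hcon
  push Not at hcon
  have h1 : 7 * n + 1 ≤ Gd := hcon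
  have h2 : (7 * n + 1) * b ≤ Gd * b := Nat.mul_le_mul_right b h1
  have h3 : n * ((b + 1) * e) ≤ n * ((b + 1) * 6) :=
    Nat.mul_le_mul_left n (Nat.mul_le_mul_left (b + 1) he)
  have h4 : n * ((b + 1) * 6) ≤ 7 * n * b := by
    have : (b + 1) * 6 ≤ 7 * b := by omega
    calc n * ((b + 1) * 6) ≤ n * (7 * b) := Nat.mul_le_mul_left n this
      _ = 7 * n * b := by ring
  have h5 : (7 * n + 1) * b = 7 * n * b + b := by ring
  omega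

/-- `7 n ≥ 2 Gd` from `n * (a * e) = Gd * b`, `a = b + 1 ≥ 7`, `e ≤ 3`. -/
theorem seven_mul_ge_two (n Gd b e : ℕ) (hb : 6 ≤ b) (he : e ≤ 3)
    (h : n * ((b + 1) * e) = Gd * b) : 2 * Gd ≤ 7 * n := by
  by_contra hcon
  push Not at hcon
  have h1 : 7 * n + 1 ≤ 2 * Gd := hcon
  have h2 : (7 * n + 1) * b ≤ 2 * Gd * b := Nat.mul_le_mul_right b h1
  have h3 : n * ((b + 1) * e) ≤ n * ((b + 1) * 3) :=
    Nat.mul_le_mul_left n (Nat.mul_le_mul_left (b + 1) he)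
  have h4 : 2 * (n * ((b + 1) * 3)) ≤ 7 * n * b := by
    have : 2 * ((b + 1) * 3) ≤ 7 * b := by omega
    calc 2 * (n * ((b + 1) * 3)) = n * (2 * ((b + 1) * 3)) := by ring
      _ ≤ n * (7 * b) := Nat.mul_le_mul_left n this
      _ = 7 * n * b := by ring
  have h5 : (7 * n + 1) * b = 7 * n * b + b := by ring
  have h6 : 2 * Gd * b = 2 * (Gd * b) := by ring
  omega

/-- the divisors of `6` -/
theorem dvd_six {e : ℕ} (h : e ∣ 6) : e = 1 ∨ e = 2 ∨ e = 3 ∨ e = 6 := by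
  have h1 : e ≤ 6 := Nat.le_of_dvd (by norm_num) h
  interval_cases e <;> simp_all

/-- **(ARB)**, first part. -/
theorem ree_arith_two (q Gd n₁ n₂ N₁ N₂ a₁ a₂ : ℕ) (hq : 27 ≤ q) (hq3 : 3 ∣ q) (hGd : 0 < Gd)
    (ha₁ : 7 ≤ a₁) (ha₂ : 7 ≤ a₂) (haP₁ : a₁ ∣ q ^ 2 - q + 1) (haP₂ : a₂ ∣ q ^ 2 - q + 1)
    (hcop : Nat.Coprime a₁ a₂) (haN₁ : a₁ ∣ N₁) (hN₁ : N₁ ∣ 6 * a₁) (haN₂ : a₂ ∣ N₂)
    (hN₂ : N₂ ∣ 6 * a₂) (hn₁ : n₁ * N₁ = Gd * (a₁ - 1)) (hn₂ : n₂ * N₂ = Gd * (a₂ - 1))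
    (hNb : 3 * (q ^ 2 - q + 1) * (n₁ + n₂) = Gd * (q * (q - 2))) :
    N₁ = 6 * a₁ ∧ N₂ = 6 * a₂ ∧ a₁ + a₂ = 2 * q + 2 ∧ a₁ * a₂ = q ^ 2 - q + 1 := by
  obtain ⟨r, rfl⟩ : ∃ r, q = r + 2 := ⟨q - 2, by omega⟩
  obtain ⟨b₁, rfl⟩ : ∃ b, a₁ = b + 1 := ⟨a₁ - 1, by omega⟩
  obtain ⟨b₂, rfl⟩ : ∃ b, a₂ = b + 1 := ⟨a₂ - 1, by omega⟩
  have hP : (r + 2) ^ 2 - (r + 2) + 1 = r ^ 2 + 3 * r + 3 := by
    have : (r + 2) ^ 2 = r ^ 2 + 3 * r + 2 + (r + 2) := by ring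
    rw [this, Nat.add_sub_cancel]
  rw [hP] at haP₁ haP₂ hNb ⊢
  simp only [Nat.add_sub_cancel] at hn₁ hn₂ hNb
  obtain ⟨e₁, rfl⟩ := haN₁
  obtain ⟨e₂, rfl⟩ := haN₂
  have he₁ : e₁ ∣ 6 := by
    have : (b₁ + 1) * e₁ ∣ (b₁ + 1) * 6 := by rw [mul_comm (b₁ + 1) 6]; exact hN₁
    exact Nat.dvd_of_mul_dvd_mul_left (Nat.succ_pos b₁) this
  have he₂ : e₂ ∣ 6 := by
    have : (b₂ + 1) * e₂ ∣ (b₂ + 1) * 6 := by rw [mul_comm (b₂ + 1) 6]; exact hN₂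
    exact Nat.dvd_of_mul_dvd_mul_left (Nat.succ_pos b₂) this
  have he₁' : e₁ ≤ 6 := Nat.le_of_dvd (by norm_num) he₁
  have he₂' : e₂ ≤ 6 := Nat.le_of_dvd (by norm_num) he₂
  -- `3 (n₁ + n₂) < Gd`
  have hlt : 3 * (n₁ + n₂) < Gd := by
    have h1 : (r + 2) * r < r ^ 2 + 3 * r + 3 := by nlinarith
    have h2 : Gd * ((r + 2) * r) < Gd * (r ^ 2 + 3 * r + 3) := Nat.mul_lt_mul_of_pos_left h1 hGd
    rw [← hNb] at h2
    have h3 : 3 * (r ^ 2 + 3 * r + 3) * (n₁ + n₂) = (r ^ 2 + 3 * r + 3) * (3 * (n₁ + n₂)) := by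
      ring
    rw [h3, mul_comm Gd] at h2
    exact Nat.lt_of_mul_lt_mul_left h2
  have hA₁ := seven_mul_ge n₁ Gd b₁ e₁ (by omega) he₁' hn₁
  have hA₂ := seven_mul_ge n₂ Gd b₂ e₂ (by omega) he₂' hn₂
  have hE₁ : e₁ = 6 := by
    rcases dvd_six he₁ with h | h | h | h
    · have := seven_mul_ge_two n₁ Gd b₁ e₁ (by omega) (by omega) hn₁; omega
    · have := seven_mul_ge_two n₁ Gd b₁ e₁ (by omega) (by omega) hn₁; omega
    · have := seven_mul_ge_two n₁ Gd b₁ e₁ (by omega) (by omega) hn₁; omega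
    · exact h
  have hE₂ : e₂ = 6 := by
    rcases dvd_six he₂ with h | h | h | h
    · have := seven_mul_ge_two n₂ Gd b₂ e₂ (by omega) (by omega) hn₂; omega
    · have := seven_mul_ge_two n₂ Gd b₂ e₂ (by omega) (by omega) hn₂; omega
    · have := seven_mul_ge_two n₂ Gd b₂ e₂ (by omega) (by omega) hn₂; omega
    · exact h
  subst hE₁ hE₂
  refine ⟨by ring, by ring, ?_⟩
  -- the cofactor `c`
  obtain ⟨c, hc⟩ := Nat.Coprime.mul_dvd_of_dvd_of_dvd hcop haP₁ haP₂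
  have key : c * ((b₁ + 1) + (b₂ + 1)) = 2 * (r + 3) := by
    have h1 : 2 * (Gd * ((r + 2) * r)) =
        Gd * (c * ((b₂ + 1) * b₁ + (b₁ + 1) * b₂)) := by
      rw [← hNb, hc]
      have e1 : 2 * (3 * ((b₁ + 1) * (b₂ + 1) * c) * (n₁ + n₂)) =
          c * (b₂ + 1) * (n₁ * ((b₁ + 1) * 6)) + c * (b₁ + 1) * (n₂ * ((b₂ + 1) * 6)) := by ring
      rw [e1, hn₁, hn₂]
      ring
    have h2 : 2 * ((r + 2) * r) = c * ((b₂ + 1) * b₁ + (b₁ + 1) * b₂) := by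
      have : Gd * (2 * ((r + 2) * r)) = Gd * (c * ((b₂ + 1) * b₁ + (b₁ + 1) * b₂)) := by
        rw [← h1]; ring
      exact Nat.eq_of_mul_eq_mul_left hGd this
    have h3 : c * ((b₂ + 1) * b₁ + (b₁ + 1) * b₂) + c * ((b₁ + 1) + (b₂ + 1)) =
        2 * (r ^ 2 + 3 * r + 3) := by
      rw [hc]; ring
    have h4 : 2 * (r ^ 2 + 3 * r + 3) = 2 * ((r + 2) * r) + 2 * (r + 3) := by ring
    omega
  have hc1 : c = 1 := by
    have hcP : c ∣ r ^ 2 + 3 * r + 3 := ⟨(b₁ + 1) * (b₂ + 1), by rw [hc]; ring⟩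
    have hc2 : c ∣ 2 * (r + 3) := ⟨(b₁ + 1) + (b₂ + 1), key.symm⟩
    have hodd : ¬ 2 ∣ r ^ 2 + 3 * r + 3 := by
      intro h
      have h5 : r ^ 2 + 3 * r + 3 = r * (r + 3) + 3 := by ring
      rw [h5] at h
      have h6 : 2 ∣ r * (r + 3) := by
        rcases Nat.even_or_odd r with hr | hr
        · exact Dvd.dvd.mul_right hr.two_dvd _
        · have : Even (r + 3) := by
            obtain ⟨t, ht⟩ := hr
            exact ⟨t + 2, by omega⟩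
          exact Dvd.dvd.mul_left this.two_dvd _
      have := (Nat.dvd_add_right h6).mp h
      omega
    have hcop2 : Nat.Coprime c 2 := by
      rw [Nat.coprime_comm, Nat.Prime.coprime_iff_not_dvd Nat.prime_two]
      intro h
      exact hodd (h.trans hcP)
    have hc3 : c ∣ r + 3 := hcop2.dvd_of_dvd_mul_left hc2
    have hc4 : c ∣ 3 := by
      have h5 : r ^ 2 + 3 * r + 3 = r * (r + 3) + 3 := by ring
      rw [h5] at hcP
      exact (Nat.dvd_add_right (Dvd.dvd.mul_left hc3 r)).mp hcP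
    rcases (Nat.dvd_prime Nat.prime_three).mp hc4 with h | h
    · exact h
    · exfalso
      rw [h] at hcP
      obtain ⟨s, hs⟩ := hq3
      have h5 : r = 3 * s - 2 := by omega
      have hs1 : 1 ≤ s := by omega
      obtain ⟨s', rfl⟩ : ∃ s', s = s' + 1 := ⟨s - 1, by omega⟩
      have h6 : r = 3 * s' + 1 := by omega
      rw [h6] at hcP
      have h7 : (3 * s' + 1) ^ 2 + 3 * (3 * s' + 1) + 3 = 3 * (3 * s' ^ 2 + 5 * s' + 2) + 1 := by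
        ring
      rw [h7] at hcP
      omega
  rw [hc1, one_mul] at key
  rw [hc1, mul_one] at hc
  exact ⟨by omega, hc.symm⟩

/-- **(ARB)**, second part. -/
theorem ree_arith_solve (m a₁ a₂ : ℕ) (hsum : a₁ + a₂ = 2 * 3 ^ (2 * m + 1) + 2)
    (hprod : a₁ * a₂ = (3 ^ (2 * m + 1)) ^ 2 - 3 ^ (2 * m + 1) + 1) :
    (a₁ = 3 ^ (2 * m + 1) - 3 ^ (m + 1) + 1 ∧ a₂ = 3 ^ (2 * m + 1) + 3 ^ (m + 1) + 1) ∨
      (a₂ = 3 ^ (2 * m + 1) - 3 ^ (m + 1) + 1 ∧ a₁ = 3 ^ (2 * m + 1) + 3 ^ (m + 1) + 1) := by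
  set Q := 3 ^ (2 * m + 1) with hQ
  set t := 3 ^ (m + 1) with ht
  have htQ : t ^ 2 = 3 * Q := by
    rw [ht, hQ, ← pow_mul, ← pow_succ']
    congr 1
    ring
  have hle : t ≤ Q := by
    rw [ht, hQ]
    exact Nat.pow_le_pow_right (by norm_num) (by omega)
  have hQQ : Q ≤ Q ^ 2 := by
    have : 1 ≤ Q := Nat.one_le_pow _ _ (by norm_num)
    nlinarith
  have hprod' : (a₁ : ℤ) * a₂ = (Q : ℤ) ^ 2 - Q + 1 := by
    have : a₁ * a₂ + Q = Q ^ 2 + 1 := by omega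
    have h2 : ((a₁ * a₂ + Q : ℕ) : ℤ) = ((Q ^ 2 + 1 : ℕ) : ℤ) := by rw [this]
    push_cast at h2
    linarith
  have hsum' : (a₁ : ℤ) + a₂ = 2 * Q + 2 := by exact_mod_cast hsum
  have htQ' : (t : ℤ) ^ 2 = 3 * Q := by exact_mod_cast htQ
  have hfac : ((a₁ : ℤ) - a₂ - 2 * t) * ((a₁ : ℤ) - a₂ + 2 * t) = 0 := by
    have h1 : ((a₁ : ℤ) - a₂) ^ 2 = ((a₁ : ℤ) + a₂) ^ 2 - 4 * (a₁ * a₂) := by ring
    have h2 : ((a₁ : ℤ) - a₂ - 2 * t) * ((a₁ : ℤ) - a₂ + 2 * t) =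
        ((a₁ : ℤ) - a₂) ^ 2 - 4 * (t : ℤ) ^ 2 := by ring
    rw [h2, h1, hsum', hprod', htQ']
    ring
  rcases mul_eq_zero.mp hfac with h | h
  · right
    have h1 : (a₁ : ℤ) = Q + t + 1 := by linarith
    have h2 : (a₂ : ℤ) = Q - t + 1 := by linarith
    have h1' : a₁ = Q + t + 1 := by exact_mod_cast h1
    have h2' : a₂ + t = Q + 1 := by
      have : (a₂ : ℤ) + t = Q + 1 := by linarith
      exact_mod_cast this
    exact ⟨by omega, h1'⟩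
  · left
    have h1 : (a₂ : ℤ) = Q + t + 1 := by linarith
    have h2 : (a₁ : ℤ) = Q - t + 1 := by linarith
    have h1' : a₂ = Q + t + 1 := by exact_mod_cast h1
    have h2' : a₁ + t = Q + 1 := by
      have : (a₁ : ℤ) + t = Q + 1 := by linarith
      exact_mod_cast this
    exact ⟨by omega, h1'⟩

end Cfsg.Agent.Helper70.ReeCount
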