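import Mathlib

/-!
# Piece (FIX2) of helper9's WANTED #5498 (S1158): the Burnside count for a 2-transitive action
-/

set_option autoImplicit false
set_option linter.style.haveILetI false

namespace Cfsg.Agent.Helper70.ReeCount

open MulAction

/-- the fixed points on pairs -/
theorem card_fixedBy_prod {G Ω : Type*} [Group G] [MulAction G Ω] [Finite Ω] (g : G) :
    Nat.card (fixedBy (Ω × Ω) g) = Nat.card (fixedBy Ω g) ^ 2 := by
  rw [sq, ← Nat.card_prod]
  refine Nat.card_congr
    { toFun := fun z => (⟨z.1.1, by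
          have := z.2
          rw [mem_fixedBy, Prod.ext_iff] at this
          exact this.1⟩, ⟨z.1.2, by
          have := z.2
          rw [mem_fixedBy, Prod.ext_iff] at this
          exact this.2⟩)
      invFun := fun z => ⟨(z.1.1, z.2.1), by
          rw [mem_fixedBy, Prod.ext_iff]
          exact ⟨z.1.2, z.2.2⟩⟩
      left_inv := fun z => rfl
      right_inv := fun z => rfl }

/-- a 2-transitive action on at least two points is transitive -/
theorem trans_of_two_trans {G Ω : Type*} [Group G] [MulAction G Ω] [Finite Ω]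
    (hΩ : 2 ≤ Nat.card Ω)
    (h2 : ∀ x y x' y' : Ω, x ≠ y → x' ≠ y' → ∃ g : G, g • x = x' ∧ g • y = y') (x x' : Ω) :
    ∃ g : G, g • x = x' := by
  have hne : ∀ a : Ω, ∃ b : Ω, a ≠ b := by
    intro a
    by_contra hcon
    push Not at hcon
    have hsub : Subsingleton Ω := ⟨fun u v => (hcon u).symm.trans (hcon v)⟩
    have := Finite.card_le_one_iff_subsingleton.mpr hsub
    omega
  obtain ⟨y, hy⟩ := hne x
  obtain ⟨y', hy'⟩ := hne x'
  obtain ⟨g, hg, -⟩ := h2 x y x' y' hy hy'
  exact ⟨g, hg⟩

/-- **(FIX2)** the Burnside count for a 2-transitive action. -/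
theorem two_transitive_count {G Ω : Type*} [Group G] [Finite G] [MulAction G Ω] [Finite Ω]
    (hΩ : 2 ≤ Nat.card Ω)
    (h2 : ∀ x y x' y' : Ω, x ≠ y → x' ≠ y' → ∃ g : G, g • x = x' ∧ g • y = y') (k : ℕ)
    (hk : 2 ≤ k)
    (hfix : ∀ g : G, g ≠ 1 →
      Nat.card (MulAction.fixedBy Ω g) ≤ 2 ∨ Nat.card (MulAction.fixedBy Ω g) = k + 1) :
    2 * Nat.card {g : G // Nat.card (MulAction.fixedBy Ω g) = 0} +
      k * (k - 1) * Nat.card {g : G // g ≠ 1 ∧ Nat.card (MulAction.fixedBy Ω g) = k + 1} +
      (Nat.card Ω - 1) * (Nat.card Ω - 2) = Nat.card G := by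
  classical
  haveI : Fintype G := Fintype.ofFinite G
  haveI : Fintype Ω := Fintype.ofFinite Ω
  have htr := trans_of_two_trans hΩ h2
  have hnonempty : Nonempty Ω := by
    have : 0 < Nat.card Ω := by omega
    exact (Nat.card_pos_iff.mp this).1
  obtain ⟨x0⟩ := hnonempty
  have hne : ∀ a : Ω, ∃ b : Ω, a ≠ b := by
    intro a
    by_contra hcon
    push Not at hcon
    have hsub : Subsingleton Ω := ⟨fun u v => (hcon u).symm.trans (hcon v)⟩
    have := Finite.card_le_one_iff_subsingleton.mpr hsub
    omega
  -- one orbit on points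
  have horb1 : Fintype.card (Quotient (orbitRel G Ω)) = 1 := by
    rw [Fintype.card_eq_one_iff]
    refine ⟨Quotient.mk _ x0, ?_⟩
    intro q
    induction q using Quotient.inductionOn with
    | _ x =>
      apply Quotient.sound
      show x ∈ orbit G x0
      obtain ⟨g, hg⟩ := htr x0 x
      exact ⟨g, hg⟩
  -- two orbits on pairs
  have horb2 : Fintype.card (Quotient (orbitRel G (Ω × Ω))) = 2 := by
    let f : Quotient (orbitRel G (Ω × Ω)) → Bool :=
      Quotient.lift (fun z : Ω × Ω => decide (z.1 = z.2)) (by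
        intro a b hab
        have h1 : a ∈ orbit G b := hab
        obtain ⟨g, hg⟩ := h1
        have h3 : a.1 = g • b.1 := by rw [← hg]; rfl
        have h4 : a.2 = g • b.2 := by rw [← hg]; rfl
        show decide (a.1 = a.2) = decide (b.1 = b.2)
        rw [h3, h4]
        congr 1
        exact propext (smul_left_cancel_iff g))
    have hf : Function.Bijective f := by
      constructor
      · intro a b hab
        induction a using Quotient.inductionOn with
        | _ a =>
        induction b using Quotient.inductionOn with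
        | _ b =>
        have h1 : decide (a.1 = a.2) = decide (b.1 = b.2) := hab
        apply Quotient.sound
        show a ∈ orbit G b
        by_cases ha : a.1 = a.2
        · have hb : b.1 = b.2 := by
            by_contra hb
            simp [ha, hb] at h1
          obtain ⟨g, hg⟩ := htr b.1 a.1
          refine ⟨g, ?_⟩
          apply Prod.ext
          · exact hg
          · show g • b.2 = a.2
            rw [← hb, ← ha]
            exact hg
        · have hb : b.1 ≠ b.2 := by
            intro hb
            simp [ha, hb] at h1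
          obtain ⟨g, hg1, hg2⟩ := h2 b.1 b.2 a.1 a.2 hb ha
          exact ⟨g, Prod.ext hg1 hg2⟩
      · intro b
        cases b with
        | true => exact ⟨Quotient.mk _ (x0, x0), by simp [f]⟩
        | false =>
          obtain ⟨y0, hy0⟩ := hne x0
          exact ⟨Quotient.mk _ (x0, y0), by simp [f, hy0]⟩
    rw [Fintype.card_of_bijective hf, Fintype.card_bool]
  have hB1 := sum_card_fixedBy_eq_card_orbits_mul_card_group G Ω
  have hB2 := sum_card_fixedBy_eq_card_orbits_mul_card_group G (Ω × Ω)
  rw [horb1, one_mul] at hB1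
  rw [horb2] at hB2
  -- integer-valued fixed point numbers
  set F : G → ℤ := fun g => (Nat.card (fixedBy Ω g) : ℤ) with hF
  have hS1 : ∑ g : G, F g = (Fintype.card G : ℤ) := by
    rw [← hB1]
    push_cast
    refine Finset.sum_congr rfl (fun g _ => ?_)
    simp only [hF, Nat.card_eq_fintype_card]
  have hS2 : ∑ g : G, F g ^ 2 = 2 * (Fintype.card G : ℤ) := by
    have : ((∑ g : G, Fintype.card (fixedBy (Ω × Ω) g) : ℕ) : ℤ) = 2 * (Fintype.card G : ℤ) := by
      rw [hB2]; push_cast; ring
    rw [← this]
    push_cast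
    refine Finset.sum_congr rfl (fun g _ => ?_)
    simp only [hF]
    rw [← Nat.card_eq_fintype_card, card_fixedBy_prod]
    push_cast
    ring
  have hS3 : ∑ g : G, (F g - 1) * (F g - 2) = (Fintype.card G : ℤ) := by
    have h1 : ∀ g : G, (F g - 1) * (F g - 2) = F g ^ 2 - 3 * F g + 2 := fun g => by ring
    rw [Finset.sum_congr rfl (fun g _ => h1 g), Finset.sum_add_distrib, Finset.sum_sub_distrib,
      hS2, ← Finset.mul_sum, hS1]
    simp
    ring
  -- split
  obtain ⟨n', hn'⟩ : ∃ n', Nat.card Ω = n' + 2 := ⟨Nat.card Ω - 2, by omega⟩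
  obtain ⟨k', hk'⟩ : ∃ k', k = k' + 2 := ⟨k - 2, by omega⟩
  have hF1 : F 1 = (n' : ℤ) + 2 := by
    simp only [hF]
    have : Nat.card (fixedBy Ω (1 : G)) = Nat.card Ω := by
      rw [fixedBy_one_eq_univ]
      exact Nat.card_congr (Equiv.Set.univ Ω)
    rw [this, hn']
    push_cast
    ring
  have hpt : ∀ g : G, (F g - 1) * (F g - 2) =
      (if g = 1 then ((n' : ℤ) + 1) * n' else 0) +
      2 * (if Nat.card (fixedBy Ω g) = 0 then 1 else 0) +
      ((k' : ℤ) + 2) * (k' + 1) *
        (if g ≠ 1 ∧ Nat.card (fixedBy Ω g) = k + 1 then 1 else 0) := by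
    intro g
    have hFg : F g = ((Nat.card (fixedBy Ω g) : ℕ) : ℤ) := rfl
    rw [hFg]
    by_cases hg : g = 1
    · have hc : Nat.card (fixedBy Ω g) = n' + 2 := by
        rw [hg, fixedBy_one_eq_univ, ← hn']
        exact Nat.card_congr (Equiv.Set.univ Ω)
      rw [if_pos hg, if_neg (by omega), if_neg (fun hh => hh.1 hg), hc]
      push_cast
      ring
    · rw [if_neg hg]
      rcases hfix g hg with h | h
      · have hk1 : ¬ (g ≠ 1 ∧ Nat.card (fixedBy Ω g) = k + 1) := fun hh => by omega
        rw [if_neg hk1]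
        have hc : Nat.card (fixedBy Ω g) = 0 ∨ Nat.card (fixedBy Ω g) = 1 ∨
            Nat.card (fixedBy Ω g) = 2 := by omega
        rcases hc with hc | hc | hc
        · rw [if_pos hc, hc]
          push_cast
          ring
        · rw [if_neg (by omega), hc]
          push_cast
          ring
        · rw [if_neg (by omega), hc]
          push_cast
          ring
      · rw [if_neg (by omega), if_pos ⟨hg, h⟩, h, hk']
        push_cast
        ring
  rw [Finset.sum_congr rfl (fun g _ => hpt g), Finset.sum_add_distrib, Finset.sum_add_distrib,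
    Finset.sum_ite_eq' Finset.univ (1 : G), ← Finset.mul_sum, ← Finset.mul_sum,
    Finset.sum_boole, Finset.sum_boole] at hS3
  simp only [Finset.mem_univ, if_true] at hS3
  rw [Nat.card_eq_fintype_card (α := G), Nat.card_eq_fintype_card
      (α := {g : G // Nat.card (fixedBy Ω g) = 0}),
    Nat.card_eq_fintype_card (α := {g : G // g ≠ 1 ∧ Nat.card (fixedBy Ω g) = k + 1}),
    Fintype.card_subtype, Fintype.card_subtype, hn', hk']
  have e1 : n' + 2 - 1 = n' + 1 := by omega
  have e2 : n' + 2 - 2 = n' := by omega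
  have e3 : k' + 2 - 1 = k' + 1 := by omega
  rw [e1, e2, e3]
  rw [hk'] at hS3
  have h' : (n' + 1) * n' +
      2 * (Finset.univ.filter (fun x : G => Nat.card (fixedBy Ω x) = 0)).card +
      (k' + 2) * (k' + 1) *
        (Finset.univ.filter (fun x : G => x ≠ 1 ∧ Nat.card (fixedBy Ω x) = k' + 2 + 1)).card =
      Fintype.card G := by
    exact_mod_cast hS3
  rw [← h']
  ring
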