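import Mathlib
import Cfsg.Agent.Helper47.SGDefs
import Cfsg.Agent.Lib.Cores
import Cfsg.Agent.S0032
import Cfsg.Agent.Helper70.FrattiniAction

set_option autoImplicit false

/-!
# Shult–Gross (S3793), piece W13: the Fitting chain from Claim A, by induction on `n`
(for helper47).
-/

namespace Cfsg.Agent.Helper70.SG

open Cfsg.Agent.Helper47.SG
open scoped commutatorElement

universe u

/-- W13: the chain, by induction on `n`. -/
theorem sg_chain_of (hA : ClaimAStmt.{u}) {p : ℕ} (hp : p.Prime) (hp2 : p ≠ 2) :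
    ∀ (n : ℕ) (G : Type u) [Group G] [Finite G], Group.IsSolvable G → ∀ σ : MulAut G,
      σ ^ (p ^ n) = 1 → (∀ g : G, σ g = g → g = 1) →
      ∃ F : Fin (n + 1) → Subgroup G, F 0 = ⊥ ∧ F (Fin.last n) = ⊤ ∧ Monotone F ∧
        (∀ i, (F i).Normal) ∧
        ∀ i : Fin n, ∃ k : ℕ, (F i.succ).lowerCentralSeries k ≤ F i.castSucc := by
  intro n
  induction n with
  | zero =>
    intro G _ _ _ σ hσ hfpf
    have hσ1 : σ = 1 := by simpa using hσ
    have htriv : ∀ g : G, g = 1 := fun g => hfpf g (by rw [hσ1]; rfl)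
    have hbt : (⊥ : Subgroup G) = ⊤ := by
      ext g
      rw [htriv g]
      simp
    refine ⟨fun _ => ⊥, rfl, hbt, fun _ _ _ => le_rfl, fun _ => inferInstance, fun i => i.elim0⟩
  | succ n ih =>
    intro G _ _ hG σ hσ hfpf
    have hchar : (Cfsg.fittingSubgroup G).Characteristic :=
      Cfsg.Agent.Lib.fittingSubgroup_characteristic
    set N : Subgroup G := Cfsg.fittingSubgroup G with hNdef
    have hNn : N.Normal := inferInstance
    have hnil : Group.IsNilpotent N := Cfsg.Agent.Lib.isNilpotent_fittingSubgroup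
    let σb : MulAut (G ⧸ N) := Cfsg.Agent.Helper70.autQuot N σ
    have hσb : σb ^ (p ^ n) = 1 := by
      have h1 : σb ^ (p ^ n) = Cfsg.Agent.Helper70.autQuot N (σ ^ (p ^ n)) :=
        (map_pow (Cfsg.Agent.Helper70.autQuot N) σ (p ^ n)).symm
      rw [h1]
      ext x
      induction x using QuotientGroup.induction_on with
      | H g =>
        rw [Cfsg.Agent.Helper70.autQuot_mk]
        change ((σ ^ (p ^ n)) g : G ⧸ N) = (g : G ⧸ N)
        rw [QuotientGroup.eq]
        have h2 := hA G p n σ hG hp hp2 hσ hfpf g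
        -- conjugate into `N`
        generalize (σ ^ (p ^ n)) g = t at h2 ⊢
        have h4 : t⁻¹ * g = t⁻¹ * (t * g⁻¹)⁻¹ * (t⁻¹)⁻¹ := by
          group
        rw [h4]
        exact hNn.conj_mem _ (N.inv_mem h2) _
    have hσN : ∀ x ∈ N, σ x ∈ N := by
      intro x hx
      have := (Subgroup.characteristic_iff_map_eq.mp hchar σ)
      rw [← this]
      exact Subgroup.mem_map_of_mem _ hx
    have hfpfb : ∀ x : G ⧸ N, σb x = x → x = 1 := by
      intro x
      induction x using QuotientGroup.induction_on with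
      | H g =>
        intro hx
        rw [show σb (g : G ⧸ N) = ((σ g : G) : G ⧸ N) from rfl, QuotientGroup.eq] at hx
        have hg : g ∈ N := Cfsg.Agent.S0032.result σ hfpf N hσN g hx
        exact (QuotientGroup.eq_one_iff g).mpr hg
    have : Finite (G ⧸ N) := inferInstance
    have hGb : Group.IsSolvable (G ⧸ N) := inferInstance
    obtain ⟨Fb, hFb0, hFbl, hFbm, hFbn, hFbc⟩ := ih (G ⧸ N) hGb σb hσb hfpfb
    let π := QuotientGroup.mk' N
    have hπ : Function.Surjective π := QuotientGroup.mk'_surjective N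
    refine ⟨Fin.cons ⊥ (fun i => (Fb i).comap π), ?_, ?_, ?_, ?_, ?_⟩
    · rfl
    · rw [show Fin.last (n + 1) = (Fin.last n).succ from (Fin.succ_last n).symm, Fin.cons_succ,
        hFbl]
      rfl
    · intro i j hij
      rcases Fin.eq_zero_or_eq_succ i with rfl | ⟨i', rfl⟩
      · rw [Fin.cons_zero]; exact bot_le
      · rcases Fin.eq_zero_or_eq_succ j with rfl | ⟨j', rfl⟩
        · exact absurd hij (by simp)
        · rw [Fin.cons_succ, Fin.cons_succ]
          exact Subgroup.comap_mono (hFbm (Fin.succ_le_succ_iff.mp hij))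
    · intro i
      rcases Fin.eq_zero_or_eq_succ i with rfl | ⟨i', rfl⟩
      · rw [Fin.cons_zero]; infer_instance
      · rw [Fin.cons_succ]
        have := hFbn i'
        infer_instance
    · intro i
      rcases Fin.eq_zero_or_eq_succ i with rfl | ⟨i', rfl⟩
      · -- `F 1 = N` is nilpotent
        have h1 : (Fin.cons ⊥ (fun i => (Fb i).comap π) : Fin (n + 2) → Subgroup G)
            (Fin.succ 0) = N := by
          rw [Fin.cons_succ, hFb0, MonoidHom.comap_bot, QuotientGroup.ker_mk']
        obtain ⟨k, hk⟩ := (Subgroup.isNilpotent_iff_lowerCentralSeries N).mp hnil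
        refine ⟨k, ?_⟩
        rw [h1, hk]
        exact bot_le
      · obtain ⟨k, hk⟩ := hFbc i'
        refine ⟨k, ?_⟩
        rw [show (Fin.succ i').castSucc = (i'.castSucc).succ from rfl]
        rw [Fin.cons_succ, Fin.cons_succ]
        rw [← Subgroup.map_le_iff_le_comap]
        have h2 : ((Fb i'.succ).comap π).map π = Fb i'.succ :=
          Subgroup.map_comap_eq_self_of_surjective hπ _
        rw [Subgroup.map_lowerCentralSeries, h2]
        exact hk

end Cfsg.Agent.Helper70.SG
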