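import Cfsg.Agent.Helper70.SN_PGLCore
import Cfsg.Agent.Helper5.PSL2Simple
import Cfsg.Agent.Helper46.PSL2Card

/-!
# SN farm (helper74, S4073), piece (PGL): `NAN (PGL_2(2^k))`  [D6b]

Self-contained: the `PSL_2` input (D6a) is proved here under a private name, so this file does not
wait on the (PSL) piece.
-/

set_option autoImplicit false
set_option linter.unusedSectionVars false
set_option linter.unusedVariables false
set_option linter.dupNamespace false

namespace Cfsg.Agent.Helper70.SNG

open Cfsg Cfsg.Agent.Helper74.SNG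

universe u

/-- a group of order dividing 6, other than 6, is abelian -/
theorem PGL_comm_of_card_dvd_six {J : Type*} [Group J] (h : Nat.card J ∣ 6) (h6 : Nat.card J ≠ 6) :
    IsMulCommutative J := by
  have hle : Nat.card J ≤ 6 := Nat.le_of_dvd (by norm_num) h
  have hcases : Nat.card J = 1 ∨ Nat.card J = 2 ∨ Nat.card J = 3 := by
    generalize Nat.card J = n at *
    interval_cases n <;> simp_all
  rcases hcases with h1 | h2 | h3
  · have : Finite J := Nat.finite_of_card_ne_zero (by omega)
    have : Subsingleton J := (Nat.card_eq_one_iff_unique.mp h1).1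
    exact ⟨⟨fun a b => Subsingleton.elim _ _⟩⟩
  · have : Fact (Nat.Prime 2) := ⟨Nat.prime_two⟩
    have := isCyclic_of_prime_card h2
    infer_instance
  · have : Fact (Nat.Prime 3) := ⟨Nat.prime_three⟩
    have := isCyclic_of_prime_card h3
    infer_instance

/-- (D6a), private copy: `PSL_2(2^k)` has `NAN` -/
theorem PGL_NAN_PSL2_char_two {K : Type*} [Field K] [Fintype K] (k : ℕ)
    (hK : Fintype.card K = 2 ^ k) : NAN (Matrix.ProjectiveSpecialLinearGroup (Fin 2) K) := by
  have hk0 : k ≠ 0 := by
    intro h0
    rw [h0, pow_zero] at hK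
    have := Fintype.one_lt_card (α := K)
    omega
  rcases Nat.lt_or_ge k 2 with hk | hk
  · have hk1 : k = 1 := by omega
    subst hk1
    have hcard : Nat.card (Matrix.ProjectiveSpecialLinearGroup (Fin 2) K) = 6 := by
      have h := Cfsg.Agent.Helper46.Dk.card_PSL2_mul_gcd' (F := K)
      rw [hK] at h
      simpa using h
    intro J hJ hna
    by_contra hne
    apply hna
    have hdvd : Nat.card J ∣ 6 := hcard ▸ Subgroup.card_subgroup_dvd_card J
    apply PGL_comm_of_card_dvd_six hdvd
    intro h6
    apply hne
    rw [← Subgroup.card_eq_iff_eq_top, h6, hcard]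
  · have : IsSimpleGroup (Matrix.ProjectiveSpecialLinearGroup (Fin 2) K) := by
      apply Cfsg.Agent.Helper5.isSimpleGroup_PSL2_of_card
      rw [hK]
      calc 4 = 2 ^ 2 := by norm_num
        _ ≤ 2 ^ k := Nat.pow_le_pow_right (by norm_num) hk
    intro J hJ hna
    rcases hJ.eq_bot_or_eq_top with h | h
    · exfalso
      apply hna
      rw [Cfsg.Agent.Helper74.SNG.isMulCommutative_iff]
      intro a ha b hb
      rw [h, Subgroup.mem_bot] at ha hb
      rw [ha, hb]
    · exact h

/-- (D6b) `PGL_2(2^k)`: `toPGL` is surjective in characteristic `2`, then `NAN.of_surjective`. -/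
theorem NAN_PGL2_char_two {K : Type*} [Field K] [Fintype K] (k : ℕ)
    (hK : Fintype.card K = 2 ^ k) : NAN (Matrix.ProjGenLinGroup (Fin 2) K) :=
  NAN_PGL2_char_two_of k hK (PGL_NAN_PSL2_char_two k hK)

end Cfsg.Agent.Helper70.SNG
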