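import Cfsg.Agent.Helper74.SN.Defs

/-!
# SN farm (helper74, S4073), piece (PGL), core: `PSL_2 → PGL_2` is surjective over a finite field of
characteristic 2, so `NAN` passes from `PSL_2` to `PGL_2`
-/

set_option autoImplicit false
set_option linter.unusedSectionVars false
set_option linter.unusedVariables false
set_option linter.dupNamespace false

namespace Cfsg.Agent.Helper70.SNG

open Cfsg Cfsg.Agent.Helper74.SNG

universe u

/-- `toPGL` is surjective over a finite field with `2^k` elements -/
theorem PGL_toPGL_surjective {K : Type*} [Field K] [Fintype K] (k : ℕ)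
    (hK : Fintype.card K = 2 ^ k) :
    Function.Surjective
      (Matrix.ProjectiveSpecialLinearGroup.toPGL (n := Fin 2) (R := K)) := by
  have hk : k ≠ 0 := by
    intro h0
    rw [h0, pow_zero] at hK
    have := Fintype.one_lt_card (α := K)
    omega
  have hch : ringChar K = 2 := by
    rw [FiniteField.even_card_iff_char_two, hK]
    obtain ⟨j, rfl⟩ := Nat.exists_eq_succ_of_ne_zero hk
    rw [pow_succ]
    omega
  apply Matrix.ProjectiveSpecialLinearGroup.toPGL_surj_of_roots
  intro r
  obtain ⟨s, hs⟩ := FiniteField.isSquare_of_char_two hch (r : K)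
  have hs0 : s ≠ 0 := by
    rintro rfl
    rw [mul_zero] at hs
    exact r.ne_zero hs
  refine ⟨Units.mk0 s hs0, ?_⟩
  apply Units.ext
  rw [Fintype.card_fin, Units.val_pow_eq_pow_val, Units.val_mk0, pow_two, hs]

/-- (D6b) core: `NAN` passes from `PSL_2(2^k)` to `PGL_2(2^k)` -/
theorem NAN_PGL2_char_two_of {K : Type*} [Field K] [Fintype K] (k : ℕ)
    (hK : Fintype.card K = 2 ^ k)
    (hPSL : NAN (Matrix.ProjectiveSpecialLinearGroup (Fin 2) K)) :
    NAN (Matrix.ProjGenLinGroup (Fin 2) K) :=
  NAN.of_surjective Matrix.ProjectiveSpecialLinearGroup.toPGL (PGL_toPGL_surjective k hK) hPSL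

end Cfsg.Agent.Helper70.SNG
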