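import Mathlib
import Cfsg.Agent.Helper38.SU2G.Defs

/-!
# helper38 S2412 (PSU_n(q) two-generated), piece (B0f) (#11642): from the root groups `E(f_i, t e_{i+1}, 0)`
and `E(f_last, t f_0, 0)` to all root groups `E(f_0, t e_j, 0)`, `E(f_0, t f_j, 0)`, `j ≠ 0`.
-/

set_option autoImplicit false
set_option linter.unusedSectionVars false

namespace Cfsg.Agent.Helper70.SU2G

open Matrix Cfsg.Agent.Helper84.PSU Cfsg.Agent.Helper38.SU2G

variable {K : Type*} [Field K] {m r : ℕ}

local notation "Vec" => (I (m + 2) r → K)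
local notation "Mat" => Matrix (I (m + 2) r) (I (m + 2) r) K

variable (bar : K →+* K) (hb : ∀ x, bar (bar x) = x)

set_option quotPrecheck false in
local notation "SUk" => ↥(SUm (m + 2) r bar)

include hb in
/-- one step: an element `M` of `L` fixing `u` and mapping `y ↦ y + β y'` carries the root group
`{E(u, t y, 0)}` to the root group `{E(u, t y', 0)}` -/
theorem rgz_step {L : Subgroup SUk} {u y y' : Vec} {M : Mat} {β : K}
    (huu : hf bar u u = 0) (hyu : hf bar y u = 0) (hy'u : hf bar y' u = 0)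
    (hyy : hf bar y y = 0) (hyy' : hf bar y y' = 0)
    (hM : HasM bar L M) (hMu : M *ᵥ u = u) (hMy : M *ᵥ y = y + β • y') (hβ : β ≠ 0)
    (h : RGz bar L u y) : RGz bar L u y' := by
  intro t
  have h1 := hasM_conj_eichM bar L hM (h (t / β))
  rw [hMu, Matrix.mulVec_smul, hMy] at h1
  have h2 := h (-(t / β))
  have e1 : hf bar ((t / β) • (y + β • y')) u = 0 := by
    rw [hf_smul_left, hf_add_left, hf_smul_left, hyu, hy'u]; ring
  have e2 : hf bar ((-(t / β)) • y) u = 0 := by
    rw [hf_smul_left, hyu]; ring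
  have h3 := HasM.eich_mul bar hb huu e1 e2 h1 h2
  refine h3.of_eq bar ?_
  have e3 : (t / β) • (y + β • y') + (-(t / β)) • y = t • y' := by
    have : t / β * β = t := by field_simp
    calc (t / β) • (y + β • y') + (-(t / β)) • y = (t / β * β) • y' := by module
      _ = t • y' := by rw [this]
  have e4 : (0 : K) + 0 - hf bar ((-(t / β)) • y) ((t / β) • (y + β • y')) = 0 := by
    rw [hf_smul_left, hf_smul_right, hf_add_right, hf_smul_right, hyy, hyy']; ring
  rw [e3, e4]

/-- the matrix `E(f_j, e_{j'}, 0)` -/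
theorem g_mulVec (j j' : Fin (m + 2)) (x : Vec) :
    eichM bar (vF j) (vE j') 0 *ᵥ x =
      x + hf bar x (vF j : Vec) • (vE j' : Vec) - hf bar x (vE j' : Vec) • (vF j : Vec) := by
  rw [eichM_mulVec, zero_mul, zero_smul, add_zero]

theorem g_fix_f0 (j j' : Fin (m + 2)) (hj' : j' ≠ i0) :
    eichM bar (vF j) (vE j') 0 *ᵥ (vF i0 : Vec) = vF i0 := by
  rw [g_mulVec]
  unfold vF vE
  rw [hf_bv_ff, hf_bv_fe, if_neg (fun h => hj' h.symm)]
  simp

theorem g_e (j j' : Fin (m + 2)) :
    eichM bar (vF j) (vE j') 0 *ᵥ (vE j : Vec) = vE j + (1 : K) • (vE j' : Vec) := by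
  rw [g_mulVec]
  unfold vF vE
  rw [hf_bv_ef, hf_bv_ee, if_pos rfl]
  simp

theorem g_f (j j' : Fin (m + 2)) :
    eichM bar (vF j) (vE j') 0 *ᵥ (vF j' : Vec) = vF j' + (-1 : K) • (vF j : Vec) := by
  rw [g_mulVec]
  unfold vF vE
  rw [hf_bv_ff, hf_bv_fe, if_pos rfl]
  simp [sub_eq_add_neg]

include hb in
/-- (B0f) the mirror image of (B0e): `g = E(f_j, e_{j+1}, 0)` fixes `f_0`, maps `e_j ↦ e_j + e_{j+1}` and
`f_{j+1} ↦ f_{j+1} - f_j`. -/
theorem b0f_piece (L : Subgroup SUk)
    (h1 : ∀ (i : Fin (m + 2)) (h : i.val + 1 < m + 2), RGz bar L (vF i) (vE ⟨i.val + 1, h⟩))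
    (h2 : RGz bar L (vF il) (vF i0)) :
    (∀ j : Fin (m + 2), j ≠ i0 → RGz bar L (vF i0) (vE j)) ∧ (∀ j : Fin (m + 2), j ≠ i0 → RGz bar L (vF i0) (vF j)) := by
  -- the elements `g_j = E(f_j, e_{j+1}, 0)` of `L`
  have hg : ∀ (j : Fin (m + 2)) (h : j.val + 1 < m + 2),
      HasM bar L (eichM bar (vF j) (vE ⟨j.val + 1, h⟩) 0) := by
    intro j h
    have := h1 j h 1
    rwa [one_smul] at this
  have hne : ∀ (j : Fin (m + 2)) (h : j.val + 1 < m + 2), (⟨j.val + 1, h⟩ : Fin (m + 2)) ≠ i0 := by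
    intro j h h0
    have := congrArg Fin.val h0
    simp [i0] at this
  have hf0 : ∀ j : Fin (m + 2), j ≠ i0 → hf bar (vE j : Vec) (vF i0 : Vec) = 0 := by
    intro j hj
    unfold vE vF
    rw [hf_bv_ef, if_neg hj]
  constructor
  · -- upward induction
    have key : ∀ (n : ℕ) (hn : n + 1 < m + 2), RGz bar L (vF i0) (vE ⟨n + 1, hn⟩) := by
      intro n
      induction n with
      | zero => intro hn; exact h1 i0 hn
      | succ n ih =>
        intro hn
        have hn' : n + 1 < m + 2 := by omega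
        set j : Fin (m + 2) := ⟨n + 1, hn'⟩ with hj
        have hjv : j.val + 1 < m + 2 := hn
        have hj0 : j ≠ i0 := hne ⟨n, by omega⟩ hn'
        refine rgz_step bar hb (y := vE j) (β := 1) (M := eichM bar (vF j) (vE ⟨j.val + 1, hjv⟩) 0)
          ?_ (hf0 j hj0) (hf0 _ (hne j hjv)) ?_ ?_ (hg j hjv) (g_fix_f0 bar j _ (hne j hjv))
          (g_e bar j _) one_ne_zero (ih hn')
        · unfold vF; exact hf_bv_ff bar _ _
        · unfold vE; exact hf_bv_ee bar _ _
        · unfold vE; exact hf_bv_ee bar _ _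
    intro j hj
    have hjpos : 0 < j.val := by
      rcases Nat.eq_zero_or_pos j.val with h | h
      · exact absurd (Fin.ext h) hj
      · exact h
    have := key (j.val - 1) (by omega)
    have e : (⟨j.val - 1 + 1, by omega⟩ : Fin (m + 2)) = j := Fin.ext (by simp; omega)
    rwa [e] at this
  · -- downward induction
    have hlast : RGz bar L (vF i0) (vF il) := by
      intro s
      have := h2 (bar (-s))
      refine this.of_eq bar ?_
      rw [eichM_swap, eichM_smul_left bar hb, hb, mul_zero]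
      congr 1
      module
    have key : ∀ (d : ℕ) (j : Fin (m + 2)), j.val + d = m + 1 → RGz bar L (vF i0) (vF j) := by
      intro d
      induction d with
      | zero =>
        intro j hj
        have : j = il := Fin.ext (by simpa [il] using hj)
        rw [this]; exact hlast
      | succ d ih =>
        intro j hj
        have hjv : j.val + 1 < m + 2 := by omega
        have ih' := ih ⟨j.val + 1, hjv⟩ (by simp; omega)
        refine rgz_step bar hb (y := vF ⟨j.val + 1, hjv⟩) (β := -1)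
          (M := eichM bar (vF j) (vE ⟨j.val + 1, hjv⟩) 0)
          ?_ ?_ ?_ ?_ ?_ (hg j hjv) (g_fix_f0 bar j _ (hne j hjv)) (g_f bar j _) (by simp) ih'
        all_goals (unfold vF; exact hf_bv_ff bar _ _)
    intro j _
    exact key (m + 1 - j.val) j (by have := j.2; omega)

end Cfsg.Agent.Helper70.SU2G
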