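-- helper70: piece (WZ) `exists_zword` of helper84's farm #12729 (S2289 part 2).
import Mathlib
import Cfsg.Agent.Helper84.SU3P.Defs

set_option autoImplicit false

namespace Cfsg.Agent.Helper70.SU3P

open Matrix Polynomial Cfsg.Agent.Helper84.RU3 Cfsg.Agent.Helper96.SLPres
  Cfsg.Agent.Helper96.StemSLTwo Cfsg.Agent.Helper96.StPres Cfsg.Agent.Helper84.SU3P

variable {K : Type*} [Field K] [Fintype K] (bar : K →+* K) (hb : ∀ x, bar (bar x) = x)

include hb

/-- (WZ) words for the central root group -/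
theorem exists_zword {p : ℕ} [Fact p.Prime] {K₀ : Type*} [Field K₀] [Finite K₀] [Algebra (ZMod p) K₀]
    (ι : K₀ →+* K) (hιfix : ∀ x : K, bar x = x → ∃ y : K₀, ι y = x)
    {c₀ : K} (hc₀ : c₀ ≠ 0) (hc₀b : bar c₀ = -c₀)
    (eL : SL2 K₀ →* SUJ bar) (heL : ∀ g : SL2 K₀, mt bar (eL g) = eLM ι c₀ g.1)
    {z : K₀} (hz0 : z ≠ 0) (hz : ∀ s : K₀, s ≠ 0 → ∃ n : ℕ, z ^ n = s)
    (g : SUJ bar) (s : K) (hg : mt bar g = uM bar 0 s) :
    ∃ f : (ZMod p)[X], PW p (eL (dMat z hz0)) (eL (uMat K₀ 1)) f = g ∧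
      ι (aeval (z ^ 2) f) * c₀ = s := by
  -- the hermitian condition on `s`
  have hU := isUn_mt bar g
  rw [hg] at hU
  have hs : s + bar s = 0 := by
    unfold IsUn uM Jm at hU
    have h22 := congrFun (congrFun hU 2) 2
    simp [Matrix.mul_apply, Fin.sum_univ_three] at h22
    rw [add_comm]
    exact h22
  have hbs : bar s = -s := by
    rw [eq_neg_iff_add_eq_zero, add_comm]; exact hs
  have hfix : bar (s / c₀) = s / c₀ := by
    rw [map_div₀, hbs, hc₀b, neg_div_neg_eq]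
  obtain ⟨y, hy⟩ := hιfix _ hfix
  have hsurj := exists_poly_of_sq (p := p) (z ^ 2) (fun t ht => by
    obtain ⟨n, hn⟩ := hz t ht
    exact ⟨n, by rw [← hn]; ring⟩)
  obtain ⟨f, hf⟩ := hsurj y
  have hys : ι y * c₀ = s := by
    rw [hy]; field_simp
  refine ⟨f, ?_, ?_⟩
  · rw [← map_PW, PW_SL, hf]
    apply mt_injective bar
    rw [heL, hg, uMat_coe]
    unfold eLM uM
    rw [← hys]
    ext i j
    fin_cases i <;> fin_cases j <;> simp
  · rw [hf]; exact hys

end Cfsg.Agent.Helper70.SU3P
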