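import Cfsg.Agent.Helper70.ShultACfg

/-!
# Shult's theorem for `S₃` (S4305): piece (Aσ) modulo (L), (I), (S), (O2), (C) (helper70 for helper1)
-/

set_option autoImplicit false

namespace Cfsg.Agent.Helper70.ShultA

open Subgroup Cfsg.Agent.Helper1.Shult

variable {H : Type*} [Group H]

/-- The statement of piece (I) for the involution `τ`. -/
def IStmt (τ : H) : Prop :=
  ∀ (C K0 : Subgroup H), K0 ≤ C → C ≤ normalizer (K0 : Set H) → τ ∈ normalizer (C : Set H) →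
    τ ∈ normalizer (K0 : Set H) → Odd (Nat.card C) → C ⊓ centralizer {τ} ≤ K0 →
    ∀ a ∈ C, ∀ b ∈ C, a * b * a⁻¹ * b⁻¹ ∈ K0

/-- `τ` normalizes the centralizer of `σ`. -/
theorem comm_sigma_conj_tau {σ τ : H} (h : S3Pair σ τ) {x : H} (hx : σ * x = x * σ) :
    σ * (τ * x * τ⁻¹) = (τ * x * τ⁻¹) * σ := by
  have hx' : σ⁻¹ * x = x * σ⁻¹ := by
    calc σ⁻¹ * x = σ⁻¹ * (x * σ) * σ⁻¹ := by group
      _ = σ⁻¹ * (σ * x) * σ⁻¹ := by rw [hx]
      _ = x * σ⁻¹ := by group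
  have h1 : τ⁻¹ * σ * τ = σ⁻¹ := by
    have : τ⁻¹ * σ * τ = τ * σ * τ⁻¹ := by rw [tau_inv h]
    rw [this, h.rel]
  have h2 : τ * σ⁻¹ * τ⁻¹ = σ := by
    have : τ * σ⁻¹ * τ⁻¹ = (τ * σ * τ⁻¹)⁻¹ := by group
    rw [this, h.rel, inv_inv]
  calc σ * (τ * x * τ⁻¹) = τ * ((τ⁻¹ * σ * τ) * x) * τ⁻¹ := by group
    _ = τ * (σ⁻¹ * x) * τ⁻¹ := by rw [h1]
    _ = τ * (x * σ⁻¹) * τ⁻¹ := by rw [hx']
    _ = τ * x * τ⁻¹ * (τ * σ⁻¹ * τ⁻¹) := by group
    _ = τ * x * τ⁻¹ * σ := by rw [h2]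

/-- elements acting trivially on `Q` modulo `KD`. -/
def trivMod (Q KD : Subgroup H) : Subgroup H where
  carrier := {z | z ∈ normalizer (Q : Set H) ∧ z ∈ normalizer (KD : Set H) ∧
    ∀ x ∈ Q, x⁻¹ * (z * x * z⁻¹) ∈ KD}
  one_mem' := ⟨one_mem _, one_mem _, fun x _ => by simp⟩
  mul_mem' := by
    rintro a b ⟨ha1, ha2, ha3⟩ ⟨hb1, hb2, hb3⟩
    refine ⟨mul_mem ha1 hb1, mul_mem ha2 hb2, ?_⟩
    intro x hx
    have e : x⁻¹ * (a * b * x * (a * b)⁻¹)
        = (x⁻¹ * (a * x * a⁻¹)) * (a * (x⁻¹ * (b * x * b⁻¹)) * a⁻¹) := by group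
    rw [e]
    exact mul_mem (ha3 x hx) (conj_mem_of_normalizer ha2 (hb3 x hx))
  inv_mem' := by
    rintro a ⟨ha1, ha2, ha3⟩
    refine ⟨inv_mem ha1, inv_mem ha2, ?_⟩
    intro x hx
    have hx' : a⁻¹ * x * a ∈ Q := conj_inv_mem_of_normalizer ha1 hx
    have h1 := ha3 _ hx'
    have e : x⁻¹ * (a⁻¹ * x * a⁻¹⁻¹) = ((a⁻¹ * x * a)⁻¹ * (a * (a⁻¹ * x * a) * a⁻¹))⁻¹ := by group
    rw [e]
    exact inv_mem h1

theorem mem_trivMod {Q KD : Subgroup H} {z : H} : z ∈ trivMod Q KD ↔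
    z ∈ normalizer (Q : Set H) ∧ z ∈ normalizer (KD : Set H) ∧
      ∀ x ∈ Q, x⁻¹ * (z * x * z⁻¹) ∈ KD := Iff.rfl

section acfg

variable [Finite H] {q r : ℕ} [Fact q.Prime] [Fact r.Prime] {σ τ : H} {Q W Z1 K : Subgroup H}

theorem acfg_Q_norm_K (c : ACfg q r σ τ Q W Z1 K) : Q ≤ normalizer (K : Set H) := by
  apply le_normalizer_of_conj_mem
  intro x hx k hk
  rw [c.hK] at hk ⊢
  exact mem_inf.2 ⟨mul_mem (mul_mem hx hk.1) (inv_mem hx),
    conj_mem_centralizer (c.hQW hx) hk.2⟩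

theorem acfg_fix_le_K (c : ACfg q r σ τ Q W Z1 K) : Fix σ τ Q ≤ K := by
  intro f hf
  rw [c.hK]
  exact mem_inf.2 ⟨(mem_fix_iff.1 hf).1, c.hfixQ hf⟩

/-- `C_W(D)` is elementary abelian. -/
theorem acfg_isEA_fix (c : ACfg q r σ τ Q W Z1 K) (D : Subgroup H) :
    IsEA r (W ⊓ centralizer (D : Set H)) :=
  ⟨fun u hu v hv => c.hW.1 u hu.1 v hv.1, fun w hw => c.hW.2 w hw.1⟩

/-- an element normalizing `W` and `D` normalizes `C_W(D)`. -/
theorem norm_fix_of_norm {g : H} {W D : Subgroup H} (hW : g ∈ normalizer (W : Set H))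
    (hD : g ∈ normalizer (D : Set H)) :
    g ∈ normalizer ((W ⊓ centralizer (D : Set H) : Subgroup H) : Set H) := by
  apply mem_normalizer_fintype
  intro w hw
  exact mem_inf.2 ⟨conj_mem_of_normalizer hW hw.1, conj_mem_centralizer hD hw.2⟩

theorem odd_orderOf_of_isPGroup {q : ℕ} [hq : Fact q.Prime] (hq2 : q ≠ 2) {Z : Subgroup H}
    (hZ : IsPGroup q Z) {z : H} (hz : z ∈ Z) : Odd (orderOf z) := by
  obtain ⟨k, hk⟩ := hZ ⟨z, hz⟩
  have hk' : z ^ q ^ k = 1 := by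
    have := congrArg Subtype.val hk
    simpa using this
  have hdvd : orderOf z ∣ q ^ k := orderOf_dvd_of_pow_eq_one hk'
  exact Odd.of_dvd_nat ((hq.out.odd_of_ne_two hq2).pow) hdvd

/-- (Aσ) modulo (L), (I), (S), (O2), (C). -/
theorem lemmaA_sigma_of (hL : LStmt σ τ) (hI : IStmt τ) (c : ACfg q r σ τ Q W Z1 K)
    (D : Subgroup H) (hD : IsHyp q Z1 K D) (hσD : σ ∈ normalizer (D : Set H))
    (hS : (∃ x ∈ Q, x⁻¹ * (σ * x * σ⁻¹) ∉ centralizer ((W ⊓ centralizer (D : Set H) :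
      Subgroup H) : Set H)) → ∃ v ∈ W ⊓ centralizer (D : Set H), v ≠ 1 ∧ σ * v * σ⁻¹ = v)
    (hO2 : τ ∉ normalizer (D : Set H) → ∀ v ∈ W ⊓ centralizer (D : Set H), σ * v * σ⁻¹ = v → v = 1)
    (hC : τ ∈ normalizer (D : Set H) → ∀ z ∈ Z1, z⁻¹ * (σ * z * σ⁻¹) ∈ D) :
    ⁅Q, Q⁆ ≤ centralizer ((W ⊓ centralizer (D : Set H) : Subgroup H) : Set H) := by
  have hS3 := c.hS
  set W0 := W ⊓ centralizer (D : Set H) with hW0
  set KD := Q ⊓ centralizer (W0 : Set H) with hKD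
  have hQW0 : Q ≤ normalizer (W0 : Set H) := acfg_Q_norm_fix c hD
  have hQKD : Q ≤ normalizer (KD : Set H) := acfg_Q_norm_ker c hD
  have hσW0 : σ ∈ normalizer (W0 : Set H) := norm_fix_of_norm c.hWinv.1 hσD
  have hKDQ : KD ≤ Q := inf_le_left
  have hcop := acfg_card_coprime c
  by_cases hcase : ∀ x ∈ Q, x⁻¹ * (σ * x * σ⁻¹) ∈ centralizer (W0 : Set H)
  · -- CASE 1
    have hσKD : σ ∈ normalizer (KD : Set H) := by
      apply mem_normalizer_fintype
      intro k hk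
      exact mem_inf.2 ⟨conj_mem_of_normalizer c.hQinv.1 hk.1, conj_mem_centralizer hσW0 hk.2⟩
    have hσtriv : σ ∈ trivMod Q KD := by
      refine ⟨c.hQinv.1, hσKD, ?_⟩
      intro x hx
      exact mem_inf.2 ⟨mul_mem (inv_mem hx) (conj_mem_of_normalizer c.hQinv.1 hx), hcase x hx⟩
    have hzp : zpowers σ ≤ trivMod Q KD := (zpowers_le).2 hσtriv
    set C := Q ⊓ centralizer ({σ} : Set H) with hCdef
    have hCQ : C ≤ Q := inf_le_left
    -- every coset of KD in Q contains an element of C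
    have hσ3 : σ ^ 3 = 1 := by
      have := pow_orderOf_eq_one σ
      rwa [hS3.oσ] at this
    have hnot3 : ¬ 3 ∣ Nat.card KD := by
      intro h3
      have hc : (Nat.card KD).Coprime 6 :=
        Nat.Coprime.coprime_dvd_left (Subgroup.card_dvd_of_le hKDQ) hcop
      have := Nat.dvd_gcd h3 (by norm_num : 3 ∣ 6)
      rw [Nat.Coprime] at hc
      rw [hc] at this
      omega
    have hcoset : ∀ x ∈ Q, ∃ n ∈ KD, x * n ∈ C := by
      intro x hx
      haveI : Fact (Nat.Prime 3) := ⟨Nat.prime_three⟩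
      obtain ⟨n, hn, hfixn⟩ := Cfsg.Agent.Helper22.exists_fixed_in_coset_elt 3 σ hσ3 KD hnot3 x
        (by
          intro z hz k hk
          obtain ⟨_, hz2, hz3⟩ := hzp hz
          have e : x⁻¹ * (z * (x * k) * z⁻¹) = (x⁻¹ * (z * x * z⁻¹)) * (z * k * z⁻¹) := by group
          rw [e]
          exact mul_mem (hz3 x hx) (conj_mem_of_normalizer hz2 hk))
      refine ⟨n, hn, mem_inf.2 ⟨mul_mem hx (hKDQ hn), ?_⟩⟩
      rw [mem_centralizer_singleton_iff]
      calc x * n * σ = (σ * (x * n) * σ⁻¹) * σ := by rw [hfixn]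
        _ = σ * (x * n) := by group
    -- (I)
    have hτC : τ ∈ normalizer (C : Set H) := by
      apply mem_normalizer_fintype
      intro a ha
      refine mem_inf.2 ⟨conj_mem_of_normalizer c.hQinv.2 ha.1, ?_⟩
      rw [mem_centralizer_singleton_iff]
      have ha2 := (mem_centralizer_singleton_iff.1 ha.2)
      exact (comm_sigma_conj_tau hS3 ha2.symm).symm
    have hinvK := acfg_invK c
    have hτK0 : τ ∈ normalizer ((C ⊓ K : Subgroup H) : Set H) := by
      apply mem_normalizer_fintype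
      intro a ha
      exact mem_inf.2 ⟨conj_mem_of_normalizer hτC ha.1, conj_mem_of_normalizer hinvK.2 ha.2⟩
    have hCK0 : C ≤ normalizer ((C ⊓ K : Subgroup H) : Set H) := by
      apply le_normalizer_of_conj_mem
      intro a ha k hk
      exact mem_inf.2 ⟨mul_mem (mul_mem ha hk.1) (inv_mem ha),
        conj_mem_of_normalizer (acfg_Q_norm_K c (hCQ ha)) hk.2⟩
    have hoddC : Odd (Nat.card C) := by
      have hc : (Nat.card C).Coprime 6 :=
        Nat.Coprime.coprime_dvd_left (Subgroup.card_dvd_of_le hCQ) hcop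
      have : (Nat.card C).Coprime 2 := Nat.Coprime.coprime_dvd_right (by norm_num : 2 ∣ 6) hc
      exact Nat.coprime_two_right.1 this
    have hfixC : C ⊓ centralizer ({τ} : Set H) ≤ C ⊓ K := by
      intro f hf
      refine mem_inf.2 ⟨hf.1, ?_⟩
      apply acfg_fix_le_K c
      rw [mem_fix_iff]
      refine ⟨hf.1.1, ?_, ?_⟩
      · exact (mem_centralizer_singleton_iff.1 hf.1.2).symm
      · exact (mem_centralizer_singleton_iff.1 hf.2).symm
    have hcommC := hI C (C ⊓ K) inf_le_left hCK0 hτC hτK0 hoddC hfixC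
    have hKKD : K ≤ KD := by
      intro k hk
      exact mem_inf.2 ⟨acfg_K_le_Q c hk, centralizer_le (by exact inf_le_left (a := W))
        (acfg_K_le_cent c hk)⟩
    have key : ∀ x ∈ Q, ∀ y ∈ Q, x * y * x⁻¹ * y⁻¹ ∈ KD := by
      apply comm_mem_of_gen hQKD ((C : Set H) ∪ (KD : Set H))
      · intro t ht
        rcases ht with ht | ht
        · exact hCQ ht
        · exact hKDQ ht
      · rw [Subgroup.closure_union, closure_eq, closure_eq]
        intro x hx
        obtain ⟨n, hn, hxn⟩ := hcoset x hx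
        have e : x = (x * n) * n⁻¹ := by group
        rw [e]
        exact mul_mem (mem_sup_left hxn) (mem_sup_right (inv_mem hn))
      · intro a ha b hb
        rcases ha with ha | ha
        · rcases hb with hb | hb
          · exact hKKD (hcommC a ha b hb).2
          · exact mul_mem (conj_mem_of_normalizer (hQKD (hCQ ha)) hb) (inv_mem hb)
        · have hbQ : b ∈ Q := by
            rcases hb with hb | hb
            · exact hCQ hb
            · exact hKDQ hb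
          have h1 : b * a⁻¹ * b⁻¹ ∈ KD := conj_mem_of_normalizer (hQKD hbQ) (inv_mem ha)
          have e : a * b * a⁻¹ * b⁻¹ = a * (b * a⁻¹ * b⁻¹) := by group
          rw [e]
          exact mul_mem ha h1
    rw [commutator_le]
    intro g₁ h₁ g₂ h₂
    rw [commutatorElement_def]
    exact (key g₁ h₁ g₂ h₂).2
  · -- CASE 2
    exfalso
    push Not at hcase
    obtain ⟨u, hu, hu1, hσu⟩ := hS hcase
    by_cases hτD : τ ∈ normalizer (D : Set H)
    · have hCz := hC hτD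
      have hDinv : Inv σ τ D := ⟨hσD, hτD⟩
      have hDQ : D ≤ Q := hD.2.1.trans c.hZQ
      have hfixD : Fix σ τ Q ≤ D := (acfg_fix_le_K c).trans hD.1
      have hQD := acfg_Q_norm_hyp c hD
      have hτW0 : τ ∈ normalizer (W0 : Set H) := norm_fix_of_norm c.hWinv.2 hτD
      -- Step A
      have hA : ∀ z ∈ Z1, z * (τ * z * τ⁻¹) ∈ D := by
        intro z hz
        have hz' : τ * z * τ⁻¹ ∈ Z1 := conj_mem_of_normalizer c.hZinv.2 hz
        set z' := τ * z * τ⁻¹ with hz'def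
        have hτz' : τ * z' * τ⁻¹ = z := by
          rw [hz'def]
          have e : τ * (τ * z * τ⁻¹) * τ⁻¹ = (τ * τ) * z * (τ * τ)⁻¹ := by group
          rw [e, tau_sq hS3]
          group
        have hyQ : z * z' ∈ Q := mul_mem (c.hZQ hz) (c.hZQ hz')
        have h2 : (z * z')⁻¹ * (τ * (z * z') * τ⁻¹) ∈ D := by
          have e : (z * z')⁻¹ * (τ * (z * z') * τ⁻¹)
              = z'⁻¹ * z⁻¹ * (τ * z * τ⁻¹) * (τ * z' * τ⁻¹) := by group
          rw [e, hτz', ← hz'def]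
          have h3 := c.hZcent z'⁻¹ (inv_mem hz') z⁻¹ (inv_mem (c.hZQ hz))
          simp only [inv_inv] at h3
          exact hD.1 h3
        have h1 : (z * z')⁻¹ * (σ * (z * z') * σ⁻¹) ∈ D := by
          have hd1 := hCz z hz
          have hd2 := hCz z' hz'
          have e : (z * z')⁻¹ * (σ * (z * z') * σ⁻¹)
              = (z'⁻¹ * (z⁻¹ * (σ * z * σ⁻¹)) * z'⁻¹⁻¹) * (z'⁻¹ * (σ * z' * σ⁻¹)) := by group
          rw [e]
          exact mul_mem (conj_mem_of_normalizer (hQD (inv_mem (c.hZQ hz'))) hd1) hd2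
        exact mem_of_fixed_mod hL hDQ hcop hDinv hfixD hyQ h1 h2
      -- Step B : τ inverts Wσ
      have hB : ∀ w ∈ W0, σ * w = w * σ → τ * w * τ⁻¹ = w⁻¹ := by
        intro w hw hσw
        have hw' : τ * w * τ⁻¹ ∈ W0 := conj_mem_of_normalizer hτW0 hw
        have hσw' := comm_sigma_conj_tau hS3 hσw
        have hp : w * (τ * w * τ⁻¹) ∈ Fix σ τ W := by
          rw [mem_fix_iff]
          refine ⟨mul_mem hw.1 hw'.1, ?_, ?_⟩
          · calc σ * (w * (τ * w * τ⁻¹)) = (σ * w) * (τ * w * τ⁻¹) := by group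
              _ = w * (σ * (τ * w * τ⁻¹)) := by rw [hσw]; group
              _ = w * (τ * w * τ⁻¹) * σ := by rw [hσw']; group
          · have e1 : τ * (w * (τ * w * τ⁻¹)) * τ⁻¹ = (τ * w * τ⁻¹) * ((τ * τ) * w * (τ * τ)⁻¹) := by
              group
            have e2 : τ * (w * (τ * w * τ⁻¹)) * τ⁻¹ = w * (τ * w * τ⁻¹) := by
              rw [e1, tau_sq hS3]
              simp only [one_mul, inv_one, mul_one]
              exact c.hW.1 _ hw'.1 _ hw.1
            calc τ * (w * (τ * w * τ⁻¹)) = (τ * (w * (τ * w * τ⁻¹)) * τ⁻¹) * τ := by group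
              _ = w * (τ * w * τ⁻¹) * τ := by rw [e2]
        rw [c.hfixW] at hp
        have hp1 : w * (τ * w * τ⁻¹) = 1 := by simpa using hp
        exact (inv_eq_of_mul_eq_one_right hp1).symm
      -- Step C
      have hCstep : ∀ z ∈ Z1, ∀ w ∈ W0, σ * w = w * σ →
          σ * (z * w * z⁻¹) = (z * w * z⁻¹) * σ := by
        intro z hz w hw hσw
        set d1 := z⁻¹ * (σ * z * σ⁻¹) with hd1
        have hd1D : d1 ∈ D := hCz z hz
        have hdw : d1 * w = w * d1 := (mem_centralizer_iff.1 hw.2) d1 hd1D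
        have e1 : σ * z * σ⁻¹ = z * d1 := by rw [hd1]; group
        have e2 : σ * w * σ⁻¹ = w := by rw [hσw]; group
        have e3 : σ * (z * w * z⁻¹) * σ⁻¹ = z * w * z⁻¹ := by
          calc σ * (z * w * z⁻¹) * σ⁻¹ = (σ * z * σ⁻¹) * (σ * w * σ⁻¹) * (σ * z * σ⁻¹)⁻¹ := by group
            _ = (z * d1) * w * (z * d1)⁻¹ := by rw [e1, e2]
            _ = z * (d1 * w) * d1⁻¹ * z⁻¹ := by group
            _ = z * (w * d1) * d1⁻¹ * z⁻¹ := by rw [hdw]
            _ = z * w * z⁻¹ := by group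
        calc σ * (z * w * z⁻¹) = (σ * (z * w * z⁻¹) * σ⁻¹) * σ := by group
          _ = z * w * z⁻¹ * σ := by rw [e3]
      -- Step D
      have hDstep : ∀ z ∈ Z1, ∀ w ∈ W0, σ * w = w * σ → (z * z) * w = w * (z * z) := by
        intro z hz w hw hσw
        have hzw : z * w * z⁻¹ ∈ W0 := conj_mem_of_normalizer (hQW0 (c.hZQ hz)) hw
        have e1 : τ * (z * w * z⁻¹) * τ⁻¹ = (z * w * z⁻¹)⁻¹ := hB _ hzw (hCstep z hz w hw hσw)
        have e2 : τ * w * τ⁻¹ = w⁻¹ := hB w hw hσw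
        set y := z * (τ * z * τ⁻¹) with hy
        have hyD : y ∈ D := hA z hz
        have hyw : y * w⁻¹ = w⁻¹ * y := (mem_centralizer_iff.1 (inv_mem hw.2)) y hyD
        have e3 : τ * z * τ⁻¹ = z⁻¹ * y := by rw [hy]; group
        have e4 : τ * (z * w * z⁻¹) * τ⁻¹ = z⁻¹ * w⁻¹ * z := by
          calc τ * (z * w * z⁻¹) * τ⁻¹ = (τ * z * τ⁻¹) * (τ * w * τ⁻¹) * (τ * z * τ⁻¹)⁻¹ := by group
            _ = (z⁻¹ * y) * w⁻¹ * (z⁻¹ * y)⁻¹ := by rw [e3, e2]
            _ = z⁻¹ * (y * w⁻¹) * y⁻¹ * z := by group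
            _ = z⁻¹ * (w⁻¹ * y) * y⁻¹ * z := by rw [hyw]
            _ = z⁻¹ * w⁻¹ * z := by group
        rw [e4] at e1
        -- z⁻¹ w⁻¹ z = z w⁻¹ z⁻¹
        have e5 : z⁻¹ * w⁻¹ * z = z * w⁻¹ * z⁻¹ := by rw [e1]; group
        have hcw : w⁻¹ * (z * z) = z * z * w⁻¹ := by
          calc w⁻¹ * (z * z) = z * (z⁻¹ * w⁻¹ * z) * z := by group
            _ = z * (z * w⁻¹ * z⁻¹) * z := by rw [e5]
            _ = z * z * w⁻¹ := by group
        calc z * z * w = w * (w⁻¹ * (z * z)) * w := by group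
          _ = w * (z * z * w⁻¹) * w := by rw [hcw]
          _ = w * (z * z) := by group
      -- Step E
      have hu0 : u ∈ W0 := hu
      have hσu' : σ * u = u * σ := by
        calc σ * u = (σ * u * σ⁻¹) * σ := by group
          _ = u * σ := by rw [hσu]
      have hucent : u ∈ centralizer (Z1 : Set H) := by
        rw [mem_centralizer_iff]
        intro z hz
        have hodd : Odd (orderOf z) := odd_orderOf_of_isPGroup c.hq2 (c.hQ.to_le c.hZQ) hz
        obtain ⟨m, hm⟩ := hodd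
        set t := z ^ (m + 1) with ht
        have htZ : t ∈ Z1 := pow_mem hz _
        have htt : t * t = z := by
          rw [ht, ← pow_add, show m + 1 + (m + 1) = orderOf z + 1 by omega, pow_succ,
            pow_orderOf_eq_one, one_mul]
        rw [← htt]
        exact hDstep t htZ u hu0 hσu'
      have : u ∈ W ⊓ centralizer (Z1 : Set H) := mem_inf.2 ⟨hu0.1, hucent⟩
      rw [c.hfix] at this
      exact hu1 (by simpa using this)
    · exact hu1 (hO2 hτD u hu hσu)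

end acfg

end Cfsg.Agent.Helper70.ShultA
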