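import Cfsg.Agent.Helper70.ShultACfg
import Cfsg.Agent.Helper11.ShultL
import Cfsg.Agent.Helper60.ShultO

/-!
# Shult's theorem for `S₃` (S4305): piece (Aτ), exact skeleton signature (helper70 for helper1)
-/

set_option autoImplicit false

namespace Cfsg.Agent.Helper70.ShultA

open Subgroup Cfsg.Agent.Helper1.Shult

variable {H : Type*} [Group H] [Finite H]

/-- (Aτ) Lemma A, a `τ`-invariant, non-`σ`-invariant hyperplane. -/
theorem lemmaA_tau {q r : ℕ} [Fact q.Prime] [Fact r.Prime] {σ τ : H} {Q W Z1 K : Subgroup H}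
    (c : ACfg q r σ τ Q W Z1 K) (D : Subgroup H) (hD : IsHyp q Z1 K D)
    (hτD : τ ∈ normalizer (D : Set H)) (hσD : σ ∉ normalizer (D : Set H)) :
    ⁅Q, Q⁆ ≤ centralizer ((W ⊓ centralizer (D : Set H) : Subgroup H) : Set H) :=
  lemmaA_tau_of
    (fun N hN hcop y h1 h2 => Cfsg.Agent.Helper11.Shult.s3_fixed_lift c.hS N hN hcop y h1 h2) c D hD
    (Cfsg.Agent.Helper60.Shult.orbit_tau c.hS (acfg_hypSet c) c.hWinv c.hZinv (acfg_invK c)
      c.hfixW D hD hτD hσD)

end Cfsg.Agent.Helper70.ShultA
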