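import Cfsg.Agent.Helper70.ShultTools

/-!
# Shult's theorem for `S₃` (S4305): the abstract core of piece (Aτ) (helper70 for helper1)

`Q` an `⟨σ,τ⟩`-invariant group of order prime to 6, `K0 ⊴ Q` with `[Q, τ] ≤ K0` and
`C_Q(⟨σ,τ⟩) ≤ K0`.  Then `Q / K0` is abelian.
-/

set_option autoImplicit false

namespace Cfsg.Agent.Helper70.ShultA

open Subgroup Cfsg.Agent.Helper1.Shult

variable {H : Type*} [Group H]

theorem comm_of_tau_trivial [Finite H] {σ τ : H} (h : S3Pair σ τ) (hL : LStmt σ τ)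
    {Q K0 : Subgroup H} (hcop : (Nat.card Q).Coprime 6) (hQinv : Inv σ τ Q)
    (hK0Q : K0 ≤ Q) (hQK0 : Q ≤ normalizer (K0 : Set H))
    (htriv : ∀ x ∈ Q, x⁻¹ * (τ * x * τ⁻¹) ∈ K0)
    (hfix : Fix σ τ Q ≤ K0) :
    ∀ x ∈ Q, ∀ y ∈ Q, x * y * x⁻¹ * y⁻¹ ∈ K0 := by
  obtain ⟨hσQ, hτQ⟩ := hQinv
  have hρQ : σ * σ ∈ normalizer (Q : Set H) := mul_mem hσQ hσQ
  have hτi := tau_inv h
  -- τ normalizes K0
  have hτK0n : τ ∈ normalizer (K0 : Set H) := by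
    apply mem_normalizer_fintype
    intro k hk
    have h1 := htriv k (hK0Q hk)
    have h2 : τ * k * τ⁻¹ = k * (k⁻¹ * (τ * k * τ⁻¹)) := by group
    rw [h2]
    exact mul_mem hk h1
  -- the three conjugates
  set K1 := cj σ K0 with hK1
  set K2 := cj (σ * σ) K0 with hK2
  have hσK1 : cj σ K1 = K2 := by rw [hK1, cj_cj]
  have hσK2 : cj σ K2 = K0 := by rw [hK2, cj_cj, sigma_cube h, cj_one]
  have hτK0 : cj τ K0 = K0 := cj_eq_of_mem_normalizer hτK0n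
  have hτK1 : cj τ K1 = K2 := by rw [hK1, cj_cj, tau_sigma h, ← cj_cj, hτK0]
  have hτK2 : cj τ K2 = K1 := by rw [hK2, cj_cj, tau_sigma_sq h, ← cj_cj, hτK0]
  have hK1Q : K1 ≤ Q := by
    have := cj_mono (g := σ) hK0Q
    rwa [cj_eq_of_mem_normalizer hσQ] at this
  have hK2Q : K2 ≤ Q := by
    have := cj_mono (g := σ * σ) hK0Q
    rwa [cj_eq_of_mem_normalizer hρQ] at this
  have hQK1 : Q ≤ normalizer (K1 : Set H) := cj_normalizer_le hσQ hQK0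
  have hQK2 : Q ≤ normalizer (K2 : Set H) := cj_normalizer_le hρQ hQK0
  -- the intersection
  set Kst := K0 ⊓ K1 ⊓ K2 with hKst
  have hKstK0 : Kst ≤ K0 := inf_le_left.trans inf_le_left
  have hKstQ : Kst ≤ Q := hKstK0.trans hK0Q
  have hσKst : cj σ Kst = Kst := by
    rw [hKst, cj_inf, cj_inf, ← hK1, hσK1, hσK2]
    simp only [inf_comm, inf_left_comm, inf_assoc]
  have hτKst : cj τ Kst = Kst := by
    rw [hKst, cj_inf, cj_inf, hτK0, hτK1, hτK2]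
    simp only [inf_comm, inf_left_comm, inf_assoc]
  have hKstInv : Inv σ τ Kst := ⟨mem_normalizer_of_cj_eq hσKst, mem_normalizer_of_cj_eq hτKst⟩
  have hQKst : Q ≤ normalizer (Kst : Set H) := by
    apply le_normalizer_of_conj_mem
    intro x hx k hk
    rw [hKst, mem_inf, mem_inf] at hk ⊢
    exact ⟨⟨conj_mem_of_normalizer (hQK0 hx) hk.1.1, conj_mem_of_normalizer (hQK1 hx) hk.1.2⟩,
      conj_mem_of_normalizer (hQK2 hx) hk.2⟩
  have hfixKst : Fix σ τ Q ≤ Kst := by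
    intro f hf
    have hf0 := hfix hf
    obtain ⟨hfQ, hfσ, hfτ⟩ := mem_fix_iff.1 hf
    have e1 : σ⁻¹ * f * σ = f := by
      calc σ⁻¹ * f * σ = σ⁻¹ * (f * σ) := by group
        _ = σ⁻¹ * (σ * f) := by rw [hfσ]
        _ = f := by group
    have e2 : (σ * σ)⁻¹ * f * (σ * σ) = f := by
      calc (σ * σ)⁻¹ * f * (σ * σ) = σ⁻¹ * (σ⁻¹ * f * σ) * σ := by group
        _ = f := by rw [e1, e1]
    rw [hKst, mem_inf, mem_inf]
    refine ⟨⟨hf0, ?_⟩, ?_⟩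
    · rw [hK1, mem_cj, e1]; exact hf0
    · rw [hK2, mem_cj, e2]; exact hf0
  -- Claim 2 : K1 ⊓ K2 ≤ K0
  have hclaim2 : K1 ⊓ K2 ≤ K0 := by
    intro y hy
    have hyQ : y ∈ Q := hK1Q hy.1
    -- k := y⁻¹ τ y τ⁻¹ ∈ Kst
    have hτy : τ * y * τ⁻¹ ∈ K1 ⊓ K2 := by
      have h1 : τ * y * τ⁻¹ ∈ cj τ (K1 ⊓ K2) := conj_mem_cj hy
      rw [cj_inf, hτK1, hτK2, inf_comm] at h1
      exact h1
    have hk : y⁻¹ * (τ * y * τ⁻¹) ∈ Kst := by
      have h0 := htriv y hyQ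
      have h12 : y⁻¹ * (τ * y * τ⁻¹) ∈ K1 ⊓ K2 := mul_mem (inv_mem hy) hτy
      rw [hKst, mem_inf, mem_inf]
      exact ⟨⟨h0, h12.1⟩, h12.2⟩
    -- y1, y2
    have hy1 : σ * y * σ⁻¹ ∈ K2 ⊓ K0 := by
      have h1 : σ * y * σ⁻¹ ∈ cj σ (K1 ⊓ K2) := conj_mem_cj hy
      rw [cj_inf, hσK1, hσK2] at h1
      exact h1
    have hy2 : σ * (σ * y * σ⁻¹) * σ⁻¹ ∈ K0 ⊓ K1 := by
      have h1 : σ * (σ * y * σ⁻¹) * σ⁻¹ ∈ cj σ (K2 ⊓ K0) := conj_mem_cj hy1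
      rw [cj_inf, hσK2, ← hK1] at h1
      exact h1
    set y1 := σ * y * σ⁻¹ with hy1def
    set y2 := σ * y1 * σ⁻¹ with hy2def
    have hy1Q : y1 ∈ Q := hK2Q hy1.1
    have hy2Q : y2 ∈ Q := hK0Q hy2.1
    have hσy2 : σ * y2 * σ⁻¹ = y := by
      rw [hy2def, hy1def]
      have e : σ * (σ * (σ * y * σ⁻¹) * σ⁻¹) * σ⁻¹ = (σ * (σ * σ)) * y * (σ * (σ * σ))⁻¹ := by group
      rw [e, sigma_cube h]
      group
    -- commutators in Kst
    have hc1 : y1⁻¹ * y⁻¹ * y1 * y ∈ Kst := by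
      have := comm_mem_inf (Q := Q) (A := K2 ⊓ K0) (B := K1 ⊓ K2)
        (le_normalizer_of_conj_mem (fun x hx k hk => mem_inf.2
          ⟨conj_mem_of_normalizer (hQK2 hx) hk.1, conj_mem_of_normalizer (hQK0 hx) hk.2⟩))
        (le_normalizer_of_conj_mem (fun x hx k hk => mem_inf.2
          ⟨conj_mem_of_normalizer (hQK1 hx) hk.1, conj_mem_of_normalizer (hQK2 hx) hk.2⟩))
        (inv_mem hy1Q) (inv_mem hyQ) (inv_mem hy1) (inv_mem hy)
      simp only [inv_inv] at this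
      rw [hKst, mem_inf, mem_inf]
      exact ⟨⟨this.1.2, this.2.1⟩, this.1.1⟩
    have hc2 : y2⁻¹ * y⁻¹ * y2 * y ∈ Kst := by
      have := comm_mem_inf (Q := Q) (A := K0 ⊓ K1) (B := K1 ⊓ K2)
        (le_normalizer_of_conj_mem (fun x hx k hk => mem_inf.2
          ⟨conj_mem_of_normalizer (hQK0 hx) hk.1, conj_mem_of_normalizer (hQK1 hx) hk.2⟩))
        (le_normalizer_of_conj_mem (fun x hx k hk => mem_inf.2
          ⟨conj_mem_of_normalizer (hQK1 hx) hk.1, conj_mem_of_normalizer (hQK2 hx) hk.2⟩))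
        (inv_mem hy2Q) (inv_mem hyQ) (inv_mem hy2) (inv_mem hy)
      simp only [inv_inv] at this
      rw [hKst, mem_inf, mem_inf]
      exact ⟨⟨this.1.1, this.1.2⟩, this.2.2⟩
    have hc3 : y2⁻¹ * y1⁻¹ * y2 * y1 ∈ Kst := by
      have := comm_mem_inf (Q := Q) (A := K0 ⊓ K1) (B := K2 ⊓ K0)
        (le_normalizer_of_conj_mem (fun x hx k hk => mem_inf.2
          ⟨conj_mem_of_normalizer (hQK0 hx) hk.1, conj_mem_of_normalizer (hQK1 hx) hk.2⟩))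
        (le_normalizer_of_conj_mem (fun x hx k hk => mem_inf.2
          ⟨conj_mem_of_normalizer (hQK2 hx) hk.1, conj_mem_of_normalizer (hQK0 hx) hk.2⟩))
        (inv_mem hy2Q) (inv_mem hy1Q) (inv_mem hy2) (inv_mem hy1)
      simp only [inv_inv] at this
      rw [hKst, mem_inf, mem_inf]
      exact ⟨⟨this.1.1, this.1.2⟩, this.2.1⟩
    -- v
    set v := y * y1 * y2 with hv
    have hvQ : v ∈ Q := mul_mem (mul_mem hyQ hy1Q) hy2Q
    have hσv : v⁻¹ * (σ * v * σ⁻¹) ∈ Kst := by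
      have e1 : σ * v * σ⁻¹ = y1 * y2 * y := by
        rw [hv]
        calc σ * (y * y1 * y2) * σ⁻¹ = (σ * y * σ⁻¹) * (σ * y1 * σ⁻¹) * (σ * y2 * σ⁻¹) := by group
          _ = y1 * y2 * y := by rw [hσy2]
      rw [e1, hv]
      have e2 : (y * y1 * y2)⁻¹ * (y1 * y2 * y)
          = (y2⁻¹ * (y1⁻¹ * y⁻¹ * y1 * y) * y2⁻¹⁻¹) * (y2⁻¹ * y⁻¹ * y2 * y) := by group
      rw [e2]
      exact mul_mem (conj_mem_of_normalizer (hQKst (inv_mem hy2Q)) hc1) hc2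
    have hτv : v⁻¹ * (τ * v * τ⁻¹) ∈ Kst := by
      set k := y⁻¹ * (τ * y * τ⁻¹) with hkdef
      have hτy' : τ * y * τ⁻¹ = y * k := by rw [hkdef]; group
      have hτy1 : τ * y1 * τ⁻¹ = y2 * ((σ * σ) * k * (σ * σ)⁻¹) := by
        rw [hy1def]
        calc τ * (σ * y * σ⁻¹) * τ⁻¹ = (τ * σ) * y * (τ * σ)⁻¹ := by group
          _ = (σ * σ * τ) * y * (σ * σ * τ)⁻¹ := by rw [tau_sigma h]
          _ = (σ * σ) * (τ * y * τ⁻¹) * (σ * σ)⁻¹ := by group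
          _ = (σ * σ) * (y * k) * (σ * σ)⁻¹ := by rw [hτy']
          _ = (σ * (σ * y * σ⁻¹) * σ⁻¹) * ((σ * σ) * k * (σ * σ)⁻¹) := by group
      have hτy2 : τ * y2 * τ⁻¹ = y1 * (σ * k * σ⁻¹) := by
        rw [hy2def, hy1def]
        calc τ * (σ * (σ * y * σ⁻¹) * σ⁻¹) * τ⁻¹ = (τ * (σ * σ)) * y * (τ * (σ * σ))⁻¹ := by group
          _ = (σ * τ) * y * (σ * τ)⁻¹ := by rw [tau_sigma_sq h]
          _ = σ * (τ * y * τ⁻¹) * σ⁻¹ := by group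
          _ = σ * (y * k) * σ⁻¹ := by rw [hτy']
          _ = (σ * y * σ⁻¹) * (σ * k * σ⁻¹) := by group
      have hk' : (σ * σ) * k * (σ * σ)⁻¹ ∈ Kst :=
        conj_mem_of_normalizer (mul_mem hKstInv.1 hKstInv.1) hk
      have hk'' : σ * k * σ⁻¹ ∈ Kst := conj_mem_of_normalizer hKstInv.1 hk
      set k' := (σ * σ) * k * (σ * σ)⁻¹
      set k'' := σ * k * σ⁻¹
      have e1 : τ * v * τ⁻¹ = (y * k) * (y2 * k') * (y1 * k'') := by
        rw [hv]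
        calc τ * (y * y1 * y2) * τ⁻¹ = (τ * y * τ⁻¹) * (τ * y1 * τ⁻¹) * (τ * y2 * τ⁻¹) := by group
          _ = (y * k) * (y2 * k') * (y1 * k'') := by rw [hτy', hτy1, hτy2]
      rw [e1, hv]
      have e2 : (y * y1 * y2)⁻¹ * ((y * k) * (y2 * k') * (y1 * k''))
          = ((y1 * y2)⁻¹ * k * (y1 * y2)⁻¹⁻¹) * ((y2⁻¹ * y1⁻¹ * y2) * k' * (y2⁻¹ * y1⁻¹ * y2)⁻¹)
            * (y2⁻¹ * y1⁻¹ * y2 * y1) * k'' := by group
      rw [e2]
      refine mul_mem (mul_mem (mul_mem ?_ ?_) hc3) hk''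
      · exact conj_mem_of_normalizer (hQKst (inv_mem (mul_mem hy1Q hy2Q))) hk
      · exact conj_mem_of_normalizer
          (hQKst (mul_mem (mul_mem (inv_mem hy2Q) (inv_mem hy1Q)) hy2Q)) hk'
    have hvK : v ∈ Kst := mem_of_fixed_mod hL hKstQ hcop hKstInv hfixKst hvQ hσv hτv
    have e : y = v * y2⁻¹ * y1⁻¹ := by rw [hv]; group
    rw [e]
    exact mul_mem (mul_mem (hKstK0 hvK) (inv_mem hy2.1)) (inv_mem hy1.2)
  -- Claim 3 : Q ≤ K0 ⊔ K1 ⊔ K2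
  set N := K0 ⊔ K1 ⊔ K2 with hN
  have hK0N : K0 ≤ N := le_sup_left.trans le_sup_left
  have hK1N : K1 ≤ N := le_sup_right.trans le_sup_left
  have hK2N : K2 ≤ N := le_sup_right
  have hNQ : N ≤ Q := sup_le (sup_le hK0Q hK1Q) hK2Q
  have hσN : cj σ N = N := by
    rw [hN, cj_sup, cj_sup, ← hK1, hσK1, hσK2]
    simp only [sup_comm, sup_left_comm, sup_assoc]
  have hτN : cj τ N = N := by
    rw [hN, cj_sup, cj_sup, hτK0, hτK1, hτK2]
    simp only [sup_comm, sup_left_comm, sup_assoc]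
  have hNInv : Inv σ τ N := ⟨mem_normalizer_of_cj_eq hσN, mem_normalizer_of_cj_eq hτN⟩
  have hclaim3 : Q ≤ N := by
    intro x hx
    have h2 : x⁻¹ * (τ * x * τ⁻¹) ∈ N := hK0N (htriv x hx)
    have h1 : x⁻¹ * (σ * x * σ⁻¹) ∈ N := by
      -- σ = τ σ τ σ⁻¹
      have hrel : σ = τ * σ * τ * σ⁻¹ := by
        calc σ = σ * σ * (τ * τ) * (σ * σ) := by
              rw [tau_sq h, mul_one]
              calc σ = (σ * (σ * σ)) * σ := by rw [sigma_cube h, one_mul]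
                _ = σ * σ * (σ * σ) := by group
          _ = (σ * σ * τ) * τ * (σ * σ) := by group
          _ = (τ * σ) * τ * (σ * σ) := by rw [← tau_sigma h]
          _ = τ * σ * τ * σ⁻¹ := by rw [← sigma_inv h]
      set z := σ⁻¹ * x * σ with hz
      have hzQ : z ∈ Q := conj_inv_mem_of_normalizer hσQ hx
      set k := z⁻¹ * (τ * z * τ⁻¹) with hk
      have hkK0 : k ∈ K0 := htriv z hzQ
      have hk1 : σ * k * σ⁻¹ ∈ K1 := conj_mem_cj hkK0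
      have hk2 : τ * (σ * k * σ⁻¹) * τ⁻¹ ∈ K2 := by
        have := conj_mem_cj (g := τ) hk1
        rwa [hτK1] at this
      have e1 : σ * x * σ⁻¹ = τ * (σ * (τ * z * τ⁻¹) * σ⁻¹) * τ⁻¹ := by
        have : τ * (σ * (τ * z * τ⁻¹) * σ⁻¹) * τ⁻¹
            = (τ * σ * τ * σ⁻¹) * x * (τ * σ * τ * σ⁻¹)⁻¹ := by rw [hz]; group
        rw [this, ← hrel]
      have e2 : τ * z * τ⁻¹ = z * k := by rw [hk]; group
      have e3 : σ * (z * k) * σ⁻¹ = x * (σ * k * σ⁻¹) := by rw [hz]; group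
      have e4 : x⁻¹ * (σ * x * σ⁻¹)
          = (x⁻¹ * (τ * x * τ⁻¹)) * (τ * (σ * k * σ⁻¹) * τ⁻¹) := by
        rw [e1, e2, e3]; group
      rw [e4]
      exact mul_mem h2 (hK2N hk2)
    exact mem_of_fixed_mod hL hNQ hcop hNInv (hfix.trans hK0N) hx h1 h2
  -- conclusion
  have hF : ∀ a ∈ K1, ∀ b ∈ K2, a * b * a⁻¹ * b⁻¹ ∈ K0 := fun a ha b hb =>
    hclaim2 (comm_mem_inf hQK1 hQK2 (hK1Q ha) (hK2Q hb) ha hb)
  have hF' : ∀ a ∈ K2, ∀ b ∈ K1, a * b * a⁻¹ * b⁻¹ ∈ K0 := fun a ha b hb => by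
    have := hclaim2 (comm_mem_inf hQK2 hQK1 (hK2Q ha) (hK1Q hb) ha hb).symm
    exact this
  -- same index: use τ
  have hG : ∀ (A B : Subgroup H), A ≤ Q → B ≤ Q → cj τ A = B →
      (∀ a ∈ A, ∀ b ∈ B, a * b * a⁻¹ * b⁻¹ ∈ K0) →
      ∀ a ∈ A, ∀ b ∈ A, a * b * a⁻¹ * b⁻¹ ∈ K0 := by
    intro A B hAQ _ hAB hcomm a ha b hb
    have hb' : τ * b * τ⁻¹ ∈ B := by
      have := conj_mem_cj (g := τ) hb
      rwa [hAB] at this
    set k := b⁻¹ * (τ * b * τ⁻¹) with hk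
    have hkK0 : k ∈ K0 := htriv b (hAQ hb)
    have e1 : τ * b * τ⁻¹ = b * k := by rw [hk]; group
    have h1 := hcomm a ha _ hb'
    rw [e1] at h1
    have h2 : b * (a * k * a⁻¹ * k⁻¹) * b⁻¹ ∈ K0 := by
      apply conj_mem_of_normalizer (hQK0 (hAQ hb))
      have : a * k * a⁻¹ ∈ K0 := conj_mem_of_normalizer (hQK0 (hAQ ha)) hkK0
      exact mul_mem this (inv_mem hkK0)
    have e2 : a * b * a⁻¹ * b⁻¹
        = (a * (b * k) * a⁻¹ * (b * k)⁻¹) * (b * (a * k * a⁻¹ * k⁻¹) * b⁻¹)⁻¹ := by group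
    rw [e2]
    exact mul_mem h1 (inv_mem h2)
  have hG1 := hG K1 K2 hK1Q hK2Q hτK1 hF
  have hG2 := hG K2 K1 hK2Q hK1Q hτK2 hF'
  have h0l : ∀ a ∈ K0, ∀ b ∈ Q, a * b * a⁻¹ * b⁻¹ ∈ K0 := by
    intro a ha b hb
    have : b * a⁻¹ * b⁻¹ ∈ K0 := conj_mem_of_normalizer (hQK0 hb) (inv_mem ha)
    have e : a * b * a⁻¹ * b⁻¹ = a * (b * a⁻¹ * b⁻¹) := by group
    rw [e]
    exact mul_mem ha this
  have h0r : ∀ a ∈ Q, ∀ b ∈ K0, a * b * a⁻¹ * b⁻¹ ∈ K0 := by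
    intro a ha b hb
    exact mul_mem (conj_mem_of_normalizer (hQK0 ha) hb) (inv_mem hb)
  apply comm_mem_of_gen hQK0 ((K0 : Set H) ∪ (K1 : Set H) ∪ (K2 : Set H))
  · intro t ht
    rcases ht with (ht | ht) | ht
    · exact hK0Q ht
    · exact hK1Q ht
    · exact hK2Q ht
  · rw [Subgroup.closure_union, Subgroup.closure_union, closure_eq, closure_eq, closure_eq]
    exact hclaim3
  · intro a ha b hb
    rcases ha with (ha | ha) | ha
    · rcases hb with (hb | hb) | hb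
      · exact h0l a ha b (hK0Q hb)
      · exact h0l a ha b (hK1Q hb)
      · exact h0l a ha b (hK2Q hb)
    · rcases hb with (hb | hb) | hb
      · exact h0r a (hK1Q ha) b hb
      · exact hG1 a ha b hb
      · exact hF a ha b hb
    · rcases hb with (hb | hb) | hb
      · exact h0r a (hK2Q ha) b hb
      · exact hF' a ha b hb
      · exact hG2 a ha b hb

end Cfsg.Agent.Helper70.ShultA
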