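import Mathlib
import Cfsg.Agent.Helper1.ShultDefs
import Cfsg.Agent.Helper22.Coprime

/-!
# Shult's theorem for `S₃` (S4305): tools for Lemma A (helper70 for helper1)

* `S₃` identities, conjugate subgroups `cj g X = g X g⁻¹`;
* `comm_mem_of_gen`: generators commuting modulo `K0 ⊴ Q` give `Q / K0` abelian;
* `mem_of_fixed_mod`: the use of the lifting lemma (L);
* `comm_of_tau_trivial`: the abstract core of (Aτ).
-/

set_option autoImplicit false

namespace Cfsg.Agent.Helper70.ShultA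

open Subgroup Cfsg.Agent.Helper1.Shult

variable {H : Type*} [Group H]

/-- The statement of piece (L) (coprime lifting of fixed points) for the pair `σ, τ`. -/
def LStmt (σ τ : H) : Prop :=
  ∀ (N : Subgroup H), Inv σ τ N → (Nat.card N).Coprime 6 → ∀ y : H,
    y⁻¹ * (σ * y * σ⁻¹) ∈ N → y⁻¹ * (τ * y * τ⁻¹) ∈ N →
    ∃ n ∈ N, σ * (y * n) * σ⁻¹ = y * n ∧ τ * (y * n) * τ⁻¹ = y * n

section s3

variable {σ τ : H}

theorem sigma_cube (h : S3Pair σ τ) : σ * (σ * σ) = 1 := by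
  have h1 := pow_orderOf_eq_one σ
  rw [h.oσ] at h1
  rw [← h1, pow_succ, pow_two, mul_assoc]

theorem tau_sq (h : S3Pair σ τ) : τ * τ = 1 := by
  have h1 := pow_orderOf_eq_one τ
  rw [h.oτ, pow_two] at h1
  exact h1

theorem tau_inv (h : S3Pair σ τ) : τ⁻¹ = τ := inv_eq_of_mul_eq_one_left (tau_sq h)

theorem sigma_inv (h : S3Pair σ τ) : σ⁻¹ = σ * σ := inv_eq_of_mul_eq_one_right (sigma_cube h)

theorem tau_sigma (h : S3Pair σ τ) : τ * σ = σ * σ * τ := by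
  rw [← sigma_inv h]
  calc τ * σ = (τ * σ * τ⁻¹) * τ := by group
    _ = σ⁻¹ * τ := by rw [h.rel]

theorem tau_sigma_sq (h : S3Pair σ τ) : τ * (σ * σ) = σ * τ := by
  calc τ * (σ * σ) = (τ * σ) * σ := by group
    _ = σ * σ * τ * σ := by rw [tau_sigma h]
    _ = σ * σ * (τ * σ) := by group
    _ = σ * σ * (σ * σ * τ) := by rw [tau_sigma h]
    _ = (σ * (σ * σ)) * σ * τ := by group
    _ = σ * τ := by rw [sigma_cube h, one_mul]

end s3

/-! ### normalizers and conjugate subgroups -/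

theorem conj_mem_of_normalizer {g x : H} {X : Subgroup H} (hg : g ∈ normalizer (X : Set H))
    (hx : x ∈ X) : g * x * g⁻¹ ∈ X := (mem_normalizer_iff.1 hg x).1 hx

theorem conj_inv_mem_of_normalizer {g x : H} {X : Subgroup H} (hg : g ∈ normalizer (X : Set H))
    (hx : x ∈ X) : g⁻¹ * x * g ∈ X := (mem_normalizer_iff''.1 hg x).1 hx

theorem le_normalizer_of_conj_mem {S X : Subgroup H}
    (h : ∀ s ∈ S, ∀ x ∈ X, s * x * s⁻¹ ∈ X) : S ≤ normalizer (X : Set H) := by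
  intro s hs
  rw [mem_normalizer_iff]
  intro x
  constructor
  · exact h s hs x
  · intro hx
    have := h s⁻¹ (inv_mem hs) _ hx
    have e : s⁻¹ * (s * x * s⁻¹) * s⁻¹⁻¹ = x := by group
    rwa [e] at this

/-- the conjugate subgroup `g X g⁻¹`. -/
def cj (g : H) (X : Subgroup H) : Subgroup H := X.map (MulAut.conj g).toMonoidHom

theorem mem_cj {g y : H} {X : Subgroup H} : y ∈ cj g X ↔ g⁻¹ * y * g ∈ X := by
  unfold cj
  constructor
  · rintro ⟨x, hx, rfl⟩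
    have e : g⁻¹ * ((MulAut.conj g).toMonoidHom x) * g = x := by
      simp only [MulEquiv.coe_toMonoidHom, MulAut.conj_apply]
      group
    rw [e]
    exact hx
  · intro hy
    refine ⟨g⁻¹ * y * g, hy, ?_⟩
    simp only [MulEquiv.coe_toMonoidHom, MulAut.conj_apply]
    group

theorem conj_mem_cj {g x : H} {X : Subgroup H} (hx : x ∈ X) : g * x * g⁻¹ ∈ cj g X := by
  rw [mem_cj]
  have e : g⁻¹ * (g * x * g⁻¹) * g = x := by group
  rwa [e]

theorem cj_cj (a b : H) (X : Subgroup H) : cj a (cj b X) = cj (a * b) X := by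
  ext y
  simp only [mem_cj]
  have e : b⁻¹ * (a⁻¹ * y * a) * b = (a * b)⁻¹ * y * (a * b) := by group
  rw [e]

theorem cj_one (X : Subgroup H) : cj 1 X = X := by
  ext y
  simp [mem_cj]

theorem cj_eq_of_mem_normalizer {g : H} {X : Subgroup H} (hg : g ∈ normalizer (X : Set H)) :
    cj g X = X := by
  ext y
  rw [mem_cj]
  exact ((mem_normalizer_iff''.1 hg) y).symm

theorem mem_normalizer_of_cj_eq {g : H} {X : Subgroup H} (hg : cj g X = X) :
    g ∈ normalizer (X : Set H) := by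
  rw [mem_normalizer_iff'']
  intro y
  rw [← mem_cj, hg]

theorem cj_inf (g : H) (X Y : Subgroup H) : cj g (X ⊓ Y) = cj g X ⊓ cj g Y := by
  ext y
  simp only [mem_cj, mem_inf]

theorem cj_sup (g : H) (X Y : Subgroup H) : cj g (X ⊔ Y) = cj g X ⊔ cj g Y := by
  unfold cj
  exact Subgroup.map_sup _ _ _

theorem cj_mono {g : H} {X Y : Subgroup H} (h : X ≤ Y) : cj g X ≤ cj g Y := Subgroup.map_mono h

theorem cj_normalizer_le {g : H} {Q X : Subgroup H} (hgQ : g ∈ normalizer (Q : Set H))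
    (hQX : Q ≤ normalizer (X : Set H)) : Q ≤ normalizer (cj g X : Set H) := by
  intro x hx
  rw [mem_normalizer_iff]
  intro y
  rw [mem_cj, mem_cj]
  have hx' : g⁻¹ * x * g ∈ Q := conj_inv_mem_of_normalizer hgQ hx
  have h1 := (mem_normalizer_iff.1 (hQX hx')) (g⁻¹ * y * g)
  rw [h1]
  have e : g⁻¹ * x * g * (g⁻¹ * y * g) * (g⁻¹ * x * g)⁻¹ = g⁻¹ * (x * y * x⁻¹) * g := by group
  rw [e]

/-- commutators of elements of two subgroups normalized by `Q` lie in their intersection. -/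
theorem comm_mem_inf {Q A B : Subgroup H} (hA : Q ≤ normalizer (A : Set H))
    (hB : Q ≤ normalizer (B : Set H)) {a b : H} (haQ : a ∈ Q) (hbQ : b ∈ Q) (ha : a ∈ A)
    (hb : b ∈ B) : a * b * a⁻¹ * b⁻¹ ∈ A ⊓ B := by
  refine mem_inf.2 ⟨?_, ?_⟩
  · have h1 : b * a⁻¹ * b⁻¹ ∈ A := conj_mem_of_normalizer (hA hbQ) (inv_mem ha)
    have e : a * b * a⁻¹ * b⁻¹ = a * (b * a⁻¹ * b⁻¹) := by group
    rw [e]
    exact mul_mem ha h1
  · have h1 : a * b * a⁻¹ ∈ B := conj_mem_of_normalizer (hB haQ) hb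
    exact mul_mem h1 (inv_mem hb)

/-- the elements of `Q` commuting with `z` modulo `K0`. -/
def commMod (Q K0 : Subgroup H) (hQK0 : Q ≤ normalizer (K0 : Set H)) (z : H) : Subgroup H where
  carrier := {w | w ∈ Q ∧ w * z * w⁻¹ * z⁻¹ ∈ K0}
  one_mem' := ⟨one_mem _, by simp⟩
  mul_mem' := by
    rintro a b ⟨ha, ha'⟩ ⟨hb, hb'⟩
    refine ⟨mul_mem ha hb, ?_⟩
    have e : a * b * z * (a * b)⁻¹ * z⁻¹ = a * (b * z * b⁻¹ * z⁻¹) * a⁻¹ * (a * z * a⁻¹ * z⁻¹) := by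
      group
    rw [e]
    exact mul_mem (conj_mem_of_normalizer (hQK0 ha) hb') ha'
  inv_mem' := by
    rintro a ⟨ha, ha'⟩
    refine ⟨inv_mem ha, ?_⟩
    have e : a⁻¹ * z * a⁻¹⁻¹ * z⁻¹ = a⁻¹ * (a * z * a⁻¹ * z⁻¹)⁻¹ * a := by group
    rw [e]
    exact conj_inv_mem_of_normalizer (hQK0 ha) (inv_mem ha')

theorem mem_commMod {Q K0 : Subgroup H} {hQK0 : Q ≤ normalizer (K0 : Set H)} {z w : H} :
    w ∈ commMod Q K0 hQK0 z ↔ w ∈ Q ∧ w * z * w⁻¹ * z⁻¹ ∈ K0 := Iff.rfl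

/-- If a generating set of `Q` commutes modulo `K0 ⊴ Q`, then `Q / K0` is abelian. -/
theorem comm_mem_of_gen {Q K0 : Subgroup H} (hQK0 : Q ≤ normalizer (K0 : Set H)) (T : Set H)
    (hTQ : T ⊆ Q) (hgen : Q ≤ closure T)
    (hT : ∀ a ∈ T, ∀ b ∈ T, a * b * a⁻¹ * b⁻¹ ∈ K0) :
    ∀ x ∈ Q, ∀ y ∈ Q, x * y * x⁻¹ * y⁻¹ ∈ K0 := by
  -- level 1
  have h1 : ∀ b ∈ T, ∀ x ∈ Q, x * b * x⁻¹ * b⁻¹ ∈ K0 := by
    intro b hb x hx
    have hle : closure T ≤ commMod Q K0 hQK0 b := by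
      rw [closure_le]
      intro a ha
      exact ⟨hTQ ha, hT a ha b hb⟩
    exact (hle (hgen hx)).2
  -- level 2
  intro x hx y hy
  have hle : closure T ≤ commMod Q K0 hQK0 y := by
    rw [closure_le]
    intro b hb
    refine ⟨hTQ hb, ?_⟩
    have := inv_mem (h1 b hb y hy)
    have e : (y * b * y⁻¹ * b⁻¹)⁻¹ = b * y * b⁻¹ * y⁻¹ := by group
    rwa [e] at this
  exact (hle (hgen hx)).2

/-- Use of (L): an element of `Q` fixed by `σ` and `τ` modulo an invariant `N ≥ C_Q(A)` lies in `N`. -/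
theorem mem_of_fixed_mod [Finite H] {σ τ : H} (hL : LStmt σ τ) {Q N : Subgroup H} (hNQ : N ≤ Q)
    (hcop : (Nat.card Q).Coprime 6) (hN : Inv σ τ N) (hfix : Fix σ τ Q ≤ N) {y : H} (hy : y ∈ Q)
    (h1 : y⁻¹ * (σ * y * σ⁻¹) ∈ N) (h2 : y⁻¹ * (τ * y * τ⁻¹) ∈ N) : y ∈ N := by
  have hcopN : (Nat.card N).Coprime 6 :=
    Nat.Coprime.coprime_dvd_left (Subgroup.card_dvd_of_le hNQ) hcop
  obtain ⟨n, hn, hσ, hτ⟩ := hL N hN hcopN y h1 h2
  have hyn : y * n ∈ Fix σ τ Q := by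
    unfold Cfsg.Agent.Helper1.Shult.Fix
    refine mem_inf.2 ⟨mul_mem hy (hNQ hn), ?_⟩
    rw [mem_centralizer_iff]
    intro g hg
    rcases hg with rfl | hg
    · calc g * (y * n) = (g * (y * n) * g⁻¹) * g := by group
        _ = y * n * g := by rw [hσ]
    · rw [Set.mem_singleton_iff] at hg
      subst hg
      calc g * (y * n) = (g * (y * n) * g⁻¹) * g := by group
        _ = y * n * g := by rw [hτ]
  have h3 : y * n ∈ N := hfix hyn
  have e : y = (y * n) * n⁻¹ := by group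
  rw [e]
  exact mul_mem h3 (inv_mem hn)

theorem mem_fix_iff {σ τ x : H} {Q : Subgroup H} :
    x ∈ Fix σ τ Q ↔ x ∈ Q ∧ σ * x = x * σ ∧ τ * x = x * τ := by
  unfold Cfsg.Agent.Helper1.Shult.Fix
  rw [mem_inf, mem_centralizer_iff]
  constructor
  · rintro ⟨h1, h2⟩
    exact ⟨h1, h2 σ (by simp), h2 τ (by simp)⟩
  · rintro ⟨h1, h2, h3⟩
    refine ⟨h1, ?_⟩
    intro g hg
    rcases hg with rfl | hg
    · exact h2
    · rw [Set.mem_singleton_iff] at hg
      subst hg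
      exact h3

end Cfsg.Agent.Helper70.ShultA
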