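import Cfsg.Agent.Helper51.SidkiCtx

/-!
# Sidki pairs, piece SK-K (helper70 for helper51, S3048)

In the reduced minimal counterexample context: if `N` is a nontrivial normal subgroup with
`N ∩ C_G(N) = 1`, then `V ∩ C_G(N) = 1`.
-/

set_option autoImplicit false
universe u

namespace Cfsg.Agent.Helper70.SidkiK

open Cfsg Cfsg.Agent.Helper51.Sidki

variable {G : Type u} [Group G]

/-- an element `n * u` with `n ∈ N ⊴ G`, `u * u = 1` has its square in `N`. -/
theorem sq_mem_of_mul {N : Subgroup G} (hN : N.Normal) {n u : G} (hn : n ∈ N) (hu : u * u = 1) :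
    (n * u) ^ 2 ∈ N := by
  have huinv : u⁻¹ = u := inv_eq_of_mul_eq_one_left hu
  have h1 : (n * u) ^ 2 = n * (u * n * u⁻¹) := by
    rw [huinv, pow_two]
    group
  rw [h1]
  exact mul_mem hn (hN.conj_mem n hn u)

theorem inf_centralizer_eq_bot [Finite G] {V : Subgroup G} (ctx : Ctx V)
    {N : Subgroup G} (hN : N.Normal) (hN1 : N ≠ ⊥)
    (hZ : N ⊓ Subgroup.centralizer (N : Set G) = ⊥) :
    V ⊓ Subgroup.centralizer (N : Set G) = ⊥ := by
  have hCn : (Subgroup.centralizer (N : Set G)).Normal := inferInstance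
  set C := Subgroup.centralizer (N : Set G) with hC
  -- elements of C commute with elements of N
  have hcomm : ∀ c ∈ C, ∀ n ∈ N, n * c = c * n := fun c hc n hn =>
    (Subgroup.mem_centralizer_iff.1 hc) n hn
  have hNC : ∀ x, x ∈ N → x ∈ C → x = 1 := by
    intro x hxN hxC
    have : x ∈ N ⊓ C := ⟨hxN, hxC⟩
    rw [hZ] at this
    simpa using this
  by_contra hV1
  -- (1) V ⊓ C ≠ V
  have hV1V : V ⊓ C ≠ V := by
    intro h
    have hVC : V ≤ C := by rw [← h]; exact inf_le_right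
    have hle : Subgroup.normalClosure (V : Set G) ≤ C := Subgroup.normalClosure_le_normal hVC
    rw [ctx.gen] at hle
    apply hN1
    rw [eq_bot_iff]
    intro x hx
    have := hNC x hx (hle (Subgroup.mem_top x))
    simpa using this
  -- (2) failure of the Sidki condition for V ⊓ C
  have hns := ctx.minV (V ⊓ C) inf_le_left hV1V hV1
  unfold IsSidkiPair at hns
  push Not at hns
  obtain ⟨h, v1, hv1, ho, hinv, hnc⟩ := hns
  have hv1V : v1 ∈ V := hv1.1
  have hv1C : v1 ∈ C := hv1.2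
  have hh1 : h ≠ 1 := by
    intro h1
    obtain ⟨w, hw1⟩ := (Subgroup.ne_bot_iff_exists_ne_one).1 hV1
    have hw1' : (w : G) ≠ 1 := fun e => hw1 (Subtype.ext e)
    exact hnc (w : G) w.2 hw1' (by rw [h1]; simp)
  have hhC : h ∈ C := by
    apply mem_of_sq_mem_of_odd ho
    have h2 : (h ^ 2)⁻¹ = v1 * (h * v1⁻¹ * h⁻¹) := by
      have : (h ^ 2)⁻¹ = h⁻¹ * h⁻¹ := by rw [pow_two, mul_inv_rev]
      rw [this]
      nth_rewrite 1 [← hinv]
      group
    have h3 : (h ^ 2)⁻¹ ∈ C := by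
      rw [h2]
      exact mul_mem hv1C (hCn.conj_mem _ (inv_mem hv1C) h)
    simpa using inv_mem h3
  -- (3) U := V ⊓ C_G(h)
  set U := V ⊓ Subgroup.centralizer ({h} : Set G) with hU
  have hmemU : ∀ x, x ∈ U ↔ x ∈ V ∧ x * h = h * x := by
    intro x
    rw [hU, Subgroup.mem_inf, Subgroup.mem_centralizer_iff]
    constructor
    · rintro ⟨h1, h2⟩
      exact ⟨h1, (h2 h (Set.mem_singleton h)).symm⟩
    · rintro ⟨h1, h2⟩
      refine ⟨h1, ?_⟩
      intro y hy
      rw [Set.mem_singleton_iff] at hy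
      rw [hy]
      exact h2.symm
  have hU1 : U ≠ ⊥ := by
    obtain ⟨w, hw, hw1, hwc⟩ := ctx.sidki h v1 hv1V ho hinv
    intro hbot
    have : w ∈ U := (hmemU w).2 ⟨hw, hwc⟩
    rw [hbot] at this
    exact hw1 (by simpa using this)
  have hUC : ∀ x, x ∈ U → x ∈ C → x = 1 := by
    intro x hxU hxC
    by_contra hx1
    have hx := (hmemU x).1 hxU
    exact hnc x ⟨hx.1, hxC⟩ hx1 hx.2
  have hUsq : ∀ u ∈ U, u * u = 1 := fun u hu => elem_sq ctx.elem ((hmemU u).1 hu).1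
  -- (4) X := N ⊔ U ≠ ⊤
  have hXmem : ∀ g, g ∈ N ⊔ U → ∃ n ∈ N, ∃ u ∈ U, g = n * u := by
    intro g hg
    have : g ∈ ((N ⊔ U : Subgroup G) : Set G) := hg
    rw [Subgroup.normal_mul] at this
    obtain ⟨n, hn, u, hu, rfl⟩ := Set.mem_mul.1 this
    exact ⟨n, hn, u, hu, rfl⟩
  have hXtop : N ⊔ U ≠ ⊤ := by
    intro htop
    obtain ⟨n, hn, u, hu, hnu⟩ := hXmem h (by rw [htop]; exact Subgroup.mem_top h)
    have hsqN : h ^ 2 ∈ N := by
      rw [hnu]
      exact sq_mem_of_mul hN hn (hUsq u hu)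
    have hsqC : h ^ 2 ∈ C := pow_mem hhC 2
    exact hh1 (eq_one_of_sq_eq_one_of_odd ho (hNC _ hsqN hsqC))
  -- (5) RelSidki X U fails
  have hrel : ¬ RelSidki (N ⊔ U) U := by
    intro hrel
    obtain ⟨x, hxU, hx1, hxcore⟩ := ctx.minG hXtop le_sup_right
      (elem_mono ctx.elem inf_le_left) hU1 hrel
    have hxC : x ∈ C := by
      rw [hC, Subgroup.mem_centralizer_iff]
      intro n hn
      exact (pCoreOf_commute_of_normal hN le_sup_left ctx.core hxcore hn).symm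
    exact hx1 (hUC x hxU hxC)
  unfold RelSidki at hrel
  push Not at hrel
  obtain ⟨k, hkX, w, hwU, hko, hkinv, hknc⟩ := hrel
  have hkN : k ∈ N := by
    apply mem_of_sq_mem_of_odd hko
    obtain ⟨n, hn, u, hu, hnu⟩ := hXmem k hkX
    rw [hnu]
    exact sq_mem_of_mul hN hn (hUsq u hu)
  -- (6)
  have hw := (hmemU w).1 hwU
  have hhk : h * k = k * h := (hcomm h hhC k hkN).symm
  have hth : (v1 * w) * h * (v1 * w)⁻¹ = h⁻¹ := by
    have : (v1 * w) * h * (v1 * w)⁻¹ = v1 * (w * h * w⁻¹) * v1⁻¹ := by group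
    rw [this, hw.2, mul_inv_cancel_right, hinv]
  have htk : (v1 * w) * k * (v1 * w)⁻¹ = k⁻¹ := by
    have : (v1 * w) * k * (v1 * w)⁻¹ = v1 * (w * k * w⁻¹) * v1⁻¹ := by group
    rw [this, hkinv, ← hcomm v1 hv1C k⁻¹ (inv_mem hkN), mul_inv_cancel_right]
  have hthk : (v1 * w) * (h * k) * (v1 * w)⁻¹ = (h * k)⁻¹ := by
    have : (v1 * w) * (h * k) * (v1 * w)⁻¹
        = ((v1 * w) * h * (v1 * w)⁻¹) * ((v1 * w) * k * (v1 * w)⁻¹) := by group
    rw [this, hth, htk, hhk, mul_inv_rev]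
  have hohk : Odd (orderOf (h * k)) := odd_orderOf_mul_of_commute hhk ho hko
  obtain ⟨w', hw'V, hw'1, hw'c⟩ := ctx.sidki (h * k) (v1 * w) (mul_mem hv1V hw.1) hohk hthk
  -- w' centralizes h and k
  have hconjC : w' * h * w'⁻¹ ∈ C := hCn.conj_mem h hhC w'
  have hconjN : w' * k * w'⁻¹ ∈ N := hN.conj_mem k hkN w'
  have hprod : (w' * h * w'⁻¹) * (w' * k * w'⁻¹) = h * k := by
    have : (w' * h * w'⁻¹) * (w' * k * w'⁻¹) = w' * (h * k) * w'⁻¹ := by group
    rw [this, hw'c, mul_inv_cancel_right]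
  have hkey : h⁻¹ * (w' * h * w'⁻¹) = k * (w' * k * w'⁻¹)⁻¹ := by
    have : w' * h * w'⁻¹ = h * k * (w' * k * w'⁻¹)⁻¹ := by
      rw [← hprod, mul_inv_cancel_right]
    rw [this]
    group
  have hkeyC : h⁻¹ * (w' * h * w'⁻¹) ∈ C := mul_mem (inv_mem hhC) hconjC
  have hkeyN : h⁻¹ * (w' * h * w'⁻¹) ∈ N := by
    rw [hkey]
    exact mul_mem hkN (inv_mem hconjN)
  have hone : h⁻¹ * (w' * h * w'⁻¹) = 1 := hNC _ hkeyN hkeyC
  have hw'h : w' * h = h * w' := by
    have : w' * h * w'⁻¹ = h := by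
      have := congrArg (fun x => h * x) hone
      simpa using this
    calc w' * h = (w' * h * w'⁻¹) * w' := by group
      _ = h * w' := by rw [this]
  have hone' : k * (w' * k * w'⁻¹)⁻¹ = 1 := by rw [← hkey]; exact hone
  have hw'k : w' * k = k * w' := by
    have : w' * k * w'⁻¹ = k := by
      have h1 : k = w' * k * w'⁻¹ := by
        have := mul_inv_eq_one.1 hone'
        exact this
      exact h1.symm
    calc w' * k = (w' * k * w'⁻¹) * w' := by group
      _ = k * w' := by rw [this]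
  exact hknc w' ((hmemU w').2 ⟨hw'V, hw'h⟩) hw'1 hw'k

end Cfsg.Agent.Helper70.SidkiK
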