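-- helper70: piece (T2) `exists_adjust` of helper8's farm #12989 (S3385 + S3685).
import Mathlib
import Cfsg.Agent.Helper8.Sims3Defs

set_option autoImplicit false

namespace Cfsg.Agent.Helper70.Sims3

open Cfsg.Agent.Helper8.Sims3 Pointwise

variable {G : Type*} [Group G]

/-- (T2) if `B` is not normal in `P`, we may change `g` so that `gBg⁻¹ ≠ B`. -/
theorem exists_adjust {P : Subgroup G} {g : G} (h : Setup P g)
    (hn : ¬ ∀ p ∈ P, MulAut.conj p • (P ⊓ MulAut.conj g • P) = P ⊓ MulAut.conj g • P) :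
    ∃ g' : G, Setup P g' ∧
      MulAut.conj g' • (P ⊓ MulAut.conj g' • P) ≠ P ⊓ MulAut.conj g' • P := by
  by_cases hg : MulAut.conj g • (P ⊓ MulAut.conj g • P) = P ⊓ MulAut.conj g • P
  · simp only [not_forall] at hn
    obtain ⟨p, hp, hpB⟩ := hn
    have hP : MulAut.conj (g * p) • P = MulAut.conj g • P := by
      rw [map_mul, mul_smul, Subgroup.conj_smul_eq_self_of_mem hp]
    refine ⟨g * p, ⟨h.coatom, h.core, ?_⟩, ?_⟩
    · rw [hP]; exact h.idx
    · rw [hP]
      intro heq
      apply hpB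
      have h2 : MulAut.conj g • (MulAut.conj p • (P ⊓ MulAut.conj g • P)) =
          MulAut.conj g • (P ⊓ MulAut.conj g • P) := by
        rw [← mul_smul, ← map_mul, heq, hg]
      exact smul_left_cancel _ h2
  · exact ⟨g, h, hg⟩

end Cfsg.Agent.Helper70.Sims3
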