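import Mathlib
import Cfsg.Agent.Helper86.Spec4.DefsU

/-!
# S2511 (helper86), piece (V8): a nontrivial self-adjoint idempotent
-/

set_option autoImplicit false

namespace Cfsg.Agent.Helper70.Spec4U

open Matrix Polynomial Cfsg.Agent.Helper86.Spec4

variable {F : Type*} [Field F] [Fintype F] {q n : ℕ}

/-- (V8) a nontrivial self-adjoint idempotent. -/
theorem exists_idempotent_U (bar : F →+* F) (hn : 2 ≤ n) :
    ∃ e : Matrix (Fin n) (Fin n) F, e * e = e ∧ dag bar e = e ∧ e ≠ 0 ∧ e ≠ 1 := by
  obtain ⟨k, rfl⟩ : ∃ k, n = k + 2 := ⟨n - 2, by omega⟩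
  refine ⟨Matrix.diagonal (fun i => if i = 0 then 1 else 0), ?_, ?_, ?_, ?_⟩
  · rw [Matrix.diagonal_mul_diagonal]
    congr 1
    funext i
    split_ifs <;> simp
  · ext i j
    rw [dag_apply, Matrix.diagonal_apply, Matrix.diagonal_apply]
    by_cases hij : i = j
    · subst hij
      split_ifs <;> simp
    · rw [if_neg hij, if_neg (Ne.symm hij), map_zero]
  · intro h0
    have := congrFun (congrFun h0 0) 0
    simp at this
  · intro h1
    have := congrFun (congrFun h1 1) 1
    rw [Matrix.diagonal_apply_eq, Matrix.one_apply_eq, if_neg (by simp)] at this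
    exact zero_ne_one this

end Cfsg.Agent.Helper70.Spec4U
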