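import Cfsg.Agent.Helper70.Syl2

set_option autoImplicit false
set_option linter.unusedSectionVars false
set_option linter.style.haveILetI false

open scoped Classical Pointwise

namespace Cfsg.Agent.Helper70.Syl

open Cfsg.Agent.Helper70.PCount

section caseB
variable {G : Type*} [Group G] [Finite G] [IsSimpleGroup G] [hp : Fact (Nat.Prime 17)]

/-- the Sylow subgroups normalized by `c` -/
noncomputable def fixedBy (c : G) : Finset (Sylow 17 G) :=
  haveI : Fintype (Sylow 17 G) := Fintype.ofFinite _
  Finset.univ.filter (fun R : Sylow 17 G => c • R = R)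

theorem mem_fixedBy {c : G} {R : Sylow 17 G} : R ∈ fixedBy c ↔ c • R = R := by
  simp [fixedBy]

theorem fixedBy_invariant (P : Sylow 17 G) (c : G) (hc : c ∈ Subgroup.centralizer (P : Set G)) :
    ∀ g ∈ P, ∀ R ∈ fixedBy c, g • R ∈ fixedBy c := by
  intro g hg R hR
  rw [mem_fixedBy] at *
  have hcomm : g * c = c * g := hc g hg
  rw [← mul_smul, ← hcomm, mul_smul, hR]

theorem self_mem_fixedBy (P : Sylow 17 G) (c : G) (hc : c ∈ Subgroup.centralizer (P : Set G)) :
    P ∈ fixedBy c := by
  rw [mem_fixedBy, Sylow.smul_eq_iff_mem_normalizer]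
  exact Subgroup.centralizer_le_normalizer _ hc

theorem card_fixedBy (h35 : Nat.card (Sylow 17 G) = 35) (P : Sylow 17 G) (c : G)
    (hc : c ∈ Subgroup.centralizer (P : Set G)) :
    (fixedBy c).card = 1 ∨ (fixedBy c).card = 18 ∨ (fixedBy c).card = 35 := by
  have h1 := card_modEq_of_invariant P (fixedBy c) (fixedBy_invariant P c hc)
  rw [if_pos (self_mem_fixedBy P c hc)] at h1
  have h2 : (fixedBy c).card ≤ 35 := by
    letI : Fintype (Sylow 17 G) := Fintype.ofFinite _
    rw [← h35, Nat.card_eq_fintype_card]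
    exact Finset.card_le_univ _
  unfold Nat.ModEq at h1
  omega

theorem eq_one_of_card_fixedBy (h35 : Nat.card (Sylow 17 G) = 35) (c : G)
    (h : (fixedBy c).card = 35) : c = 1 := by
  apply eq_one_of_forall_smul_eq (p := 17) (by rw [h35]; norm_num)
  intro R
  letI : Fintype (Sylow 17 G) := Fintype.ofFinite _
  rw [← mem_fixedBy]
  have : fixedBy c = Finset.univ := by
    rw [← Finset.card_eq_iff_eq_univ, h, ← h35, Nat.card_eq_fintype_card]
  rw [this]
  exact Finset.mem_univ R

theorem smul_pow_eq (c : G) (R : Sylow 17 G) (h : c • R = R) (k : ℕ) : c ^ k • R = R := by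
  induction k with
  | zero => simp
  | succ k ih => rw [pow_succ, mul_smul, h, ih]

theorem pow_eq_one_of_fixes (h35 : Nat.card (Sylow 17 G) = 35) (P : Sylow 17 G)
    (hP : Nat.card (P : Subgroup G) = 17) (c : G) (hc : c ∈ Subgroup.centralizer (P : Set G))
    (h2 : 2 ≤ (fixedBy c).card) : c ^ 17 = 1 := by
  rcases card_fixedBy h35 P c hc with h | h | h
  · omega
  · letI : Fintype (Sylow 17 G) := Fintype.ofFinite _
    set B := (Finset.univ : Finset (Sylow 17 G)) \ fixedBy c with hB
    have hBcard : B.card = 17 := by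
      rw [hB, Finset.card_sdiff_of_subset (Finset.subset_univ _), h, Finset.card_univ,
        ← Nat.card_eq_fintype_card, h35]
    have hmemB : ∀ R : Sylow 17 G, R ∈ B ↔ ¬ c • R = R := by
      intro R; rw [hB, Finset.mem_sdiff, mem_fixedBy]; simp
    obtain ⟨R₀, hR₀⟩ : B.Nonempty := Finset.card_pos.mp (by omega)
    set O := (Finset.univ : Finset (Sylow 17 G)).filter (fun R => ∃ g ∈ P, g • R₀ = R) with hO
    have hmemO : ∀ R : Sylow 17 G, R ∈ O ↔ ∃ g ∈ P, g • R₀ = R := by
      intro R; rw [hO, Finset.mem_filter]; simp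
    have hOinv : ∀ g ∈ P, ∀ R ∈ O, g • R ∈ O := by
      intro g hg R hR
      rw [hmemO] at hR ⊢
      obtain ⟨k, hk, rfl⟩ := hR
      exact ⟨g * k, mul_mem hg hk, mul_smul g k R₀⟩
    have hcomm : ∀ g ∈ P, ∀ R : Sylow 17 G, c • g • R = g • c • R := by
      intro g hg R
      have hcomm : g * c = c * g := hc g hg
      rw [← mul_smul, ← hcomm, mul_smul]
    have hOB : O ⊆ B := by
      intro R hR
      rw [hmemO] at hR
      obtain ⟨g, hg, rfl⟩ := hR
      rw [hmemB, hcomm g hg]
      intro h
      exact (hmemB R₀).mp hR₀ (smul_left_cancel g h)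
    have hPO : P ∉ O := by
      intro h
      have hPB := hOB h
      rw [hmemB] at hPB
      exact hPB (mem_fixedBy.mp (self_mem_fixedBy P c hc))
    have hOcard := card_modEq_of_invariant P O hOinv
    rw [if_neg hPO] at hOcard
    have hR₀O : R₀ ∈ O := (hmemO R₀).mpr ⟨1, one_mem _, one_smul _ _⟩
    have hOpos : 0 < O.card := Finset.card_pos.mpr ⟨R₀, hR₀O⟩
    have hOle : O.card ≤ B.card := Finset.card_le_card hOB
    have hOeq : O = B := by
      apply Finset.eq_of_subset_of_card_le hOB
      unfold Nat.ModEq at hOcard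
      omega
    have hcR₀ : c • R₀ ∈ B := by
      rw [hmemB]
      intro h
      exact (hmemB R₀).mp hR₀ (smul_left_cancel c h)
    rw [← hOeq, hmemO] at hcR₀
    obtain ⟨g, hg, hgR⟩ := hcR₀
    have hpow : ∀ k : ℕ, c ^ k • R₀ = g ^ k • R₀ := by
      intro k
      induction k with
      | zero => simp
      | succ k ih =>
        rw [pow_succ', mul_smul, ih, hcomm (g ^ k) (pow_mem hg k), ← hgR, ← mul_smul, ← pow_succ]
    have hg17 : g ^ 17 = 1 := by
      have : (⟨g, hg⟩ : (P : Subgroup G)) ^ Nat.card (P : Subgroup G) = 1 := pow_card_eq_one'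
      rw [hP] at this
      exact congrArg Subtype.val this
    have hfix : c ^ 17 • R₀ = R₀ := by rw [hpow, hg17, one_smul]
    have hc17 : c ^ 17 ∈ Subgroup.centralizer ((P : Subgroup G) : Set G) := pow_mem hc 17
    have hsub : insert R₀ (fixedBy c) ⊆ fixedBy (c ^ 17) := by
      intro R hR
      rw [Finset.mem_insert] at hR
      rw [mem_fixedBy]
      rcases hR with rfl | hR
      · exact hfix
      · rw [mem_fixedBy] at hR
        exact smul_pow_eq c R hR 17
    have hR₀c : R₀ ∉ fixedBy c := fun h' => (hmemB R₀).mp hR₀ (mem_fixedBy.mp h')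
    have hcard19 : 19 ≤ (fixedBy (c ^ 17)).card := by
      calc 19 = (insert R₀ (fixedBy c)).card := by rw [Finset.card_insert_of_notMem hR₀c, h]
        _ ≤ _ := Finset.card_le_card hsub
    rcases card_fixedBy h35 P (c ^ 17) hc17 with h' | h' | h'
    · omega
    · omega
    · exact eq_one_of_card_fixedBy h35 _ h'
  · rw [eq_one_of_card_fixedBy h35 c h, one_pow]

end caseB

end Cfsg.Agent.Helper70.Syl
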