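import Cfsg.Agent.Helper70.Syl3

set_option autoImplicit false
set_option linter.unusedSectionVars false
set_option linter.style.haveILetI false

open scoped Classical Pointwise

namespace Cfsg.Agent.Helper70.Syl

open Cfsg.Agent.Helper70.PCount

section caseB
variable {G : Type*} [Group G] [Finite G] [IsSimpleGroup G] [hp : Fact (Nat.Prime 17)]

theorem card_ge_of_card_sylow (h35 : Nat.card (Sylow 17 G) = 35) : 35 ≤ Nat.card G := by
  obtain ⟨P⟩ : Nonempty (Sylow 17 G) := inferInstance
  rw [← h35, P.card_eq_index_normalizer]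
  exact Nat.le_of_dvd Nat.card_pos (Subgroup.index_dvd_card _)

/-- every element of a simple group of order `> 2` acts as an even permutation -/
theorem sign_toPerm_eq_one (hG : 2 < Nat.card G) {Ω : Type*} [Fintype Ω] [MulAction G Ω] (c : G) :
    Equiv.Perm.sign (MulAction.toPermHom G Ω c) = 1 := by
  let ψ : G →* ℤˣ := (Equiv.Perm.sign).comp (MulAction.toPermHom G Ω)
  rcases (MonoidHom.normal_ker ψ).eq_bot_or_eq_top with h | h
  · exfalso
    have hinj : Function.Injective ψ := (MonoidHom.ker_eq_bot_iff ψ).mp h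
    have := Nat.card_le_card_of_injective ψ hinj
    rw [Nat.card_eq_fintype_card (α := ℤˣ), Fintype.card_units_int] at this
    omega
  · have : c ∈ ψ.ker := by rw [h]; exact Subgroup.mem_top c
    exact MonoidHom.mem_ker.mp this

theorem sign_of_involution {Ω : Type*} [Fintype Ω] (σ : Equiv.Perm Ω) (h2 : orderOf σ = 2)
    (m : ℕ) (hm : σ.support.card = 2 * m) : Equiv.Perm.sign σ = (-1) ^ m := by
  have hprime : (orderOf σ).Prime := by rw [h2]; exact Nat.prime_two
  obtain ⟨n, hn⟩ := Equiv.Perm.cycleType_prime_order hprime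
  rw [h2] at hn
  have hsum := Equiv.Perm.sum_cycleType σ
  rw [hn, Multiset.sum_replicate, smul_eq_mul, hm] at hsum
  have hnm : n + 1 = m := by omega
  rw [Equiv.Perm.sign_of_cycleType', hn, Multiset.map_replicate, Multiset.prod_replicate, hnm]
  norm_num

theorem no_prime_order (h35 : Nat.card (Sylow 17 G) = 35) (P : Sylow 17 G)
    (hP : Nat.card (P : Subgroup G) = 17) (c : G) (hc : c ∈ Subgroup.centralizer (P : Set G))
    (q : ℕ) (hq : q.Prime) (hord : orderOf c = q) (hq17 : q ≠ 17) : False := by
  haveI : Fact q.Prime := ⟨hq⟩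
  letI : Fintype (Sylow 17 G) := Fintype.ofFinite _
  have hn1 : Nat.card (Sylow 17 G) ≠ 1 := by rw [h35]; norm_num
  have hc1 : c ≠ 1 := by
    rintro rfl
    rw [orderOf_one] at hord
    exact hq.one_lt.ne hord
  -- c fixes only P
  have hfix1 : (fixedBy c).card = 1 := by
    rcases card_fixedBy h35 P c hc with h | h | h
    · exact h
    · exfalso
      have := pow_eq_one_of_fixes h35 P hP c hc (by omega)
      have hdvd := orderOf_dvd_of_pow_eq_one this
      rw [hord] at hdvd
      exact hq17 ((Nat.prime_dvd_prime_iff_eq hq hp.out).mp hdvd)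
    · exfalso
      have := pow_eq_one_of_fixes h35 P hP c hc (by omega)
      have hdvd := orderOf_dvd_of_pow_eq_one this
      rw [hord] at hdvd
      exact hq17 ((Nat.prime_dvd_prime_iff_eq hq hp.out).mp hdvd)
  -- q divides 34
  have hZ : IsPGroup q (Subgroup.zpowers c) := by
    apply IsPGroup.of_card (n := 1)
    rw [Nat.card_zpowers, hord, pow_one]
  have hcong := card_modEq_card_fixed (p := q) hZ (Finset.univ : Finset (Sylow 17 G))
    (fun _ _ _ => Finset.mem_univ _)
  have hfe : (Finset.univ : Finset (Sylow 17 G)).filter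
      (fun R => ∀ g : Subgroup.zpowers c, g • R = R) = fixedBy c := by
    ext R
    rw [Finset.mem_filter, mem_fixedBy]
    constructor
    · rintro ⟨-, h⟩
      exact h ⟨c, Subgroup.mem_zpowers c⟩
    · intro h
      refine ⟨Finset.mem_univ _, ?_⟩
      rintro ⟨g, hg⟩
      obtain ⟨k, rfl⟩ := Subgroup.mem_zpowers_iff.mp hg
      rw [Subgroup.smul_def]
      show c ^ k • R = R
      have hstab : c ∈ MulAction.stabilizer G R := h
      exact zpow_mem hstab k
  rw [hfe, hfix1, Finset.card_univ, ← Nat.card_eq_fintype_card, h35] at hcong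
  have hq34 : q ∣ 34 := by
    have := (Nat.modEq_iff_dvd' (by norm_num : 1 ≤ 35)).mp hcong.symm
    simpa using this
  have hq2 : q = 2 := by
    have h34 : (34 : ℕ) = 2 * 17 := by norm_num
    rw [h34] at hq34
    rcases (Nat.Prime.dvd_mul hq).mp hq34 with h | h
    · exact (Nat.prime_dvd_prime_iff_eq hq Nat.prime_two).mp h
    · exact absurd ((Nat.prime_dvd_prime_iff_eq hq hp.out).mp h) hq17
  subst hq2
  -- the permutation induced by c is odd
  set σ : Equiv.Perm (Sylow 17 G) := MulAction.toPermHom G (Sylow 17 G) c with hσ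
  have hσ2 : σ ^ 2 = 1 := by
    rw [hσ, ← map_pow, ← hord, pow_orderOf_eq_one, map_one]
  have hσ1 : σ ≠ 1 := by
    intro h
    apply hc1
    apply eq_one_of_forall_smul_eq hn1
    intro R
    have := congrArg (fun τ : Equiv.Perm (Sylow 17 G) => τ R) h
    simpa [hσ] using this
  have hσord : orderOf σ = 2 := orderOf_eq_prime hσ2 hσ1
  have hsupp : σ.support = Finset.univ \ fixedBy c := by
    ext R
    rw [Equiv.Perm.mem_support, Finset.mem_sdiff, mem_fixedBy]
    simp [hσ]
  have hsuppcard : σ.support.card = 2 * 17 := by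
    rw [hsupp, Finset.card_sdiff_of_subset (Finset.subset_univ _), hfix1, Finset.card_univ,
      ← Nat.card_eq_fintype_card, h35]
  have hsign := sign_of_involution σ hσord 17 hsuppcard
  have hG : 2 < Nat.card G := by
    have := card_ge_of_card_sylow h35
    omega
  have hone := sign_toPerm_eq_one hG (Ω := Sylow 17 G) c
  rw [← hσ, hsign] at hone
  norm_num at hone

end caseB

end Cfsg.Agent.Helper70.Syl
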