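import Mathlib
import Cfsg.Agent.Helper13.USubDefs
import Cfsg.Agent.Helper38.ChainBasis

/-!
# (U2c) of helper13's S5982 engine (#7436): characteristic two

In characteristic two every element of `SL_n(F)` with scalar square is `SL`-conjugate into the
similarity group of the standard hermitian form: `x = w (1 + N)` with `N ^ 2 = 0`, and `1 + N`
permutes a suitable basis (of determinant one), so it is conjugate to a permutation matrix.
-/

set_option autoImplicit false
set_option linter.unusedSectionVars false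
set_option linter.unusedVariables false

namespace Cfsg.Agent.Helper70.USubU2c

open Matrix Polynomial Module Cfsg Cfsg.Geo
open Cfsg.Agent.Helper43.SS Cfsg.Agent.Helper38.Chain
open Cfsg.Agent.Helper13.USub

universe u

variable {F : Type u} [Field F] {n : ℕ}

/-- an involution `1 + N` (`N ^ 2 = 0`, characteristic two) permutes a basis of determinant one -/
theorem exists_perm_basis_of_sq_zero (h2 : (2 : F) = 0) (hsq : ∀ a : F, ∃ b : F, b * b = a)
    (hn : 0 < n) (N : Matrix (Fin n) (Fin n) F) (hN : N ^ 2 = 0) :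
    ∃ (P : GL (Fin n) F) (τ : Equiv.Perm (Fin n)), P.val.det = 1 ∧
      ∀ k, ((P⁻¹ : GL (Fin n) F).val * (1 + N) * P.val) *ᵥ Pi.single k 1 =
        Pi.single (τ k) 1 := by
  classical
  obtain ⟨l, hl⟩ := exists_isJType N 2 hN
  have hpos : ∀ a ∈ l, 0 < a := hl.2.1
  have hle : ∀ a ∈ l, a ≤ 2 := (hl.pow_eq_zero_iff 2).mp hN
  have hsum : l.sum = n := hl.sum_eq
  obtain ⟨b, hb⟩ := exists_chain_basis N hl
  have hpos' : ∀ j : Fin l.length, 0 < l.get j := fun j => hpos _ (List.get_mem l j)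
  have hle' : ∀ j : Fin l.length, l.get j ≤ 2 := fun j => hle _ (List.get_mem l j)
  -- the operator `M` (transpose of `N` in the basis `b`)
  set M : (Fin n → F) →ₗ[F] (Fin n → F) :=
    b.constr F (fun x : (Σ j : Fin l.length, Fin (l.get j)) =>
      if (x.2 : ℕ) = 0 then (0 : Fin n → F) else b ⟨x.1, ⟨0, hpos' x.1⟩⟩) with hMdef
  have hMb : ∀ x : (Σ j : Fin l.length, Fin (l.get j)), M (b x) =
      if (x.2 : ℕ) = 0 then (0 : Fin n → F) else b ⟨x.1, ⟨0, hpos' x.1⟩⟩ := by
    intro x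
    rw [hMdef, Basis.constr_basis]
  have hMM : ∀ v, M (M v) = 0 := by
    have : M.comp M = 0 := by
      apply b.ext
      intro x
      rw [LinearMap.comp_apply, hMb, LinearMap.zero_apply]
      split_ifs with h
      · exact map_zero M
      · rw [hMb, if_pos rfl]
    intro v
    have := LinearMap.congr_fun this v
    rwa [LinearMap.comp_apply, LinearMap.zero_apply] at this
  have hvv : ∀ v : Fin n → F, v + v = 0 := by
    intro v
    rw [← two_smul F v, h2, zero_smul]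
  set T : (Fin n → F) →ₗ[F] (Fin n → F) := LinearMap.id + M with hTdef
  have hTv : ∀ v, T v = v + M v := fun v => rfl
  have hT : Function.Involutive T := by
    intro v
    rw [hTv, hTv, map_add, hMM, add_zero, add_assoc, hvv, add_zero]
  set c := b.map (LinearEquiv.ofInvolutive T hT) with hcdef
  have hc : ∀ x, c x = b x + M (b x) := by
    intro x
    rw [hcdef, Basis.map_apply, LinearEquiv.coe_ofInvolutive, hTv]
  -- values of `c`
  have hc0 : ∀ (j : Fin l.length), c ⟨j, ⟨0, hpos' j⟩⟩ = b ⟨j, ⟨0, hpos' j⟩⟩ := by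
    intro j
    rw [hc, hMb, if_pos rfl, add_zero]
  have hc1 : ∀ (j : Fin l.length) (h : 1 < l.get j),
      c ⟨j, ⟨1, h⟩⟩ = b ⟨j, ⟨1, h⟩⟩ + b ⟨j, ⟨0, hpos' j⟩⟩ := by
    intro j h
    rw [hc, hMb, if_neg (by norm_num)]
  have hb0 : ∀ (j : Fin l.length), N *ᵥ b ⟨j, ⟨0, hpos' j⟩⟩ =
      if h : 1 < l.get j then b ⟨j, ⟨1, h⟩⟩ else 0 := by
    intro j
    have := hb j ⟨0, hpos' j⟩
    rw [this]
  have hb1 : ∀ (j : Fin l.length) (h : 1 < l.get j), N *ᵥ b ⟨j, ⟨1, h⟩⟩ = 0 := by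
    intro j h
    have := hb j ⟨1, h⟩
    rw [this, dif_neg]
    have := hle' j
    simp only [not_lt]
    omega
  -- the permutation
  set σ : Equiv.Perm (Σ j : Fin l.length, Fin (l.get j)) :=
    Equiv.sigmaCongrRight (fun j => Fin.revPerm) with hσdef
  have hσ1 : ∀ x, (σ x).1 = x.1 := fun x => rfl
  have key : ∀ x, (1 + N) *ᵥ c x = c (σ x) := by
    rintro ⟨j, i⟩
    have hσx : σ ⟨j, i⟩ = ⟨j, i.rev⟩ := rfl
    rw [hσx, Matrix.add_mulVec, Matrix.one_mulVec]
    have hL := hle' j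
    have hP := hpos' j
    have hi := i.2
    by_cases hi0 : (i : ℕ) = 0
    · have hie : i = ⟨0, hpos' j⟩ := Fin.ext hi0
      rw [hie, hc0, hb0]
      by_cases h1 : 1 < l.get j
      · rw [dif_pos h1]
        have hrev : (⟨0, hpos' j⟩ : Fin (l.get j)).rev = ⟨1, h1⟩ := by
          apply Fin.ext
          rw [Fin.val_rev]
          show l.get j - (0 + 1) = 1
          omega
        rw [hrev, hc1]
        exact add_comm _ _
      · rw [dif_neg h1, add_zero]
        have hrev : (⟨0, hpos' j⟩ : Fin (l.get j)).rev = ⟨0, hpos' j⟩ := by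
          apply Fin.ext
          rw [Fin.val_rev]
          show l.get j - (0 + 1) = 0
          omega
        rw [hrev, hc0]
    · have hi1 : (i : ℕ) = 1 := by omega
      have h1 : 1 < l.get j := by omega
      have hie : i = ⟨1, h1⟩ := Fin.ext hi1
      rw [hie, hc1, Matrix.mulVec_add, hb1, hb0, dif_pos h1, zero_add]
      have hrev : (⟨1, h1⟩ : Fin (l.get j)).rev = ⟨0, hpos' j⟩ := by
        apply Fin.ext
        rw [Fin.val_rev]
        show l.get j - (1 + 1) = 0
        omega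
      rw [hrev, hc0]
      -- b1 + b0 + b1 = b0
      have := hvv (b ⟨j, ⟨1, h1⟩⟩)
      calc b ⟨j, ⟨1, h1⟩⟩ + b ⟨j, ⟨0, hpos' j⟩⟩ + b ⟨j, ⟨1, h1⟩⟩
          = b ⟨j, ⟨0, hpos' j⟩⟩ + (b ⟨j, ⟨1, h1⟩⟩ + b ⟨j, ⟨1, h1⟩⟩) := by abel
        _ = b ⟨j, ⟨0, hpos' j⟩⟩ := by rw [this, add_zero]
  -- reindexing
  have hcard : Fintype.card (Σ j : Fin l.length, Fin (l.get j)) = n := by
    rw [← Module.finrank_eq_card_basis b, Module.finrank_fin_fun]
  let e : (Σ j : Fin l.length, Fin (l.get j)) ≃ Fin n := Fintype.equivFinOfCardEq hcard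
  -- choice of the chain to rescale
  have hlne : l ≠ [] := by
    intro h
    rw [h, List.sum_nil] at hsum
    omega
  have hlen : 0 < l.length := List.length_pos_of_ne_nil hlne
  set j₀ : Fin l.length := ⟨0, hlen⟩ with hj₀
  have hdet0 : (colMat c e).det ≠ 0 := (isUnit_det_colMat c e).ne_zero
  obtain ⟨μ, hμ⟩ : ∃ μ : Fˣ, (μ : F) ^ l.get j₀ * (colMat c e).det = 1 := by
    have ha1 := hpos' j₀
    have ha2 := hle' j₀
    have hcase : l.get j₀ = 1 ∨ l.get j₀ = 2 := by omega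
    rcases hcase with h | h
    · refine ⟨Units.mk0 ((colMat c e).det)⁻¹ (inv_ne_zero hdet0), ?_⟩
      rw [h, pow_one, Units.val_mk0, inv_mul_cancel₀ hdet0]
    · obtain ⟨β, hβ⟩ := hsq ((colMat c e).det)⁻¹
      have hβ0 : β ≠ 0 := by
        intro h0
        rw [h0, mul_zero] at hβ
        exact inv_ne_zero hdet0 hβ.symm
      refine ⟨Units.mk0 β hβ0, ?_⟩
      rw [h, Units.val_mk0, pow_two, hβ, inv_mul_cancel₀ hdet0]
  set c' := c.unitsSMul (fun x => (if x.1 = j₀ then μ else 1 : Fˣ)) with hc'def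
  have hc' : ∀ x, c' x = (if x.1 = j₀ then μ else 1 : Fˣ) • c x := by
    intro x
    rw [hc'def, Basis.unitsSMul_apply]
  have key' : ∀ x, (1 + N) *ᵥ c' x = c' (σ x) := by
    intro x
    rw [hc', hc', hσ1, Units.smul_def, Units.smul_def, Matrix.mulVec_smul, key]
  have hu := isUnit_det_colMat c' e
  have hdet1 : (colMat c' e).det = 1 := by
    rw [hc'def, det_colMat_unitsSMul, prod_chain_scalar, hμ]
  obtain ⟨P, hPval⟩ : ∃ P : GL (Fin n) F, P.val = colMat c' e :=
    ⟨Matrix.GeneralLinearGroup.mk'' (colMat c' e) hu, rfl⟩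
  refine ⟨P, (e.symm.trans σ).trans e, by rw [hPval]; exact hdet1, ?_⟩
  intro k
  have hinv : (P⁻¹ : GL (Fin n) F).val * colMat c' e = 1 := by
    have h1 : ((P⁻¹ * P : GL (Fin n) F)).val = 1 := by
      rw [inv_mul_cancel]
      rfl
    rw [Units.val_mul, hPval] at h1
    exact h1
  rw [hPval, ← Matrix.mulVec_mulVec, ← Matrix.mulVec_mulVec, colMat_mulVec_single, key']
  have h3 : c' (σ (e.symm k)) = colMat c' e *ᵥ Pi.single (e (σ (e.symm k))) 1 := by
    rw [colMat_mulVec_single, Equiv.symm_apply_apply]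
  rw [h3, Matrix.mulVec_mulVec, hinv, Matrix.one_mulVec]
  rfl

/-- a matrix permuting the standard basis preserves the standard hermitian form -/
theorem hermForm_perm (q₀ : ℕ) (Y : Matrix (Fin n) (Fin n) F) (τ : Equiv.Perm (Fin n))
    (hY : ∀ k, Y *ᵥ Pi.single k 1 = Pi.single (τ k) 1) (u v : Fin n → F) :
    Cfsg.hermForm n F q₀ (Y *ᵥ u) (Y *ᵥ v) = Cfsg.hermForm n F q₀ u v := by
  classical
  have hYv : ∀ (v : Fin n → F) (i : Fin n), (Y *ᵥ v) i = v (τ.symm i) := by
    intro v i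
    have hent : ∀ k, Y i k = (Pi.single (τ k) (1 : F) : Fin n → F) i := by
      intro k
      have := congrFun (hY k) i
      rwa [Matrix.mulVec_single_one] at this
    show ∑ k, Y i k * v k = v (τ.symm i)
    rw [Finset.sum_eq_single (τ.symm i)]
    · rw [hent, Equiv.apply_symm_apply, Pi.single_eq_same, one_mul]
    · intro k _ hk
      rw [hent, Pi.single_eq_of_ne, zero_mul]
      intro h
      apply hk
      rw [h, Equiv.symm_apply_apply]
    · intro h
      exact absurd (Finset.mem_univ _) h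
  unfold Cfsg.hermForm
  simp only [hYv]
  exact Equiv.sum_comp τ.symm (fun i => u i * v i ^ q₀)

/-- **(U2c)** characteristic two -/
theorem conj_of_char_two [Fintype F] (q₀ : ℕ) (hF : Fintype.card F = q₀ ^ 2) (h2 : (2 : F) = 0)
    (hn : 0 < n) (x : GL (Fin n) F) (hx : x ∈ SLs n F) (z : F)
    (hxz : ((x ^ 2 : GL (Fin n) F) : Matrix (Fin n) (Fin n) F) =
      z • (1 : Matrix (Fin n) (Fin n) F)) :
    ∃ g ∈ SLs n F, g⁻¹ * x * g ∈ SimH n F q₀ := by
  classical
  have : Nonempty (Fin n) := ⟨⟨0, hn⟩⟩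
  have hz0 : z ≠ 0 := by
    intro hz
    rw [hz, zero_smul] at hxz
    have h1 : IsUnit ((x ^ 2 : GL (Fin n) F) : Matrix (Fin n) (Fin n) F) := (x ^ 2).isUnit
    rw [hxz] at h1
    exact not_isUnit_zero h1
  have : CharP F 2 := CharTwo.of_one_ne_zero_of_two_eq_zero one_ne_zero h2
  have hrc : ringChar F = 2 := ringChar.eq F 2
  have hsq : ∀ a : F, ∃ b : F, b * b = a := by
    intro a
    obtain ⟨b, hb⟩ := FiniteField.isSquare_of_char_two hrc a
    exact ⟨b, hb.symm⟩
  obtain ⟨w, hw⟩ := hsq z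
  have hw0 : w ≠ 0 := by
    intro h
    rw [h, mul_zero] at hw
    exact hz0 hw.symm
  set X : Matrix (Fin n) (Fin n) F := (x : Matrix (Fin n) (Fin n) F) with hX
  have hXX : X * X = z • (1 : Matrix (Fin n) (Fin n) F) := by
    rw [← hxz, pow_two, Units.val_mul]
  set N₁ : Matrix (Fin n) (Fin n) F := w⁻¹ • X - 1 with hN₁
  have hN₁sq : N₁ ^ 2 = 0 := by
    rw [pow_two, hN₁]
    have e1 : (w⁻¹ • X - 1) * (w⁻¹ • X - 1) =
        (w⁻¹ * w⁻¹) • (X * X) - (2 : F) • (w⁻¹ • X) + 1 := by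
      rw [sub_mul, mul_sub, mul_sub, Matrix.smul_mul, Matrix.mul_smul, smul_smul, mul_one, one_mul,
        mul_one, two_smul]
      abel
    rw [e1, hXX, h2, zero_smul, sub_zero, smul_smul]
    have e2 : w⁻¹ * w⁻¹ * z = 1 := by
      rw [← hw]; field_simp
    rw [e2, one_smul]
    have : (1 : Matrix (Fin n) (Fin n) F) + 1 = (2 : F) • (1 : Matrix (Fin n) (Fin n) F) := by
      rw [two_smul]
    rw [this, h2, zero_smul]
  obtain ⟨P, τ, hPdet, hPτ⟩ := exists_perm_basis_of_sq_zero h2 hsq hn N₁ hN₁sq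
  have hPmem : P ∈ SLs n F := by
    show P ∈ (Matrix.GeneralLinearGroup.det : GL (Fin n) F →* Fˣ).ker
    rw [MonoidHom.mem_ker]
    apply Units.ext
    rw [Matrix.GeneralLinearGroup.val_det_apply, hPdet, Units.val_one]
  refine ⟨P, hPmem, ?_⟩
  -- `P⁻¹ x P = w • Y` with `Y` permuting the standard basis
  set Y : Matrix (Fin n) (Fin n) F := (P⁻¹ : GL (Fin n) F).val * (1 + N₁) * P.val with hY
  have hval : ((P⁻¹ * x * P : GL (Fin n) F) : Matrix (Fin n) (Fin n) F) = w • Y := by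
    rw [Units.val_mul, Units.val_mul, hY, hN₁, add_sub_cancel, Matrix.mul_smul, Matrix.smul_mul,
      smul_smul, mul_inv_cancel₀ hw0, one_smul]
  have hw1 : w ^ (q₀ + 1) ≠ 0 := pow_ne_zero _ hw0
  refine ⟨Units.mk0 (w ^ (q₀ + 1)) hw1, ?_⟩
  intro u v
  rw [hval, Matrix.smul_mulVec, Matrix.smul_mulVec, Units.val_mk0]
  have h5 : ∀ a b : Fin n → F, Cfsg.hermForm n F q₀ (w • a) (w • b) =
      w ^ (q₀ + 1) * Cfsg.hermForm n F q₀ a b := by
    intro a b
    unfold Cfsg.hermForm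
    rw [Finset.mul_sum]
    refine Finset.sum_congr rfl (fun i _ => ?_)
    rw [Pi.smul_apply, Pi.smul_apply, smul_eq_mul, smul_eq_mul, mul_pow, pow_succ]
    ring
  rw [h5, hermForm_perm q₀ Y τ hPτ]

end Cfsg.Agent.Helper70.USubU2c
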