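import Cfsg.Agent.Helper85.XDefs
import Cfsg.Agent.Helper85.KLMain
import Cfsg.Agent.Helper76.XS1
set_option autoImplicit false

/-!
# (XD1a) of helper85's S5141 project (#6637): closure properties of the sets `𝔄_P` (helper70)
-/

namespace Cfsg.Agent.Helper70.XD1a

open Cfsg Cfsg.FusionSystem Cfsg.Agent.Helper85.KL Cfsg.Agent.Helper85.XT Cfsg.Agent.Helper76.XS1

variable {Ω : Type*} [Group Ω] {S T : Subgroup Ω}

/-! ### Auxiliary facts -/

theorem sup_le_base (hTS : T ≤ S) {P : Subgroup Ω} (hPT : P ≤ T) : P ⊔ centralizerIn S T ≤ S :=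
  sup_le (hPT.trans hTS) inf_le_left

theorem memC {P : Subgroup Ω} {x : Ω} (hx : x ∈ centralizerIn S T) : x ∈ P ⊔ centralizerIn S T :=
  (le_sup_right : centralizerIn S T ≤ P ⊔ centralizerIn S T) hx

theorem sup_le_sup_base {P R : Subgroup Ω} (hPR : P ≤ R) :
    P ⊔ centralizerIn S T ≤ R ⊔ centralizerIn S T :=
  sup_le_sup_right hPR _

/-- An automorphism in `Aut_F(T C_S(T))` maps `C_S(T)` into itself. -/
theorem aut_map_centralizer [Finite S] (F : FusionSystem S) (hT : F.StronglyClosed T)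
    {β : MulAut ↥(T ⊔ centralizerIn S T)} (hβ : β ∈ F.autGroup (T ⊔ centralizerIn S T))
    (c : ↥(T ⊔ centralizerIn S T)) (hc : (c : Ω) ∈ centralizerIn S T) :
    ((β c : ↥(T ⊔ centralizerIn S T)) : Ω) ∈ centralizerIn S T := by
  have hU : T ⊔ centralizerIn S T ≤ S := sup_le_base hT.1 le_rfl
  have h1 := (Cfsg.Agent.Helper87.mem_autGroup_iff F hU β).mp hβ
  exact (hom_sup_centralizer F hT _ h1).2.2 c hc

theorem one_mem_Aset [Finite S] (F : FusionSystem S) (hT : F.StronglyClosed T) {P : Subgroup Ω} (hPT : P ≤ T) :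
    (1 : MulAut ↥(T ⊔ centralizerIn S T)) ∈ Aset F T P := by
  refine ⟨Subgroup.one_mem _, 1, Subgroup.one_mem _, fun x _ => rfl, fun c hc => ?_⟩
  simp only [MulAut.one_apply, inv_mul_cancel]
  exact T.one_mem

theorem mul_mem_Aset [Finite S] (F : FusionSystem S) (hT : F.StronglyClosed T) {P : Subgroup Ω} (hPT : P ≤ T)
    (hPc : centralizerIn T P ≤ P) {β₁ β₂ : MulAut ↥(T ⊔ centralizerIn S T)} (h₁ : β₁ ∈ Aset F T P)
    (h₂ : β₂ ∈ Aset F T P) : β₁ * β₂ ∈ Aset F T P := by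
  obtain ⟨hβ₁, δ₁, hδ₁, hfix₁, hc₁⟩ := h₁
  obtain ⟨hβ₂, δ₂, hδ₂, hfix₂, hc₂⟩ := h₂
  refine ⟨Subgroup.mul_mem _ hβ₁ hβ₂, δ₁ * δ₂, Subgroup.mul_mem _ hδ₁ hδ₂, ?_, ?_⟩
  · intro x hx
    rw [MulAut.mul_apply, hfix₂ x hx, hfix₁ x hx]
  · intro c hc
    have hd : ((β₂ c : ↥(T ⊔ centralizerIn S T)) : Ω) ∈ centralizerIn S T :=
      aut_map_centralizer F hT hβ₂ c hc
    have ht := hc₂ c hc
    have htP' : ((β₂ c : ↥(T ⊔ centralizerIn S T)) : Ω)⁻¹ *
        ((δ₂ ⟨(c : Ω), memC hc⟩ : ↥(P ⊔ centralizerIn S T)) : Ω) ∈ P ⊔ centralizerIn S T :=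
      mul_mem (inv_mem (memC hd)) (δ₂ _).2
    have htP := mem_of_mem_sup_of_mem hPT hT.1 hPc htP' ht
    have heq : δ₂ ⟨(c : Ω), memC hc⟩ =
        (⟨((β₂ c : ↥(T ⊔ centralizerIn S T)) : Ω), memC hd⟩ : ↥(P ⊔ centralizerIn S T)) *
          ⟨_, htP'⟩ := by
      apply Subtype.ext
      rw [Subgroup.coe_mul]
      exact (mul_inv_cancel_left _ _).symm
    have h3 := hc₁ (β₂ c) hd
    rw [MulAut.mul_apply, MulAut.mul_apply, heq, map_mul, hfix₁ ⟨_, htP'⟩ htP, Subgroup.coe_mul,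
      ← mul_assoc]
    exact T.mul_mem h3 ht

theorem inv_mem_Aset [Finite S] (F : FusionSystem S) (hT : F.StronglyClosed T) {P : Subgroup Ω} (hPT : P ≤ T)
    (hPc : centralizerIn T P ≤ P) {β : MulAut ↥(T ⊔ centralizerIn S T)} (h : β ∈ Aset F T P) :
    β⁻¹ ∈ Aset F T P := by
  obtain ⟨hβ, δ, hδ, hfix, hcδ⟩ := h
  have hfix' : ∀ x : ↥(P ⊔ centralizerIn S T), (x : Ω) ∈ P → δ⁻¹ x = x := by
    intro x hx
    have h1 := hfix x hx
    calc δ⁻¹ x = δ⁻¹ (δ x) := by rw [h1]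
      _ = x := MulAut.inv_apply_self _ δ x
  refine ⟨Subgroup.inv_mem _ hβ, δ⁻¹, Subgroup.inv_mem _ hδ, hfix', ?_⟩
  intro c hc
  -- `d := β⁻¹ c ∈ C`
  have hd : ((β⁻¹ c : ↥(T ⊔ centralizerIn S T)) : Ω) ∈ centralizerIn S T :=
    aut_map_centralizer F hT (Subgroup.inv_mem _ hβ) c hc
  have h2 := hcδ (β⁻¹ c) hd
  rw [MulAut.apply_inv_self] at h2
  -- `t := c⁻¹ * δ d' ∈ T ∩ P⁺ = P`
  have htP' : (c : Ω)⁻¹ * ((δ ⟨((β⁻¹ c : ↥(T ⊔ centralizerIn S T)) : Ω), memC hd⟩ :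
      ↥(P ⊔ centralizerIn S T)) : Ω) ∈ P ⊔ centralizerIn S T :=
    mul_mem (inv_mem (memC hc)) (δ _).2
  have htP := mem_of_mem_sup_of_mem hPT hT.1 hPc htP' h2
  have heq : δ ⟨((β⁻¹ c : ↥(T ⊔ centralizerIn S T)) : Ω), memC hd⟩ =
      (⟨(c : Ω), memC hc⟩ : ↥(P ⊔ centralizerIn S T)) * ⟨_, htP'⟩ := by
    apply Subtype.ext
    rw [Subgroup.coe_mul]
    exact (mul_inv_cancel_left _ _).symm
  -- apply `δ⁻¹`
  have h3 : (⟨((β⁻¹ c : ↥(T ⊔ centralizerIn S T)) : Ω), memC hd⟩ : ↥(P ⊔ centralizerIn S T)) =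
      δ⁻¹ ⟨(c : Ω), memC hc⟩ * ⟨_, htP'⟩ := by
    have h4 := congrArg (fun y => δ⁻¹ y) heq
    simp only [MulAut.inv_apply_self, map_mul, hfix' ⟨_, htP'⟩ htP] at h4
    exact h4
  have h5 : ((β⁻¹ c : ↥(T ⊔ centralizerIn S T)) : Ω) =
      ((δ⁻¹ ⟨(c : Ω), memC hc⟩ : ↥(P ⊔ centralizerIn S T)) : Ω) *
        ((c : Ω)⁻¹ * ((δ ⟨((β⁻¹ c : ↥(T ⊔ centralizerIn S T)) : Ω), memC hd⟩ :
          ↥(P ⊔ centralizerIn S T)) : Ω)) := by
    have := congrArg (fun y : ↥(P ⊔ centralizerIn S T) => (y : Ω)) h3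
    simpa only [Subgroup.coe_mul] using this
  -- conclude
  have h6 : ((β⁻¹ c : ↥(T ⊔ centralizerIn S T)) : Ω)⁻¹ *
      ((δ⁻¹ ⟨(c : Ω), memC hc⟩ : ↥(P ⊔ centralizerIn S T)) : Ω) =
      ((c : Ω)⁻¹ * ((δ ⟨((β⁻¹ c : ↥(T ⊔ centralizerIn S T)) : Ω), memC hd⟩ :
          ↥(P ⊔ centralizerIn S T)) : Ω))⁻¹ := by
    rw [eq_inv_iff_mul_eq_one, mul_assoc, ← h5, inv_mul_cancel]
  rw [h6]
  exact T.inv_mem h2


/-- The elements of `R ⊔ C` that an automorphism `δ'` maps into `P ⊔ C`, as a subgroup of `Ω`. -/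
theorem map_mem_of_fix [Finite S] (F : FusionSystem S) (hT : F.StronglyClosed T) {P R : Subgroup Ω}
    (hPR : P ≤ R) (hRT : R ≤ T) (hPc : centralizerIn T P ≤ P)
    (δ' : MulAut ↥(R ⊔ centralizerIn S T))
    (hfix : ∀ x : ↥(R ⊔ centralizerIn S T), (x : Ω) ∈ R → δ' x = x)
    (x : ↥(R ⊔ centralizerIn S T)) (hx : (x : Ω) ∈ P ⊔ centralizerIn S T) :
    ((δ' x : ↥(R ⊔ centralizerIn S T)) : Ω) ∈ P ⊔ centralizerIn S T := by
  have hPT : P ≤ T := hPR.trans hRT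
  -- the subgroup of `Ω` of elements of `R ⊔ C` mapped into `P ⊔ C`
  let K : Subgroup Ω := (((P ⊔ centralizerIn S T).subgroupOf (R ⊔ centralizerIn S T)).comap
    δ'.toMonoidHom).map (R ⊔ centralizerIn S T).subtype
  have hK : ∀ y : Ω, y ∈ K ↔ ∃ hy : y ∈ R ⊔ centralizerIn S T,
      ((δ' ⟨y, hy⟩ : ↥(R ⊔ centralizerIn S T)) : Ω) ∈ P ⊔ centralizerIn S T := by
    intro y
    constructor
    · rintro ⟨z, hz, rfl⟩
      exact ⟨z.2, hz⟩
    · rintro ⟨hy, h⟩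
      exact ⟨⟨y, hy⟩, h, rfl⟩
  have hPK : P ≤ K := by
    intro y hy
    rw [hK]
    refine ⟨(le_sup_left : R ≤ R ⊔ centralizerIn S T) (hPR hy), ?_⟩
    rw [hfix ⟨y, _⟩ (hPR hy)]
    exact (le_sup_left : P ≤ P ⊔ centralizerIn S T) hy
  have hCK : centralizerIn S T ≤ K := by
    intro c hc
    rw [hK]
    refine ⟨memC hc, ?_⟩
    -- `δ' c` lies in `U` and centralizes `P`
    have hU : ((δ' ⟨c, memC hc⟩ : ↥(R ⊔ centralizerIn S T)) : Ω) ∈ T ⊔ centralizerIn S T :=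
      (sup_le_sup_right hRT _) (δ' ⟨c, memC hc⟩).2
    have hcent : ((δ' ⟨c, memC hc⟩ : ↥(R ⊔ centralizerIn S T)) : Ω) ∈
        Subgroup.centralizer (P : Set Ω) := by
      rw [Subgroup.mem_centralizer_iff]
      intro y hy
      have hyR : y ∈ R ⊔ centralizerIn S T := (le_sup_left : R ≤ R ⊔ centralizerIn S T) (hPR hy)
      have hcomm : (⟨y, hyR⟩ : ↥(R ⊔ centralizerIn S T)) * ⟨c, memC hc⟩ = ⟨c, memC hc⟩ * ⟨y, hyR⟩ := by
        apply Subtype.ext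
        have hcT : c ∈ Subgroup.centralizer (T : Set Ω) := hc.2
        exact (Subgroup.mem_centralizer_iff.mp hcT) y (hPT hy)
      have h1 := congrArg (fun z => ((δ' z : ↥(R ⊔ centralizerIn S T)) : Ω)) hcomm
      simp only [map_mul, Subgroup.coe_mul, hfix ⟨y, hyR⟩ (hPR hy)] at h1
      exact h1
    obtain ⟨z, hzP, -, c₀, hc₀, hzc⟩ := exists_mul_of_centralizes hPT hT.1 hPc hU hcent
    rw [hzc]
    exact mul_mem ((le_sup_left : P ≤ P ⊔ centralizerIn S T) hzP) (memC hc₀)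
  have hle : P ⊔ centralizerIn S T ≤ K := sup_le hPK hCK
  obtain ⟨_, h⟩ := (hK _).mp (hle hx)
  exact h

theorem Aset_mono [Finite S] (F : FusionSystem S) (hT : F.StronglyClosed T) {P R : Subgroup Ω} (hPR : P ≤ R) (hRT : R ≤ T)
    (hPc : centralizerIn T P ≤ P) : Aset F T R ⊆ Aset F T P := by
  rintro β ⟨hβ, δ', hδ', hfix, hcδ⟩
  have hPT : P ≤ T := hPR.trans hRT
  have hle : P ⊔ centralizerIn S T ≤ R ⊔ centralizerIn S T := sup_le_sup_right hPR _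
  have hPS : P ⊔ centralizerIn S T ≤ S := sup_le_base hT.1 hPT
  have hRS : R ⊔ centralizerIn S T ≤ S := sup_le_base hT.1 hRT
  haveI : Finite ↥(P ⊔ centralizerIn S T) :=
    Finite.of_injective (Subgroup.inclusion hPS) (Subgroup.inclusion_injective hPS)
  -- the restriction of `δ'` to `P ⊔ C`
  let g : ↥(P ⊔ centralizerIn S T) →* Ω :=
    (R ⊔ centralizerIn S T).subtype.comp (δ'.toMonoidHom.comp (Subgroup.inclusion hle))
  have hg : ∀ x, g x ∈ P ⊔ centralizerIn S T := fun x =>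
    map_mem_of_fix F hT hPR hRT hPc δ' hfix (Subgroup.inclusion hle x) x.2
  let f : ↥(P ⊔ centralizerIn S T) →* ↥(P ⊔ centralizerIn S T) := g.codRestrict _ hg
  have hfinj : Function.Injective f := by
    intro x y hxy
    have h1 : g x = g y := congrArg (fun z : ↥(P ⊔ centralizerIn S T) => (z : Ω)) hxy
    have h2 : δ' (Subgroup.inclusion hle x) = δ' (Subgroup.inclusion hle y) := Subtype.ext h1
    exact Subgroup.inclusion_injective hle (δ'.injective h2)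
  have hfbij : Function.Bijective f := Finite.injective_iff_bijective.mp hfinj
  let δ : MulAut ↥(P ⊔ centralizerIn S T) := MulEquiv.ofBijective f hfbij
  have hδval : ∀ x : ↥(P ⊔ centralizerIn S T),
      ((δ x : ↥(P ⊔ centralizerIn S T)) : Ω) =
        ((δ' (Subgroup.inclusion hle x) : ↥(R ⊔ centralizerIn S T)) : Ω) := fun x => rfl
  have hδmem : δ ∈ F.autGroup (P ⊔ centralizerIn S T) := by
    rw [Cfsg.Agent.Helper87.mem_autGroup_iff F hPS]
    have h1 := (Cfsg.Agent.Helper87.mem_autGroup_iff F hRS δ').mp hδ'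
    have h2 := Cfsg.Agent.Helper87.restrict_mem F h1 hle
    exact Cfsg.Agent.Helper87.mem_of_eq F h2 (fun x => rfl)
  refine ⟨hβ, δ, hδmem, ?_, ?_⟩
  · intro x hx
    apply Subtype.ext
    rw [hδval, hfix _ (hPR hx)]
    rfl
  · intro c hc
    rw [hδval]
    exact hcδ c hc

/-- Conjugation by an element of `C_S(P)` maps `P ⊔ C_S(T)` into itself. -/
theorem conj_mem_sup [Finite S] (F : FusionSystem S) (hT : F.StronglyClosed T) {P : Subgroup Ω} (hPT : P ≤ T)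
    {s : Ω} (hs : s ∈ centralizerIn S P) {x : Ω} (hx : x ∈ P ⊔ centralizerIn S T) :
    s * x * s⁻¹ ∈ P ⊔ centralizerIn S T := by
  let K : Subgroup Ω := (P ⊔ centralizerIn S T).comap (MulAut.conj s).toMonoidHom
  have hK : ∀ y : Ω, y ∈ K ↔ s * y * s⁻¹ ∈ P ⊔ centralizerIn S T := fun y => Iff.rfl
  have hsP : s ∈ Subgroup.centralizer (P : Set Ω) := hs.2
  have hPK : P ≤ K := by
    intro y hy
    rw [hK]
    have h1 : y * s = s * y := (Subgroup.mem_centralizer_iff.mp hsP) y hy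
    have h2 : s * y * s⁻¹ = y := by rw [← h1, mul_inv_cancel_right]
    rw [h2]
    exact (le_sup_left : P ≤ P ⊔ centralizerIn S T) hy
  have hCK : centralizerIn S T ≤ K := by
    intro c hc
    rw [hK]
    apply memC
    refine ⟨S.mul_mem (S.mul_mem hs.1 hc.1) (S.inv_mem hs.1), ?_⟩
    show s * c * s⁻¹ ∈ Subgroup.centralizer (T : Set Ω)
    rw [Subgroup.mem_centralizer_iff]
    intro t ht
    -- `s⁻¹ t s ∈ T` since `T` is strongly closed
    have ht' : s⁻¹ * t * s ∈ T := by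
      have h1 := hT.2 T le_rfl (conjHom T s⁻¹) (F.conj_mem hT.1 (S.inv_mem hs.1)) ⟨t, ht⟩
      simpa [conjHom] using h1
    have hcT : c ∈ Subgroup.centralizer (T : Set Ω) := hc.2
    have h2 : (s⁻¹ * t * s) * c = c * (s⁻¹ * t * s) := (Subgroup.mem_centralizer_iff.mp hcT) _ ht'
    calc t * (s * c * s⁻¹) = s * ((s⁻¹ * t * s) * c) * s⁻¹ := by group
      _ = s * (c * (s⁻¹ * t * s)) * s⁻¹ := by rw [h2]
      _ = s * c * s⁻¹ * t := by group
  exact (hK x).mp ((sup_le hPK hCK) hx)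

theorem autInducedBy_subset_Aset [Finite S] (F : FusionSystem S) (hT : F.StronglyClosed T) {P : Subgroup Ω} (hPT : P ≤ T) :
    ((autInducedBy (centralizerIn S P) (T ⊔ centralizerIn S T) : Subgroup _) : Set (MulAut ↥(T ⊔ centralizerIn S T))) ⊆
      Aset F T P := by
  intro β hβ
  obtain ⟨s, hs, hβs⟩ := (Cfsg.Agent.Helper87.mem_autInducedBy_iff _ _ β).mp hβ
  have hU : T ⊔ centralizerIn S T ≤ S := sup_le_base hT.1 le_rfl
  have hPS : P ⊔ centralizerIn S T ≤ S := sup_le_base hT.1 hPT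
  have hβF : β ∈ F.autGroup (T ⊔ centralizerIn S T) := by
    rw [Cfsg.Agent.Helper87.mem_autGroup_iff F hU]
    exact Cfsg.Agent.Helper87.mem_of_eq F (F.conj_mem hU hs.1) (fun x => hβs x)
  have hsinv : s⁻¹ ∈ centralizerIn S P := Subgroup.inv_mem _ hs
  have hnorm : s ∈ Subgroup.normalizer ((P ⊔ centralizerIn S T : Subgroup Ω) : Set Ω) := by
    rw [Subgroup.mem_set_normalizer_iff]
    intro x
    constructor
    · intro hx
      exact conj_mem_sup F hT hPT hs hx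
    · intro hx
      have h1 := conj_mem_sup F hT hPT hsinv hx
      have h2 : s⁻¹ * (s * x * s⁻¹) * s⁻¹⁻¹ = x := by group
      rw [h2] at h1
      exact h1
  refine ⟨hβF, Cfsg.Agent.Helper87.conjAut _ s hnorm, ?_, ?_, ?_⟩
  · rw [Cfsg.Agent.Helper87.mem_autGroup_iff F hPS]
    exact Cfsg.Agent.Helper87.isIso_conjAut F hPS hs.1 hnorm
  · intro x hx
    apply Subtype.ext
    rw [Cfsg.Agent.Helper87.conjAut_apply]
    have hsP : s ∈ Subgroup.centralizer (P : Set Ω) := hs.2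
    have h1 : (x : Ω) * s = s * x := (Subgroup.mem_centralizer_iff.mp hsP) x hx
    rw [← h1, mul_inv_cancel_right]
  · intro c hc
    rw [Cfsg.Agent.Helper87.conjAut_apply, hβs c, inv_mul_cancel]
    exact T.one_mem

end Cfsg.Agent.Helper70.XD1a
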