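import Mathlib
import Cfsg.Prelude.Def_TwoFusion
import Cfsg.Prelude.Def_CaseTheorems
import Cfsg.Agent.Lib.Cores

/-!
# A consumer of Glauberman's Z*-theorem: strongly closed 2-subgroups

`ZStarStatement` is the statement of the Z*-theorem (S0215) for all finite groups of a universe.
`centralizes_of_zstar`: if `A` is strongly closed in a Sylow 2-subgroup, normalizes `H` with
`O(H) = 1` and `A ⊓ H = ⊥`, then `A` centralizes `H`.
-/

set_option autoImplicit false

namespace Cfsg.Agent.Helper70.ZStarClosed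

universe u

/-- The statement of Glauberman's Z*-theorem for all finite groups in a universe. -/
def ZStarStatement : Prop :=
  ∀ (G : Type u) [Group G] [Finite G] (P : Sylow 2 G) (t : G), orderOf t = 2 → t ∈ P →
    (∀ g : G, g * t * g⁻¹ ∈ P → g * t * g⁻¹ = t) →
    ∃ N : Subgroup G, N.Normal ∧ Odd (Nat.card N) ∧ ∀ g : G, t * g * t⁻¹ * g⁻¹ ∈ N

/-- A nontrivial finite `2`-group has a central element of order `2`. -/
theorem exists_central_involution {K : Type*} [Group K] [Finite K] [Nontrivial K]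
    (hK : IsPGroup 2 K) : ∃ z : K, orderOf z = 2 ∧ ∀ b : K, b * z = z * b := by
  haveI : Fact (Nat.Prime 2) := ⟨Nat.prime_two⟩
  haveI := hK.center_nontrivial
  have h2 : 2 ∣ Nat.card (Subgroup.center K) := by
    obtain ⟨n, hn⟩ := (hK.to_subgroup (Subgroup.center K)).exists_card_eq
    have hn0 : n ≠ 0 := by
      rintro rfl
      have : Nat.card (Subgroup.center K) = 1 := by simpa using hn
      have h1 := Finite.one_lt_card (α := Subgroup.center K)
      omega
    rw [hn]
    exact dvd_pow_self 2 hn0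
  obtain ⟨z, hz⟩ := exists_prime_orderOf_dvd_card' 2 h2
  refine ⟨(z : K), ?_, fun b => ?_⟩
  · rw [← hz]
    exact Subgroup.orderOf_coe z
  · exact (Subgroup.mem_center_iff.mp z.2 b)

/-- Core case: `H` normal, `G = H A`. -/
theorem core (ZS : ZStarStatement.{u}) {G : Type u} [Group G] [Finite G]
    (H A : Subgroup G) [hHn : H.Normal] (hHA : H ⊔ A = ⊤) (P : Sylow 2 G)
    (hA : Cfsg.IsStronglyClosed A (P : Subgroup G)) (hdisj : A ⊓ H = ⊥)
    (hO : ∀ M : Subgroup G, M ≤ H → M.Normal → Odd (Nat.card M) → M = ⊥) :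
    A ≤ Subgroup.centralizer (H : Set G) := by
  classical
  haveI : Fact (Nat.Prime 2) := ⟨Nat.prime_two⟩
  by_contra hne
  set C : Subgroup G := A ⊓ Subgroup.centralizer (H : Set G) with hC
  have hCA : C ≤ A := inf_le_left
  have hCcent : C ≤ Subgroup.centralizer (H : Set G) := inf_le_right
  -- every element of `G` is `h * a`
  have hdecomp : ∀ g : G, ∃ h ∈ H, ∃ a ∈ A, g = h * a := by
    intro g
    have hg : g ∈ ((H ⊔ A : Subgroup G) : Set G) := by rw [hHA]; trivial
    rw [Subgroup.normal_mul] at hg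
    obtain ⟨h, hh, a, ha, rfl⟩ := Set.mem_mul.mp hg
    exact ⟨h, hh, a, ha, rfl⟩
  -- `C` is normal
  haveI hCn : C.Normal := by
    constructor
    intro c hc g
    obtain ⟨h, hh, a, ha, rfl⟩ := hdecomp g
    have hc1 : a * c * a⁻¹ ∈ C := by
      refine ⟨A.mul_mem (A.mul_mem ha (hCA hc)) (A.inv_mem ha), ?_⟩
      exact (Subgroup.normal_centralizer (H := H)).conj_mem c (hCcent hc) a
    have hc2 : h * (a * c * a⁻¹) * h⁻¹ = a * c * a⁻¹ := by
      have := (Subgroup.mem_centralizer_iff.mp (hCcent hc1)) h hh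
      rw [this]; group
    have : h * a * c * (h * a)⁻¹ = h * (a * c * a⁻¹) * h⁻¹ := by group
    rw [this, hc2]; exact hc1
  let π : G →* G ⧸ C := QuotientGroup.mk' C
  have hπs : Function.Surjective π := QuotientGroup.mk'_surjective C
  have hker : ∀ x : G, π x = 1 ↔ x ∈ C := fun x => by
    simp [π, QuotientGroup.eq_one_iff]
  have hAP : A ≤ (P : Subgroup G) := hA.1
  -- the image of `A` is a nontrivial 2-group
  let Abar : Subgroup (G ⧸ C) := A.map π
  have hAbar2 : IsPGroup 2 Abar := (P.2.to_le hAP).map π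
  haveI : Nontrivial Abar := by
    have : ∃ a ∈ A, a ∉ Subgroup.centralizer (H : Set G) := by
      by_contra hcon
      push Not at hcon
      exact hne hcon
    obtain ⟨a, ha, hac⟩ := this
    refine ⟨⟨⟨π a, Subgroup.mem_map_of_mem π ha⟩, 1, ?_⟩⟩
    intro heq
    have : π a = 1 := congrArg Subtype.val heq
    exact hac (hCcent ((hker a).mp this))
  obtain ⟨z, hz2, hzc⟩ := exists_central_involution hAbar2
  obtain ⟨a, haA, haz⟩ := Subgroup.mem_map.mp z.2
  have hza : orderOf (π a) = 2 := by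
    rw [haz, Subgroup.orderOf_coe]; exact hz2
  have hcomm : ∀ b ∈ A, π b * π a = π a * π b := by
    intro b hb
    have := hzc ⟨π b, Subgroup.mem_map_of_mem π hb⟩
    have h2 := congrArg Subtype.val this
    simpa [haz] using h2
  -- the Sylow 2-subgroup of the quotient
  let Pbar : Sylow 2 (G ⧸ C) := P.mapSurjective hπs
  have hPbar : (Pbar : Subgroup (G ⧸ C)) = (P : Subgroup G).map π := Sylow.coe_mapSurjective hπs P
  have haPbar : π a ∈ Pbar := by
    change π a ∈ (Pbar : Subgroup (G ⧸ C))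
    rw [hPbar]; exact Subgroup.mem_map_of_mem π (hAP haA)
  -- isolation
  have hiso : ∀ g : G ⧸ C, g * π a * g⁻¹ ∈ Pbar → g * π a * g⁻¹ = π a := by
    intro gb hgb
    obtain ⟨g, rfl⟩ := hπs gb
    have h1 : π (g * a * g⁻¹) ∈ (P : Subgroup G).map π := by
      rw [← hPbar]
      have : π (g * a * g⁻¹) = π g * π a * (π g)⁻¹ := by simp only [map_mul, map_inv]
      rw [this]; exact hgb
    obtain ⟨p, hp, hpe⟩ := Subgroup.mem_map.mp h1
    have h2 : p⁻¹ * (g * a * g⁻¹) ∈ C := by
      rw [← hker, map_mul, map_inv, hpe, inv_mul_cancel]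
    have h3 : g * a * g⁻¹ ∈ (P : Subgroup G) := by
      have : g * a * g⁻¹ = p * (p⁻¹ * (g * a * g⁻¹)) := by group
      rw [this]; exact Subgroup.mul_mem _ hp (hAP (hCA h2))
    have h4 : g * a * g⁻¹ ∈ A := hA.2 a haA g h3
    obtain ⟨h, hh, a', ha', rfl⟩ := hdecomp g
    set a₁ : G := a' * a * a'⁻¹ with ha₁
    have ha₁A : a₁ ∈ A := A.mul_mem (A.mul_mem ha' haA) (A.inv_mem ha')
    have hπa₁ : π a₁ = π a := by
      simp only [ha₁, map_mul, map_inv]
      rw [hcomm a' ha']; group
    have heq : h * a' * a * (h * a')⁻¹ = a₁ * (a₁⁻¹ * h * a₁ * h⁻¹) := by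
      simp only [ha₁]; group
    have ht : a₁⁻¹ * h * a₁ * h⁻¹ ∈ A ⊓ H := by
      refine ⟨?_, ?_⟩
      · have : a₁⁻¹ * h * a₁ * h⁻¹ = a₁⁻¹ * (h * a' * a * (h * a')⁻¹) := by
          rw [heq]; group
        rw [this]; exact A.mul_mem (A.inv_mem ha₁A) h4
      · have : a₁⁻¹ * h * a₁ ∈ H := by
          have := hHn.conj_mem h hh a₁⁻¹
          simpa using this
        exact H.mul_mem this (H.inv_mem hh)
    rw [hdisj, Subgroup.mem_bot] at ht
    have : π (h * a') * π a * (π (h * a'))⁻¹ = π (h * a' * a * (h * a')⁻¹) := by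
      simp only [map_mul, map_inv]
    rw [this, heq, ht, mul_one, hπa₁]
  obtain ⟨Nb, hNbn, hNbodd, hNb⟩ := ZS (G ⧸ C) Pbar (π a) hza haPbar hiso
  -- pull back
  set M : Subgroup G := Nb.comap π ⊓ H with hM
  have hMH : M ≤ H := inf_le_right
  haveI : (Nb.comap π).Normal := hNbn.comap π
  have hMn : M.Normal := Subgroup.normal_inf_normal _ _
  have hMinj : Function.Injective (π.comp M.subtype) := by
    rw [injective_iff_map_eq_one]
    intro x hx
    have hx1 : π (x : G) = 1 := hx
    have hx2 : (x : G) ∈ C := (hker _).mp hx1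
    have : (x : G) ∈ A ⊓ H := ⟨hCA hx2, hMH x.2⟩
    rw [hdisj, Subgroup.mem_bot] at this
    exact Subtype.ext this
  have hMcard : Nat.card M ∣ Nat.card Nb := by
    have hrange : (π.comp M.subtype).range ≤ Nb := by
      rintro _ ⟨x, rfl⟩
      exact x.2.1
    have h1 : Nat.card M = Nat.card (π.comp M.subtype).range :=
      Nat.card_congr (Equiv.ofInjective _ hMinj)
    rw [h1]
    exact Subgroup.card_dvd_of_le hrange
  have hModd : Odd (Nat.card M) := by
    obtain ⟨k, hk⟩ := hMcard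
    rw [hk] at hNbodd
    exact (Nat.odd_mul.mp hNbodd).1
  have hMbot : M = ⊥ := hO M hMH hMn hModd
  -- so `a` centralizes `H`
  have hacent : a ∈ Subgroup.centralizer (H : Set G) := by
    rw [Subgroup.mem_centralizer_iff]
    intro h hh
    have h1 : a * h * a⁻¹ * h⁻¹ ∈ M := by
      refine ⟨?_, ?_⟩
      · change π (a * h * a⁻¹ * h⁻¹) ∈ Nb
        simpa using hNb (π h)
      · exact H.mul_mem (hHn.conj_mem h hh a) (H.inv_mem hh)
    rw [hMbot, Subgroup.mem_bot] at h1
    have : a * h = (a * h * a⁻¹ * h⁻¹) * (h * a) := by group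
    rw [this, h1, one_mul]
  have : π a = 1 := (hker a).mpr ⟨haA, hacent⟩
  rw [this, orderOf_one] at hza
  omega


/-- General form (the statement of S1251 with the Z*-theorem as a hypothesis). -/
theorem centralizes_of_zstar (ZS : ZStarStatement.{u}) {G : Type u} [Group G] [Finite G]
    (S : Sylow 2 G) (A : Subgroup G) (hA : Cfsg.IsStronglyClosed A (S : Subgroup G))
    (H : Subgroup G) (hAH : A ≤ Subgroup.normalizer (H : Set G))
    (hO : Cfsg.oddCore ↥H = ⊥) (hdisj : A ⊓ H = ⊥) :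
    A ≤ Subgroup.centralizer (H : Set G) := by
  classical
  haveI : Fact (Nat.Prime 2) := ⟨Nat.prime_two⟩
  set X : Subgroup G := H ⊔ A with hX
  have hHX : H ≤ X := le_sup_left
  have hAX : A ≤ X := le_sup_right
  have hXN : X ≤ Subgroup.normalizer (H : Set G) := sup_le Subgroup.le_normalizer hAH
  haveI hH0n : (H.subgroupOf X).Normal :=
    (Subgroup.normal_subgroupOf_iff_le_normalizer hHX).mpr hXN
  have hsup : H.subgroupOf X ⊔ A.subgroupOf X = ⊤ := by
    rw [← Subgroup.subgroupOf_sup hHX hAX]; exact Subgroup.subgroupOf_self X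
  have hA2 : IsPGroup 2 (A.subgroupOf X) := (S.2.to_le hA.1).comap_subtype
  obtain ⟨P, hP⟩ := hA2.exists_le_sylow
  obtain ⟨Q, hQ⟩ := (P.2.map X.subtype).exists_le_sylow
  obtain ⟨k, hk⟩ := MulAction.exists_smul_eq G S Q
  have hQmem : ∀ x, x ∈ (Q : Subgroup G) → k⁻¹ * x * k ∈ (S : Subgroup G) := by
    intro x hx
    rw [← hk, Sylow.coe_subgroup_smul, Subgroup.mem_smul_pointwise_iff_exists] at hx
    obtain ⟨s, hs, rfl⟩ := hx
    have : k⁻¹ * (MulAut.conj k • s) * k = s := by
      rw [MulAut.smul_def, MulAut.conj_apply]; group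
    rw [this]; exact hs
  have hPQ : ∀ x : X, x ∈ P → (x : G) ∈ (Q : Subgroup G) := fun x hx =>
    hQ (Subgroup.mem_map_of_mem X.subtype hx)
  have hkA : ∀ x ∈ A, k⁻¹ * x * k ∈ A := by
    intro x hx
    have h1 : (⟨x, hAX hx⟩ : X) ∈ P := hP (show (⟨x, hAX hx⟩ : X) ∈ A.subgroupOf X from hx)
    have h2 := hQmem x (hPQ _ h1)
    have h3 := hA.2 x hx k⁻¹ (by rw [inv_inv]; exact h2)
    rwa [inv_inv] at h3
  have hkA' : ∀ y ∈ A, k * y * k⁻¹ ∈ A := by
    intro y hy
    let f : A → A := fun x => ⟨k⁻¹ * x * k, hkA x x.2⟩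
    have hf : Function.Injective f := by
      intro x x' hxx
      have h := congrArg Subtype.val hxx
      simp only [f] at h
      have h' : (x : G) = x' := by
        have := congrArg (fun t => k * t * k⁻¹) h
        simpa [mul_assoc] using this
      exact Subtype.ext h'
    obtain ⟨x, hx⟩ := (Finite.surjective_of_injective hf) ⟨y, hy⟩
    have h := congrArg Subtype.val hx
    simp only [f] at h
    have : k * y * k⁻¹ = x := by rw [← h]; group
    rw [this]; exact x.2
  have hsc : Cfsg.IsStronglyClosed (A.subgroupOf X) (P : Subgroup X) := by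
    refine ⟨hP, fun x hx g hg => ?_⟩
    have hxA : (x : G) ∈ A := hx
    have h1 : ((g * x * g⁻¹ : X) : G) ∈ (Q : Subgroup G) := hPQ _ hg
    have h2 := hQmem _ h1
    have h3 : (k⁻¹ * g) * x * (k⁻¹ * g)⁻¹ ∈ (S : Subgroup G) := by
      have : (k⁻¹ * (g : G)) * x * (k⁻¹ * g)⁻¹ = k⁻¹ * ((g * x * g⁻¹ : X) : G) * k := by
        push_cast; group
      rw [this]; exact h2
    have h4 := hA.2 x hxA _ h3
    have h5 := hkA' _ h4
    have : k * ((k⁻¹ * (g : G)) * x * (k⁻¹ * g)⁻¹) * k⁻¹ = ((g * x * g⁻¹ : X) : G) := by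
      push_cast; group
    rw [this] at h5
    exact h5
  have hdisj0 : A.subgroupOf X ⊓ H.subgroupOf X = ⊥ := by
    rw [eq_bot_iff]
    intro x hx
    have : (x : G) ∈ A ⊓ H := ⟨hx.1, hx.2⟩
    rw [hdisj, Subgroup.mem_bot] at this
    rw [Subgroup.mem_bot]; exact Subtype.ext this
  have hO0 : ∀ M : Subgroup X, M ≤ H.subgroupOf X → M.Normal → Odd (Nat.card M) → M = ⊥ := by
    intro M hMH hMn hModd
    have hMmapH : M.map X.subtype ≤ H := by
      rintro _ ⟨m, hm, rfl⟩
      exact hMH hm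
    set M' : Subgroup H := (M.map X.subtype).subgroupOf H with hM'
    have hM'n : M'.Normal := by
      constructor
      intro m hm h
      obtain ⟨m0, hm0, hm0e⟩ := Subgroup.mem_map.mp (show (m : G) ∈ M.map X.subtype from hm)
      have := hMn.conj_mem m0 hm0 ⟨(h : G), hHX h.2⟩
      change ((h * m * h⁻¹ : H) : G) ∈ M.map X.subtype
      refine Subgroup.mem_map.mpr ⟨_, this, ?_⟩
      simp only [Subgroup.coe_subtype] at hm0e
      push_cast
      rw [← hm0e]
      rfl
    have hcard : Nat.card M' = Nat.card M := by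
      have e1 : M' ≃* (M.map X.subtype) := Subgroup.subgroupOfEquivOfLe hMmapH
      have e2 : M ≃* (M.map X.subtype) :=
        Subgroup.equivMapOfInjective M X.subtype X.subtype_injective
      rw [Nat.card_congr e1.toEquiv, Nat.card_congr e2.toEquiv]
    have hle : M' ≤ Cfsg.oddCore ↥H := Cfsg.Agent.Lib.le_oddCore hM'n (hcard ▸ hModd)
    rw [hO, le_bot_iff] at hle
    rw [eq_bot_iff]
    intro m hm
    have h1 : (⟨(m : G), hMH hm⟩ : H) ∈ M' := by
      change (m : G) ∈ M.map X.subtype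
      exact Subgroup.mem_map_of_mem X.subtype hm
    rw [hle, Subgroup.mem_bot] at h1
    have h2 : ((m : X) : G) = 1 := congrArg Subtype.val h1
    rw [Subgroup.mem_bot]; exact Subtype.ext h2
  have hmain := core ZS (H.subgroupOf X) (A.subgroupOf X) hsup P hsc hdisj0 hO0
  intro a ha
  rw [Subgroup.mem_centralizer_iff]
  intro h hh
  have h1 := hmain (show (⟨a, hAX ha⟩ : X) ∈ A.subgroupOf X from ha)
  rw [Subgroup.mem_centralizer_iff] at h1
  have h2 := h1 ⟨h, hHX hh⟩ (show (⟨h, hHX hh⟩ : X) ∈ H.subgroupOf X from hh)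
  exact congrArg Subtype.val h2

end Cfsg.Agent.Helper70.ZStarClosed
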